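import Mathlib
import Cfsg.Prelude.Def_Local
import Cfsg.Prelude.Def_Transfer
import Cfsg.Agent.Lib.Cores
import Cfsg.Agent.ThreePrime.CoreConj

/-!
# Cores and centralizers modulo a central 2-subgroup

`Z` a central 2-subgroup of the finite group `Y`.
* `comap_core_le` : the preimage of `O(Y/Z)` is contained in `O(Y) Z`.
* `core_map_le` : the image of `O(C_Y(t))` is contained in `O(C_{Y/Z}(tZ))`.
* `solvable_centralizer` : if `C_Y(t)` is solvable, so is `C_{Y/Z}(tZ)`.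
* `centralizer_le` : if `C_Y(t) = O(C_Y(t)) N`-like, then the same in `Y/Z`.
-/

set_option autoImplicit false

namespace Cfsg.Agent.SylowL5.LiftQuot

open Cfsg Subgroup

variable {Y : Type*} [Group Y] [Finite Y] {Z : Subgroup Y} [Z.Normal]

/-- the preimage of `O(Y/Z)` is `O(Y) Z` -/
theorem comap_core_le (hZc : ∀ z ∈ Z, ∀ y : Y, z * y = y * z) (hZ2 : IsPGroup 2 Z) :
    (pPrimeCore 2 (Y ⧸ Z)).comap (QuotientGroup.mk' Z) ≤ pPrimeCore 2 Y ⊔ Z := by
  have hfact : Fact (Nat.Prime 2) := ⟨Nat.prime_two⟩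
  set H : Subgroup Y := (pPrimeCore 2 (Y ⧸ Z)).comap (QuotientGroup.mk' Z) with hH
  have hHn : H.Normal := (Lib.Cores.pPrimeCore_normal 2).comap _
  have hZH : Z ≤ H := by
    intro z hz
    rw [hH, mem_comap, QuotientGroup.mk'_apply, (QuotientGroup.eq_one_iff z).2 hz]
    exact one_mem _
  -- the index of `Z` in `H` is odd
  have hidx : ¬ 2 ∣ (Z.subgroupOf H).index := by
    have h1 : (Z.subgroupOf H).index = Nat.card (H.map (QuotientGroup.mk' Z)) := by
      have h2 := relIndex_ker (f := QuotientGroup.mk' Z) (K := H)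
      rw [QuotientGroup.ker_mk'] at h2
      exact h2
    rw [h1, hH, map_comap_eq_self_of_surjective (QuotientGroup.mk'_surjective Z)]
    exact (Nat.Prime.coprime_iff_not_dvd Nat.prime_two).1 (Lib.Cores.pPrimeCore_coprime 2).symm
  have hT2 : IsPGroup 2 (Z.subgroupOf H) :=
    hZ2.comap_of_injective H.subtype H.subtype_injective
  let T : Sylow 2 H := hT2.toSylow hidx
  have hTcoe : (T : Subgroup H) = Z.subgroupOf H := rfl
  have hnc : normalizer ((T : Subgroup H) : Set H) ≤ centralizer ((T : Subgroup H) : Set H) := by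
    intro x _
    rw [mem_centralizer_iff]
    intro t ht
    exact Subtype.ext (hZc _ ht x)
  have hcomp := MonoidHom.ker_transferSylow_isComplement' T hnc
  have hK := MonoidHom.not_dvd_card_ker_transferSylow T hnc
  have h1 : (MonoidHom.transferSylow T hnc).ker ≤ pPrimeCore 2 H :=
    Lib.Cores.le_pPrimeCore inferInstance ((Nat.Prime.coprime_iff_not_dvd Nat.prime_two).2 hK).symm
  have h2 : pPrimeCore 2 H ⊔ Z.subgroupOf H = ⊤ := by
    rw [eq_top_iff, ← hcomp.sup_eq_top]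
    exact sup_le_sup_right h1 _
  have h3 := congrArg (Subgroup.map H.subtype) h2
  rw [Subgroup.map_sup, Lib.Cores.map_subtype_pPrimeCore 2 hHn, subgroupOf_map_subtype,
    inf_eq_left.2 hZH, ← MonoidHom.range_eq_map, H.range_subtype] at h3
  rw [← h3]
  exact sup_le_sup_right inf_le_right _

omit [Finite Y] in
theorem mem_centralizer_mk {t y : Y} :
    (QuotientGroup.mk' Z y) ∈ centralizer ({QuotientGroup.mk' Z t} : Set (Y ⧸ Z)) ↔
      ∃ z ∈ Z, y * t * y⁻¹ = t * z := by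
  rw [mem_centralizer_singleton_iff, ← map_mul, ← map_mul, QuotientGroup.mk'_apply,
    QuotientGroup.mk'_apply, eq_comm, QuotientGroup.eq]
  constructor
  · intro h
    have h1 := (inferInstance : Z.Normal).conj_mem _ h y
    refine ⟨y * ((t * y)⁻¹ * (y * t)) * y⁻¹, h1, by group⟩
  · rintro ⟨z, hz, h⟩
    have h1 := (inferInstance : Z.Normal).conj_mem _ hz y⁻¹
    have h2 : (t * y)⁻¹ * (y * t) = y⁻¹ * z * y⁻¹⁻¹ := by
      have h3 : y * t = t * z * y := by rw [← h]; group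
      rw [h3]; group
    rw [h2]; exact h1

omit [Finite Y] [Z.Normal] in
theorem centralizer_mul_central (hZc : ∀ z ∈ Z, ∀ y : Y, z * y = y * z) {t z : Y} (hz : z ∈ Z) :
    centralizer ({t * z} : Set Y) = centralizer ({t} : Set Y) := by
  ext y
  rw [mem_centralizer_singleton_iff, mem_centralizer_singleton_iff]
  constructor
  · intro h
    have h1 : y * t * z = t * y * z := by
      rw [mul_assoc, h, mul_assoc, hZc z hz y, ← mul_assoc]
    exact mul_right_cancel h1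
  · intro h
    rw [← mul_assoc, h, mul_assoc, ← hZc z hz y, mul_assoc]

omit [Finite Y] [Z.Normal] in
theorem core_mul_central (hZc : ∀ z ∈ Z, ∀ y : Y, z * y = y * z) {t z : Y} (hz : z ∈ Z) :
    centralizerPPrimeCore 2 (t * z) = centralizerPPrimeCore 2 t := by
  have h : ∀ C D : Subgroup Y, C = D →
      (pPrimeCore 2 C).map C.subtype = (pPrimeCore 2 D).map D.subtype := by
    rintro C _ rfl; rfl
  exact h _ _ (centralizer_mul_central hZc hz)

theorem core_map_le (hZc : ∀ z ∈ Z, ∀ y : Y, z * y = y * z) (t : Y) :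
    (centralizerPPrimeCore 2 t).map (QuotientGroup.mk' Z) ≤
      centralizerPPrimeCore 2 (QuotientGroup.mk' Z t) := by
  have hfact : Fact (Nat.Prime 2) := ⟨Nat.prime_two⟩
  refine ThreePrime.CoreConj.le_core 2 _ ?_ ?_ ?_
  · rintro _ ⟨a, ha, rfl⟩
    have h := mem_centralizer_singleton_iff.1 (ThreePrime.CoreConj.core_le 2 t ha)
    rw [mem_centralizer_singleton_iff, ← map_mul, ← map_mul, h]
  · intro x hx
    obtain ⟨y, rfl⟩ := QuotientGroup.mk'_surjective Z x
    obtain ⟨z, hz, hyz⟩ := mem_centralizer_mk.1 hx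
    have h1 : (centralizerPPrimeCore 2 t).map (MulAut.conj y).toMonoidHom =
        centralizerPPrimeCore 2 t := by
      rw [← ThreePrime.CoreConj.core_conj, hyz, core_mul_central hZc hz]
    have key : ∀ a, a ∈ centralizerPPrimeCore 2 t ↔ y * a * y⁻¹ ∈ centralizerPPrimeCore 2 t := by
      intro a
      constructor
      · intro ha
        rw [← h1]
        exact ⟨a, ha, rfl⟩
      · intro ha
        rw [← h1] at ha
        obtain ⟨b, hb, hab⟩ := ha
        have h2 : y * b * y⁻¹ = y * a * y⁻¹ := hab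
        rwa [← mul_left_cancel (mul_right_cancel h2)]
    rw [mem_normalizer_iff]
    intro w
    constructor
    · rintro ⟨a, ha, rfl⟩
      exact ⟨y * a * y⁻¹, (key a).1 ha, by rw [map_mul, map_mul, map_inv]⟩
    · rintro ⟨a, ha, haw⟩
      refine ⟨y⁻¹ * a * y, (key _).2 (by
        have : y * (y⁻¹ * a * y) * y⁻¹ = a := by group
        rwa [this]), ?_⟩
      rw [map_mul, map_mul, map_inv, haw]
      group
  · intro h
    exact ThreePrime.CoreConj.core_card 2 t (h.trans (card_map_dvd _ _))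

theorem solvable_centralizer (hZc : ∀ z ∈ Z, ∀ y : Y, z * y = y * z) {t : Y}
    (hs : Group.IsSolvable ↥(centralizer ({t} : Set Y))) :
    Group.IsSolvable ↥(centralizer ({QuotientGroup.mk' Z t} : Set (Y ⧸ Z))) := by
  set C := centralizer ({QuotientGroup.mk' Z t} : Set (Y ⧸ Z)) with hC
  set K : Subgroup Y := C.comap (QuotientGroup.mk' Z) with hK
  have hKm : ∀ y ∈ K, y * t * y⁻¹ * t⁻¹ ∈ Z := by
    intro y hy
    obtain ⟨z, hz, h⟩ := mem_centralizer_mk.1 hy
    rw [h, ← hZc z hz t, mul_inv_cancel_right]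
    exact hz
  have hCK : centralizer ({t} : Set Y) ≤ K := by
    intro y hy
    have h := mem_centralizer_singleton_iff.1 hy
    refine mem_centralizer_mk.2 ⟨1, one_mem _, ?_⟩
    rw [h, mul_one, mul_inv_cancel_right]
  let φ : K →* Z :=
    { toFun := fun y => ⟨y * t * (y : Y)⁻¹ * t⁻¹, hKm y y.2⟩
      map_one' := Subtype.ext (by simp)
      map_mul' := fun x y => Subtype.ext (by
        show (x : Y) * y * t * ((x : Y) * y)⁻¹ * t⁻¹ =
          (x * t * (x : Y)⁻¹ * t⁻¹) * (y * t * (y : Y)⁻¹ * t⁻¹)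
        have h1 := hZc _ (hKm y y.2) (x : Y)
        have h2 := hZc _ (hKm y y.2) (x * t * (x : Y)⁻¹ * t⁻¹)
        rw [← h2]
        calc (x : Y) * y * t * ((x : Y) * y)⁻¹ * t⁻¹
            = (x * (y * t * (y : Y)⁻¹ * t⁻¹)) * (t * (x : Y)⁻¹ * t⁻¹) := by group
          _ = ((y * t * (y : Y)⁻¹ * t⁻¹) * x) * (t * (x : Y)⁻¹ * t⁻¹) := by rw [h1]
          _ = _ := by group) }
  have hZs : Group.IsSolvable Z := by
    refine Group.isSolvable_of_comm ?_
    intro a b
    exact Subtype.ext (hZc a a.2 b)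
  have hKs : Group.IsSolvable K := by
    refine Group.isSolvable_of_ker_le_range (inclusion hCK) φ ?_
    intro y hy
    have h1 : (y : Y) * t * (y : Y)⁻¹ * t⁻¹ = 1 := congrArg Subtype.val (MonoidHom.mem_ker.1 hy)
    have h2 : (y : Y) * t = t * y := by
      have h3 : (y : Y) * t * (y : Y)⁻¹ = t := mul_inv_eq_one.1 h1
      rw [mul_inv_eq_iff_eq_mul] at h3
      exact h3
    exact ⟨⟨y, mem_centralizer_singleton_iff.2 h2⟩, rfl⟩
  let ψ : K →* C := ((QuotientGroup.mk' Z).comp K.subtype).codRestrict C (fun y => y.2)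
  refine Group.isSolvable_of_surjective (f := ψ) ?_
  rintro ⟨x, hx⟩
  obtain ⟨y, rfl⟩ := QuotientGroup.mk'_surjective Z x
  exact ⟨⟨y, hx⟩, rfl⟩

theorem centralizer_le (hZc : ∀ z ∈ Z, ∀ y : Y, z * y = y * z) {N : Subgroup Y} {t : Y}
    (h1 : ∀ g ∈ centralizer ({t} : Set Y), ∃ a ∈ centralizerPPrimeCore 2 t, ∃ n ∈ N, g = a * n)
    (h2 : ∀ z ∈ Z, ∃ q ∈ N, q * t * q⁻¹ = t * z) :
    centralizer ({QuotientGroup.mk' Z t} : Set (Y ⧸ Z)) ≤
      centralizerPPrimeCore 2 (QuotientGroup.mk' Z t) ⊔ N.map (QuotientGroup.mk' Z) := by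
  intro x hx
  obtain ⟨y, rfl⟩ := QuotientGroup.mk'_surjective Z x
  obtain ⟨z, hz, hyz⟩ := mem_centralizer_mk.1 hx
  obtain ⟨q, hq, hqz⟩ := h2 z hz
  obtain ⟨a, ha, n, hn, han⟩ := h1 (q⁻¹ * y) (by
    rw [mem_centralizer_singleton_iff]
    have h3 : y * t = q * t * q⁻¹ * y := by rw [hqz, ← hyz]; group
    calc q⁻¹ * y * t = q⁻¹ * (y * t) := by group
      _ = q⁻¹ * (q * t * q⁻¹ * y) := by rw [h3]
      _ = t * (q⁻¹ * y) := by group)
  have h4 : y = q * (a * n) := by rw [← han]; group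
  rw [h4, map_mul, map_mul]
  have hN : ∀ m ∈ N, QuotientGroup.mk' Z m ∈
      centralizerPPrimeCore 2 (QuotientGroup.mk' Z t) ⊔ N.map (QuotientGroup.mk' Z) := fun m hm =>
    (le_sup_right : N.map (QuotientGroup.mk' Z) ≤ _) ⟨m, hm, rfl⟩
  refine mul_mem (hN q hq) (mul_mem ?_ (hN n hn))
  exact (le_sup_left : _ ≤ centralizerPPrimeCore 2 (QuotientGroup.mk' Z t) ⊔ _)
    (core_map_le hZc t ⟨a, ha, rfl⟩)

/-- lifting `O(Y/Z) N = Y/Z` -/
theorem lift (hZc : ∀ z ∈ Z, ∀ y : Y, z * y = y * z) (hZ2 : IsPGroup 2 Z) {N : Subgroup Y}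
    (hZN : Z ≤ N) (h : pPrimeCore 2 (Y ⧸ Z) ⊔ N.map (QuotientGroup.mk' Z) = ⊤) :
    ∀ g : Y, ∃ a ∈ pPrimeCore 2 Y, ∃ n ∈ N, g = a * n := by
  intro g
  have hn : (pPrimeCore 2 (Y ⧸ Z)).Normal := Lib.Cores.pPrimeCore_normal 2
  have h1 : (QuotientGroup.mk' Z g) ∈ pPrimeCore 2 (Y ⧸ Z) ⊔ N.map (QuotientGroup.mk' Z) := by
    rw [h]; exact mem_top _
  obtain ⟨x, hx, _, ⟨n, hn', rfl⟩, hxn⟩ := mem_sup_of_normal_left.1 h1
  have h2 : g * n⁻¹ ∈ (pPrimeCore 2 (Y ⧸ Z)).comap (QuotientGroup.mk' Z) := by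
    rw [mem_comap, map_mul, map_inv, ← hxn, mul_inv_cancel_right]
    exact hx
  have h3 := comap_core_le hZc hZ2 h2
  have hn2 : (pPrimeCore 2 Y).Normal := Lib.Cores.pPrimeCore_normal 2
  obtain ⟨a, ha, z, hz, haz⟩ := mem_sup_of_normal_left.1 h3
  refine ⟨a, ha, z * n, N.mul_mem (hZN hz) hn', ?_⟩
  rw [← mul_assoc, haz]
  group

end Cfsg.Agent.SylowL5.LiftQuot
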