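import Mathlib

/-!
# Lifting through an odd kernel (S0512, piece [E])

`q : M → X` surjective with kernel of odd order, `M` a subgroup of `G`, `z ∈ M` an involution with
`g z g⁻¹ ∈ M → g ∈ M`.
-/

set_option autoImplicit false

namespace Cfsg.Agent.SylowL5.OddLift

open Subgroup

universe u v

/-- the situation of piece [E] -/
structure OddHyp {G : Type u} [Group G] (M : Subgroup G) {X : Type v} [Group X] (q : M →* X)
    (z : M) : Prop where
  surj : Function.Surjective q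
  odd : Odd (Nat.card q.ker)
  zz : z * z = 1
  z1 : z ≠ 1
  fix : ∀ g : G, g * z * g⁻¹ ∈ M → g ∈ M

section General

variable {M : Type u} [Group M] [Finite M] {X : Type v} [Group X] {q : M →* X}

/-- Two elements `a`, `b` with `a² = b² = 1` and the same image are conjugate under the kernel. -/
theorem conj_of_eq (hodd : Odd (Nat.card q.ker)) {a b : M} (ha : a * a = 1) (hb : b * b = 1)
    (hab : q a = q b) : ∃ k ∈ q.ker, k * a * k⁻¹ = b := by
  set u : M := b * a with hu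
  have hinv : a * u * a⁻¹ = u⁻¹ := by
    have ha' : a⁻¹ = a := inv_eq_of_mul_eq_one_left ha
    have hb' : b⁻¹ = b := inv_eq_of_mul_eq_one_left hb
    rw [hu, mul_inv_rev, ha', hb']
    calc a * (b * a) * a = a * b * (a * a) := by group
      _ = a * b := by rw [ha, mul_one]
  have huk : u ∈ q.ker := by
    rw [MonoidHom.mem_ker, hu, map_mul, hab, ← map_mul, hb, map_one]
  have hord : Odd (orderOf u) := by
    have h1 : orderOf (⟨u, huk⟩ : q.ker) ∣ Nat.card q.ker := orderOf_dvd_natCard _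
    rw [Subgroup.orderOf_mk] at h1
    exact Odd.of_dvd_nat hodd h1
  obtain ⟨m, hm⟩ := hord
  have hk : ∀ n : ℕ, u ^ n * a * (u ^ n)⁻¹ = u ^ (2 * n) * a := by
    intro n
    have h1 : a * (u ^ n)⁻¹ * a⁻¹ = u ^ n := by
      have h2 : a * u ^ n * a⁻¹ = (u ^ n)⁻¹ := by
        rw [← conj_pow, hinv, inv_pow]
      have h3 : a * (u ^ n)⁻¹ * a⁻¹ = (a * u ^ n * a⁻¹)⁻¹ := by group
      rw [h3, h2, inv_inv]
    calc u ^ n * a * (u ^ n)⁻¹ = u ^ n * (a * (u ^ n)⁻¹ * a⁻¹) * a := by group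
      _ = u ^ n * u ^ n * a := by rw [h1]
      _ = u ^ (2 * n) * a := by rw [← pow_add, two_mul]
  refine ⟨u ^ (m + 1), q.ker.pow_mem huk _, ?_⟩
  rw [hk, show 2 * (m + 1) = (2 * m + 1) + 1 by ring, pow_succ, ← hm, pow_orderOf_eq_one, one_mul,
    hu, mul_assoc, ha, mul_one]

/-- fusion of involutions lifts through an odd kernel -/
theorem conj_lift (hsurj : Function.Surjective q) (hodd : Odd (Nat.card q.ker)) {a b : M}
    (ha : a * a = 1) (hb : b * b = 1) {x : X} (hx : x * q a * x⁻¹ = q b) :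
    ∃ g : M, q g = x ∧ g * a * g⁻¹ = b := by
  obtain ⟨y, rfl⟩ := hsurj x
  have h1 : q (y * a * y⁻¹) = q b := by rw [map_mul, map_mul, map_inv, hx]
  have h2 : y * a * y⁻¹ * (y * a * y⁻¹) = 1 := by
    calc y * a * y⁻¹ * (y * a * y⁻¹) = y * (a * a) * y⁻¹ := by group
      _ = 1 := by rw [ha]; group
  obtain ⟨k, hk, hkb⟩ := conj_of_eq hodd h2 hb h1
  refine ⟨k * y, ?_, ?_⟩
  · rw [map_mul, (MonoidHom.mem_ker).1 hk, one_mul]
  · rw [← hkb]; group

theorem isConj_lift (hsurj : Function.Surjective q) (hodd : Odd (Nat.card q.ker)) {a b : M}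
    (ha : a * a = 1) (hb : b * b = 1) (h : IsConj (q a) (q b)) : IsConj a b := by
  obtain ⟨x, hx⟩ := isConj_iff.1 h
  obtain ⟨g, -, hg⟩ := conj_lift hsurj hodd ha hb hx
  exact isConj_iff.2 ⟨g, hg⟩

omit [Finite M] in
/-- `q` is injective on 2-subgroups -/
theorem injOn (hodd : Odd (Nat.card q.ker)) {P : Subgroup M} (hP : IsPGroup 2 P) {a b : M}
    (ha : a ∈ P) (hb : b ∈ P) (hab : q a = q b) : a = b := by
  have h1 : a * b⁻¹ ∈ q.ker := by
    rw [MonoidHom.mem_ker, map_mul, map_inv, hab, mul_inv_cancel]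
  have h2 : a * b⁻¹ ∈ P := P.mul_mem ha (P.inv_mem hb)
  obtain ⟨k, hk⟩ := hP ⟨_, h2⟩
  have hk' : (a * b⁻¹) ^ 2 ^ k = 1 := congrArg Subtype.val hk
  have h3 : orderOf (a * b⁻¹) ∣ 2 ^ k := orderOf_dvd_of_pow_eq_one hk'
  have h4 : orderOf (a * b⁻¹) ∣ Nat.card q.ker := by
    have := orderOf_dvd_natCard (⟨_, h1⟩ : q.ker)
    rwa [Subgroup.orderOf_mk] at this
  have h5 : (2 ^ k).Coprime (Nat.card q.ker) := by
    apply Nat.Coprime.pow_left
    rw [Nat.coprime_two_left]
    exact hodd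
  have h6 : orderOf (a * b⁻¹) = 1 := Nat.eq_one_of_dvd_coprimes h5 h3 h4
  exact mul_inv_eq_one.1 (orderOf_eq_one_iff.1 h6)

/-- A Sylow 2-subgroup of `X` containing `q z` lifts to a Sylow 2-subgroup of `M` containing the 2-element `z`. -/
theorem exists_sylow_map (hsurj : Function.Surjective q) (hodd : Odd (Nat.card q.ker))
    (T : Sylow 2 X) {z : M} {n : ℕ} (hz : z ^ 2 ^ n = 1) (hzT : q z ∈ T) :
    ∃ P : Sylow 2 M, z ∈ P ∧ (P : Subgroup M).map q = T := by
  have h2 : Fact (Nat.Prime 2) := ⟨Nat.prime_two⟩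
  let K : Subgroup M := (T : Subgroup X).comap q
  have hzK : z ∈ K := hzT
  have hzp : IsPGroup 2 (zpowers (⟨z, hzK⟩ : K)) := by
    rintro ⟨y, hy⟩
    obtain ⟨m, rfl⟩ := mem_zpowers_iff.mp hy
    refine ⟨n, ?_⟩
    apply Subtype.ext
    apply Subtype.ext
    show (z ^ m) ^ 2 ^ n = 1
    rw [← zpow_natCast, ← zpow_mul, mul_comm, zpow_mul, zpow_natCast, hz, one_zpow]
  obtain ⟨P0, hP0⟩ := hzp.exists_le_sylow
  let f : K →* (T : Subgroup X) :=
    { toFun := fun k => ⟨q k, k.2⟩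
      map_one' := Subtype.ext (map_one q)
      map_mul' := fun a b => Subtype.ext (map_mul q (a : M) (b : M)) }
  have hf : Function.Surjective f := by
    rintro ⟨t, ht⟩
    obtain ⟨m, rfl⟩ := hsurj t
    exact ⟨⟨m, ht⟩, rfl⟩
  have hfin : Finite K := inferInstance
  let T0 : Sylow 2 (T : Subgroup X) := P0.mapSurjective hf
  have hT0 : (T0 : Subgroup (T : Subgroup X)) = ⊤ := by
    have h1 : IsPGroup 2 (⊤ : Subgroup (T : Subgroup X)) := T.2.to_subgroup _
    exact (T0.3 h1 le_top).symm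
  have hmap : ((P0 : Subgroup K).map K.subtype).map q = T := by
    ext t
    constructor
    · rintro ⟨_, ⟨k, -, rfl⟩, rfl⟩
      exact k.2
    · intro ht
      have h1 : (⟨t, ht⟩ : (T : Subgroup X)) ∈ (T0 : Subgroup (T : Subgroup X)) := by
        rw [hT0]; trivial
      obtain ⟨k, hk, hkt⟩ := h1
      exact ⟨k, ⟨k, hk, rfl⟩, congrArg Subtype.val hkt⟩
  have hP1 : IsPGroup 2 ((P0 : Subgroup K).map K.subtype) := P0.2.map _
  refine ⟨⟨(P0 : Subgroup K).map K.subtype, hP1, ?_⟩, ⟨⟨z, hzK⟩, hP0 (mem_zpowers _), rfl⟩, hmap⟩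
  intro Q hQ hle
  apply le_antisymm _ hle
  intro x hx
  have h1 : IsPGroup 2 (Q.map q) := hQ.map _
  have h3 : (T : Subgroup X) ≤ Q.map q := by
    rw [← hmap]; exact map_mono hle
  have h4 : Q.map q = T := T.3 h1 h3
  have h5 : q x ∈ ((P0 : Subgroup K).map K.subtype).map q := by
    rw [hmap, ← h4]; exact mem_map_of_mem q hx
  obtain ⟨y, hy, hyx⟩ := h5
  have := injOn hodd hQ hx (hle hy) hyx.symm
  rw [this]; exact hy

end General

section Main

variable {G : Type u} [Group G] [Finite G] {M : Subgroup G} {X : Type v} [Group X] {q : M →* X}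
  {z : M}

/-- `S ≤ M` a 2-subgroup containing `z` which is a Sylow subgroup of `M` is a Sylow subgroup of `G`. -/
theorem sylow_of_sylow (hfix : ∀ g : G, g * z * g⁻¹ ∈ M → g ∈ M) (P : Sylow 2 M) (hz : z ∈ P) :
    ∃ S : Sylow 2 G, (S : Subgroup G) = (P : Subgroup M).map M.subtype := by
  have h2 : Fact (Nat.Prime 2) := ⟨Nat.prime_two⟩
  set R : Subgroup G := (P : Subgroup M).map M.subtype with hR
  have hRM : R ≤ M := map_subtype_le _
  have hRp : IsPGroup 2 R := P.2.map _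
  have hzR : (z : G) ∈ R := mem_map_of_mem M.subtype hz
  obtain ⟨S, hS⟩ := hRp.exists_le_sylow
  refine ⟨S, ?_⟩
  by_contra hne
  have hlt : R < S := lt_of_le_of_ne hS (fun h => hne h.symm)
  -- normalizer condition in `S`
  have hnc : NormalizerCondition (S : Subgroup G) := by
    have : Group.IsNilpotent (S : Subgroup G) := S.2.isNilpotent
    exact Group.normalizerCondition_of_isNilpotent
  have hlt' : R.subgroupOf S < ⊤ := by
    rw [lt_top_iff_ne_top]
    intro h
    rw [subgroupOf_eq_top] at h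
    exact absurd h (not_le_of_gt hlt)
  obtain ⟨n, hn, hnR⟩ := SetLike.exists_of_lt (hnc _ hlt')
  -- `n` normalises `R`
  have hn' : ∀ x ∈ R, (n : G) * x * (n : G)⁻¹ ∈ R := by
    intro x hx
    have h3 := (mem_normalizer_iff.1 hn ⟨x, hS hx⟩).1 (mem_subgroupOf.2 hx)
    exact mem_subgroupOf.1 h3
  have hnM : (n : G) ∈ M := hfix n (hRM (hn' z hzR))
  -- the 2-group `⟨R, n⟩` lies in `M`
  let Q : Subgroup G := R ⊔ zpowers (n : G)
  have hQM : Q ≤ M := sup_le hRM (zpowers_le.2 hnM)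
  have hQS : Q ≤ S := sup_le hS (zpowers_le.2 n.2)
  have hQp : IsPGroup 2 (Q.subgroupOf M) := by
    have h3 : IsPGroup 2 Q := S.2.to_le hQS
    exact h3.comap_of_injective M.subtype M.subtype_injective
  have hPQ : (P : Subgroup M) ≤ Q.subgroupOf M := by
    intro x hx
    rw [mem_subgroupOf]
    exact (le_sup_left : R ≤ Q) (mem_map_of_mem M.subtype hx)
  have h3 := P.3 hQp hPQ
  have h4 : (n : G) ∈ R := by
    have h5 : (⟨n, hnM⟩ : M) ∈ Q.subgroupOf M :=
      mem_subgroupOf.2 ((le_sup_right : zpowers (n : G) ≤ Q) (mem_zpowers _))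
    rw [h3] at h5
    exact mem_map_of_mem M.subtype h5
  exact hnR (mem_subgroupOf.2 h4)

/-- **Lifting of a Sylow 2-subgroup of `X` containing `q z`** to a Sylow 2-subgroup of `G` contained in `M`:
`s : T → M` is a section of `q`. -/
theorem exists_section (h : OddHyp M q z) (T : Sylow 2 X) (hz : q z ∈ T) :
    ∃ (S : Sylow 2 G) (s : (T : Subgroup X) →* M), (∀ t, q (s t) = t) ∧ s ⟨q z, hz⟩ = z ∧
      (∀ t, ((s t : M) : G) ∈ S) ∧ ∀ x ∈ S, ∃ t, ((s t : M) : G) = x := by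
  obtain ⟨P, hzP, hPT⟩ := exists_sylow_map h.surj h.odd T (z := z) (n := 1)
    (by rw [pow_one, pow_two]; exact h.zz) hz
  obtain ⟨S, hS⟩ := sylow_of_sylow h.fix P hzP
  have hex : ∀ t : (T : Subgroup X), ∃ m ∈ P, q m = t := by
    intro t
    have : (t : X) ∈ (P : Subgroup M).map q := by rw [hPT]; exact t.2
    obtain ⟨m, hm, hmt⟩ := this
    exact ⟨m, hm, hmt⟩
  choose s hsP hsq using hex
  let s' : (T : Subgroup X) →* M :=
    { toFun := s
      map_one' := injOn h.odd P.2 (hsP 1) (P.one_mem) (by rw [hsq, map_one]; rfl)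
      map_mul' := fun a b => injOn h.odd P.2 (hsP _) (P.mul_mem (hsP a) (hsP b)) (by
        rw [hsq, map_mul, hsq, hsq]; rfl) }
  refine ⟨S, s', hsq, injOn h.odd P.2 (hsP _) hzP (hsq _), ?_, ?_⟩
  · intro t
    rw [← SetLike.mem_coe, ← Sylow.coe_coe, hS]
    exact mem_map_of_mem M.subtype (hsP t)
  · intro x hx
    rw [← SetLike.mem_coe, ← Sylow.coe_coe, hS] at hx
    obtain ⟨m, hm, rfl⟩ := hx
    have h3 : q m ∈ T := by
      rw [← SetLike.mem_coe, ← Sylow.coe_coe, ← hPT]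
      exact mem_map_of_mem q hm
    exact ⟨⟨q m, h3⟩, congrArg Subtype.val (injOn h.odd P.2 (hsP _) hm (hsq _))⟩

/-- conjugacy in `X` of the images of involutions of `M` gives conjugacy in `M` -/
theorem OddHyp.conj (h : OddHyp M q z) {a b : M} (ha : a * a = 1) (hb : b * b = 1)
    (hab : IsConj (q a) (q b)) : ∃ g ∈ M, g * (a : G) * g⁻¹ = b := by
  obtain ⟨g, hg⟩ := isConj_iff.1 (isConj_lift h.surj h.odd ha hb hab)
  exact ⟨g, g.2, congrArg Subtype.val hg⟩

omit [Finite G] in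
/-- elements of `G` conjugating `z` into `M` lie in `M`, in terms of `q` -/
theorem OddHyp.isConj_of (h : OddHyp M q z) {a : M} {g : G} (hg : g * z * g⁻¹ = a) :
    ∃ x : X, x * q z * x⁻¹ = q a := by
  have hgM : g ∈ M := h.fix g (by rw [hg]; exact a.2)
  refine ⟨q ⟨g, hgM⟩, ?_⟩
  rw [← map_inv, ← map_mul, ← map_mul]
  congr 1
  exact Subtype.ext hg

omit [Finite G] in
theorem OddHyp.centralizer_le (h : OddHyp M q z) : centralizer ({(z : G)} : Set G) ≤ M := by
  intro g hg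
  apply h.fix
  rw [mem_centralizer_singleton_iff.1 hg, mul_inv_cancel_right]
  exact z.2

end Main

end Cfsg.Agent.SylowL5.OddLift
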