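import Cfsg.Agent.SylowL5.Data
import Cfsg.Agent.Lib.GoldschmidtFusion
import Cfsg.Agent.J2Sylow.Functor
import Cfsg.Agent.Transfer.FrobeniusFusion
import Cfsg.Agent.Transfer.NormalPComplement

/-!
# Control of strong fusion (S0512, pieces B1 and B2)

* `control_of_stronglyClosed`: the normalizer of an abelian strongly closed subgroup of a Sylow
  2-subgroup controls strong 2-fusion.
* `ctrl_centralizer`, `ctrl_quotient`, `ctrl_of_quotient`, `ctrl_map_equiv`: inheritance.
* `two_nilpotent`: a group with a controlling 2-nilpotent subgroup is 2-nilpotent.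
* `hasNormalPComplement_of_normal`.
-/

set_option autoImplicit false
set_option maxHeartbeats 400000

namespace Cfsg.Agent.SylowL5.Ctrl

open Subgroup
open Cfsg.Agent.Lib.GoldschmidtFusion

section gen

variable {G : Type*} [Group G] [Finite G] {p : ℕ} [hp : Fact p.Prime]

theorem exists_mul_of_cop {N C R : Subgroup G} (hCN : C ≤ N)
    (hCn : ∀ n ∈ N, ∀ c ∈ C, n * c * n⁻¹ ∈ C) (hRN : R ≤ N) (hR : ¬ p ∣ R.relIndex N)
    (hcop : ∀ g ∈ N, Nat.Coprime (orderOf g) p → g ∈ C) {n : G} (hn : n ∈ N) :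
    ∃ s ∈ R, ∃ c ∈ C, n = s * c := by
  have hnorm : (C.subgroupOf N).Normal := by
    refine ⟨fun c hc n => ?_⟩
    rw [mem_subgroupOf] at hc ⊢
    exact hCn n n.2 c hc
  have hpg : IsPGroup p (N ⧸ C.subgroupOf N) := by
    intro x
    obtain ⟨y, rfl⟩ := QuotientGroup.mk_surjective x
    obtain ⟨k, m, hm, hkm⟩ := Nat.exists_eq_pow_mul_and_not_dvd (orderOf_pos (y : G)).ne' p hp.out.one_lt.ne'
    refine ⟨k, ?_⟩
    rw [← QuotientGroup.mk_pow, QuotientGroup.eq_one_iff, mem_subgroupOf]
    apply hcop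
    · exact (y ^ p ^ k).2
    · rw [Subgroup.coe_pow, orderOf_pow_of_dvd (pow_ne_zero _ hp.out.ne_zero) (by rw [hkm]; exact Dvd.intro _ rfl), hkm,
        Nat.mul_div_cancel_left _ (pow_pos hp.out.pos _)]
      exact ((Nat.Prime.coprime_iff_not_dvd hp.out).2 hm).symm
  have hKN : R ⊔ C = N := by
    apply le_antisymm (sup_le hRN hCN)
    rw [← relIndex_eq_one]
    obtain ⟨j, hj⟩ := (IsPGroup.iff_card.1 hpg)
    have h1 : (R ⊔ C).relIndex N ∣ p ^ j := by
      rw [← hj]
      exact relIndex_dvd_of_le_left N le_sup_right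
    have h2 : (R ⊔ C).relIndex N ∣ R.relIndex N :=
      relIndex_dvd_of_le_left N le_sup_left
    obtain ⟨i, -, hi⟩ := (Nat.dvd_prime_pow hp.out).1 h1
    rcases Nat.eq_zero_or_pos i with h0 | h0
    · rw [hi, h0, pow_zero]
    · exfalso
      apply hR
      refine dvd_trans ?_ h2
      rw [hi]
      exact dvd_pow_self p h0.ne'
  have hle : R ≤ normalizer (C : Set G) := by
    refine le_trans hRN ?_
    rwa [← normal_subgroupOf_iff_le_normalizer hCN]
  have hmem : n ∈ (((R ⊔ C : Subgroup G)) : Set G) := by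
    rw [hKN]; exact hn
  rw [coe_mul_of_left_le_normalizer_right _ _ hle] at hmem
  obtain ⟨s, hs, c, hc, rfl⟩ := Set.mem_mul.1 hmem
  exact ⟨s, hs, c, hc, rfl⟩

omit hp in
/-- the intersection of a Sylow subgroup of `N` with a normal subgroup of `N` is Sylow -/
theorem not_dvd_relIndex_inf {P N M : Subgroup G} (hMN : M ≤ N)
    (hM : ∀ n ∈ N, ∀ c ∈ M, n * c * n⁻¹ ∈ M) (h : ¬ p ∣ (P ⊓ N).relIndex N) :
    ¬ p ∣ (P ⊓ M).relIndex M := by
  have hnorm : (M.subgroupOf N).Normal := by
    refine ⟨fun c hc n => ?_⟩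
    rw [mem_subgroupOf] at hc ⊢
    exact hM n n.2 c hc
  have h1 : (P ⊓ N).relIndex M ∣ (P ⊓ N).relIndex N := by
    have e1 : (P ⊓ N).relIndex M = ((P ⊓ N).subgroupOf N).relIndex (M.subgroupOf N) := by
      rw [relIndex_subgroupOf hMN]
    have e2 : (P ⊓ N).relIndex N = ((P ⊓ N).subgroupOf N).index := rfl
    rw [e1, e2]
    exact relIndex_dvd_index_of_normal_right _ _
  intro h'
  apply h
  refine dvd_trans ?_ h1
  have : (P ⊓ M).relIndex M = (P ⊓ N).relIndex M := by
    rw [← inf_relIndex_right (P ⊓ N) M, inf_assoc, inf_eq_right.mpr hMN]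
  rw [← this]
  exact h'

theorem strong_control (P : Sylow p G) (A : Subgroup G) (hAP : A ≤ P)
    (hA : ∀ a ∈ A, ∀ b ∈ A, a * b = b * a)
    (hsc : ∀ a ∈ A, ∀ g : G, g * a * g⁻¹ ∈ P → g * a * g⁻¹ ∈ A) {D : Subgroup G} (hD : D ≤ P)
    {g : G} (hg : D.map (MulAut.conj g).toMonoidHom ≤ P) :
    ∃ n ∈ normalizer (A : Set G), ∀ d ∈ D, n * d * n⁻¹ = g * d * g⁻¹ := by
  have hN1 : ∀ g : G, (∀ a ∈ A, g * a * g⁻¹ ∈ P) → g ∈ normalizer (A : Set G) := by
    intro g hg
    refine J2Sylow.Functor.mem_normalizer_of_conj' ?_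
    intro a ha
    exact hsc a ha g (hg a ha)
  have hPA : (P : Subgroup G) ≤ normalizer (A : Set G) := by
    intro x hx
    exact hN1 x fun a ha => mul_mem (mul_mem hx (hAP ha)) (inv_mem hx)
  -- downward induction on the order of `D`
  have key : ∀ k : ℕ, ∀ D : Subgroup G, D ≤ P → Nat.card P ≤ Nat.card D + k → ∀ g : G,
      D.map (MulAut.conj g).toMonoidHom ≤ P →
      ∃ n ∈ normalizer (A : Set G), ∀ d ∈ D, n * d * n⁻¹ = g * d * g⁻¹ := by
    intro k
    induction k with
    | zero =>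
      intro D hD hk g hg
      have hDP : D = P := Subgroup.eq_of_le_of_card_ge hD (by simpa using hk)
      refine ⟨g, hN1 g ?_, fun d _ => rfl⟩
      intro a ha
      exact hg (conj_mem_map_conj (by rw [hDP]; exact hAP ha) g)
    | succ k ih =>
      intro D hD hk g hg
      by_cases hAD : A ≤ D
      · exact ⟨g, hN1 g fun a ha => hg (conj_mem_map_conj (hAD ha) g), fun d _ => rfl⟩
      have hlt : D < P := by
        refine lt_of_le_of_ne hD ?_
        rintro rfl
        exact hAD hAP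
      have big : ∀ E : Subgroup G, E ≤ P → Nat.card D < Nat.card E → ∀ g : G,
          E.map (MulAut.conj g).toMonoidHom ≤ P →
          ∃ n ∈ normalizer (A : Set G), ∀ d ∈ E, n * d * n⁻¹ = g * d * g⁻¹ := by
        intro E hE hc g hg
        exact ih E hE (by omega) g hg
      -- a fully normalized conjugate
      obtain ⟨k₀, hk₀P, hk₀⟩ := exists_fullyNormalized P hD
      set B : Subgroup G := D.map (MulAut.conj k₀).toMonoidHom with hB
      have hBcard : Nat.card B = Nat.card D := card_map_conj D k₀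
      have hBlt : ∀ {E : Subgroup G}, E ≤ P → Nat.card E = Nat.card D → E < P := by
        intro E hE hc
        refine lt_of_le_of_ne hE ?_
        rintro rfl
        have h1 : D = P := Subgroup.eq_of_le_of_card_ge hD (by rw [hc])
        exact hlt.ne h1
      -- conjugating into `B`
      have toB : ∀ E : Subgroup G, E ≤ P → Nat.card E = Nat.card D → ∀ k : G,
          E.map (MulAut.conj k).toMonoidHom = B → ∃ h : G, E.map (MulAut.conj h).toMonoidHom = B ∧
          ∃ n ∈ normalizer (A : Set G), ∀ d ∈ E, n * d * n⁻¹ = h * d * h⁻¹ := by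
        intro E hE hc k hkE
        obtain ⟨h, hhB, hh⟩ := exists_extension P hkE hk₀
        refine ⟨h, hhB, ?_⟩
        have hEN := lt_inf_normalizer (p := p) P.isPGroup' (hBlt hE hc)
        obtain ⟨n, hn, hn'⟩ := big ((P : Subgroup G) ⊓ normalizer (E : Set G)) inf_le_left (by
          rw [← hc]
          exact Set.Finite.card_lt_card (Set.toFinite _) hEN) h (hh.trans inf_le_left)
        exact ⟨n, hn, fun d hd => hn' d (hEN.le hd)⟩
      obtain ⟨h₁, hh₁, n₁, hn₁, hn₁'⟩ := toB D hD rfl k₀ rfl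
      obtain ⟨h₂, hh₂, n₂, hn₂, hn₂'⟩ := toB (D.map (MulAut.conj g).toMonoidHom) hg
        (card_map_conj D g) (k₀ * g⁻¹) (by
          rw [map_conj_map_conj, inv_mul_cancel_right])
      -- it suffices to treat `x = h₂ g h₁⁻¹`
      suffices hx : ∀ x ∈ normalizer (B : Set G),
          ∃ n ∈ normalizer (A : Set G), ∀ d ∈ B, n * d * n⁻¹ = x * d * x⁻¹ by
        obtain ⟨n, hn, hn'⟩ := hx (h₂ * g * h₁⁻¹) (by
          rw [mem_normalizer_iff_map_conj, ← hh₁, map_conj_map_conj, inv_mul_cancel_right,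
            ← map_conj_map_conj, hh₂, hh₁])
        refine ⟨n₂⁻¹ * n * n₁, mul_mem (mul_mem (inv_mem hn₂) hn) hn₁, ?_⟩
        intro d hd
        have e1 := hn₁' d hd
        have m1 : h₁ * d * h₁⁻¹ ∈ B := by rw [← hh₁]; exact conj_mem_map_conj hd h₁
        have e2 := hn' _ m1
        have e3 := hn₂' _ (conj_mem_map_conj hd g)
        have e4 : h₂ * g * h₁⁻¹ * (h₁ * d * h₁⁻¹) * (h₂ * g * h₁⁻¹)⁻¹ =
            h₂ * (g * d * g⁻¹) * h₂⁻¹ := by group
        calc n₂⁻¹ * n * n₁ * d * (n₂⁻¹ * n * n₁)⁻¹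
            = n₂⁻¹ * (n * (n₁ * d * n₁⁻¹) * n⁻¹) * n₂ := by group
          _ = n₂⁻¹ * (h₂ * (g * d * g⁻¹) * h₂⁻¹) * n₂ := by rw [e1, e2, e4]
          _ = n₂⁻¹ * (n₂ * (g * d * g⁻¹) * n₂⁻¹) * n₂ := by rw [← e3]
          _ = g * d * g⁻¹ := by group
      intro x hx
      by_cases hAB : A ≤ B
      · refine ⟨x, hN1 x fun a ha => ?_, fun d _ => rfl⟩
        exact hk₀P ((mem_normalizer_iff.mp hx a).mp (hAB ha))
      -- `N0`
      set N : Subgroup G := normalizer (B : Set G) with hN
      have hBA : ∀ n ∈ N, ∀ b ∈ B ⊓ A, n * b * n⁻¹ ∈ B ⊓ A := by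
        intro n hn b hb
        have h1 : n * b * n⁻¹ ∈ B := (mem_normalizer_iff.mp hn b).mp hb.1
        exact ⟨h1, hsc b hb.2 n (hk₀P h1)⟩
      let N0 : Subgroup G :=
        { carrier := {k | k ∈ N ∧ (∀ b ∈ B, k * b * k⁻¹ * b⁻¹ ∈ B ⊓ A) ∧ ∀ z ∈ B ⊓ A, k * z = z * k}
          one_mem' := ⟨one_mem _, fun a _ => by simp [one_mem], fun z _ => by simp⟩
          mul_mem' := by
            rintro k l ⟨hk0, hk1, hk2⟩ ⟨hl0, hl1, hl2⟩
            refine ⟨mul_mem hk0 hl0, fun a ha => ?_, fun z hz => ?_⟩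
            · have h1 := hl1 a ha
              have h2 := hk1 a ha
              have h3 := hk2 _ h1
              have h4 : k * l * a * (k * l)⁻¹ * a⁻¹ =
                  (k * (l * a * l⁻¹ * a⁻¹) * k⁻¹) * (k * a * k⁻¹ * a⁻¹) := by group
              rw [h4, h3, mul_inv_cancel_right]
              exact mul_mem h1 h2
            · rw [mul_assoc, hl2 z hz, ← mul_assoc, hk2 z hz, mul_assoc]
          inv_mem' := by
            rintro k ⟨hk0, hk1, hk2⟩
            have hk2' : ∀ z ∈ B ⊓ A, k⁻¹ * z = z * k⁻¹ := by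
              intro z hz
              rw [inv_mul_eq_iff_eq_mul, ← mul_assoc, hk2 z hz, mul_inv_cancel_right]
            refine ⟨inv_mem hk0, fun a ha => ?_, hk2'⟩
            have h1 := hk1 a ha
            have h3 : k⁻¹ * a * k⁻¹⁻¹ * a⁻¹ = k⁻¹ * (k * a * k⁻¹ * a⁻¹)⁻¹ * k := by group
            rw [h3]
            have h4 := hk2' _ (inv_mem h1)
            rw [h4, inv_mul_cancel_right]
            exact inv_mem h1 }
      have hN0 : ∀ k, k ∈ N0 ↔ k ∈ N ∧ (∀ b ∈ B, k * b * k⁻¹ * b⁻¹ ∈ B ⊓ A) ∧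
        ∀ z ∈ B ⊓ A, k * z = z * k := fun k => Iff.rfl
      have hN0N : N0 ≤ N := fun k hk => hk.1
      have hN0n : ∀ n ∈ N, ∀ k ∈ N0, n * k * n⁻¹ ∈ N0 := by
        intro n hn k hk
        rw [hN0] at hk ⊢
        have hn' := N.inv_mem hn
        refine ⟨N.mul_mem (N.mul_mem hn hk.1) hn', fun a ha => ?_, fun z hz => ?_⟩
        · have h1 : n⁻¹ * a * n ∈ B := by
            have := (mem_normalizer_iff.mp hn' a).mp ha
            rwa [inv_inv] at this
          have h2 := hBA n hn _ (hk.2.1 _ h1)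
          have h3 : n * k * n⁻¹ * a * (n * k * n⁻¹)⁻¹ * a⁻¹ =
              n * (k * (n⁻¹ * a * n) * k⁻¹ * (n⁻¹ * a * n)⁻¹) * n⁻¹ := by group
          rw [h3]; exact h2
        · have h1 : n⁻¹ * z * n ∈ B ⊓ A := by
            have := hBA _ hn' z hz
            rwa [inv_inv] at this
          have h2 := hk.2.2 _ h1
          calc n * k * n⁻¹ * z = n * (k * (n⁻¹ * z * n)) * n⁻¹ := by group
            _ = n * ((n⁻¹ * z * n) * k) * n⁻¹ := by rw [h2]
            _ = z * (n * k * n⁻¹) := by group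
      -- `N_A(B) ≤ N0`
      have hAN0 : A ⊓ N ≤ N0 := by
        intro a ha
        rw [hN0]
        refine ⟨ha.2, fun b hb => ⟨?_, ?_⟩, fun z hz => hA a ha.1 z hz.2⟩
        · exact B.mul_mem ((mem_normalizer_iff.mp ha.2 b).mp hb) (B.inv_mem hb)
        · have h1 : b * a⁻¹ * b⁻¹ ∈ A :=
            (mem_normalizer_iff.mp (hPA (hk₀P hb)) _).mp (inv_mem ha.1)
          have h2 := mul_mem ha.1 h1
          have h3 : a * (b * a⁻¹ * b⁻¹) = a * b * a⁻¹ * b⁻¹ := by group
          rwa [h3] at h2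
      -- `N_A(B)` is not contained in `B`
      have hnot : ¬ A ⊓ N ≤ B := by
        intro hle
        -- `B < B ⊔ A`
        have hBA' : B ≤ normalizer (A : Set G) := hk₀P.trans hPA
        have hltB : B < B ⊔ A := by
          refine lt_of_le_of_ne le_sup_left ?_
          intro h
          exact hAB (by rw [h]; exact le_sup_right)
        have hpg : IsPGroup p (B ⊔ A : Subgroup G) := P.isPGroup'.to_le (sup_le hk₀P hAP)
        have h1 := lt_inf_normalizer (p := p) hpg hltB
        apply h1.not_ge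
        intro y hy
        have h2 : y ∈ ((B ⊔ A : Subgroup G) : Set G) := hy.1
        rw [coe_mul_of_left_le_normalizer_right _ _ hBA'] at h2
        obtain ⟨b, hb, a, ha, rfl⟩ := Set.mem_mul.1 h2
        have h3 : a ∈ N := by
          have h4 := mul_mem (inv_mem (le_normalizer hb : b ∈ N)) hy.2
          rwa [inv_mul_cancel_left] at h4
        exact mul_mem hb (hle ⟨ha, h3⟩)
      -- `T0 = P ∩ N0`
      set T0 : Subgroup G := (P : Subgroup G) ⊓ N0 with hT0
      have hT0s : ¬ p ∣ T0.relIndex N0 := not_dvd_relIndex_inf hN0N hN0n hk₀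
      have hT0p : IsPGroup p T0 := P.isPGroup'.to_le inf_le_left
      -- Frattini
      obtain ⟨y, hy, hyT⟩ := exists_conj_le_in (p := p) hT0p hT0s
        (D := T0.map (MulAut.conj x).toMonoidHom) (by
          rintro _ ⟨t, ht, rfl⟩
          exact hN0n x hx t ht.2) (hT0p.map _)
      rw [map_conj_map_conj] at hyT
      -- `y⁻¹ = s c`
      set C0 : Subgroup G := N0 ⊓ centralizer (B : Set G) with hC0
      obtain ⟨s, hs, c, hc, hsc'⟩ := exists_mul_of_cop (p := p) (N := N0) (C := C0) (R := T0)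
        inf_le_left (by
          intro n hn c hc
          refine mem_inf.mpr ⟨N0.mul_mem (N0.mul_mem hn hc.1) (N0.inv_mem hn), ?_⟩
          have h1 := hN0N hn
          have h2 := mem_normalizer_iff_map_conj.1 h1
          rw [← h2, mem_centralizer_map_conj]
          have h3 : n⁻¹ * (n * c * n⁻¹) * n = c := by group
          rw [h3]; exact hc.2) inf_le_right hT0s (by
          intro g hg hcop
          refine mem_inf.mpr ⟨hg, ?_⟩
          rw [mem_centralizer_iff]
          intro b hb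
          -- coprime action
          have hg1 := hg.2.1 b hb
          set z := g * b * g⁻¹ * b⁻¹ with hz
          have hgb : g * b * g⁻¹ = z * b := by rw [hz]; group
          have hpow : ∀ k : ℕ, g ^ k * b * (g ^ k)⁻¹ = z ^ k * b := by
            intro k
            induction k with
            | zero => simp
            | succ k ih =>
              have h1 : g ^ (k + 1) * b * (g ^ (k + 1))⁻¹ = g * (g ^ k * b * (g ^ k)⁻¹) * g⁻¹ := by
                rw [pow_succ']; group
              have h2 : g * z ^ k = z ^ k * g := hg.2.2 _ (pow_mem hg1 k)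
              rw [h1, ih]
              calc g * (z ^ k * b) * g⁻¹ = (g * z ^ k) * b * g⁻¹ := by group
                _ = z ^ k * (g * b * g⁻¹) := by rw [h2]; group
                _ = z ^ (k + 1) * b := by rw [hgb, pow_succ]; group
          have h1 := hpow (orderOf g)
          rw [pow_orderOf_eq_one, inv_one, mul_one, one_mul] at h1
          have h2 : z ^ orderOf g = 1 := by
            have h3 : (1 : G) * b = z ^ orderOf g * b := by rw [one_mul]; exact h1
            exact (mul_right_cancel h3).symm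
          have h3 : orderOf z ∣ orderOf g := orderOf_dvd_of_pow_eq_one h2
          obtain ⟨j, hj⟩ := P.isPGroup'.exists_card_eq
          have h4 : orderOf z ∣ p ^ j := by
            rw [← hj]
            exact (P : Subgroup G).orderOf_dvd_natCard (hAP hg1.2)
          have h5 : orderOf z = 1 :=
            Nat.eq_one_of_dvd_coprimes (Nat.Coprime.pow_right j hcop) h3 h4
          have h6 : z = 1 := orderOf_eq_one_iff.mp h5
          rw [h6, one_mul] at hgb
          calc b * g = (g * b * g⁻¹) * g := by rw [hgb]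
            _ = g * b := by group) (inv_mem hy)
      -- the element `w = s * c * s⁻¹ ∈ C(B)` and `m = s * (y * x)`
      set E : Subgroup G := T0 ⊔ B with hE
      have hEP : E ≤ P := sup_le inf_le_left hk₀P
      have hyx : y * x ∈ normalizer (T0 : Set G) :=
        J2Sylow.Functor.mem_normalizer_of_conj' fun t ht => hyT (conj_mem_map_conj ht _)
      have hm1 : s * (y * x) ∈ normalizer (T0 : Set G) := mul_mem (le_normalizer hs) hyx
      have hm2 : s * (y * x) ∈ N := mul_mem (hN0N hs.2) (mul_mem (hN0N hy) hx)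
      have hmE : E.map (MulAut.conj (s * (y * x))).toMonoidHom ≤ P := by
        rw [hE, Subgroup.map_sup, mem_normalizer_iff_map_conj.1 hm1,
          mem_normalizer_iff_map_conj.1 hm2]
        exact hEP
      have hBE : B < E := by
        refine lt_of_le_of_ne le_sup_right ?_
        intro h
        apply hnot
        intro a ha
        have h1 : a ∈ T0 := ⟨hAP ha.1, hAN0 ha⟩
        have h2 : a ∈ E := mem_sup_left h1
        rwa [← h] at h2
      obtain ⟨n, hn, hn'⟩ := big E hEP (by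
        rw [← hBcard]
        exact Set.Finite.card_lt_card (Set.toFinite _) hBE) _ hmE
      refine ⟨n, hn, ?_⟩
      intro d hd
      rw [hn' d (mem_sup_right hd)]
      -- `x = y⁻¹ (y x) = s c (y x)`, and `c` centralizes `B`
      have h1 : y * x * d * (y * x)⁻¹ ∈ B :=
        (mem_normalizer_iff.mp (mul_mem (hN0N hy) hx) d).mp hd
      have h2 := conj_eq_of_mem_centralizer hc.2 h1
      have h3 : x = s * c * (y * x) := by rw [← hsc']; group
      have h4 : x * d * x⁻¹ = s * (c * (y * x * d * (y * x)⁻¹) * c⁻¹) * s⁻¹ := by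
        conv_lhs => rw [h3]
        group
      rw [h4, h2]
      group
  exact key (Nat.card P) D hD (by omega) g hg

end gen

section two

variable {Y : Type*} [Group Y] [Finite Y]

theorem odd_index_of_sylow_le (P : Sylow 2 Y) {N : Subgroup Y} (h : (P : Subgroup Y) ≤ N) :
    Odd N.index := by
  rw [← Nat.not_even_iff_odd, even_iff_two_dvd]
  intro h2
  exact P.not_dvd_index (h2.trans (index_dvd_of_le h))

theorem not_dvd_relIndex_of_sylow (P : Sylow 2 Y) (N : Subgroup Y) (h : (P : Subgroup Y) ≤ N) :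
    ¬ 2 ∣ (P : Subgroup Y).relIndex N := by
  intro h2
  exact P.not_dvd_index (h2.trans (relIndex_dvd_index_of_le h))

/-- every 2-subgroup can be moved into a subgroup of odd index -/
theorem exists_conj_le_of_odd {N : Subgroup Y} (hN : Odd N.index) {A : Subgroup Y}
    (hA : IsPGroup 2 A) : ∃ g : Y, A.map (MulAut.conj g).toMonoidHom ≤ N := by
  -- a Sylow 2-subgroup of `Y` contained in `N`
  obtain ⟨R, -, hRN, hR, hRi⟩ := exists_sylow_in (p := 2) (N := N) (D := ⊥) bot_le
    (IsPGroup.of_bot)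
  have hRi' : ¬ 2 ∣ R.relIndex ⊤ := by
    rw [relIndex_top_right, ← relIndex_mul_index hRN]
    intro h
    rcases (Nat.Prime.dvd_mul Nat.prime_two).mp h with h | h
    · exact hRi h
    · exact (Nat.not_even_iff_odd.mpr hN) (even_iff_two_dvd.mpr h)
  obtain ⟨g, -, hg⟩ := exists_conj_le_in (p := 2) hR hRi' (le_top (a := A)) hA
  exact ⟨g, hg.trans hRN⟩

/-- a Sylow 2-subgroup of `Y` inside a subgroup of odd index, containing a given 2-subgroup -/
theorem exists_sylow_le_of_odd {N : Subgroup Y} (hN : Odd N.index) {A : Subgroup Y}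
    (hAN : A ≤ N) (hA : IsPGroup 2 A) : ∃ P : Sylow 2 Y, A ≤ P ∧ (P : Subgroup Y) ≤ N := by
  obtain ⟨R, hAR, hRN, hR, hRi⟩ := exists_sylow_in (p := 2) hAN hA
  have hRi' : ¬ 2 ∣ R.index := by
    rw [← relIndex_mul_index hRN]
    intro h
    rcases (Nat.Prime.dvd_mul Nat.prime_two).mp h with h | h
    · exact hRi h
    · exact (Nat.not_even_iff_odd.mpr hN) (even_iff_two_dvd.mpr h)
  refine ⟨hR.toSylow hRi', ?_, ?_⟩
  · exact hAR
  · exact hRN

/-- **B1.** The normalizer of an abelian subgroup strongly closed in a Sylow 2-subgroup controls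
strong 2-fusion. -/
theorem control_of_stronglyClosed (P : Sylow 2 Y) (A : Subgroup Y) (hAP : A ≤ P)
    (hA : ∀ a ∈ A, ∀ b ∈ A, a * b = b * a)
    (hsc : ∀ a ∈ A, ∀ g : Y, g * a * g⁻¹ ∈ P → g * a * g⁻¹ ∈ A) :
    Data.Ctrl (normalizer (A : Set Y)) := by
  have hPA : (P : Subgroup Y) ≤ normalizer (A : Set Y) := by
    intro x hx
    refine J2Sylow.Functor.mem_normalizer_of_conj' ?_
    intro a ha
    exact hsc a ha x (mul_mem (mul_mem hx (hAP ha)) (inv_mem hx))
  refine ⟨odd_index_of_sylow_le P hPA, ?_⟩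
  intro D hD hDN g hg
  have hi := not_dvd_relIndex_of_sylow P _ hPA
  obtain ⟨n₁, hn₁, h₁⟩ := exists_conj_le_in (p := 2) P.isPGroup' hi hDN hD
  have hgD : D.map (MulAut.conj g).toMonoidHom ≤ normalizer (A : Set Y) := by
    rintro _ ⟨d, hd, rfl⟩
    exact hg d hd
  obtain ⟨n₂, hn₂, h₂⟩ := exists_conj_le_in (p := 2) P.isPGroup' hi hgD (hD.map _)
  obtain ⟨n, hn, hn'⟩ := strong_control P A hAP hA hsc h₁ (g := n₂ * g * n₁⁻¹) (by
    rw [map_conj_map_conj, inv_mul_cancel_right, ← map_conj_map_conj]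
    exact h₂)
  refine ⟨n₂⁻¹ * n * n₁, mul_mem (mul_mem (inv_mem hn₂) hn) hn₁, ?_⟩
  intro d hd
  have e1 := hn' _ (conj_mem_map_conj hd n₁)
  have e2 : n₂ * g * n₁⁻¹ * (n₁ * d * n₁⁻¹) * (n₂ * g * n₁⁻¹)⁻¹ = n₂ * (g * d * g⁻¹) * n₂⁻¹ := by
    group
  calc n₂⁻¹ * n * n₁ * d * (n₂⁻¹ * n * n₁)⁻¹ = n₂⁻¹ * (n * (n₁ * d * n₁⁻¹) * n⁻¹) * n₂ := by group
    _ = n₂⁻¹ * (n₂ * (g * d * g⁻¹) * n₂⁻¹) * n₂ := by rw [e1, e2]
    _ = g * d * g⁻¹ := by group

/-- control of strong fusion passes to centralizers of 2-subgroups -/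
theorem ctrl_centralizer {N F : Subgroup Y} (h : Data.Ctrl N) (hFN : F ≤ N) (hF : IsPGroup 2 F) :
    Data.Ctrl (N.subgroupOf (centralizer (F : Set Y))) := by
  set C : Subgroup Y := centralizer (F : Set Y) with hC
  refine ⟨?_, ?_⟩
  · -- a Sylow 2-subgroup of `C`
    obtain ⟨S, -, hSC, hS, hSi⟩ := exists_sylow_in (p := 2) (N := C) (D := ⊥) bot_le
      (IsPGroup.of_bot)
    have hFS : IsPGroup 2 (F ⊔ S : Subgroup Y) := by
      refine hF.to_sup_of_normal_left' hS ?_
      exact hSC.trans (centralizer_le_normalizer _)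
    obtain ⟨g, hg⟩ := exists_conj_le_of_odd h.odd hFS
    obtain ⟨n, hn, hn'⟩ := h.fus F hF hFN g fun a ha => hg (conj_mem_map_conj (mem_sup_left ha) g)
    set c : Y := n⁻¹ * g with hc
    have hcC : c ∈ C := by
      rw [hC, mem_centralizer_iff]
      intro f hf
      have h1 := hn' f hf
      have h2 : c * f * c⁻¹ = f := by
        calc c * f * c⁻¹ = n⁻¹ * (g * f * g⁻¹) * n := by rw [hc]; group
          _ = n⁻¹ * (n * f * n⁻¹) * n := by rw [h1]
          _ = f := by group
      calc f * c = (c * f * c⁻¹) * c := by rw [h2]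
        _ = c * f := by group
    have hSN : S.map (MulAut.conj c).toMonoidHom ≤ N := by
      rintro _ ⟨s, hs, rfl⟩
      show c * s * c⁻¹ ∈ N
      have h1 : g * s * g⁻¹ ∈ N := hg (conj_mem_map_conj (mem_sup_right hs) g)
      have h2 : c * s * c⁻¹ = n⁻¹ * (g * s * g⁻¹) * n⁻¹⁻¹ := by rw [hc]; group
      rw [h2]
      exact mul_mem (mul_mem (inv_mem hn) h1) (inv_mem (inv_mem hn))
    have hSC' : S.map (MulAut.conj c).toMonoidHom ≤ C := by
      rintro _ ⟨s, hs, rfl⟩
      exact mul_mem (mul_mem hcC (hSC hs)) (inv_mem hcC)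
    have hCc : C.map (MulAut.conj c).toMonoidHom = C :=
      mem_normalizer_iff_map_conj.1 (le_normalizer hcC)
    have hi : (S.map (MulAut.conj c).toMonoidHom).relIndex C = S.relIndex C := by
      conv_lhs => rw [← hCc]
      exact relIndex_map_map_of_injective _ _ (MulAut.conj c).injective
    rw [← Nat.not_even_iff_odd, even_iff_two_dvd]
    intro h2
    apply hSi
    rw [← hi]
    refine h2.trans ?_
    show N.relIndex C ∣ _
    exact relIndex_dvd_of_le_left C hSN
  · intro A hA hAN g hg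
    -- `A F`
    set A' : Subgroup Y := A.map C.subtype with hA'
    have hA'C : A' ≤ C := by
      rintro _ ⟨a, -, rfl⟩; exact a.2
    have hA'N : A' ≤ N := by
      rintro _ ⟨a, ha, rfl⟩
      exact mem_subgroupOf.mp (hAN ha)
    have hp : IsPGroup 2 (F ⊔ A' : Subgroup Y) :=
      hF.to_sup_of_normal_left' (hA.map _) (hA'C.trans (centralizer_le_normalizer _))
    have hgF : ∀ f ∈ F, (g : Y) * f * (g : Y)⁻¹ = f := by
      intro f hf
      exact conj_eq_of_mem_centralizer g.2 hf
    have hle : (F ⊔ A').map (MulAut.conj (g : Y)).toMonoidHom ≤ N := by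
      rw [Subgroup.map_sup]
      refine sup_le ?_ ?_
      · rintro _ ⟨f, hf, rfl⟩
        show (g : Y) * f * (g : Y)⁻¹ ∈ N
        rw [hgF f hf]; exact hFN hf
      · rintro _ ⟨_, ⟨a, ha, rfl⟩, rfl⟩
        exact mem_subgroupOf.mp (hg a ha)
    obtain ⟨n, hn, hn'⟩ := h.fus (F ⊔ A') hp (sup_le hFN hA'N) g
      fun a ha => hle (conj_mem_map_conj ha _)
    have hnC : n ∈ C := by
      rw [hC, mem_centralizer_iff]
      intro f hf
      have h1 := hn' f (mem_sup_left hf)
      rw [hgF f hf] at h1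
      calc f * n = (n * f * n⁻¹) * n := by rw [h1]
        _ = n * f := by group
    refine ⟨⟨n, hnC⟩, mem_subgroupOf.mpr hn, ?_⟩
    intro a ha
    apply Subtype.ext
    exact hn' a (mem_sup_right ⟨a, ha, rfl⟩)

/-- control of strong fusion passes to quotients by normal 2-subgroups -/
theorem ctrl_quotient {N F : Subgroup Y} [F.Normal] (h : Data.Ctrl N) (hFN : F ≤ N)
    (hF : IsPGroup 2 F) : Data.Ctrl (N.map (QuotientGroup.mk' F)) := by
  have hker : (QuotientGroup.mk' F).ker ≤ N := by rw [QuotientGroup.ker_mk']; exact hFN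
  refine ⟨?_, ?_⟩
  · have h1 : (N.map (QuotientGroup.mk' F)).index ∣ N.index :=
      index_map_dvd _ (QuotientGroup.mk'_surjective F)
    exact h.odd.of_dvd_nat h1
  · intro A hA hAN g hg
    obtain ⟨g, rfl⟩ := QuotientGroup.mk'_surjective F g
    set A' : Subgroup Y := A.comap (QuotientGroup.mk' F) with hA'
    have hmem : ∀ y : Y, QuotientGroup.mk' F y ∈ N.map (QuotientGroup.mk' F) → y ∈ N := by
      intro y hy
      have h1 : y ∈ (N.map (QuotientGroup.mk' F)).comap (QuotientGroup.mk' F) := hy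
      rwa [comap_map_eq_self hker] at h1
    have hA'p : IsPGroup 2 A' := by
      intro y
      obtain ⟨k, hk⟩ := hA ⟨QuotientGroup.mk' F y, y.2⟩
      have h1 : (QuotientGroup.mk' F (y : Y)) ^ (2 ^ k) = 1 := by
        have := congrArg Subtype.val hk
        simpa using this
      rw [← map_pow] at h1
      have h2 : (y : Y) ^ (2 ^ k) ∈ F := by
        rwa [← MonoidHom.mem_ker, QuotientGroup.ker_mk'] at h1
      obtain ⟨j, hj⟩ := hF ⟨_, h2⟩
      refine ⟨k + j, ?_⟩
      apply Subtype.ext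
      have h3 := congrArg Subtype.val hj
      rw [Subgroup.coe_pow] at h3
      rw [Subgroup.coe_pow, pow_add, pow_mul]
      exact h3
    obtain ⟨n, hn, hn'⟩ := h.fus A' hA'p (fun y hy => hmem y (hAN hy)) g (fun a ha => by
      apply hmem
      rw [map_mul, map_mul, map_inv]
      exact hg _ ha)
    refine ⟨QuotientGroup.mk' F n, mem_map_of_mem _ hn, ?_⟩
    intro a ha
    obtain ⟨a, rfl⟩ := QuotientGroup.mk'_surjective F a
    have h1 := hn' a ha
    rw [← map_inv, ← map_mul, ← map_mul, h1]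
    simp

/-- control of strong fusion lifts from quotients by central 2-subgroups -/
theorem ctrl_of_quotient {N Z : Subgroup Y} [Z.Normal] (hZc : ∀ z ∈ Z, ∀ y : Y, z * y = y * z)
    (hZN : Z ≤ N) (hZ : IsPGroup 2 Z) (h : Data.Ctrl (N.map (QuotientGroup.mk' Z))) :
    Data.Ctrl N := by
  have hker : (QuotientGroup.mk' Z).ker ≤ N := by rw [QuotientGroup.ker_mk']; exact hZN
  have hmem : ∀ y : Y, QuotientGroup.mk' Z y ∈ N.map (QuotientGroup.mk' Z) → y ∈ N := by
    intro y hy
    have h1 : y ∈ (N.map (QuotientGroup.mk' Z)).comap (QuotientGroup.mk' Z) := hy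
    rwa [comap_map_eq_self hker] at h1
  have hindex : (N.map (QuotientGroup.mk' Z)).index = N.index :=
    index_map_eq _ (QuotientGroup.mk'_surjective Z) hker
  refine ⟨by rw [← hindex]; exact h.odd, ?_⟩
  intro A hA hAN g hg
  obtain ⟨n', hn', hn''⟩ := h.fus (A.map (QuotientGroup.mk' Z)) (hA.map _) (map_mono hAN)
    (QuotientGroup.mk' Z g) (by
      rintro _ ⟨a, ha, rfl⟩
      rw [← map_inv, ← map_mul, ← map_mul]
      exact mem_map_of_mem _ (hg a ha))
  obtain ⟨n, hn, rfl⟩ := hn'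
  -- `k = n⁻¹ g` acts on `A` trivially modulo `Z`
  set k : Y := n⁻¹ * g with hk
  have hkA : ∀ a ∈ A, k * a * k⁻¹ * a⁻¹ ∈ Z := by
    intro a ha
    have h1 := hn'' _ (mem_map_of_mem _ ha)
    rw [← map_inv, ← map_mul, ← map_mul, ← map_inv, ← map_mul, ← map_mul] at h1
    have h2 : QuotientGroup.mk' Z (k * a * k⁻¹ * a⁻¹) = 1 := by
      have h3 : k * a * k⁻¹ * a⁻¹ = n⁻¹ * (g * a * g⁻¹) * n * a⁻¹ := by rw [hk]; group
      rw [h3, map_mul, map_mul, map_mul, ← h1, ← map_mul, ← map_mul, ← map_mul]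
      have h4 : n⁻¹ * (n * a * n⁻¹) * n * a⁻¹ = 1 := by group
      rw [h4, map_one]
    rwa [← MonoidHom.mem_ker, QuotientGroup.ker_mk'] at h2
  -- the group `E` of all elements acting trivially on `A` modulo `Z`
  let E : Subgroup Y :=
    { carrier := {y | ∀ a ∈ A, y * a * y⁻¹ * a⁻¹ ∈ Z}
      one_mem' := fun a _ => by simp [one_mem]
      mul_mem' := by
        intro y w hy hw a ha
        have h1 := hZc _ (hw a ha) y
        have h2 : y * w * a * (y * w)⁻¹ * a⁻¹ =
            (y * (w * a * w⁻¹ * a⁻¹)) * y⁻¹ * (y * a * y⁻¹ * a⁻¹) := by group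
        rw [h2, ← h1, mul_inv_cancel_right]
        exact mul_mem (hw a ha) (hy a ha)
      inv_mem' := by
        intro y hy a ha
        have h1 := hZc _ (inv_mem (hy a ha)) y⁻¹
        have h2 : y⁻¹ * a * y⁻¹⁻¹ * a⁻¹ = (y⁻¹ * (y * a * y⁻¹ * a⁻¹)⁻¹) * y := by group
        rw [h2, ← h1, inv_mul_cancel_right]
        exact inv_mem (hy a ha) }
  have hE : ∀ y, y ∈ E ↔ ∀ a ∈ A, y * a * y⁻¹ * a⁻¹ ∈ Z := fun y => Iff.rfl
  have hZE : Z ≤ E := by
    intro z hz a ha
    rw [hZc z hz a]
    simp [one_mem]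
  -- `N ∩ E` has odd index in `E`
  have hEi : ¬ 2 ∣ (N ⊓ E).relIndex E := by
    have h1 := ctrl_centralizer h (map_mono (f := QuotientGroup.mk' Z) hAN) (hA.map _)
    have hEmap : E.map (QuotientGroup.mk' Z) =
        centralizer ((A.map (QuotientGroup.mk' Z) : Subgroup (Y ⧸ Z)) : Set (Y ⧸ Z)) := by
      ext x
      obtain ⟨y, rfl⟩ := QuotientGroup.mk'_surjective Z x
      have hyE : QuotientGroup.mk' Z y ∈ E.map (QuotientGroup.mk' Z) ↔ y ∈ E := by
        constructor
        · intro hy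
          have h1 : y ∈ (E.map (QuotientGroup.mk' Z)).comap (QuotientGroup.mk' Z) := hy
          rwa [comap_map_eq_self (by rw [QuotientGroup.ker_mk']; exact hZE)] at h1
        · exact fun hy => mem_map_of_mem _ hy
      rw [hyE, mem_centralizer_iff, hE]
      constructor
      · rintro hy _ ⟨a, ha, rfl⟩
        have h2 := hy a ha
        rw [← QuotientGroup.ker_mk' Z, MonoidHom.mem_ker] at h2
        rw [map_mul, map_mul, map_mul, map_inv, map_inv, mul_inv_eq_one,
          mul_inv_eq_iff_eq_mul] at h2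
        exact h2.symm
      · intro hy a ha
        have h2 := hy _ (mem_map_of_mem (QuotientGroup.mk' Z) ha)
        rw [← QuotientGroup.ker_mk' Z, MonoidHom.mem_ker, map_mul, map_mul, map_mul, map_inv,
          map_inv, mul_inv_eq_one, mul_inv_eq_iff_eq_mul]
        exact h2.symm
    have h2 : (N.map (QuotientGroup.mk' Z)).relIndex (E.map (QuotientGroup.mk' Z)) =
        N.relIndex E := by
      rw [relIndex_map_map, QuotientGroup.ker_mk', sup_of_le_left hZN, sup_of_le_left hZE]
    have h3 : Odd (N.relIndex E) := by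
      rw [← h2, hEmap]
      exact h1.odd
    rw [inf_relIndex_right, ← even_iff_two_dvd, Nat.not_even_iff_odd]
    exact h3
  -- odd order elements of `E` centralize `A`
  obtain ⟨s, hs, c, hc, hsc⟩ := exists_mul_of_cop (p := 2) (N := E)
    (C := E ⊓ centralizer (A : Set Y)) (R := N ⊓ E) inf_le_left (by
      intro n hn c hc
      refine mem_inf.mpr ⟨E.mul_mem (E.mul_mem hn hc.1) (E.inv_mem hn), ?_⟩
      rw [mem_centralizer_iff]
      intro a ha
      have h1 := (hE _).mp (E.inv_mem hn) a ha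
      have h2 := mem_centralizer_iff.mp hc.2 a ha
      obtain ⟨z, hz⟩ : ∃ z, z = n⁻¹ * a * n⁻¹⁻¹ * a⁻¹ := ⟨_, rfl⟩
      rw [← hz] at h1
      have h3 : n⁻¹ * a * n = z * a := by rw [hz]; group
      have h4 : c * (z * a) = (z * a) * c := by
        calc c * (z * a) = (c * z) * a := by rw [mul_assoc]
          _ = z * (c * a) := by rw [← hZc z h1 c, mul_assoc]
          _ = (z * a) * c := by rw [← h2, mul_assoc]
      calc a * (n * c * n⁻¹) = n * ((n⁻¹ * a * n) * c) * n⁻¹ := by group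
        _ = n * (c * (n⁻¹ * a * n)) * n⁻¹ := by rw [h3, h4]
        _ = n * c * n⁻¹ * a := by group) inf_le_right hEi (by
      intro y hy hcop
      refine mem_inf.mpr ⟨hy, ?_⟩
      rw [mem_centralizer_iff]
      intro a ha
      have hy1 := hy a ha
      set z := y * a * y⁻¹ * a⁻¹ with hz
      have hya : y * a * y⁻¹ = z * a := by rw [hz]; group
      have hpow : ∀ k : ℕ, y ^ k * a * (y ^ k)⁻¹ = z ^ k * a := by
        intro k
        induction k with
        | zero => simp
        | succ k ih =>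
          have h1 : y ^ (k + 1) * a * (y ^ (k + 1))⁻¹ = y * (y ^ k * a * (y ^ k)⁻¹) * y⁻¹ := by
            rw [pow_succ']; group
          have h2 : y * z ^ k = z ^ k * y := (hZc _ (pow_mem hy1 k) y).symm
          rw [h1, ih]
          calc y * (z ^ k * a) * y⁻¹ = (y * z ^ k) * a * y⁻¹ := by group
            _ = z ^ k * (y * a * y⁻¹) := by rw [h2]; group
            _ = z ^ (k + 1) * a := by rw [hya, pow_succ]; group
      have h1 := hpow (orderOf y)
      rw [pow_orderOf_eq_one, inv_one, mul_one, one_mul] at h1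
      have h2 : z ^ orderOf y = 1 := by
        have h3 : (1 : Y) * a = z ^ orderOf y * a := by rw [one_mul]; exact h1
        exact (mul_right_cancel h3).symm
      have h3 : orderOf z ∣ orderOf y := orderOf_dvd_of_pow_eq_one h2
      obtain ⟨j, hj⟩ := hZ.exists_card_eq
      have h4 : orderOf z ∣ 2 ^ j := by
        rw [← hj]
        exact Z.orderOf_dvd_natCard hy1
      have h5 : orderOf z = 1 :=
        Nat.eq_one_of_dvd_coprimes (Nat.Coprime.pow_right j hcop) h3 h4
      have h6 : z = 1 := orderOf_eq_one_iff.mp h5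
      rw [h6, one_mul] at hya
      calc a * y = (y * a * y⁻¹) * y := by rw [hya]
        _ = y * a := by group) ((hE k).mpr hkA)
  refine ⟨n * s, mul_mem hn hs.1, ?_⟩
  intro a ha
  have h1 := conj_eq_of_mem_centralizer hc.2 ha
  have h2 : g = n * (s * c) := by rw [← hsc, hk]; group
  have h3 : g * a * g⁻¹ = n * s * (c * a * c⁻¹) * (n * s)⁻¹ := by rw [h2]; group
  rw [h3, h1]

/-- transport along isomorphisms -/
theorem ctrl_map_equiv {Y' : Type*} [Group Y'] (e : Y ≃* Y') {N : Subgroup Y} (h : Data.Ctrl N) :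
    Data.Ctrl (N.map e.toMonoidHom) := by
  refine ⟨?_, ?_⟩
  · have h1 : (N.map e.toMonoidHom).index ∣ N.index := index_map_dvd _ e.surjective
    exact h.odd.of_dvd_nat h1
  · intro A hA hAN g hg
    have hmem : ∀ y : Y, e y ∈ N.map e.toMonoidHom → y ∈ N := by
      rintro y ⟨x, hx, hxy⟩
      have : x = y := e.injective hxy
      rwa [← this]
    obtain ⟨n, hn, hn'⟩ := h.fus (A.comap e.toMonoidHom)
      (hA.comap_of_injective _ e.injective) (fun y hy => hmem y (hAN hy)) (e.symm g) (by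
        intro a ha
        apply hmem
        rw [map_mul, map_mul, map_inv, e.apply_symm_apply]
        exact hg _ ha)
    refine ⟨e n, mem_map_of_mem _ hn, ?_⟩
    intro a ha
    have h1 := hn' (e.symm a) (by
      show e (e.symm a) ∈ A
      rw [e.apply_symm_apply]; exact ha)
    have h2 := congrArg e h1
    rw [map_mul, map_mul, map_inv, map_mul, map_mul, map_inv, e.apply_symm_apply,
      e.apply_symm_apply] at h2
    exact h2

/-- **Frobenius with control.** If `N` controls strong fusion and `N = O P` is 2-nilpotent, then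
so is `Y`. -/
theorem two_nilpotent {N O : Subgroup Y} (h : Data.Ctrl N) (hON : O ≤ N) (hO : Odd (Nat.card O))
    (hOn : ∀ n ∈ N, ∀ x ∈ O, n * x * n⁻¹ ∈ O) (hodd : ∀ x ∈ N, Odd (orderOf x) → x ∈ O) :
    Cfsg.HasNormalPComplement 2 Y := by
  obtain ⟨P, -, hPN⟩ := exists_sylow_le_of_odd h.odd (A := ⊥) bot_le IsPGroup.of_bot
  refine Transfer.FrobeniusFusion.hasNormalPComplement_of_controls_fusion P ?_
  rintro x hx y hy ⟨g, hg⟩
  -- control
  obtain ⟨n, hn, hn'⟩ := h.fus (zpowers x) (P.isPGroup'.to_le (zpowers_le.mpr hx))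
    (zpowers_le.mpr (hPN hx)) g (by
      intro a ha
      obtain ⟨j, rfl⟩ := mem_zpowers_iff.mp ha
      rw [← conj_zpow, hg]
      exact zpow_mem (hPN hy) j)
  have hnx : n * x * n⁻¹ = y := by rw [hn' x (mem_zpowers x), hg]
  -- `n = s * o`
  obtain ⟨s, hs, o, ho, rfl⟩ := exists_mul_of_cop (p := 2) (N := N) (C := O)
    (R := (P : Subgroup Y)) hON hOn hPN (not_dvd_relIndex_of_sylow P N hPN) (by
      intro g hg hcop
      exact hodd g hg (Nat.coprime_two_right.mp hcop)) hn
  refine ⟨s, hs, ?_⟩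
  -- `o x o⁻¹ = x`
  have h1 : o * x * o⁻¹ ∈ P := by
    have h2 : o * x * o⁻¹ = s⁻¹ * y * s := by rw [← hnx]; group
    rw [h2]
    exact mul_mem (mul_mem (inv_mem hs) hy) hs
  have h2 : o * x * o⁻¹ * x⁻¹ ∈ O := by
    have h3 := O.mul_mem ho (hOn x (hPN hx) _ (O.inv_mem ho))
    have h4 : o * (x * o⁻¹ * x⁻¹) = o * x * o⁻¹ * x⁻¹ := by group
    rwa [h4] at h3
  have h3 : o * x * o⁻¹ * x⁻¹ ∈ P := mul_mem h1 (inv_mem hx)
  have h4 : orderOf (o * x * o⁻¹ * x⁻¹) = 1 := by
    obtain ⟨j, hj⟩ := P.isPGroup'.exists_card_eq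
    have h5 : orderOf (o * x * o⁻¹ * x⁻¹) ∣ 2 ^ j := by
      rw [← hj]; exact (P : Subgroup Y).orderOf_dvd_natCard h3
    have h6 : orderOf (o * x * o⁻¹ * x⁻¹) ∣ Nat.card O := O.orderOf_dvd_natCard h2
    exact Nat.eq_one_of_dvd_coprimes
      (Nat.Coprime.pow_right j (Nat.coprime_two_right.mpr hO)) h6 h5
  have h5 : o * x * o⁻¹ = x := mul_inv_eq_one.mp (orderOf_eq_one_iff.mp h4)
  rw [← hnx]
  calc s * x * s⁻¹ = s * (o * x * o⁻¹) * s⁻¹ := by rw [h5]
    _ = s * o * x * (s * o)⁻¹ := by group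

/-- A group with a normal 2-nilpotent subgroup of 2-power index is 2-nilpotent. -/
theorem hasNormalPComplement_of_normal (M : Subgroup Y) [M.Normal] (hM : IsPGroup 2 (Y ⧸ M))
    (h : Cfsg.HasNormalPComplement 2 M) : Cfsg.HasNormalPComplement 2 Y := by
  rw [Transfer.NormalPComplement.hasNormalPComplement_iff_coprime] at h ⊢
  have hle : Cfsg.pResidual 2 Y ≤ (Cfsg.pResidual 2 M).map M.subtype := by
    conv_lhs => rw [Cfsg.pResidual]
    rw [closure_le]
    intro y hy
    have hyM : y ∈ M := by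
      have h1 : QuotientGroup.mk' M y = 1 :=
        Transfer.NormalPComplement.map_eq_one_of_coprime hM _ hy
      rwa [← MonoidHom.mem_ker, QuotientGroup.ker_mk'] at h1
    refine ⟨⟨y, hyM⟩, ?_, rfl⟩
    apply Transfer.NormalPComplement.mem_pResidual_of_coprime
    rw [Subgroup.orderOf_mk]
    exact hy
  have h1 := card_dvd_of_le hle
  rw [Nat.card_congr ((Cfsg.pResidual 2 M).equivMapOfInjective _
    M.subtype_injective).symm.toEquiv] at h1
  exact Nat.Coprime.coprime_dvd_left h1 h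

end two

end Cfsg.Agent.SylowL5.Ctrl
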