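import Mathlib

/-!
# The Sylow 2-subgroup of type `L_5(2)`: codes

`S = UT_5(2)`. An element is coded by a natural number `< 1024`; the bits are the entries
`0:12  1:23  2:34  3:45  4:13  5:24  6:35  7:14  8:25  9:15` (1-based rows and columns).
`mu` is the product of codes, `Emb S u` says that `u` is an isomorphism from the codes onto
the subgroup `S`. `CS u K` is the coordinate subgroup of the elements with entries in the bit set `K`.
-/

set_option autoImplicit false

namespace Cfsg.Agent.SylowL5.Setup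

/-- bit `k` of `a`, as `0` or `1` -/
def bt (a k : ℕ) : ℕ := Nat.land (Nat.shiftRight a k) 1

/-- product of codes of upper unitriangular `5 × 5` matrices over `F_2` -/
def mu (a b : ℕ) : ℕ :=
  Nat.xor (Nat.xor a b)
    (Nat.xor (Nat.mul (bt a 0)
        (Nat.xor (Nat.shiftLeft (bt b 1) 4) (Nat.xor (Nat.shiftLeft (bt b 5) 7)
          (Nat.shiftLeft (bt b 8) 9))))
      (Nat.xor (Nat.mul (bt a 1) (Nat.xor (Nat.shiftLeft (bt b 2) 5) (Nat.shiftLeft (bt b 6) 8)))
        (Nat.xor (Nat.mul (bt a 2) (Nat.shiftLeft (bt b 3) 6))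
          (Nat.xor (Nat.mul (bt a 4) (Nat.xor (Nat.shiftLeft (bt b 2) 7)
              (Nat.shiftLeft (bt b 6) 9)))
            (Nat.xor (Nat.mul (bt a 5) (Nat.shiftLeft (bt b 3) 8))
              (Nat.mul (bt a 7) (Nat.shiftLeft (bt b 3) 9)))))))

/-- codes of the root elements `x_ij`, 1-based -/
abbrev x12 : ℕ := 1
abbrev x23 : ℕ := 2
abbrev x34 : ℕ := 4
abbrev x45 : ℕ := 8
abbrev x13 : ℕ := 16
abbrev x24 : ℕ := 32
abbrev x35 : ℕ := 64
abbrev x14 : ℕ := 128
abbrev x25 : ℕ := 256
abbrev x15 : ℕ := 512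

/-- masks of coordinate subgroups -/
abbrev kA1 : ℕ := 946   -- 23 13 24 14 25 15
abbrev kA2 : ℕ := 996   -- 34 24 35 14 25 15
abbrev kQ : ℕ := 985    -- 12 45 13 35 14 25 15
abbrev kE1 : ℕ := 840   -- 45 35 25 15 (column 5)
abbrev kE2 : ℕ := 657   -- 12 13 14 15 (row 1)
abbrev kS1 : ℕ := 1022  -- all but 12
abbrev kS2 : ℕ := 1021  -- all but 23
abbrev kS3 : ℕ := 1019  -- all but 34
abbrev kS4 : ℕ := 1015  -- all but 45
abbrev kW1 : ℕ := 912   -- A1 ∩ Q = 13 14 25 15
abbrev kW2 : ℕ := 960   -- A2 ∩ Q = 35 14 25 15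
abbrev kU1 : ℕ := 768   -- 25 15
abbrev kU2 : ℕ := 640   -- 14 15
abbrev kT0 : ℕ := 896   -- 14 25 15

/-- `u` transports the codes isomorphically onto the subgroup `S`. -/
structure Emb {G : Type*} [Group G] (S : Subgroup G) (u : ℕ → G) : Prop where
  mul : ∀ {a b : ℕ}, a < 1024 → b < 1024 → u (mu a b) = u a * u b
  inj : ∀ {a b : ℕ}, a < 1024 → b < 1024 → u a = u b → a = b
  mem : ∀ {a : ℕ}, a < 1024 → u a ∈ S
  surj : ∀ g ∈ S, ∃ a, a < 1024 ∧ u a = g

theorem bt_le (a k : ℕ) : bt a k ≤ 1 := Nat.and_le_right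

theorem bt_cases (a k : ℕ) : bt a k = 0 ∨ bt a k = 1 := by
  have := bt_le a k
  omega

theorem testBit_bt (a k j : ℕ) : (bt a k).testBit j = (decide (j = 0) && a.testBit k) := by
  unfold bt
  rw [show Nat.land (Nat.shiftRight a k) 1 = (a >>> k) &&& 1 from rfl, Nat.testBit_and,
    Nat.testBit_shiftRight]
  rcases j with _ | j
  · simp
  · simp [Nat.testBit_succ]

theorem testBit_shl (a k s j : ℕ) :
    (Nat.shiftLeft (bt a k) s).testBit j = (decide (j = s) && a.testBit k) := by
  rw [show Nat.shiftLeft (bt a k) s = (bt a k) <<< s from rfl, Nat.testBit_shiftLeft, testBit_bt]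
  by_cases h1 : s ≤ j
  · have h2 : (j - s = 0) ↔ (j = s) := by omega
    simp [h1, h2]
  · have h2 : ¬ j = s := by omega
    simp [h1, h2]

theorem testBit_btmul (a k p j : ℕ) : (Nat.mul (bt a k) p).testBit j = (a.testBit k && p.testBit j) := by
  have h0 := testBit_bt a k 0
  rcases bt_cases a k with h | h
  · rw [h] at h0 ⊢
    have h1 : a.testBit k = false := by simpa using h0.symm
    rw [show Nat.mul 0 p = 0 from Nat.zero_mul p, h1]
    simp
  · rw [h] at h0 ⊢
    have h1 : a.testBit k = true := by simpa using h0.symm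
    rw [show Nat.mul 1 p = p from Nat.one_mul p, h1]
    simp

theorem testBit_mu (a b j : ℕ) : (mu a b).testBit j =
    ((a.testBit j ^^ b.testBit j) ^^
      ((a.testBit 0 && ((decide (j = 4) && b.testBit 1) ^^ ((decide (j = 7) && b.testBit 5) ^^
          (decide (j = 9) && b.testBit 8)))) ^^
      ((a.testBit 1 && ((decide (j = 5) && b.testBit 2) ^^ (decide (j = 8) && b.testBit 6))) ^^
      ((a.testBit 2 && (decide (j = 6) && b.testBit 3)) ^^
      ((a.testBit 4 && ((decide (j = 7) && b.testBit 2) ^^ (decide (j = 9) && b.testBit 6))) ^^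
      ((a.testBit 5 && (decide (j = 8) && b.testBit 3)) ^^
      (a.testBit 7 && (decide (j = 9) && b.testBit 3)))))))) := by
  have hx : ∀ p q : ℕ, (Nat.xor p q).testBit j = (p.testBit j ^^ q.testBit j) := fun p q =>
    Nat.testBit_xor p q j
  unfold mu
  simp only [hx, testBit_btmul, testBit_shl]

/-- bounded universal quantifier, kernel friendly -/
def allb (N : ℕ) (P : ℕ → Bool) : Bool :=
  Nat.rec true (fun n ih => cond (P n) ih false) N

theorem of_allb {N : ℕ} {P : ℕ → Bool} (h : allb N P = true) : ∀ n < N, P n = true := by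
  induction N with
  | zero => intro n hn; omega
  | succ N ih =>
    have h' : cond (P N) (allb N P) false = true := h
    rcases hp : P N with _ | _
    · rw [hp] at h'; exact absurd h' Bool.false_ne_true
    · rw [hp] at h'
      intro n hn
      rcases Nat.lt_succ_iff_lt_or_eq.mp hn with h1 | rfl
      · exact ih h' n h1
      · exact hp

theorem mu_lt {a b : ℕ} (ha : a < 1024) (hb : b < 1024) : mu a b < 1024 := by
  have hx : ∀ {p q : ℕ}, p < 2 ^ 10 → q < 2 ^ 10 → Nat.xor p q < 2 ^ 10 := fun hp hq =>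
    Nat.xor_lt_two_pow hp hq
  have hs : ∀ (k c j : ℕ), j ≤ 9 → Nat.mul (bt a k) (Nat.shiftLeft (bt b c) j) < 2 ^ 10 := by
    intro k c j hj
    have h1 : Nat.shiftLeft (bt b c) j = bt b c * 2 ^ j := Nat.shiftLeft_eq _ _
    have h2 : (2 : ℕ) ^ j ≤ 2 ^ 9 := Nat.pow_le_pow_right (by norm_num) hj
    show bt a k * Nat.shiftLeft (bt b c) j < 2 ^ 10
    rw [h1]
    rcases bt_cases a k with h3 | h3 <;> rcases bt_cases b c with h4 | h4 <;> rw [h3, h4] <;>
      omega
  have hs' : ∀ (c j : ℕ), j ≤ 9 → Nat.shiftLeft (bt b c) j < 2 ^ 10 := by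
    intro c j hj
    have h1 : Nat.shiftLeft (bt b c) j = bt b c * 2 ^ j := Nat.shiftLeft_eq _ _
    have h2 : (2 : ℕ) ^ j ≤ 2 ^ 9 := Nat.pow_le_pow_right (by norm_num) hj
    rw [h1]
    rcases bt_cases b c with h4 | h4 <;> rw [h4] <;> omega
  have hm : ∀ (k : ℕ) {p : ℕ}, p < 2 ^ 10 → Nat.mul (bt a k) p < 2 ^ 10 := by
    intro k p hp
    show bt a k * p < 2 ^ 10
    rcases bt_cases a k with h3 | h3 <;> rw [h3] <;> omega
  show mu a b < 2 ^ 10
  unfold mu
  refine hx (hx ha hb) (hx (hm 0 (hx (hs' 1 4 (by norm_num)) (hx (hs' 5 7 (by norm_num))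
    (hs' 8 9 (by norm_num))))) (hx (hm 1 (hx (hs' 2 5 (by norm_num)) (hs' 6 8 (by norm_num))))
    (hx (hs 2 3 6 (by norm_num)) (hx (hm 4 (hx (hs' 2 7 (by norm_num)) (hs' 6 9 (by norm_num))))
      (hx (hs 5 3 8 (by norm_num)) (hs 7 3 9 (by norm_num)))))))

/-- the bit set `K` is closed under the products `x_ij x_jk`. -/
def closedK (K : ℕ) : Bool :=
  (!(K.testBit 0 && K.testBit 1) || K.testBit 4) && (!(K.testBit 1 && K.testBit 2) || K.testBit 5) &&
  (!(K.testBit 2 && K.testBit 3) || K.testBit 6) && (!(K.testBit 0 && K.testBit 5) || K.testBit 7) &&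
  (!(K.testBit 4 && K.testBit 2) || K.testBit 7) && (!(K.testBit 1 && K.testBit 6) || K.testBit 8) &&
  (!(K.testBit 5 && K.testBit 3) || K.testBit 8) && (!(K.testBit 0 && K.testBit 8) || K.testBit 9) &&
  (!(K.testBit 4 && K.testBit 6) || K.testBit 9) && (!(K.testBit 7 && K.testBit 3) || K.testBit 9)

/-- `a` only has bits in `K`. -/
def SubK (a K : ℕ) : Prop := ∀ j, a.testBit j = true → K.testBit j = true

theorem subK_iff (a K : ℕ) : SubK a K ↔ Nat.land a K = a := by
  constructor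
  · intro h
    apply Nat.eq_of_testBit_eq
    intro j
    rw [show Nat.land a K = a &&& K from rfl, Nat.testBit_and]
    cases h1 : a.testBit j
    · rfl
    · rw [h j h1]; rfl
  · intro h j hj
    rw [show Nat.land a K = a &&& K from rfl] at h
    rw [← h, Nat.testBit_and] at hj
    simp only [Bool.and_eq_true] at hj
    exact hj.2

theorem SubK.mu {a b K : ℕ} (hK : closedK K = true) (ha : SubK a K) (hb : SubK b K) :
    SubK (mu a b) K := by
  intro j hj
  by_contra hcon
  rw [Bool.not_eq_true] at hcon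
  have ha' : ∀ k, K.testBit k = false → a.testBit k = false := by
    intro k hk
    cases h : a.testBit k
    · rfl
    · rw [ha k h] at hk; exact hk
  have hb' : ∀ k, K.testBit k = false → b.testBit k = false := by
    intro k hk
    cases h : b.testBit k
    · rfl
    · rw [hb k h] at hk; exact hk
  unfold closedK at hK
  simp only [Bool.and_eq_true, Bool.or_eq_true, Bool.not_eq_true', Bool.and_eq_false_iff] at hK
  obtain ⟨⟨⟨⟨⟨⟨⟨⟨⟨h0, h1⟩, h2⟩, h3⟩, h4⟩, h5⟩, h6⟩, h7⟩, h8⟩, h9⟩ := hK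
  have key : ∀ {p q t : ℕ}, ((K.testBit p = false ∨ K.testBit q = false) ∨ K.testBit t = true) →
      (a.testBit p && (decide (j = t) && b.testBit q)) = false := by
    intro p q t h
    rcases h with (h | h) | h
    · rw [ha' p h]; rfl
    · rw [hb' q h]; simp
    · by_cases hjt : j = t
      · subst hjt
        rw [hcon] at h
        exact absurd h (by simp)
      · simp [hjt]
  rw [testBit_mu, ha' j hcon, hb' j hcon] at hj
  simp only [Bool.and_xor_distrib_left] at hj
  rw [key h0, key h1, key h2, key h3, key h4, key h5, key h6, key h7, key h8, key h9] at hj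
  exact absurd hj (by decide)

section
variable {G : Type*} [Group G] {S : Subgroup G} {u : ℕ → G}

theorem Emb.zero (h : Emb S u) : u 0 = 1 := by
  have h1 : u (Setup.mu 0 0) = u 0 * u 0 := h.mul (by norm_num) (by norm_num)
  have h2 : Setup.mu 0 0 = 0 := by decide
  rw [h2] at h1
  exact left_eq_mul.mp h1

/-- the coordinate subgroup of the elements with entries in `K` -/
def CS (u : ℕ → G) (K : ℕ) : Subgroup G :=
  Subgroup.closure {g | ∃ a, a < 1024 ∧ SubK a K ∧ u a = g}

theorem subK_zero (K : ℕ) : SubK 0 K := by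
  intro j hj
  rw [Nat.zero_testBit] at hj
  exact absurd hj (by decide)

theorem Emb.finite (h : Emb S u) : Finite S := by
  apply Finite.of_surjective (fun a : Fin 1024 => (⟨u a, h.mem a.2⟩ : S))
  rintro ⟨g, hg⟩
  obtain ⟨a, ha, rfl⟩ := h.surj g hg
  exact ⟨⟨a, ha⟩, rfl⟩

theorem Emb.card (h : Emb S u) : Nat.card S = 1024 := by
  have e : Fin 1024 ≃ S := Equiv.ofBijective (fun a : Fin 1024 => (⟨u a, h.mem a.2⟩ : S)) ⟨by
    intro a b hab
    have h1 : u a = u b := congrArg Subtype.val hab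
    exact Fin.ext (h.inj a.2 b.2 h1), by
    rintro ⟨g, hg⟩
    obtain ⟨a, ha, rfl⟩ := h.surj g hg
    exact ⟨⟨a, ha⟩, rfl⟩⟩
  rw [← Nat.card_congr e, Nat.card_eq_fintype_card, Fintype.card_fin]

/-- membership in a coordinate subgroup -/
theorem Emb.mem_CS (h : Emb S u) {K : ℕ} (hK : closedK K = true) {g : G} :
    g ∈ CS u K ↔ ∃ a, a < 1024 ∧ SubK a K ∧ u a = g := by
  have hfin := h.finite
  constructor
  · intro hg
    have key : ∀ g ∈ CS u K, ∃ a, a < 1024 ∧ SubK a K ∧ u a = g := by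
      intro g hg
      refine Subgroup.closure_induction (p := fun g _ => ∃ a, a < 1024 ∧ SubK a K ∧ u a = g)
        ?_ ?_ ?_ ?_ hg
      · intro x hx; exact hx
      · exact ⟨0, by norm_num, subK_zero K, h.zero⟩
      · rintro x y _ _ ⟨a, ha, ha', rfl⟩ ⟨b, hb, hb', rfl⟩
        exact ⟨Setup.mu a b, mu_lt ha hb, ha'.mu hK hb', h.mul ha hb⟩
      · rintro x _ ⟨a, ha, ha', rfl⟩
        have hpow : ∀ n : ℕ, ∃ b, b < 1024 ∧ SubK b K ∧ u b = u a ^ n := by
          intro n
          induction n with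
          | zero => exact ⟨0, by norm_num, subK_zero K, by rw [h.zero, pow_zero]⟩
          | succ n ih =>
            obtain ⟨b, hb, hb', hb2⟩ := ih
            exact ⟨Setup.mu b a, mu_lt hb ha, hb'.mu hK ha', by rw [h.mul hb ha, hb2, pow_succ]⟩
        have h1 : IsOfFinOrder (⟨u a, h.mem ha⟩ : S) := isOfFinOrder_of_finite _
        obtain ⟨n, hn, hn2⟩ := isOfFinOrder_iff_pow_eq_one.1 h1
        obtain ⟨b, hb, hb', hb2⟩ := hpow (n - 1)
        refine ⟨b, hb, hb', ?_⟩
        rw [hb2]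
        have h2 : u a ^ n = 1 := congrArg Subtype.val hn2
        have h3 : u a ^ (n - 1) * u a = 1 := by
          rw [← pow_succ, Nat.sub_add_cancel hn, h2]
        exact eq_inv_of_mul_eq_one_left h3
    exact key g hg
  · intro hg
    exact Subgroup.subset_closure hg

theorem Emb.CS_le (h : Emb S u) (K : ℕ) : CS u K ≤ S := by
  unfold CS
  rw [Subgroup.closure_le]
  rintro g ⟨a, ha, _, rfl⟩
  exact h.mem ha

/-- relabelling by an automorphism of the codes -/
theorem Emb.comp (h : Emb S u) (f : ℕ → ℕ) (hf : ∀ a, a < 1024 → f a < 1024)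
    (hmul : ∀ a b, a < 1024 → b < 1024 → f (Setup.mu a b) = Setup.mu (f a) (f b))
    (hinj : ∀ a b, a < 1024 → b < 1024 → f a = f b → a = b) : Emb S (fun a => u (f a)) := by
  have hsurj : ∀ a, a < 1024 → ∃ b, b < 1024 ∧ f b = a := by
    have h1 : Function.Injective (fun a : Fin 1024 => (⟨f a, hf a a.2⟩ : Fin 1024)) := by
      intro a b hab
      exact Fin.ext (hinj a b a.2 b.2 (congrArg Fin.val hab))
    intro a ha
    obtain ⟨b, hb⟩ := (Finite.injective_iff_surjective.1 h1) ⟨a, ha⟩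
    exact ⟨b, b.2, congrArg Fin.val hb⟩
  refine ⟨?_, ?_, ?_, ?_⟩
  · intro a b ha hb
    show u (f (Setup.mu a b)) = u (f a) * u (f b)
    rw [hmul a b ha hb, h.mul (hf a ha) (hf b hb)]
  · intro a b ha hb hab
    exact hinj a b ha hb (h.inj (hf a ha) (hf b hb) hab)
  · intro a ha
    exact h.mem (hf a ha)
  · intro g hg
    obtain ⟨a, ha, rfl⟩ := h.surj g hg
    obtain ⟨b, hb, rfl⟩ := hsurj a ha
    exact ⟨b, hb, rfl⟩

end

end Cfsg.Agent.SylowL5.Setup
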