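import Mathlib
import Cfsg.Agent.SylowL5.Setup

/-!
# Calculating with codes of `UT_5(2)`

Inverse, conjugates and commutators of codes; relabelling by the graph automorphism and by the two
"extremal" automorphisms; cardinalities of coordinate subgroups.
-/

set_option autoImplicit false

namespace Cfsg.Agent.SylowL5.Calc

open Cfsg.Agent.SylowL5.Setup

/-- `force n f` is `f n`, but the kernel evaluates `n` to a literal before it substitutes it. -/
@[reducible] def force {α : Sort _} (n : ℕ) (f : ℕ → α) : α :=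
  Nat.rec (f 0) (fun k _ => f (Nat.succ k)) n

theorem force_eq {α : Sort _} (n : ℕ) (f : ℕ → α) : force n f = f n := by
  cases n <;> rfl

/-- inverse (seventh power) -/
def iv (a : ℕ) : ℕ := force a fun a => force (mu a a) fun b => force (mu b b) fun c =>
  force (mu c b) fun d => mu d a

/-- commutator `a b a⁻¹ b⁻¹` -/
def cm (a b : ℕ) : ℕ := force (mu a b) fun c => force (mu b a) fun d => force (iv d) fun e => mu c e

/-- conjugate `a b a⁻¹` -/
def cc (a b : ℕ) : ℕ := force (mu a b) fun c => force (iv a) fun d => mu c d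

/-- `a` has only bits in `K` -/
def sb (a K : ℕ) : Bool := Nat.beq (Nat.land a K) a

theorem sb_iff {a K : ℕ} : sb a K = true ↔ SubK a K := by
  rw [subK_iff]
  unfold sb
  rw [Nat.beq_eq]

/-- bit as a Boolean -/
def tb (a k : ℕ) : Bool := Nat.beq (bt a k) 1

theorem iv_eq (a : ℕ) : iv a = mu (mu (mu (mu a a) (mu a a)) (mu a a)) a := by
  simp only [iv, force_eq]

theorem cm_eq (a b : ℕ) : cm a b = mu (mu a b) (iv (mu b a)) := by
  simp only [cm, force_eq]

theorem cc_eq (a b : ℕ) : cc a b = mu (mu a b) (iv a) := by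
  simp only [cc, force_eq]

theorem iv_lt {a : ℕ} (ha : a < 1024) : iv a < 1024 := by
  rw [iv_eq]
  have h1 := mu_lt ha ha
  exact mu_lt (mu_lt (mu_lt h1 h1) h1) ha

theorem cm_lt {a b : ℕ} (ha : a < 1024) (hb : b < 1024) : cm a b < 1024 := by
  rw [cm_eq]
  exact mu_lt (mu_lt ha hb) (iv_lt (mu_lt hb ha))

theorem cc_lt {a b : ℕ} (ha : a < 1024) (hb : b < 1024) : cc a b < 1024 := by
  rw [cc_eq]
  exact mu_lt (mu_lt ha hb) (iv_lt ha)

theorem mu_zero' : allb 1024 (fun a => Nat.beq (mu a 0) a && Nat.beq (mu 0 a) a) = true := by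
  decide +kernel

theorem mu_iv' : allb 1024 (fun a => Nat.beq (mu a (iv a)) 0 && Nat.beq (mu (iv a) a) 0) = true := by
  decide +kernel

theorem mu_zero {a : ℕ} (ha : a < 1024) : mu a 0 = a := by
  have h := of_allb mu_zero' a ha
  simp only [Bool.and_eq_true, Nat.beq_eq] at h
  exact h.1

theorem zero_mu {a : ℕ} (ha : a < 1024) : mu 0 a = a := by
  have h := of_allb mu_zero' a ha
  simp only [Bool.and_eq_true, Nat.beq_eq] at h
  exact h.2

theorem mu_iv {a : ℕ} (ha : a < 1024) : mu a (iv a) = 0 := by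
  have h := of_allb mu_iv' a ha
  simp only [Bool.and_eq_true, Nat.beq_eq] at h
  exact h.1

theorem iv_mu {a : ℕ} (ha : a < 1024) : mu (iv a) a = 0 := by
  have h := of_allb mu_iv' a ha
  simp only [Bool.and_eq_true, Nat.beq_eq] at h
  exact h.2

/-- bounded existential quantifier -/
def anyb (N : ℕ) (P : ℕ → Bool) : Bool :=
  Nat.rec false (fun n ih => cond (P n) true ih) N

theorem of_anyb {N : ℕ} {P : ℕ → Bool} (h : anyb N P = true) : ∃ n < N, P n = true := by
  induction N with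
  | zero => exact absurd h Bool.false_ne_true
  | succ N ih =>
    have h' : cond (P N) true (anyb N P) = true := h
    rcases hp : P N with _ | _
    · rw [hp] at h'
      obtain ⟨n, hn, hn2⟩ := ih h'
      exact ⟨n, by omega, hn2⟩
    · exact ⟨N, by omega, hp⟩

/-- every non-zero code is a smaller code times a root element -/
theorem red' : allb 1024 (fun a => Nat.beq a 0 ||
    anyb 10 fun k => force (Nat.pow 2 k) fun g => force (mu a g) fun b =>
      Nat.blt b a && Nat.beq (mu b g) a) = true := by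
  decide +kernel

theorem red {a : ℕ} (ha : a < 1024) (h0 : a ≠ 0) :
    ∃ k b, k < 10 ∧ b < a ∧ mu b (2 ^ k) = a := by
  have h := of_allb red' a ha
  simp only [Bool.or_eq_true, Nat.beq_eq] at h
  rcases h with h | h
  · exact absurd h h0
  · obtain ⟨k, hk, h2⟩ := of_anyb h
    simp only [force_eq, Bool.and_eq_true, Nat.blt_eq, Nat.beq_eq] at h2
    exact ⟨k, mu a (Nat.pow 2 k), hk, h2.1, h2.2⟩

/-- induction over the codes: multiplying by root elements -/
theorem code_induction {P : ℕ → Prop} (h0 : P 0)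
    (h1 : ∀ b k, b < 1024 → k < 10 → P b → mu b (2 ^ k) < 1024 → P (mu b (2 ^ k))) :
    ∀ a, a < 1024 → P a := by
  intro a
  induction a using Nat.strong_induction_on with
  | _ a ih =>
    intro ha
    by_cases h : a = 0
    · rw [h]; exact h0
    · obtain ⟨k, b, hk, hb, hab⟩ := red ha h
      rw [← hab]
      exact h1 b k (by omega) hk (ih b hb (by omega)) (by rw [hab]; exact ha)

section

variable {G : Type*} [Group G] {S : Subgroup G} {u : ℕ → G}

theorem inv_eq (h : Emb S u) {a : ℕ} (ha : a < 1024) : u (iv a) = (u a)⁻¹ := by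
  have h1 : u (mu a (iv a)) = u a * u (iv a) := h.mul ha (iv_lt ha)
  rw [mu_iv ha, h.zero] at h1
  exact (inv_eq_of_mul_eq_one_right h1.symm).symm

theorem cm_u (h : Emb S u) {a b : ℕ} (ha : a < 1024) (hb : b < 1024) :
    u (cm a b) = u a * u b * (u a)⁻¹ * (u b)⁻¹ := by
  rw [cm_eq, h.mul (mu_lt ha hb) (iv_lt (mu_lt hb ha)), inv_eq h (mu_lt hb ha), h.mul ha hb,
    h.mul hb ha, mul_inv_rev]
  group

theorem cc_u (h : Emb S u) {a b : ℕ} (ha : a < 1024) (hb : b < 1024) :
    u (cc a b) = u a * u b * (u a)⁻¹ := by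
  rw [cc_eq, h.mul (mu_lt ha hb) (iv_lt ha), inv_eq h ha, h.mul ha hb]

theorem eq_iff (h : Emb S u) {a b : ℕ} (ha : a < 1024) (hb : b < 1024) : u a = u b ↔ a = b :=
  ⟨h.inj ha hb, fun h => by rw [h]⟩

theorem u_mem_CS (h : Emb S u) {K a : ℕ} (hK : closedK K = true) (ha : a < 1024) :
    u a ∈ CS u K ↔ sb a K = true := by
  rw [h.mem_CS hK, sb_iff]
  constructor
  · rintro ⟨b, hb, hb', hab⟩
    rwa [← h.inj hb ha hab]
  · intro h1
    exact ⟨a, ha, h1, rfl⟩

theorem assoc_of_emb (h : Emb S u) {a b c : ℕ} (ha : a < 1024) (hb : b < 1024) (hc : c < 1024) :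
    mu (mu a b) c = mu a (mu b c) := by
  apply h.inj (mu_lt (mu_lt ha hb) hc) (mu_lt ha (mu_lt hb hc))
  rw [h.mul (mu_lt ha hb) hc, h.mul ha (mu_lt hb hc), h.mul ha hb, h.mul hb hc, mul_assoc]

/-- A map of codes which is multiplicative on (arbitrary) × (root element) is multiplicative. -/
theorem hom_of_roots (h : Emb S u) (f : ℕ → ℕ) (hf : ∀ a, a < 1024 → f a < 1024)
    (h0 : f 0 = 0)
    (h1 : ∀ a k, a < 1024 → k < 10 → f (mu a (2 ^ k)) = mu (f a) (f (2 ^ k))) :
    ∀ a b, a < 1024 → b < 1024 → f (mu a b) = mu (f a) (f b) := by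
  intro a b ha hb
  have h2k : ∀ k, k < 10 → 2 ^ k < 1024 := by
    intro k hk
    calc 2 ^ k < 2 ^ 10 := Nat.pow_lt_pow_right (by norm_num) hk
      _ = 1024 := by norm_num
  refine code_induction (P := fun b => f (mu a b) = mu (f a) (f b)) ?_ ?_ b hb
  · rw [mu_zero ha, h0, mu_zero (hf a ha)]
  · intro b k hb hk ih _
    rw [← assoc_of_emb h ha hb (h2k k hk), h1 _ k (mu_lt ha hb) hk, ih, h1 b k hb hk,
      assoc_of_emb h (hf a ha) (hf b hb) (hf _ (h2k k hk))]

/-- relabelling by a checked automorphism -/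
def isAut (f : ℕ → ℕ) : Bool :=
  allb 1024 (fun a => Nat.blt (f a) 1024 && Nat.beq (f (f a)) a &&
    allb 10 (fun k => force (f a) fun fa => force (f (Nat.pow 2 k)) fun fk =>
      force (mu a (Nat.pow 2 k)) fun c => Nat.beq (f c) (mu fa fk))) && Nat.beq (f 0) 0

theorem emb_of_isAut (h : Emb S u) {f : ℕ → ℕ} (hf : isAut f = true) : Emb S (fun a => u (f a)) := by
  unfold isAut at hf
  simp only [Bool.and_eq_true, Nat.beq_eq] at hf
  obtain ⟨h1, h0⟩ := hf
  have h2 := of_allb h1
  simp only [Bool.and_eq_true, Nat.blt_eq, Nat.beq_eq] at h2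
  have hlt : ∀ a, a < 1024 → f a < 1024 := fun a ha => (h2 a ha).1.1
  apply h.comp f hlt
  · apply hom_of_roots h f hlt h0
    intro a k ha hk
    have h3 := of_allb (h2 a ha).2 k hk
    simp only [force_eq, Nat.beq_eq] at h3
    exact h3
  · intro a b ha hb hab
    rw [← (h2 a ha).1.2, ← (h2 b hb).1.2, hab]

end

/-- the graph automorphism: inverse of the anti-transpose -/
def du (a : ℕ) : ℕ := force (iv a) fun b =>
  Nat.xor (Nat.xor (Nat.xor (Nat.shiftLeft (bt b 0) 3) (Nat.shiftLeft (bt b 3) 0))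
    (Nat.xor (Nat.shiftLeft (bt b 1) 2) (Nat.shiftLeft (bt b 2) 1)))
    (Nat.xor (Nat.xor (Nat.xor (Nat.shiftLeft (bt b 4) 6) (Nat.shiftLeft (bt b 6) 4))
      (Nat.shiftLeft (bt b 5) 5))
      (Nat.xor (Nat.xor (Nat.shiftLeft (bt b 7) 8) (Nat.shiftLeft (bt b 8) 7))
        (Nat.shiftLeft (bt b 9) 9)))

/-- the automorphism `x12 ↦ x12 x35`, fixing `x23`, `x34`, `x45` -/
def ps (a : ℕ) : ℕ :=
  Nat.xor (Nat.xor a (Nat.shiftLeft (bt a 0) 6))
    (Nat.xor (Nat.shiftLeft (Nat.xor (Nat.mul (bt a 0) (bt a 1)) (bt a 4)) 8)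
      (Nat.shiftLeft (Nat.mul (bt a 4) (Nat.xor 1 (bt a 0))) 9))

/-- the automorphism `x45 ↦ x45 x13`, fixing `x12`, `x23`, `x34` -/
def pt (a : ℕ) : ℕ :=
  Nat.xor (Nat.xor a (Nat.shiftLeft (bt a 3) 4))
    (Nat.xor (Nat.shiftLeft (Nat.xor (Nat.mul (bt a 2) (bt a 3)) (bt a 6)) 7)
      (Nat.shiftLeft (Nat.mul (bt a 6) (Nat.xor 1 (bt a 3))) 9))

theorem CS_comp {G : Type*} [Group G] {S : Subgroup G} {u : ℕ → G} (h : Emb S u) {f : ℕ → ℕ}
    (hf : isAut f = true) {K K' : ℕ} (hK : closedK K = true) (hK' : closedK K' = true)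
    (hKK : allb 1024 (fun a => !(sb a K) || sb (f a) K') = true)
    (hKK' : allb 1024 (fun a => !(sb a K') || sb (f a) K) = true) :
    CS (fun a => u (f a)) K = CS u K' := by
  have hE := emb_of_isAut h hf
  unfold isAut at hf
  simp only [Bool.and_eq_true, Nat.beq_eq] at hf
  have h2 := of_allb hf.1
  simp only [Bool.and_eq_true, Nat.blt_eq, Nat.beq_eq] at h2
  have h3 := of_allb hKK
  have h4 := of_allb hKK'
  simp only [Bool.or_eq_true, Bool.not_eq_true'] at h3 h4
  ext g
  rw [hE.mem_CS hK, h.mem_CS hK']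
  constructor
  · rintro ⟨a, ha, haK, rfl⟩
    refine ⟨f a, (h2 a ha).1.1, ?_, rfl⟩
    rw [← sb_iff] at haK ⊢
    rcases h3 a ha with h5 | h5
    · rw [haK] at h5; exact absurd h5 (by decide)
    · exact h5
  · rintro ⟨a, ha, haK, rfl⟩
    refine ⟨f a, (h2 a ha).1.1, ?_, ?_⟩
    · rw [← sb_iff] at haK ⊢
      rcases h4 a ha with h5 | h5
      · rw [haK] at h5; exact absurd h5 (by decide)
      · exact h5
    · show u (f (f a)) = u a
      rw [(h2 a ha).1.2]

/-- counting -/
def cntb (N : ℕ) (P : ℕ → Bool) : ℕ :=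
  Nat.rec 0 (fun n ih => cond (P n) (Nat.succ ih) ih) N

theorem cntb_eq (N : ℕ) (P : ℕ → Bool) :
    cntb N P = ((Finset.range N).filter (fun n => P n = true)).card := by
  induction N with
  | zero => rfl
  | succ N ih =>
    have h1 : cntb (N + 1) P = cond (P N) (Nat.succ (cntb N P)) (cntb N P) := rfl
    rw [h1, Finset.range_add_one, Finset.filter_insert]
    rcases hp : P N with _ | _
    · simp [ih]
    · simp [ih]

theorem card_CS {G : Type*} [Group G] {S : Subgroup G} {u : ℕ → G} (h : Emb S u) {K : ℕ}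
    (hK : closedK K = true) : Nat.card (CS u K) = cntb 1024 (fun a => sb a K) := by
  rw [cntb_eq]
  have hmem : ∀ a : ℕ, a ∈ (Finset.range 1024).filter (fun n => sb n K = true) →
      a < 1024 ∧ sb a K = true := by
    intro a ha
    rw [Finset.mem_filter, Finset.mem_range] at ha
    exact ha
  have e : ((Finset.range 1024).filter (fun n => sb n K = true) : Finset ℕ) ≃ CS u K :=
    Equiv.ofBijective (fun a => ⟨u a.1, (u_mem_CS h hK (hmem a.1 a.2).1).2 (hmem a.1 a.2).2⟩) (by
      constructor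
      · intro a b hab
        exact Subtype.ext (h.inj (hmem a.1 a.2).1 (hmem b.1 b.2).1 (congrArg Subtype.val hab))
      · rintro ⟨g, hg⟩
        obtain ⟨a, ha, haK, rfl⟩ := (h.mem_CS hK).1 hg
        exact ⟨⟨a, by rw [Finset.mem_filter, Finset.mem_range]; exact ⟨ha, sb_iff.2 haK⟩⟩, rfl⟩)
  rw [← Nat.card_congr e, Nat.card_eq_fintype_card, Fintype.card_coe]

theorem isAut_du : isAut du = true := by decide +kernel
theorem isAut_ps : isAut ps = true := by decide +kernel
theorem isAut_pt : isAut pt = true := by decide +kernel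

end Cfsg.Agent.SylowL5.Calc
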