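import Mathlib
import Cfsg.Agent.SignalizersComponents.RelSylow

/-!
# Weakly closed subgroups, relative to a subgroup `C`
-/

set_option autoImplicit false

namespace Cfsg.Agent.SylowL5.Weak

open Subgroup
open Cfsg.Agent.SignalizersComponents.RelSylow

variable {G : Type*} [Group G]

/-- the conjugate `g A g⁻¹` -/
abbrev cj (g : G) (A : Subgroup G) : Subgroup G := A.map (MulAut.conj g).toMonoidHom

theorem mem_cj {g x : G} {A : Subgroup G} : x ∈ cj g A ↔ g⁻¹ * x * g ∈ A := mem_map_conj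

theorem conj_mem_cj {g x : G} {A : Subgroup G} (hx : x ∈ A) : g * x * g⁻¹ ∈ cj g A := ⟨x, hx, rfl⟩

theorem conj_mem_cj_iff {g x : G} {A : Subgroup G} : g * x * g⁻¹ ∈ cj g A ↔ x ∈ A := by
  rw [mem_cj]
  have : g⁻¹ * (g * x * g⁻¹) * g = x := by group
  rw [this]

theorem cj_le_iff {g : G} {A B : Subgroup G} : cj g A ≤ B ↔ ∀ x ∈ A, g * x * g⁻¹ ∈ B := by
  constructor
  · intro h x hx; exact h ⟨x, hx, rfl⟩
  · rintro h _ ⟨x, hx, rfl⟩; exact h x hx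

theorem cj_mul (g h : G) (A : Subgroup G) : cj (g * h) A = cj g (cj h A) := by
  ext x
  rw [mem_cj, mem_cj, mem_cj]
  have : (g * h)⁻¹ * x * (g * h) = h⁻¹ * (g⁻¹ * x * g) * h := by group
  rw [this]

theorem cj_one (A : Subgroup G) : cj (1 : G) A = A := by
  ext x; rw [mem_cj]; simp

theorem cj_inv_cj (g : G) (A : Subgroup G) : cj g⁻¹ (cj g A) = A := by
  rw [← cj_mul, inv_mul_cancel, cj_one]

theorem cj_cj_inv (g : G) (A : Subgroup G) : cj g (cj g⁻¹ A) = A := by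
  rw [← cj_mul, mul_inv_cancel, cj_one]

theorem cj_mono {g : G} {A B : Subgroup G} (h : A ≤ B) : cj g A ≤ cj g B := Subgroup.map_mono h

theorem cj_le_cj_iff {g : G} {A B : Subgroup G} : cj g A ≤ cj g B ↔ A ≤ B := by
  constructor
  · intro h
    have := cj_mono (g := g⁻¹) h
    rwa [cj_inv_cj, cj_inv_cj] at this
  · exact cj_mono

theorem cj_inj {g : G} {A B : Subgroup G} (h : cj g A = cj g B) : A = B := by
  have := congrArg (cj g⁻¹) h
  rwa [cj_inv_cj, cj_inv_cj] at this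

theorem card_cj (g : G) (A : Subgroup G) : Nat.card (cj g A) = Nat.card A := card_map_conj A g

theorem cj_eq_of_le [Finite G] {g : G} {A B : Subgroup G} (h : cj g A ≤ B)
    (hc : Nat.card B ≤ Nat.card A) : cj g A = B :=
  Subgroup.eq_of_le_of_card_ge h (by rw [card_cj]; exact hc)

theorem cj_eq_iff {g : G} {A : Subgroup G} : cj g A = A ↔ g ∈ normalizer (A : Set G) := by
  rw [Subgroup.mem_normalizer_iff]
  constructor
  · intro h x
    constructor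
    · intro hx
      rw [← h]; exact ⟨x, hx, rfl⟩
    · intro hx
      rw [← h, mem_cj] at hx
      have : g⁻¹ * (g * x * g⁻¹) * g = x := by group
      rwa [this] at hx
  · intro h
    ext x
    rw [mem_cj, h]
    have : g * (g⁻¹ * x * g) * g⁻¹ = x := by group
    rw [this]

theorem cj_eq_of_mem {g : G} {A : Subgroup G} (h : g ∈ A) : cj g A = A :=
  cj_eq_iff.2 (Subgroup.le_normalizer h)

theorem isPGroup_cj {g : G} {A : Subgroup G} {p : ℕ} (h : IsPGroup p A) : IsPGroup p (cj g A) :=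
  h.map _

/-- `A` is weakly closed in `S` with respect to `C` -/
def WeakCl (C A S : Subgroup G) : Prop := A ≤ S ∧ ∀ g ∈ C, cj g A ≤ S → cj g A = A

variable [Finite G] {C A S : Subgroup G}

theorem eq_of_le (hS : IsMaxP 2 C S) (hA : WeakCl C A S) {R : Subgroup G} (hR : IsPGroup 2 R)
    (hRC : R ≤ C) {x y : G} (hx : x ∈ C) (hy : y ∈ C) (h1 : cj x A ≤ R) (h2 : cj y A ≤ R) :
    cj x A = cj y A := by
  have f2 : Fact (Nat.Prime 2) := ⟨Nat.prime_two⟩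
  obtain ⟨c, hc, hcR⟩ := hS.exists_conj_le hR hRC
  have h3 : cj (c * x) A ≤ S := by
    rw [cj_mul]; exact (cj_mono h1).trans hcR
  have h4 : cj (c * y) A ≤ S := by
    rw [cj_mul]; exact (cj_mono h2).trans hcR
  have h5 := hA.2 _ (C.mul_mem hc hx) h3
  have h6 := hA.2 _ (C.mul_mem hc hy) h4
  rw [cj_mul] at h5 h6
  exact cj_inj (h5.trans h6.symm)

theorem exists_conj_in (hS : IsMaxP 2 C S) (hA : WeakCl C A S) {M : Subgroup G}
    (hM : M ≤ C) {x y : G} (hx : x ∈ C) (hy : y ∈ C) (h1 : cj x A ≤ M) (h2 : cj y A ≤ M) :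
    ∃ m ∈ M, cj m (cj x A) = cj y A := by
  have f2 : Fact (Nat.Prime 2) := ⟨Nat.prime_two⟩
  have hA2 : IsPGroup 2 A := hS.1.to_le hA.1
  obtain ⟨R, hR, hyR⟩ := exists_isMaxP (isPGroup_cj (g := y) hA2) h2
  obtain ⟨m, hm, hmR⟩ := hR.exists_conj_le (isPGroup_cj (g := x) hA2) h1
  refine ⟨m, hm, ?_⟩
  have h3 : cj (m * x) A ≤ R := by rw [cj_mul]; exact hmR
  rw [← cj_mul]
  exact eq_of_le hS hA hR.1 (hR.2.1.trans hM) (C.mul_mem (hM hm) hx) hy h3 hyR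

/-- a weakly closed subgroup is normalised by every 2-subgroup of `C` containing it. -/
theorem normalizes (hS : IsMaxP 2 C S) (hA : WeakCl C A S) {R : Subgroup G} (hR : IsPGroup 2 R)
    (hRC : R ≤ C) {x : G} (hx : x ∈ C) (h1 : cj x A ≤ R) {r : G} (hr : r ∈ R) :
    cj r (cj x A) = cj x A := by
  rw [← cj_mul]
  apply eq_of_le hS hA hR hRC (C.mul_mem (hRC hr) hx) hx _ h1
  rw [cj_mul]
  calc cj r (cj x A) ≤ cj r R := cj_mono h1
    _ = R := cj_eq_of_mem hr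

theorem normalizes' (hS : IsMaxP 2 C S) (hA : WeakCl C A S) {R : Subgroup G} (hR : IsPGroup 2 R)
    (hRC : R ≤ C) (h1 : A ≤ R) {r : G} (hr : r ∈ R) :
    cj r A = A := by
  have h2 := normalizes hS hA hR hRC C.one_mem (by rwa [cj_one]) hr
  rwa [cj_one] at h2

/-- fusion of elements of an abelian weakly closed subgroup -/
theorem exists_normalizer (hS : IsMaxP 2 C S) (hA : WeakCl C A S)
    (hcomm : ∀ x ∈ A, ∀ y ∈ A, x * y = y * x) {a g : G} (hAC : A ≤ C) (ha : a ∈ A) (hg : g ∈ C)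
    (hga : g * a * g⁻¹ ∈ A) : ∃ n ∈ C, cj n A = A ∧ n * a * n⁻¹ = g * a * g⁻¹ := by
  set b := g * a * g⁻¹ with hb
  let M : Subgroup G := C ⊓ centralizer {b}
  have h1 : cj g A ≤ M := by
    rw [cj_le_iff]
    intro x hx
    refine ⟨C.mul_mem (C.mul_mem hg (hAC hx)) (C.inv_mem hg), ?_⟩
    show _ ∈ centralizer {b}
    rw [mem_centralizer_singleton_iff, hb]
    calc g * x * g⁻¹ * (g * a * g⁻¹) = g * (x * a) * g⁻¹ := by group
      _ = g * (a * x) * g⁻¹ := by rw [hcomm x hx a ha]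
      _ = g * a * g⁻¹ * (g * x * g⁻¹) := by group
  have h2 : cj 1 A ≤ M := by
    rw [cj_one]
    intro x hx
    refine ⟨hAC hx, ?_⟩
    show _ ∈ centralizer {b}
    rw [mem_centralizer_singleton_iff]
    exact hcomm x hx b hga
  obtain ⟨m, hm, hm2⟩ := exists_conj_in hS hA inf_le_left hg C.one_mem h1 h2
  rw [cj_one, ← cj_mul] at hm2
  refine ⟨m * g, C.mul_mem hm.1 hg, hm2, ?_⟩
  have h3 : m ∈ centralizer {b} := hm.2
  rw [mem_centralizer_singleton_iff] at h3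
  calc m * g * a * (m * g)⁻¹ = m * b * m⁻¹ := by rw [hb]; group
    _ = b := by rw [h3, mul_inv_cancel_right]

/-- Burnside: elements central modulo `D` in the Sylow 2-subgroup `R` of `M` and conjugate in `M`
are conjugate modulo `D` in the normalizer of `R`. -/
theorem exists_burnside {M D R : Subgroup G} (hR : IsMaxP 2 M R)
    (hD : ∀ m ∈ M, ∀ d ∈ D, m * d * m⁻¹ ∈ D) {t t' c : G}
    (ht : ∀ r ∈ R, r * t * r⁻¹ * t⁻¹ ∈ D) (ht' : ∀ r ∈ R, r * t' * r⁻¹ * t'⁻¹ ∈ D)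
    (hc : c ∈ M) (hct : c * t * c⁻¹ = t') :
    ∃ n ∈ M, cj n R = R ∧ n * t * n⁻¹ * t'⁻¹ ∈ D := by
  have f2 : Fact (Nat.Prime 2) := ⟨Nat.prime_two⟩
  let C' : Subgroup G :=
    { carrier := {m | m ∈ M ∧ m * t' * m⁻¹ * t'⁻¹ ∈ D}
      one_mem' := ⟨M.one_mem, by simp⟩
      mul_mem' := by
        rintro a b ⟨ha, ha'⟩ ⟨hb, hb'⟩
        refine ⟨M.mul_mem ha hb, ?_⟩
        have h1 : a * b * t' * (a * b)⁻¹ * t'⁻¹
            = a * (b * t' * b⁻¹ * t'⁻¹) * a⁻¹ * (a * t' * a⁻¹ * t'⁻¹) := by group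
        rw [h1]
        exact D.mul_mem (hD a ha _ hb') ha'
      inv_mem' := by
        rintro a ⟨ha, ha'⟩
        refine ⟨M.inv_mem ha, ?_⟩
        have h1 : a⁻¹ * t' * a⁻¹⁻¹ * t'⁻¹ = (a⁻¹ * (a * t' * a⁻¹ * t'⁻¹) * a⁻¹⁻¹)⁻¹ := by group
        rw [h1]
        exact D.inv_mem (hD _ (M.inv_mem ha) _ ha') }
  have hRC : R ≤ C' := fun r hr => ⟨hR.2.1 hr, ht' r hr⟩
  have hC'M : C' ≤ M := fun x hx => hx.1
  have hR' : IsMaxP 2 C' R := ⟨hR.1, hRC, fun R' h1 h2 h3 => hR.2.2 R' h1 (h2.trans hC'M) h3⟩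
  have hcR : cj c R ≤ C' := by
    rw [cj_le_iff]
    intro r hr
    refine ⟨M.mul_mem (M.mul_mem hc (hR.2.1 hr)) (M.inv_mem hc), ?_⟩
    have h1 : c * r * c⁻¹ * t' * (c * r * c⁻¹)⁻¹ * t'⁻¹ = c * (r * t * r⁻¹ * t⁻¹) * c⁻¹ := by
      rw [← hct]; group
    rw [h1]
    exact hD c hc _ (ht r hr)
  obtain ⟨d, hd, hdR⟩ := hR'.exists_conj_le (isPGroup_cj hR.1) hcR
  refine ⟨d * c, M.mul_mem hd.1 hc, ?_, ?_⟩
  · rw [cj_mul]
    exact cj_eq_of_le hdR (by rw [card_cj])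
  · have h1 : d * c * t * (d * c)⁻¹ = d * t' * d⁻¹ := by rw [← hct]; group
    rw [h1]
    exact hd.2

omit [Finite G] in
theorem isMaxP_sylow (S : Sylow 2 G) : IsMaxP 2 (⊤ : Subgroup G) (S : Subgroup G) :=
  ⟨S.isPGroup', le_top, fun _ h1 _ h3 => (S.is_maximal' h1 h3).le⟩

omit [Finite G] in
theorem isMaxP_of_le (S : Sylow 2 G) {M : Subgroup G} (h : (S : Subgroup G) ≤ M) :
    IsMaxP 2 M (S : Subgroup G) :=
  ⟨S.isPGroup', h, fun _ h1 _ h3 => (S.is_maximal' h1 h3).le⟩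

omit [Finite G] in
theorem IsMaxP.mono' {M M' R : Subgroup G} (h : IsMaxP 2 M R) (h1 : R ≤ M') (h2 : M' ≤ M) :
    IsMaxP 2 M' R :=
  ⟨h.1, h1, fun R' h3 h4 h5 => h.2.2 R' h3 (h4.trans h2) h5⟩

end Cfsg.Agent.SylowL5.Weak
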