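import Mathlib
import Cfsg.Agent.SylowL5.Calc
import Cfsg.Agent.SylowL5.Weak

/-!
# Large elementary abelian subgroups of `UT_5(2)`

`A1`, `A2` are the only elementary abelian subgroups of order 64; every elementary abelian subgroup
of order 32 lies in `A1` or `A2` or is one of four explicit groups; `Q` is the only subgroup of order
128 containing `z` which is elementary abelian modulo `z`.
-/

set_option autoImplicit false

namespace Cfsg.Agent.SylowL5.Elem

open Subgroup
open Cfsg.Agent.SylowL5.Setup Cfsg.Agent.SylowL5.Calc Cfsg.Agent.SylowL5.Weak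

/-- `A1 A2`: all bits but 12, 45 -/
abbrev kJ : ℕ := 1014
/-- 13 15 23 25 -/
abbrev kD1 : ℕ := 786
/-- 13 15 23 25 45 -/
abbrev kB1 : ℕ := 794
/-- 12 14 15 34 35 -/
abbrev kB2 : ℕ := 709

/-! ### Boolean facts -/

/-- commuting codes -/
def co (a b : ℕ) : Bool := Nat.beq (mu a b) (mu b a)

theorem factJ : allb 1024 (fun a => !(sb a kJ) || !(Nat.beq (mu a a) 0) || sb a kA1 || sb a kA2)
    = true := by decide +kernel

theorem fact1 : allb 1024 (fun c => !(sb c 418) || allb 1024 fun a => !(tb a 0) ||
    !(co a c) || (sb c 384 && !(Nat.beq c 256))) = true := by decide +kernel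

theorem fact2 : allb 1024 (fun b => tb b 0 || !(tb b 3) || (!(co b 128) && !(co b 384)))
    = true := by decide +kernel

theorem fact3 : allb 1024 (fun b => tb b 0 || !(tb b 3) || !(Nat.beq (mu b b) 0) || tb b 6 ||
    (sb b kB1 && allb 1024 fun c => !(sb c kA1) || !(co b c) || sb c kD1)) = true := by decide +kernel

theorem closed_kJ : closedK kJ = true := by decide
theorem closed_kA1 : closedK kA1 = true := by decide
theorem closed_kA2 : closedK kA2 = true := by decide
theorem closed_kB1 : closedK kB1 = true := by decide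
theorem closed_kB2 : closedK kB2 = true := by decide
theorem closed_kD1 : closedK kD1 = true := by decide
theorem closed_kQ : closedK kQ = true := by decide

section
variable {G : Type*} [Group G] {S : Subgroup G} {u : ℕ → G}

theorem co_iff (h : Emb S u) {a b : ℕ} (ha : a < 1024) (hb : b < 1024) :
    co a b = true ↔ u a * u b = u b * u a := by
  unfold co
  rw [Nat.beq_eq, ← h.mul ha hb, ← h.mul hb ha, eq_iff h (mu_lt ha hb) (mu_lt hb ha)]

theorem card_mul_le [Finite G] {X K T : Subgroup G} (hX : X ≤ T) (hK : K ≤ T)
    (hd : ∀ g, g ∈ X → g ∈ K → g = 1) : Nat.card X * Nat.card K ≤ Nat.card T := by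
  have hd' : Disjoint X K := by
    rw [Subgroup.disjoint_def]
    intro x hx hk
    exact hd x hx hk
  have h1 := Subgroup.mul_injective_of_disjoint hd'
  rw [← Nat.card_prod]
  apply Nat.card_le_card_of_injective (fun g : X × K => (⟨g.1 * g.2, T.mul_mem (hX g.1.2) (hK g.2.2)⟩ : T))
  intro a b hab
  exact h1 (congrArg Subtype.val hab)

theorem comm_of_sq {X : Subgroup G} (h2 : ∀ x ∈ X, x * x = 1) :
    ∀ x ∈ X, ∀ y ∈ X, x * y = y * x := by
  intro x hx y hy
  have h1 := h2 (x * y) (X.mul_mem hx hy)
  have h3 := h2 x hx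
  have h4 := h2 y hy
  have h5 : x * y = (x * y)⁻¹ := (inv_eq_of_mul_eq_one_right h1).symm
  rw [h5, mul_inv_rev, inv_eq_of_mul_eq_one_right h3, inv_eq_of_mul_eq_one_right h4]

/-- membership of the unused part -/
theorem mem_of_le (h : Emb S u) {X : Subgroup G} (hX : X ≤ S) {x : G} (hx : x ∈ X) :
    ∃ a, a < 1024 ∧ u a = x ∧ u a ∈ X := by
  obtain ⟨a, ha, rfl⟩ := h.surj x (hX hx)
  exact ⟨a, ha, rfl, hx⟩

theorem le_CS_of (h : Emb S u) {X : Subgroup G} (hX : X ≤ S) {K : ℕ} (hK : closedK K = true)
    (hXK : ∀ a, a < 1024 → u a ∈ X → sb a K = true) : X ≤ CS u K := by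
  intro x hx
  obtain ⟨a, ha, rfl, hx'⟩ := mem_of_le h hX hx
  exact (u_mem_CS h hK ha).2 (hXK a ha hx')

end

theorem tb_mu0 : allb 1024 (fun a => Nat.beq (bt (mu a 1) 0) (Nat.sub 1 (bt a 0))) = true := by
  decide +kernel

/-- `bt` is additive for the simple roots. -/
theorem tb_xor {a b k : ℕ} (hk : k < 4) : tb (mu a b) k = (tb a k ^^ tb b k) := by
  have h1 : ∀ a k, tb a k = a.testBit k := by
    intro a k
    unfold tb
    have h0 := testBit_bt a k 0
    rcases bt_cases a k with h | h
    · rw [h] at h0 ⊢
      have h1 : a.testBit k = false := by simpa using h0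
      rw [h1]; rfl
    · rw [h] at h0 ⊢
      have h1 : a.testBit k = true := by simpa using h0
      rw [h1]; rfl
  rw [h1, h1, h1, testBit_mu]
  have h4 : ¬ k = 4 := by omega
  have h5 : ¬ k = 5 := by omega
  have h6 : ¬ k = 6 := by omega
  have h7 : ¬ k = 7 := by omega
  have h8 : ¬ k = 8 := by omega
  have h9 : ¬ k = 9 := by omega
  simp [h4, h5, h6, h7, h8, h9]

theorem factK : allb 1024 (fun a => (sb a kJ || tb a 0 || tb a 3) &&
    (!(sb a kJ) || (!(tb a 0) && !(tb a 3)))) = true := by decide +kernel

section
variable {G : Type*} [Group G] [Finite G] {S : Subgroup G} {u : ℕ → G}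

/-- first case: `X ∩ J ≤ A1` -/
theorem el_one (h : Emb S u) (X : Subgroup G) (hX : X ≤ S) (h2 : ∀ x ∈ X, x * x = 1)
    (hJ : ∀ a, a < 1024 → u a ∈ X → sb a kJ = true → sb a kA1 = true) :
    Nat.card X ≤ 16 ∨ X ≤ CS u kA1 ∨ X ≤ CS u kB1 ∨ X ≤ cj (u x34) (CS u kB1) := by
  have hcomm := comm_of_sq h2
  have hfinS := h.finite
  have hco : ∀ a b, a < 1024 → b < 1024 → u a ∈ X → u b ∈ X → co a b = true := by
    intro a b ha hb haX hbX
    rw [co_iff h ha hb]
    exact hcomm _ haX _ hbX
  have hJ' : ∀ a, a < 1024 → u a ∈ X → tb a 0 = false → tb a 3 = false → sb a kA1 = true := by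
    intro a ha haX h0 h3
    apply hJ a ha haX
    have h4 := of_allb factK a ha
    rw [h0, h3] at h4
    simpa using h4
  by_cases hc : ∃ a, a < 1024 ∧ u a ∈ X ∧ tb a 0 = true
  · left
    obtain ⟨a, ha, haX, ha0⟩ := hc
    -- a useful consequence of `fact1`
    have f1 : ∀ c, c < 1024 → u c ∈ X → sb c 418 = true → sb c 384 = true ∧ c ≠ 256 := by
      intro c hc hcX hc4
      have h4 := of_allb (of_allb fact1 c hc |> fun h => by
        rw [hc4] at h
        simpa using h) a ha
      rw [ha0, hco a c ha hc haX hcX] at h4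
      simp only [Bool.not_true, Bool.false_or, Bool.and_eq_true, Bool.not_eq_true'] at h4
      refine ⟨h4.1, fun h5 => ?_⟩
      rw [h5] at h4
      exact absurd h4.2 (by decide)
    by_cases hd : ∃ b, b < 1024 ∧ u b ∈ X ∧ tb b 0 = false ∧ tb b 3 = true
    · obtain ⟨b, hb, hbX, hb0, hb3⟩ := hd
      have f2 := of_allb fact2 b hb
      rw [hb0, hb3] at f2
      simp only [Bool.not_true, Bool.false_or, Bool.and_eq_true, Bool.not_eq_true'] at f2
      have hcl : closedK 486 = true := by decide
      have hcard : Nat.card (CS u 486) = 64 := by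
        rw [card_CS h hcl]; decide +kernel
      have h5 := card_mul_le hX (h.CS_le 486) (by
        intro g hgX hgK
        obtain ⟨c, hc, hcK, rfl⟩ := (h.mem_CS hcl).1 hgK
        rw [← sb_iff] at hcK
        have h6 : sb c kA1 = true := hJ c hc hgX (by
          have := of_allb (P := fun c => !(sb c 486) || sb c kJ) (N := 1024) (by decide +kernel) c hc
          rw [hcK] at this
          simpa using this)
        have h7 : sb c 418 = true := by
          have := of_allb (P := fun c => !(sb c 486) || !(sb c kA1) || sb c 418) (N := 1024)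
            (by decide +kernel) c hc
          rw [hcK, h6] at this
          simpa using this
        obtain ⟨h8, h9⟩ := f1 c hc hgX h7
        have h10 := of_allb (P := fun c => !(sb c 384) || Nat.beq c 0 || Nat.beq c 128 ||
          Nat.beq c 256 || Nat.beq c 384) (N := 1024) (by decide +kernel) c hc
        rw [h8] at h10
        simp only [Bool.not_true, Bool.false_or, Bool.or_eq_true, Nat.beq_eq] at h10
        rcases h10 with ((h10 | h10) | h10) | h10
        · rw [h10, h.zero]
        · exfalso
          have := hco b c hb hc hbX hgX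
          rw [h10, f2.1] at this
          exact absurd this (by decide)
        · exact absurd h10 h9
        · exfalso
          have := hco b c hb hc hbX hgX
          rw [h10, f2.2] at this
          exact absurd this (by decide))
      rw [hcard, h.card] at h5
      omega
    · push Not at hd
      have hcl : closedK 366 = true := by decide
      have hcard : Nat.card (CS u 366) = 64 := by
        rw [card_CS h hcl]; decide +kernel
      have h5 := card_mul_le hX (h.CS_le 366) (by
        intro g hgX hgK
        obtain ⟨c, hc, hcK, rfl⟩ := (h.mem_CS hcl).1 hgK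
        rw [← sb_iff] at hcK
        have hc0 : tb c 0 = false := by
          have := of_allb (P := fun c => !(sb c 366) || !(tb c 0)) (N := 1024)
            (by decide +kernel) c hc
          rw [hcK] at this
          simpa using this
        have hc3 : tb c 3 = false := by
          have := hd c hc hgX hc0
          simpa using this
        have h6 := hJ' c hc hgX hc0 hc3
        have h7 : sb c 418 = true ∧ sb c 290 = true := by
          have := of_allb (P := fun c => !(sb c 366) || !(sb c kA1) || (sb c 418 && sb c 290))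
            (N := 1024) (by decide +kernel) c hc
          rw [hcK, h6] at this
          simpa using this
        obtain ⟨h8, h9⟩ := f1 c hc hgX h7.1
        have h10 := of_allb (P := fun c => !(sb c 384) || !(sb c 290) || Nat.beq c 0 ||
          Nat.beq c 256) (N := 1024) (by decide +kernel) c hc
        rw [h8, h7.2] at h10
        simp only [Bool.not_true, Bool.false_or, Bool.or_eq_true, Nat.beq_eq] at h10
        rcases h10 with h10 | h10
        · rw [h10, h.zero]
        · exact absurd h10 h9)
      rw [hcard, h.card] at h5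
      omega
  · push Not at hc
    right
    have hc' : ∀ a, a < 1024 → u a ∈ X → tb a 0 = false := by
      intro a ha haX
      simpa using hc a ha haX
    by_cases hd : ∃ b, b < 1024 ∧ u b ∈ X ∧ tb b 3 = true
    · right
      obtain ⟨b, hb, hbX, hb3⟩ := hd
      -- the key computation
      have key : ∀ (Y : Subgroup G), Y ≤ S → (∀ y ∈ Y, y * y = 1) →
          (∀ a, a < 1024 → u a ∈ Y → tb a 0 = false) →
          (∀ a, a < 1024 → u a ∈ Y → tb a 3 = false → sb a kA1 = true) →
          ∀ b, b < 1024 → u b ∈ Y → tb b 3 = true → tb b 6 = false → Y ≤ CS u kB1 := by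
        intro Y hY hY2 hY0 hY3 b hb hbY hb3 hb6
        have hYc := comm_of_sq hY2
        have hbb : Nat.beq (mu b b) 0 = true := by
          rw [Nat.beq_eq]
          apply h.inj (mu_lt hb hb) (by norm_num)
          rw [h.mul hb hb, h.zero, hY2 _ hbY]
        have f3 := of_allb fact3 b hb
        rw [hY0 b hb hbY, hb3, hbb, hb6] at f3
        simp only [Bool.not_true, Bool.false_or, Bool.and_eq_true] at f3
        obtain ⟨f3, f4⟩ := f3
        have f5 := of_allb f4
        intro y hy
        obtain ⟨c, hc, rfl, hcY⟩ := mem_of_le h hY hy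
        have k1 : ∀ c, c < 1024 → u c ∈ Y → tb c 3 = false → u c ∈ CS u kB1 := by
          intro c hc hcY hc3
          rw [u_mem_CS h closed_kB1 hc]
          have f6 := f5 c hc
          have f7 : co b c = true := by
            rw [co_iff h hb hc]; exact hYc _ hbY _ hcY
          rw [hY3 c hc hcY hc3, f7] at f6
          simp only [Bool.not_true, Bool.false_or] at f6
          have := of_allb (P := fun c => !(sb c kD1) || sb c kB1) (N := 1024) (by decide +kernel) c hc
          rw [f6] at this
          simpa using this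
        cases hc3 : tb c 3
        · exact k1 c hc hcY hc3
        · have h6 := mu_lt hc hb
          have h7 : u (mu c b) ∈ Y := by rw [h.mul hc hb]; exact Y.mul_mem hcY hbY
          have h8 : tb (mu c b) 3 = false := by
            rw [tb_xor (by norm_num), hc3, hb3]; rfl
          have h9 := k1 _ h6 h7 h8
          have h10 : u b ∈ CS u kB1 := (u_mem_CS h closed_kB1 hb).2 f3
          rw [h.mul hc hb] at h9
          exact (Subgroup.mul_mem_cancel_right _ h10).1 h9
      have hX3 : ∀ a, a < 1024 → u a ∈ X → tb a 3 = false → sb a kA1 = true :=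
        fun a ha haX h3 => hJ' a ha haX (hc' a ha haX) h3
      cases hb6 : tb b 6
      · left
        exact key X hX h2 hc' hX3 b hb hbX hb3 hb6
      · right
        -- conjugate by `x34`
        have h34 : (4 : ℕ) < 1024 := by norm_num
        have hinv : (u x34)⁻¹ = u x34 := by
          rw [← inv_eq h h34]; rfl
        have hconj : ∀ a, a < 1024 → u (cc x34 a) = u x34 * u a * (u x34)⁻¹ := fun a ha => cc_u h h34 ha
        have hback : ∀ a, a < 1024 → u a ∈ cj (u x34) X → u (cc x34 a) ∈ X := by
          intro a ha haX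
          rw [mem_cj] at haX
          rw [hconj a ha]
          rw [hinv] at haX ⊢
          exact haX
        have fc := of_allb (P := fun a => Nat.beq (bt (cc x34 a) 0) (bt a 0) &&
          Nat.beq (bt (cc x34 a) 3) (bt a 3) && (!(sb (cc x34 a) kA1) || sb a kA1) &&
          (!(tb a 3) || tb a 2 || tb a 0 || Nat.beq (bt (cc x34 a) 6) (Nat.sub 1 (bt a 6))) &&
          Nat.beq (cc x34 (cc x34 a)) a) (N := 1024)
          (by decide +kernel)
        simp only [Bool.and_eq_true, Nat.beq_eq] at fc
        have hle : cj (u x34) X ≤ CS u kB1 := by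
          have hb2 := fc b hb
          have hcb : cc x34 b < 1024 := cc_lt h34 hb
          apply key (cj (u x34) X) _ _ _ _ (cc x34 b) hcb
          · rw [mem_cj, hconj b hb]
            have : (u x34)⁻¹ * (u x34 * u b * (u x34)⁻¹) * u x34 = u b := by group
            rw [this]; exact hbX
          · have : tb (cc x34 b) 3 = tb b 3 := by
              unfold tb; rw [hb2.1.1.1.2]
            rw [this]; exact hb3
          · have hbb : Nat.beq (mu b b) 0 = true := by
              rw [Nat.beq_eq]
              apply h.inj (mu_lt hb hb) (by norm_num)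
              rw [h.mul hb hb, h.zero, h2 _ hbX]
            have h12 := of_allb (P := fun b => !(Nat.beq (mu b b) 0) || !(tb b 3) || !(tb b 2)) (N := 1024)
              (by decide +kernel) b hb
            rw [hbb, hb3] at h12
            simp only [Bool.not_true, Bool.false_or, Bool.not_eq_true'] at h12
            have h13 := hb2.1.2
            rw [hb3, h12, hc' b hb hbX] at h13
            simp only [Bool.not_true, Bool.false_or, Nat.beq_eq] at h13
            unfold tb at hb6 ⊢
            rw [Nat.beq_eq] at hb6
            rw [h13, hb6]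
            rfl
          · rw [cj_le_iff]
            intro x hx
            exact S.mul_mem (S.mul_mem (h.mem h34) (hX hx)) (S.inv_mem (h.mem h34))
          · rintro _ ⟨x, hx, rfl⟩
            show (u x34 * x * (u x34)⁻¹) * (u x34 * x * (u x34)⁻¹) = 1
            have : (u x34 * x * (u x34)⁻¹) * (u x34 * x * (u x34)⁻¹) = u x34 * (x * x) * (u x34)⁻¹ := by
              group
            rw [this, h2 x hx]; group
          · intro a ha haX
            have h3 := hc' _ (cc_lt h34 ha) (hback a ha haX)
            unfold tb at h3 ⊢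
            rw [(fc a ha).1.1.1.1] at h3
            exact h3
          · intro a ha haX ha3
            have h3 := (fc a ha).1.1.2
            have h4 := hX3 _ (cc_lt h34 ha) (hback a ha haX) (by
              unfold tb at ha3 ⊢
              rw [(fc a ha).1.1.1.2]
              exact ha3)
            rw [h4] at h3
            simpa using h3
        intro x hx
        rw [mem_cj]
        have h3 : u x34 * x * (u x34)⁻¹ ∈ CS u kB1 := hle ⟨x, hx, rfl⟩
        have h4 : (u x34)⁻¹ * x * u x34 = u x34 * x * (u x34)⁻¹ := by rw [hinv]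
        rw [h4]
        exact h3
    · left
      push Not at hd
      apply le_CS_of h hX closed_kA1
      intro a ha haX
      exact hJ' a ha haX (hc' a ha haX) (by simpa using hd a ha haX)

omit [Finite G] in
/-- relabelling by the graph automorphism -/
theorem emb_du (h : Emb S u) : Emb S (fun a => u (du a)) := emb_of_isAut h isAut_du

omit [Finite G] in
theorem CS_du_A1 (h : Emb S u) : CS (fun a => u (du a)) kA1 = CS u kA2 :=
  CS_comp h isAut_du closed_kA1 closed_kA2 (by decide +kernel) (by decide +kernel)

omit [Finite G] in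
theorem CS_du_A2 (h : Emb S u) : CS (fun a => u (du a)) kA2 = CS u kA1 :=
  CS_comp h isAut_du closed_kA2 closed_kA1 (by decide +kernel) (by decide +kernel)

omit [Finite G] in
theorem CS_du_B1 (h : Emb S u) : CS (fun a => u (du a)) kB1 = CS u kB2 :=
  CS_comp h isAut_du closed_kB1 closed_kB2 (by decide +kernel) (by decide +kernel)

/-- Elementary abelian subgroups of order at least 32. -/
theorem el (h : Emb S u) (X : Subgroup G) (hX : X ≤ S) (h2 : ∀ x ∈ X, x * x = 1)
    (hc : 16 < Nat.card X) :
    X ≤ CS u kA1 ∨ X ≤ CS u kA2 ∨ X ≤ CS u kB1 ∨ X ≤ cj (u x34) (CS u kB1) ∨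
      X ≤ CS u kB2 ∨ X ≤ cj (u x23) (CS u kB2) := by
  have hJ : ∀ a, a < 1024 → u a ∈ X → sb a kJ = true → sb a kA1 = true ∨ sb a kA2 = true := by
    intro a ha haX haJ
    have h3 := of_allb factJ a ha
    have h4 : Nat.beq (mu a a) 0 = true := by
      rw [Nat.beq_eq]
      apply h.inj (mu_lt ha ha) (by norm_num)
      rw [h.mul ha ha, h.zero, h2 _ haX]
    rw [haJ, h4] at h3
    simpa using h3
  by_cases h1 : ∀ a, a < 1024 → u a ∈ X → sb a kJ = true → sb a kA1 = true
  · rcases el_one h X hX h2 h1 with h3 | h3 | h3 | h3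
    · omega
    · exact Or.inl h3
    · exact Or.inr (Or.inr (Or.inl h3))
    · exact Or.inr (Or.inr (Or.inr (Or.inl h3)))
  · push Not at h1
    obtain ⟨a, ha, haX, haJ, haA⟩ := h1
    have haA2 : sb a kA2 = true := by
      rcases hJ a ha haX haJ with h3 | h3
      · exact absurd h3 haA
      · exact h3
    have h4 : ∀ b, b < 1024 → u b ∈ X → sb b kJ = true → sb b kA2 = true := by
      intro b hb hbX hbJ
      rcases hJ b hb hbX hbJ with h3 | h3
      · -- `a b` is in `J`
        have h5 : u (mu a b) ∈ X := by rw [h.mul ha hb]; exact X.mul_mem haX hbX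
        have h6 : sb (mu a b) kJ = true := by
          rw [sb_iff] at haJ hbJ ⊢
          exact haJ.mu closed_kJ hbJ
        rcases hJ _ (mu_lt ha hb) h5 h6 with h7 | h7
        · exfalso
          apply haA
          rw [← u_mem_CS h closed_kA1 (mu_lt ha hb), h.mul ha hb] at h7
          have h8 := (u_mem_CS h closed_kA1 hb).2 h3
          rw [← u_mem_CS h closed_kA1 ha]
          exact (Subgroup.mul_mem_cancel_right _ h8).1 h7
        · rw [← u_mem_CS h closed_kA2 (mu_lt ha hb), h.mul ha hb] at h7
          have h8 := (u_mem_CS h closed_kA2 ha).2 haA2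
          rw [← u_mem_CS h closed_kA2 hb]
          exact (Subgroup.mul_mem_cancel_left _ h8).1 h7
      · exact h3
    have hE := emb_du h
    have hd := of_allb (P := fun a => Nat.blt (du a) 1024 && Nat.beq (du (du a)) a &&
      (!(sb a kJ) || sb (du a) kJ) && (!(sb (du a) kA2) || sb a kA1)) (N := 1024) (by decide +kernel)
    simp only [Bool.and_eq_true, Nat.blt_eq, Nat.beq_eq] at hd
    have h5 := el_one hE X hX h2 (by
      intro b hb hbX hbJ
      have h6 := hd b hb
      have h7 := h6.1.2
      rw [hbJ] at h7
      have h8 := h4 (du b) h6.1.1.1 hbX (by simpa using h7)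
      have h9 := h6.2
      rw [h8] at h9
      simpa using h9)
    rw [CS_du_A1 h, CS_du_B1 h] at h5
    have h34 : du x34 = x23 := by decide +kernel
    rw [h34] at h5
    rcases h5 with h3 | h3 | h3 | h3
    · omega
    · exact Or.inr (Or.inl h3)
    · exact Or.inr (Or.inr (Or.inr (Or.inr (Or.inl h3))))
    · exact Or.inr (Or.inr (Or.inr (Or.inr (Or.inr h3))))

omit [Finite G] in
theorem card_A1 (h : Emb S u) : Nat.card (CS u kA1) = 64 := by
  rw [card_CS h closed_kA1]; decide +kernel
omit [Finite G] in
theorem card_A2 (h : Emb S u) : Nat.card (CS u kA2) = 64 := by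
  rw [card_CS h closed_kA2]; decide +kernel
omit [Finite G] in
theorem card_B1 (h : Emb S u) : Nat.card (CS u kB1) = 32 := by
  rw [card_CS h closed_kB1]; decide +kernel
omit [Finite G] in
theorem card_B2 (h : Emb S u) : Nat.card (CS u kB2) = 32 := by
  rw [card_CS h closed_kB2]; decide +kernel
omit [Finite G] in
theorem card_Q (h : Emb S u) : Nat.card (CS u kQ) = 128 := by
  rw [card_CS h closed_kQ]; decide +kernel

/-- `A1`, `A2` are the only elementary abelian subgroups of order 64. -/
theorem eq_of_card_64 (h : Emb S u) (X : Subgroup G) (hX : X ≤ S) (h2 : ∀ x ∈ X, x * x = 1)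
    (hc : Nat.card X = 64) : X = CS u kA1 ∨ X = CS u kA2 := by
  have hle : ∀ K : Subgroup G, X ≤ K → Nat.card K = 32 → False := by
    intro K hK hcK
    have := Nat.le_of_dvd (by rw [hcK]; norm_num) (Subgroup.card_dvd_of_le hK)
    omega
  have heq : ∀ K : Subgroup G, X ≤ K → Nat.card K = 64 → X = K := fun K hK hcK =>
    Subgroup.eq_of_le_of_card_ge hK (by rw [hcK, hc])
  rcases el h X hX h2 (by omega) with h3 | h3 | h3 | h3 | h3 | h3
  · exact Or.inl (heq _ h3 (card_A1 h))
  · exact Or.inr (heq _ h3 (card_A2 h))
  · exact (hle _ h3 (card_B1 h)).elim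
  · exact (hle _ h3 ((card_cj _ _).trans (card_B1 h))).elim
  · exact (hle _ h3 (card_B2 h)).elim
  · exact (hle _ h3 ((card_cj _ _).trans (card_B2 h))).elim

/-- Elementary abelian subgroups of order 32. -/
theorem eq_of_card_32 (h : Emb S u) (X : Subgroup G) (hX : X ≤ S) (h2 : ∀ x ∈ X, x * x = 1)
    (hc : Nat.card X = 32) :
    X ≤ CS u kA1 ∨ X ≤ CS u kA2 ∨ X = CS u kB1 ∨ X = cj (u x34) (CS u kB1) ∨
      X = CS u kB2 ∨ X = cj (u x23) (CS u kB2) := by
  have heq : ∀ K : Subgroup G, X ≤ K → Nat.card K = 32 → X = K := fun K hK hcK =>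
    Subgroup.eq_of_le_of_card_ge hK (by rw [hcK, hc])
  rcases el h X hX h2 (by omega) with h3 | h3 | h3 | h3 | h3 | h3
  · exact Or.inl h3
  · exact Or.inr (Or.inl h3)
  · exact Or.inr (Or.inr (Or.inl (heq _ h3 (card_B1 h))))
  · exact Or.inr (Or.inr (Or.inr (Or.inl (heq _ h3 ((card_cj _ _).trans (card_B1 h))))))
  · exact Or.inr (Or.inr (Or.inr (Or.inr (Or.inl (heq _ h3 (card_B2 h))))))
  · exact Or.inr (Or.inr (Or.inr (Or.inr (Or.inr (heq _ h3 ((card_cj _ _).trans (card_B2 h)))))))

/-! ### Uniqueness of `Q` -/

/-- code of `1` or `z` -/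
def zz (a : ℕ) : Bool := Nat.beq a 0 || Nat.beq a 512

theorem factQ1 : allb 1024 (fun a => !(zz (mu a a)) || !(tb a 1) || !(tb a 2)) = true := by
  decide +kernel

theorem factQ2 : allb 1024 (fun c => !(sb c 73) || Nat.beq c 0 || allb 1024 fun a => !(tb a 1) ||
    !(zz (cm a c)) || (!(tb c 0) && tb c 3)) = true := by decide +kernel

theorem factQ3 : allb 1024 (fun c => !(sb c 73) || allb 1024 fun a => tb a 1 || tb a 2 ||
    !(tb a 5) || !(zz (cm a c)) || (!(tb c 0) && !(tb c 3))) = true := by decide +kernel

theorem factQ4 : allb 1024 (fun c => tb c 1 || tb c 2 || tb c 5 || sb c kQ) = true := by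
  decide +kernel

omit [Finite G] in
theorem card_le_two [Finite G] (X L : Subgroup G)
    (hL : ∀ x ∈ X, ∀ y ∈ X, x ∉ L → y ∉ L → x⁻¹ * y ∈ L) :
    Nat.card X ≤ 2 * Nat.card (X ⊓ L : Subgroup G) := by
  classical
  by_cases hc : ∃ x₀ ∈ X, x₀ ∉ L
  · obtain ⟨x₀, hx₀, hx₀L⟩ := hc
    let f : X → Bool × (X ⊓ L : Subgroup G) := fun y =>
      if hy : (y : G) ∈ L then (false, ⟨y, y.2, hy⟩)
      else (true, ⟨x₀⁻¹ * y, X.mul_mem (X.inv_mem hx₀) y.2, hL _ hx₀ _ y.2 hx₀L hy⟩)
    have hf : Function.Injective f := by
      intro a b hab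
      simp only [f] at hab
      split_ifs at hab with h1 h2 h2
      · have := congrArg (fun p => (p.2 : G)) hab
        exact Subtype.ext this
      · exact absurd (congrArg Prod.fst hab) Bool.false_ne_true
      · exact absurd (congrArg Prod.fst hab).symm Bool.false_ne_true
      · have := congrArg (fun p => (p.2 : G)) hab
        exact Subtype.ext (mul_left_cancel this)
    have h1 := Nat.card_le_card_of_injective f hf
    rwa [Nat.card_prod, Nat.card_eq_fintype_card (α := Bool), Fintype.card_bool] at h1
  · push Not at hc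
    have h1 : X ⊓ L = X := inf_eq_left.2 hc
    rw [h1]
    omega

omit [Finite G] in
theorem zz_iff (h : Emb S u) {a : ℕ} (ha : a < 1024) : zz a = true ↔ u a ∈ CS u 512 := by
  rw [u_mem_CS h (by decide) ha]
  have := of_allb (P := fun a => Nat.beq (cond (zz a) 1 0) (cond (sb a 512) 1 0)) (N := 1024)
    (by decide +kernel) a ha
  rw [Nat.beq_eq] at this
  cases h1 : zz a <;> cases h2 : sb a 512 <;> rw [h1, h2] at this <;> simp at this ⊢

/-- the case "some element has entry 23" -/
theorem q_one (h : Emb S u) (X : Subgroup G) (hX : X ≤ S)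
    (hsq : ∀ x ∈ X, x * x ∈ CS u 512) (hcm : ∀ x ∈ X, ∀ y ∈ X, x * y * x⁻¹ * y⁻¹ ∈ CS u 512)
    (ha : ∃ a, a < 1024 ∧ u a ∈ X ∧ tb a 1 = true) : Nat.card X ≤ 64 := by
  obtain ⟨a, ha, haX, ha1⟩ := ha
  have hsq' : ∀ a, a < 1024 → u a ∈ X → zz (mu a a) = true := by
    intro a ha haX
    rw [zz_iff h (mu_lt ha ha), h.mul ha ha]; exact hsq _ haX
  have hcm' : ∀ a b, a < 1024 → b < 1024 → u a ∈ X → u b ∈ X → zz (cm a b) = true := by
    intro a b ha hb haX hbX
    rw [zz_iff h (cm_lt ha hb), cm_u h ha hb]; exact hcm _ haX _ hbX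
  have hb2 : ∀ c, c < 1024 → u c ∈ X → tb c 2 = false := by
    intro c hc hcX
    by_contra h2
    rw [Bool.not_eq_false] at h2
    have h3 := of_allb factQ1 c hc
    rw [hsq' c hc hcX, h2] at h3
    simp only [Bool.not_true, Bool.false_or, Bool.or_false, Bool.not_eq_true'] at h3
    have hac := mu_lt ha hc
    have hacX : u (mu a c) ∈ X := by rw [h.mul ha hc]; exact X.mul_mem haX hcX
    have h4 := of_allb factQ1 _ hac
    have h5 := of_allb factQ1 a ha
    rw [hsq' a ha haX, ha1] at h5
    simp only [Bool.not_true, Bool.false_or, Bool.not_eq_true'] at h5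
    rw [hsq' _ hac hacX, tb_xor (by norm_num), tb_xor (by norm_num), ha1, h3, h2, h5] at h4
    exact absurd h4 (by decide)
  have q2 : ∀ c, c < 1024 → u c ∈ X → sb c 73 = true → c = 0 ∨ (tb c 0 = false ∧ tb c 3 = true) := by
    intro c hc hcX hc7
    have h3 := of_allb factQ2 c hc
    rw [hc7] at h3
    simp only [Bool.not_true, Bool.false_or, Bool.or_eq_true, Nat.beq_eq] at h3
    rcases h3 with h3 | h3
    · exact Or.inl h3
    · have h4 := of_allb h3 a ha
      rw [ha1, hcm' a c ha hc haX hcX] at h4
      right
      simpa using h4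
  by_cases hb : ∃ b, b < 1024 ∧ u b ∈ X ∧ tb b 1 = false ∧ tb b 5 = true
  · obtain ⟨b, hb, hbX, hb1, hb5⟩ := hb
    have hcl : closedK 77 = true := by decide
    have hcard : Nat.card (CS u 77) = 16 := by rw [card_CS h hcl]; decide +kernel
    have h5 := card_mul_le hX (h.CS_le 77) (by
      intro g hgX hgK
      obtain ⟨c, hc, hcK, rfl⟩ := (h.mem_CS hcl).1 hgK
      rw [← sb_iff] at hcK
      have h6 : sb c 73 = true := by
        have := of_allb (P := fun c => !(sb c 77) || tb c 2 || sb c 73) (N := 1024)
          (by decide +kernel) c hc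
        rw [hcK, hb2 c hc hgX] at this
        simpa using this
      have h7 := of_allb (of_allb factQ3 c hc |> fun h => by
        rw [h6] at h
        simpa using h) b hb
      rw [hb1, hb2 b hb hbX, hb5, hcm' b c hb hc hbX hgX] at h7
      simp only [Bool.not_true, Bool.false_or, Bool.and_eq_true, Bool.not_eq_true'] at h7
      rcases q2 c hc hgX h6 with h8 | h8
      · rw [h8, h.zero]
      · rw [h7.2] at h8
        exact absurd h8.2 (by decide))
    rw [hcard, h.card] at h5
    omega
  · push Not at hb
    have h1 := card_le_two X (CS u kQ) (by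
      intro x hx y hy hxQ hyQ
      obtain ⟨c, hc, rfl, hcX⟩ := mem_of_le h hX hx
      obtain ⟨d, hd, rfl, hdX⟩ := mem_of_le h hX hy
      have hQ : ∀ c, c < 1024 → u c ∈ X → tb c 1 = false → u c ∈ CS u kQ := by
        intro c hc hcX hc1
        rw [u_mem_CS h closed_kQ hc]
        have h3 := of_allb factQ4 c hc
        have h4 : tb c 5 = false := by simpa using hb c hc hcX hc1
        rw [hc1, hb2 c hc hcX, h4] at h3
        simpa using h3
      have hc1 : tb c 1 = true := by
        by_contra h3
        rw [Bool.not_eq_true] at h3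
        exact hxQ (hQ c hc hcX h3)
      have hd1 : tb d 1 = true := by
        by_contra h3
        rw [Bool.not_eq_true] at h3
        exact hyQ (hQ d hd hdX h3)
      have h5 : u (mu (iv c) d) ∈ X := by
        rw [h.mul (iv_lt hc) hd, inv_eq h hc]
        exact X.mul_mem (X.inv_mem hcX) hdX
      have h6 := hQ _ (mu_lt (iv_lt hc) hd) h5 (by
        have h7 : tb (iv c) 1 = true := by
          have h8 : tb (mu c (iv c)) 1 = false := by rw [mu_iv hc]; rfl
          rw [tb_xor (by norm_num), hc1] at h8
          simpa using h8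
        rw [tb_xor (by norm_num), h7, hd1]; rfl)
      rwa [h.mul (iv_lt hc) hd, inv_eq h hc] at h6)
    have hcl : closedK 65 = true := by decide
    have hcard : Nat.card (CS u 65) = 4 := by rw [card_CS h hcl]; decide +kernel
    have h5 := card_mul_le (X := X ⊓ CS u kQ) (K := CS u 65) (T := CS u kQ) inf_le_right (by
        intro g hg
        obtain ⟨c, hc, hcK, rfl⟩ := (h.mem_CS hcl).1 hg
        rw [u_mem_CS h closed_kQ hc]
        rw [← sb_iff] at hcK
        have := of_allb (P := fun c => !(sb c 65) || sb c kQ) (N := 1024)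
          (by decide +kernel) c hc
        rw [hcK] at this
        simpa using this) (by
      rintro g ⟨hgX, -⟩ hgK
      obtain ⟨c, hc, hcK, rfl⟩ := (h.mem_CS hcl).1 hgK
      rw [← sb_iff] at hcK
      have h6 : sb c 73 = true ∧ tb c 3 = false := by
        have := of_allb (P := fun c => !(sb c 65) || (sb c 73 && !(tb c 3))) (N := 1024)
          (by decide +kernel) c hc
        rw [hcK] at this
        simpa using this
      rcases q2 c hc hgX h6.1 with h8 | h8
      · rw [h8, h.zero]
      · rw [h6.2] at h8
        exact absurd h8.2 (by decide))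
    rw [hcard, card_Q h] at h5
    omega

theorem factQ5 : allb 1024 (fun c => !(sb c 9) || Nat.beq c 0 || (sb c 73 && (tb c 0 || tb c 3)))
    = true := by decide +kernel

omit [Finite G] in
theorem CS_du_Q (h : Emb S u) : CS (fun a => u (du a)) kQ = CS u kQ :=
  CS_comp h isAut_du closed_kQ closed_kQ (by decide +kernel) (by decide +kernel)

omit [Finite G] in
theorem CS_du_Z (h : Emb S u) : CS (fun a => u (du a)) 512 = CS u 512 :=
  CS_comp h isAut_du (by decide) (by decide) (by decide +kernel) (by decide +kernel)

/-- `Q` is the only subgroup of order 128 containing `z` and elementary abelian modulo `z`. -/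
theorem eq_Q (h : Emb S u) (X : Subgroup G) (hX : X ≤ S)
    (hsq : ∀ x ∈ X, x * x ∈ CS u 512) (hcm : ∀ x ∈ X, ∀ y ∈ X, x * y * x⁻¹ * y⁻¹ ∈ CS u 512)
    (hc : Nat.card X = 128) : X = CS u kQ := by
  have hno1 : ∀ a, a < 1024 → u a ∈ X → tb a 1 = false := by
    intro a ha haX
    by_contra h1
    rw [Bool.not_eq_false] at h1
    have := q_one h X hX hsq hcm ⟨a, ha, haX, h1⟩
    omega
  have hd := of_allb (P := fun a => Nat.blt (du a) 1024 && Nat.beq (du (du a)) a &&
      (Nat.beq (bt (du a) 1) (bt a 2))) (N := 1024) (by decide +kernel)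
  simp only [Bool.and_eq_true, Nat.blt_eq, Nat.beq_eq] at hd
  have hno2 : ∀ a, a < 1024 → u a ∈ X → tb a 2 = false := by
    intro a ha haX
    by_contra h1
    rw [Bool.not_eq_false] at h1
    have h2 := q_one (emb_du h) X hX (by rw [CS_du_Z h]; exact hsq) (by rw [CS_du_Z h]; exact hcm)
      ⟨du a, (hd a ha).1.1, by
        show u (du (du a)) ∈ X
        rw [(hd a ha).1.2]; exact haX, by
        unfold tb at h1 ⊢
        rw [(hd a ha).2]; exact h1⟩
    omega
  have hcm' : ∀ a b, a < 1024 → b < 1024 → u a ∈ X → u b ∈ X → zz (cm a b) = true := by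
    intro a b ha hb haX hbX
    rw [zz_iff h (cm_lt ha hb), cm_u h ha hb]; exact hcm _ haX _ hbX
  have hle : X ≤ CS u kQ := by
    apply le_CS_of h hX closed_kQ
    by_contra hcon
    push Not at hcon
    obtain ⟨b, hb, hbX, hbQ⟩ := hcon
    have hb5 : tb b 5 = true := by
      have h3 := of_allb factQ4 b hb
      have hbQ' : sb b kQ = false := by simpa using hbQ
      rw [hno1 b hb hbX, hno2 b hb hbX, hbQ'] at h3
      simpa using h3
    have hQ : ∀ c, c < 1024 → u c ∈ X → tb c 5 = false → u c ∈ CS u kQ := by
      intro c hc hcX hc1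
      rw [u_mem_CS h closed_kQ hc]
      have h3 := of_allb factQ4 c hc
      rw [hno1 c hc hcX, hno2 c hc hcX, hc1] at h3
      simpa using h3
    have hclP : closedK 1017 = true := by decide
    have hP : ∀ c, c < 1024 → u c ∈ X → sb c 1017 = true := by
      intro c hc hcX
      have := of_allb (P := fun c => tb c 1 || tb c 2 || sb c 1017) (N := 1024)
        (by decide +kernel) c hc
      rw [hno1 c hc hcX, hno2 c hc hcX] at this
      simpa using this
    have h1 := card_le_two X (CS u kQ) (by
      intro x hx y hy hxQ hyQ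
      obtain ⟨c, hc, rfl, hcX⟩ := mem_of_le h hX hx
      obtain ⟨d, hd, rfl, hdX⟩ := mem_of_le h hX hy
      have hc1 : tb c 5 = true := by
        by_contra h3
        rw [Bool.not_eq_true] at h3
        exact hxQ (hQ c hc hcX h3)
      have hd1 : tb d 5 = true := by
        by_contra h3
        rw [Bool.not_eq_true] at h3
        exact hyQ (hQ d hd hdX h3)
      have h5 : u (mu (iv c) d) ∈ X := by
        rw [h.mul (iv_lt hc) hd, inv_eq h hc]
        exact X.mul_mem (X.inv_mem hcX) hdX
      have h6 := hQ _ (mu_lt (iv_lt hc) hd) h5 (by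
        have e1 : ∀ a b, tb a 1 = false → tb b 2 = false → tb (mu a b) 5 = (tb a 5 ^^ tb b 5) := by
          intro a b h1 h2
          have h3 : ∀ a k, tb a k = a.testBit k := by
            intro a k
            unfold tb
            have h0 := testBit_bt a k 0
            rcases bt_cases a k with h | h
            · rw [h] at h0 ⊢
              have h1 : a.testBit k = false := by simpa using h0
              rw [h1]; rfl
            · rw [h] at h0 ⊢
              have h1 : a.testBit k = true := by simpa using h0
              rw [h1]; rfl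
          rw [h3] at h1 h2 ⊢
          rw [testBit_mu, h1, h2, h3, h3]
          simp
        have e2 : tb (iv c) 1 = false := by
          have h8 : tb (mu c (iv c)) 1 = false := by rw [mu_iv hc]; rfl
          rw [tb_xor (by norm_num), hno1 c hc hcX] at h8
          simpa using h8
        have e3 : tb (iv c) 2 = false := by
          have h8 : tb (mu c (iv c)) 2 = false := by rw [mu_iv hc]; rfl
          rw [tb_xor (by norm_num), hno2 c hc hcX] at h8
          simpa using h8
        have e4 : tb (iv c) 5 = true := by
          have h8 : tb (mu c (iv c)) 5 = false := by rw [mu_iv hc]; rfl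
          rw [e1 _ _ (hno1 c hc hcX) e3, hc1] at h8
          simpa using h8
        rw [e1 _ _ e2 (hno2 d hd hdX), e4, hd1]; rfl)
      rwa [h.mul (iv_lt hc) hd, inv_eq h hc] at h6)
    have hcl : closedK 9 = true := by decide
    have hcard : Nat.card (CS u 9) = 4 := by rw [card_CS h hcl]; decide +kernel
    have h5 := card_mul_le (X := X ⊓ CS u kQ) (K := CS u 9) (T := CS u kQ) inf_le_right (by
        intro g hg
        obtain ⟨c, hc, hcK, rfl⟩ := (h.mem_CS hcl).1 hg
        rw [u_mem_CS h closed_kQ hc]
        rw [← sb_iff] at hcK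
        have := of_allb (P := fun c => !(sb c 9) || sb c kQ) (N := 1024)
          (by decide +kernel) c hc
        rw [hcK] at this
        simpa using this) (by
      rintro g ⟨hgX, -⟩ hgK
      obtain ⟨c, hc, hcK, rfl⟩ := (h.mem_CS hcl).1 hgK
      rw [← sb_iff] at hcK
      have h6 := of_allb factQ5 c hc
      rw [hcK] at h6
      simp only [Bool.not_true, Bool.false_or, Bool.or_eq_true, Nat.beq_eq, Bool.and_eq_true] at h6
      rcases h6 with h6 | ⟨h6, h7⟩
      · rw [h6, h.zero]
      · exfalso
        have h8 := of_allb (of_allb factQ3 c hc |> fun h => by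
          rw [h6] at h
          simpa using h) b hb
        rw [hno1 b hb hbX, hno2 b hb hbX, hb5, hcm' b c hb hc hbX hgX] at h8
        simp only [Bool.not_true, Bool.false_or, Bool.and_eq_true, Bool.not_eq_true'] at h8
        rw [h8.1, h8.2] at h7
        simp at h7)
    rw [hcard, card_Q h] at h5
    omega
  exact Subgroup.eq_of_le_of_card_ge hle (by rw [card_Q h, hc])

end

end Cfsg.Agent.SylowL5.Elem
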