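import Mathlib

/-!
# Transvections in a Sylow 2-subgroup determine an invariant centre or axis

Let `X` act on the elementary abelian 2-group `W` (additively written) with invariant subgroup `Z`.
If all elements of the Sylow 2-subgroup `P` acting as transvections on `W / Z` have the same centre `c`
and their axes cover `W`, then `c` is `X`-invariant (mod `Z`).  Dually for a common axis.
-/

set_option autoImplicit false

namespace Cfsg.Agent.SylowL5.Transv

open Subgroup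

/-- Modulo a normal subgroup a 2-group is conjugate into a Sylow 2-subgroup. -/
theorem exists_mod {X : Type*} [Group X] [Finite X] (P : Sylow 2 X) (K : Subgroup X) [K.Normal]
    (D : Subgroup X) (hD : IsPGroup 2 (D.map (QuotientGroup.mk' K))) :
    ∃ m : X, ∀ d ∈ D, ∃ s ∈ P, s⁻¹ * (m * d * m⁻¹) ∈ K := by
  have f2 : Fact (Nat.Prime 2) := ⟨Nat.prime_two⟩
  obtain ⟨R, hR⟩ := hD.exists_le_sylow
  obtain ⟨g, hg⟩ := MulAction.exists_smul_eq (X ⧸ K) R
    (P.mapSurjective (QuotientGroup.mk'_surjective K))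
  obtain ⟨m, rfl⟩ := QuotientGroup.mk'_surjective K g
  refine ⟨m, fun d hd => ?_⟩
  have h1 : QuotientGroup.mk' K d ∈ (R : Subgroup (X ⧸ K)) := hR ⟨d, hd, rfl⟩
  have h2 : QuotientGroup.mk' K m * QuotientGroup.mk' K d * (QuotientGroup.mk' K m)⁻¹ ∈
      ((P.mapSurjective (QuotientGroup.mk'_surjective K) : Sylow 2 (X ⧸ K)) : Subgroup (X ⧸ K)) := by
    rw [← hg, Sylow.coe_subgroup_smul]
    exact ⟨_, h1, rfl⟩
  rw [Sylow.coe_mapSurjective] at h2
  obtain ⟨s, hs, hs2⟩ := h2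
  refine ⟨s, hs, ?_⟩
  rw [← map_mul, ← map_inv, ← map_mul] at hs2
  exact QuotientGroup.eq.1 hs2

section

variable {X : Type*} [Group X]

theorem sq_of_mem_closure {a b : X} (ha : a * a = 1) (hb : b * b = 1) (hab : a * b = b * a) :
    ∀ x ∈ closure ({a, b} : Set X), x * x = 1 := by
  have key : ∀ x ∈ closure ({a, b} : Set X), x = 1 ∨ x = a ∨ x = b ∨ x = a * b := by
    intro x hx
    induction hx using Subgroup.closure_induction'' with
    | mem x hx =>
      rcases hx with rfl | rfl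
      · right; left; rfl
      · right; right; left; rfl
    | inv_mem x hx =>
      rcases hx with rfl | rfl
      · right; left; exact inv_eq_of_mul_eq_one_right ha
      · right; right; left; exact inv_eq_of_mul_eq_one_right hb
    | one => left; rfl
    | mul x y _ _ h1 h2 =>
      have h3 : b * a = a * b := hab.symm
      have h4 : ∀ c : X, a * (a * c) = c := fun c => by rw [← mul_assoc, ha, one_mul]
      have h5 : ∀ c : X, b * (b * c) = c := fun c => by rw [← mul_assoc, hb, one_mul]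
      have h6 : ∀ c : X, b * (a * c) = a * (b * c) := fun c => by rw [← mul_assoc, h3, mul_assoc]
      rcases h1 with rfl | rfl | rfl | rfl <;> rcases h2 with rfl | rfl | rfl | rfl <;>
        simp [ha, hb, h3, h4, h5, h6, mul_assoc]
  intro x hx
  have h3 : b * a = a * b := hab.symm
  have h4 : ∀ c : X, a * (a * c) = c := fun c => by rw [← mul_assoc, ha, one_mul]
  have h6 : ∀ c : X, b * (a * c) = a * (b * c) := fun c => by rw [← mul_assoc, h3, mul_assoc]
  rcases key x hx with rfl | rfl | rfl | rfl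
  · simp
  · exact ha
  · exact hb
  · simp [h6, hb, ha, mul_assoc]

end

section

variable {X W : Type*} [Group X] [AddCommGroup W] [DistribMulAction X W]

/-- `x` acts on `W / Z` as a transvection with centre `c` (or trivially). -/
def Tr (Z : AddSubgroup W) (x : X) (c : W) : Prop := ∀ v, x • v - v ∈ Z ∨ x • v - v - c ∈ Z

/-- the kernel of the action on `W / Z` -/
def ker (Z : AddSubgroup W) (hZ : ∀ (x : X), ∀ z ∈ Z, x • z ∈ Z) : Subgroup X where
  carrier := {x | ∀ v, x • v - v ∈ Z}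
  one_mem' := by
    intro v
    rw [one_smul, sub_self]; exact Z.zero_mem
  mul_mem' := by
    intro a b ha hb v
    have h1 : (a * b) • v - v = a • (b • v - v) + (a • v - v) := by
      rw [mul_smul, smul_sub]; abel
    rw [h1]
    exact Z.add_mem (hZ a _ (hb v)) (ha v)
  inv_mem' := by
    intro a ha v
    have h1 : a⁻¹ • v - v = -(a⁻¹ • (a • v - v)) := by
      rw [smul_sub, inv_smul_smul]; abel
    rw [h1]
    exact Z.neg_mem (hZ a⁻¹ _ (ha v))

theorem mem_ker {Z : AddSubgroup W} {hZ : ∀ (x : X), ∀ z ∈ Z, x • z ∈ Z} {x : X} :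
    x ∈ ker Z hZ ↔ ∀ v, x • v - v ∈ Z := Iff.rfl

theorem ker_normal (Z : AddSubgroup W) (hZ : ∀ (x : X), ∀ z ∈ Z, x • z ∈ Z) :
    (ker Z hZ).Normal := by
  refine ⟨fun x hx g v => ?_⟩
  have h1 : (g * x * g⁻¹) • v - v = g • (x • (g⁻¹ • v) - g⁻¹ • v) := by
    rw [smul_sub, smul_inv_smul, mul_smul, mul_smul]
  rw [h1]
  exact hZ g _ (hx _)

theorem Tr.conj {Z : AddSubgroup W} (hZ : ∀ (x : X), ∀ z ∈ Z, x • z ∈ Z) {x : X} {c : W}
    (h : Tr Z x c) (g : X) : Tr Z (g * x * g⁻¹) (g • c) := by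
  intro v
  have h1 : (g * x * g⁻¹) • v - v = g • (x • (g⁻¹ • v) - g⁻¹ • v) := by
    rw [smul_sub, smul_inv_smul, mul_smul, mul_smul]
  rcases h (g⁻¹ • v) with h2 | h2
  · left; rw [h1]; exact hZ g _ h2
  · right; rw [h1, ← smul_sub]; exact hZ g _ h2

/-- elements congruent modulo the kernel act in the same way -/
theorem congr_ker {Z : AddSubgroup W} (hZ : ∀ (x : X), ∀ z ∈ Z, x • z ∈ Z) {s x : X}
    (h : s⁻¹ * x ∈ ker Z hZ) (v : W) : s • v - x • v ∈ Z := by
  have h1 : s • v - x • v = -(s • ((s⁻¹ * x) • v - v)) := by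
    rw [smul_sub, mul_smul, smul_inv_smul]; abel
  rw [h1]
  exact Z.neg_mem (hZ s _ (h v))

theorem Tr.congr {Z : AddSubgroup W} (hZ : ∀ (x : X), ∀ z ∈ Z, x • z ∈ Z) {s x : X} {c : W}
    (h : s⁻¹ * x ∈ ker Z hZ) (hx : Tr Z x c) : Tr Z s c := by
  intro v
  have h1 := congr_ker hZ h v
  rcases hx v with h2 | h2
  · left
    have h3 : s • v - v = (s • v - x • v) + (x • v - v) := by abel
    rw [h3]; exact Z.add_mem h1 h2
  · right
    have h3 : s • v - v - c = (s • v - x • v) + (x • v - v - c) := by abel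
    rw [h3]; exact Z.add_mem h1 h2

/-- if `c` is the centre of the nontrivial transvection `x` then `x` fixes `c` modulo `Z`. -/
theorem Tr.fix {Z : AddSubgroup W} (hZ : ∀ (x : X), ∀ z ∈ Z, x • z ∈ Z) (hW : ∀ w : W, w + w = 0)
    {x : X} {c : W} (h : Tr Z x c) : x • c - c ∈ Z := by
  by_cases hc : c ∈ Z
  · exact Z.sub_mem (hZ x c hc) hc
  · rcases h c with h1 | h1
    · exact h1
    · exfalso
      apply hc
      have h2 : x • c - c - c = x • c := by
        have : c + c = 0 := hW c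
        have h3 : x • c - c - c = x • c - (c + c) := by abel
        rw [h3, this, sub_zero]
      rw [h2] at h1
      have h3 := hZ x⁻¹ _ h1
      rwa [inv_smul_smul] at h3

theorem neg_eq' (hW : ∀ w : W, w + w = 0) (w : W) : -w = w :=
  (eq_neg_of_add_eq_zero_left (hW w)).symm

theorem sub_eq' (hW : ∀ w : W, w + w = 0) (v w : W) : v - w = v + w := by
  rw [sub_eq_add_neg, neg_eq' hW]

/-- product of a transvection and an element fixing its centre -/
theorem Tr.mul_sub {Z : AddSubgroup W} (hZ : ∀ (x : X), ∀ z ∈ Z, x • z ∈ Z)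
    {x y : X} {d : W} (hy : Tr Z y d) (hxd : x • d - d ∈ Z) (v : W) :
    (x * y) • v - v - ((x • v - v) + (y • v - v)) ∈ Z := by
  have h1 : (x * y) • v - v - ((x • v - v) + (y • v - v)) = x • (y • v - v) - (y • v - v) := by
    rw [mul_smul, smul_sub]; abel
  rw [h1]
  rcases hy v with h2 | h2
  · exact Z.sub_mem (hZ x _ h2) h2
  · have h3 : x • (y • v - v) - (y • v - v)
        = (x • (y • v - v - d) - (y • v - v - d)) + (x • d - d) := by
      rw [smul_sub x (y • v - v) d]; abel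
    rw [h3]
    exact Z.add_mem (Z.sub_mem (hZ x _ h2) h2) hxd

/-- The subgroup generated by two transvections fixing each other's centre is a 2-group modulo
the kernel. -/
theorem isPGroup_of_tr {Z : AddSubgroup W} (hZ : ∀ (x : X), ∀ z ∈ Z, x • z ∈ Z)
    (hW : ∀ w : W, w + w = 0) {x y : X} {c d : W} (hx : Tr Z x c) (hy : Tr Z y d)
    (hxd : x • d - d ∈ Z) (hyc : y • c - c ∈ Z) :
    have := ker_normal Z hZ
    IsPGroup 2 ((closure ({x, y} : Set X)).map (QuotientGroup.mk' (ker Z hZ))) := by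
  intro hn
  have sq : ∀ {x : X} {c : W}, Tr Z x c → x * x ∈ ker Z hZ := by
    intro x c h v
    have h1 := Tr.mul_sub hZ h (Tr.fix hZ hW h) v
    have h2 : (x • v - v) + (x • v - v) = 0 := hW _
    rw [h2, sub_zero] at h1
    exact h1
  have hcomm : (x * y)⁻¹ * (y * x) ∈ ker Z hZ := by
    intro v
    have h1 := Tr.mul_sub hZ hy hxd v
    have h2 := Tr.mul_sub hZ hx hyc v
    have h3 : (y * x) • v - (x * y) • v ∈ Z := by
      have : (y * x) • v - (x * y) • v = ((y * x) • v - v - ((y • v - v) + (x • v - v)))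
          - ((x * y) • v - v - ((x • v - v) + (y • v - v))) := by abel
      rw [this]
      exact Z.sub_mem h2 h1
    have h4 : ((x * y)⁻¹ * (y * x)) • v - v = (x * y)⁻¹ • ((y * x) • v - (x * y) • v) := by
      rw [smul_sub, inv_smul_smul, ← mul_smul]
    rw [h4]
    exact hZ _ _ h3
  have h1 : (closure ({x, y} : Set X)).map (QuotientGroup.mk' (ker Z hZ))
      = closure ({QuotientGroup.mk' (ker Z hZ) x, QuotientGroup.mk' (ker Z hZ) y} : Set (X ⧸ ker Z hZ)) := by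
    rw [MonoidHom.map_closure, Set.image_pair]
  rw [h1]
  have ha : (QuotientGroup.mk' (ker Z hZ) x) * (QuotientGroup.mk' (ker Z hZ) x) = 1 := by
    rw [← map_mul]
    exact (QuotientGroup.eq_one_iff _).2 (sq hx)
  have hb : (QuotientGroup.mk' (ker Z hZ) y) * (QuotientGroup.mk' (ker Z hZ) y) = 1 := by
    rw [← map_mul]
    exact (QuotientGroup.eq_one_iff _).2 (sq hy)
  have hab : (QuotientGroup.mk' (ker Z hZ) x) * (QuotientGroup.mk' (ker Z hZ) y)
      = (QuotientGroup.mk' (ker Z hZ) y) * (QuotientGroup.mk' (ker Z hZ) x) := by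
    rw [← map_mul, ← map_mul]
    exact QuotientGroup.eq.2 hcomm
  have key := sq_of_mem_closure ha hb hab
  rintro ⟨w, hw⟩
  refine ⟨1, ?_⟩
  apply Subtype.ext
  show w ^ (2 ^ 1) = 1
  rw [pow_one, pow_two]
  exact key w hw

/-- **Common centre.** -/
theorem center_invariant [Finite X] (hW : ∀ w : W, w + w = 0) (Z : AddSubgroup W)
    (hZ : ∀ (x : X), ∀ z ∈ Z, x • z ∈ Z) (P : Sylow 2 X) (c : W)
    (h1 : ∀ s ∈ P, ∀ c', Tr Z s c' → (∃ v, s • v - v ∉ Z) → c' - c ∈ Z)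
    (h2 : ∀ w, ∃ θ ∈ P, Tr Z θ c ∧ (∃ v, θ • v - v ∉ Z) ∧ θ • w - w ∈ Z) (x : X) :
    x • c - c ∈ Z := by
  obtain ⟨θ, hθP, hθ, ⟨v, hv⟩, hθw⟩ := h2 (x • c)
  obtain ⟨θ₁, hθP₁, hθ₁, ⟨v₁, hv₁⟩, hθw₁⟩ := h2 (x⁻¹ • c)
  have hy : Tr Z (x * θ₁ * x⁻¹) (x • c) := hθ₁.conj hZ x
  have hyc : (x * θ₁ * x⁻¹) • c - c ∈ Z := by
    have h3 : (x * θ₁ * x⁻¹) • c - c = x • (θ₁ • (x⁻¹ • c) - x⁻¹ • c) := by
      rw [smul_sub, smul_inv_smul, mul_smul, mul_smul]
    rw [h3]; exact hZ x _ hθw₁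
  have hn := ker_normal Z hZ
  obtain ⟨m, hm⟩ := exists_mod P (ker Z hZ) _ (isPGroup_of_tr hZ hW hθ hy hθw hyc)
  have key : ∀ y : X, ∀ d : W, y ∈ closure ({θ, x * θ₁ * x⁻¹} : Set X) → Tr Z y d →
      (∃ v, y • v - v ∉ Z) → m • d - c ∈ Z := by
    intro y d hy hyd ⟨u, hu⟩
    obtain ⟨s, hs, hsK⟩ := hm y hy
    apply h1 s hs (m • d) ((hyd.conj hZ m).congr hZ hsK)
    refine ⟨m • u, fun h4 => hu ?_⟩
    have h5 := congr_ker hZ hsK (m • u)
    have h6 : (m * y * m⁻¹) • (m • u) - m • u = m • (y • u - u) := by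
      rw [smul_sub, mul_smul, mul_smul, inv_smul_smul]
    have h7 : m • (y • u - u) ∈ Z := by
      rw [← h6]
      have : (m * y * m⁻¹) • (m • u) - m • u = (s • (m • u) - m • u)
        - (s • (m • u) - (m * y * m⁻¹) • (m • u)) := by abel
      rw [this]
      exact Z.sub_mem h4 h5
    have h8 := hZ m⁻¹ _ h7
    rwa [inv_smul_smul] at h8
  have hA := key θ c (subset_closure (by simp)) hθ ⟨v, hv⟩
  have hB := key (x * θ₁ * x⁻¹) (x • c) (subset_closure (by simp)) hy ⟨x • v₁, by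
    intro h
    apply hv₁
    have h3 : (x * θ₁ * x⁻¹) • (x • v₁) - x • v₁ = x • (θ₁ • v₁ - v₁) := by
      rw [smul_sub, mul_smul, mul_smul, inv_smul_smul]
    rw [h3] at h
    have h4 := hZ x⁻¹ _ h
    rwa [inv_smul_smul] at h4⟩
  have hC : m • (x • c - c) ∈ Z := by
    have : m • (x • c - c) = (m • (x • c) - c) - (m • c - c) := by
      rw [smul_sub]; abel
    rw [this]
    exact Z.sub_mem hB hA
  have hD := hZ m⁻¹ _ hC
  rwa [inv_smul_smul] at hD

/-- **Common axis.** -/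
theorem axis_invariant [Finite X] (hW : ∀ w : W, w + w = 0) (Z : AddSubgroup W)
    (hZ : ∀ (x : X), ∀ z ∈ Z, x • z ∈ Z) (P : Sylow 2 X) (H : Set W)
    (h1 : ∀ s ∈ P, ∀ c', Tr Z s c' → (∃ v, s • v - v ∉ Z) → ∀ v, s • v - v ∈ Z ↔ v ∈ H)
    (h2 : ∀ x : X, ∃ θ ∈ P, ∃ c, Tr Z θ c ∧ (∃ v, θ • v - v ∉ Z) ∧ x • c ∈ H) (x : X) :
    ∀ v, v ∈ H ↔ x • v ∈ H := by
  obtain ⟨θ, hθP, c, hθ, ⟨v, hv⟩, hθw⟩ := h2 x⁻¹
  obtain ⟨θ₁, hθP₁, c₁, hθ₁, ⟨v₁, hv₁⟩, hθw₁⟩ := h2 x
  have hθH := h1 θ hθP c hθ ⟨v, hv⟩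
  have hθ₁H := h1 θ₁ hθP₁ c₁ hθ₁ ⟨v₁, hv₁⟩
  have hy : Tr Z (x * θ₁ * x⁻¹) (x • c₁) := hθ₁.conj hZ x
  have hyc : (x * θ₁ * x⁻¹) • c - c ∈ Z := by
    have h3 : (x * θ₁ * x⁻¹) • c - c = x • (θ₁ • (x⁻¹ • c) - x⁻¹ • c) := by
      rw [smul_sub, smul_inv_smul, mul_smul, mul_smul]
    rw [h3]; exact hZ x _ ((hθ₁H _).2 hθw)
  have hxd : θ • (x • c₁) - x • c₁ ∈ Z := (hθH _).2 hθw₁
  have hn := ker_normal Z hZ
  obtain ⟨m, hm⟩ := exists_mod P (ker Z hZ) _ (isPGroup_of_tr hZ hW hθ hy hxd hyc)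
  -- the axis of a transvection `y` in the closure is mapped by `m` to `H`
  have key : ∀ y : X, ∀ d : W, y ∈ closure ({θ, x * θ₁ * x⁻¹} : Set X) → Tr Z y d →
      (∃ v, y • v - v ∉ Z) → ∀ u, y • u - u ∈ Z ↔ m • u ∈ H := by
    intro y d hy hyd ⟨w, hw⟩ u
    obtain ⟨s, hs, hsK⟩ := hm y hy
    have h5 : ∀ u, s • (m • u) - m • u ∈ Z ↔ y • u - u ∈ Z := by
      intro u
      have h5 := congr_ker hZ hsK (m • u)
      have h6 : (m * y * m⁻¹) • (m • u) - m • u = m • (y • u - u) := by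
        rw [smul_sub, mul_smul, mul_smul, inv_smul_smul]
      constructor
      · intro h4
        have h7 : m • (y • u - u) ∈ Z := by
          rw [← h6]
          have : (m * y * m⁻¹) • (m • u) - m • u = (s • (m • u) - m • u)
            - (s • (m • u) - (m * y * m⁻¹) • (m • u)) := by abel
          rw [this]
          exact Z.sub_mem h4 h5
        have h8 := hZ m⁻¹ _ h7
        rwa [inv_smul_smul] at h8
      · intro h4
        have h7 := hZ m _ h4
        rw [← h6] at h7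
        have : s • (m • u) - m • u = (s • (m • u) - (m * y * m⁻¹) • (m • u))
          + ((m * y * m⁻¹) • (m • u) - m • u) := by abel
        rw [this]
        exact Z.add_mem h5 h7
    rw [← h5 u]
    exact h1 s hs (m • d) ((hyd.conj hZ m).congr hZ hsK) ⟨m • w, fun h => hw ((h5 w).1 h)⟩ _
  have hA := key θ c (subset_closure (by simp)) hθ ⟨v, hv⟩
  have hB := key (x * θ₁ * x⁻¹) (x • c₁) (subset_closure (by simp)) hy ⟨x • v₁, by
    intro h
    apply hv₁
    have h3 : (x * θ₁ * x⁻¹) • (x • v₁) - x • v₁ = x • (θ₁ • v₁ - v₁) := by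
      rw [smul_sub, mul_smul, mul_smul, inv_smul_smul]
    rw [h3] at h
    have h4 := hZ x⁻¹ _ h
    rwa [inv_smul_smul] at h4⟩
  intro u
  -- `u ∈ H ↔ θ₁ • u - u ∈ Z ↔ (x θ₁ x⁻¹)(x u) - x u ∈ Z ↔ m x u ∈ H ↔ θ (x u) - x u ∈ Z ↔ x u ∈ H`
  have h3 : (x * θ₁ * x⁻¹) • (x • u) - x • u ∈ Z ↔ θ₁ • u - u ∈ Z := by
    have h4 : (x * θ₁ * x⁻¹) • (x • u) - x • u = x • (θ₁ • u - u) := by
      rw [smul_sub, mul_smul, mul_smul, inv_smul_smul]
    rw [h4]
    constructor
    · intro h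
      have h5 := hZ x⁻¹ _ h
      rwa [inv_smul_smul] at h5
    · intro h
      exact hZ x _ h
  rw [← hθ₁H u, ← h3, hB (x • u), ← hA (x • u), hθH]

end

end Cfsg.Agent.SylowL5.Transv
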