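import Mathlib
import Cfsg.Agent.SylowL5.Elem
import Cfsg.Agent.SylowL5.Weak
import Cfsg.Agent.SylowL5.Transv

/-!
# Tools: generators of coordinate subgroups, transvection lemmas for subgroups of `G`
-/

set_option autoImplicit false

namespace Cfsg.Agent.SylowL5.Tools

open Subgroup
open Cfsg.Agent.SignalizersComponents.RelSylow
open Cfsg.Agent.SylowL5.Setup Cfsg.Agent.SylowL5.Calc Cfsg.Agent.SylowL5.Weak
  Cfsg.Agent.SylowL5.Elem

/-- the coordinate subgroup `K` is generated by its root elements -/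
def genK (K : ℕ) : Bool :=
  allb 1024 fun a => !(sb a K) || Nat.beq a 0 || anyb 10 fun k => tb K k &&
    force (Nat.pow 2 k) fun g => force (mu a g) fun b => Nat.blt b a && sb b K && Nat.beq (mu b g) a

section

variable {G : Type*} [Group G] {S : Subgroup G} {u : ℕ → G}

theorem two_pow_lt {k : ℕ} (hk : k < 10) : 2 ^ k < 1024 := by
  calc 2 ^ k < 2 ^ 10 := Nat.pow_lt_pow_right (by norm_num) hk
    _ = 1024 := by norm_num

theorem sb_pow {K k : ℕ} (hk : tb K k = true) : sb (2 ^ k) K = true := by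
  rw [sb_iff]
  intro j hj
  rw [Nat.testBit_two_pow] at hj
  simp only [decide_eq_true_eq] at hj
  subst hj
  unfold tb at hk
  rw [Nat.beq_eq] at hk
  have h3 := testBit_bt K k 0
  rw [hk] at h3
  simpa using h3.symm

theorem le_of_gens (h : Emb S u) {K : ℕ} (hK : closedK K = true) (hg : genK K = true)
    {V : Subgroup G} (hV : ∀ k, k < 10 → tb K k = true → u (2 ^ k) ∈ V) : CS u K ≤ V := by
  have key : ∀ a, a < 1024 → sb a K = true → u a ∈ V := by
    intro a
    induction a using Nat.strong_induction_on with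
    | _ a ih =>
      intro ha haK
      have h1 := of_allb hg a ha
      simp only [haK, Bool.not_true, Bool.false_or, Bool.or_eq_true, Nat.beq_eq] at h1
      rcases h1 with h1 | h1
      · rw [h1, h.zero]; exact V.one_mem
      · obtain ⟨k, hk, h2⟩ := of_anyb h1
        simp only [force_eq, Bool.and_eq_true, Nat.blt_eq, Nat.beq_eq] at h2
        obtain ⟨h2, ⟨h3, h4⟩, h5⟩ := h2
        have h6 := ih _ h3 (by omega) h4
        have h7 : u (mu (mu a (Nat.pow 2 k)) (Nat.pow 2 k)) = u (mu a (Nat.pow 2 k)) * u (2 ^ k) :=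
          h.mul (mu_lt ha (two_pow_lt hk)) (two_pow_lt hk)
        rw [← h5, h7]
        exact V.mul_mem h6 (hV k hk h2)
  intro g hgK
  obtain ⟨a, ha, haK, rfl⟩ := (h.mem_CS hK).1 hgK
  exact key a ha (sb_iff.2 haK)

theorem closed_1023 : closedK 1023 = true := by decide

theorem S_eq (h : Emb S u) : S = CS u 1023 := by
  apply le_antisymm
  · intro g hg
    obtain ⟨a, ha, rfl⟩ := h.surj g hg
    rw [u_mem_CS h closed_1023 ha]
    exact of_allb (P := fun a => sb a 1023) (N := 1024) (by decide +kernel) a ha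
  · exact h.CS_le _

/-- `x` conjugates the coordinate subgroup `K` into `V` -/
theorem conj_of_gens (h : Emb S u) {K : ℕ} (hK : closedK K = true) (hg : genK K = true)
    {V : Subgroup G} {x : G} (hV : ∀ k, k < 10 → tb K k = true → x * u (2 ^ k) * x⁻¹ ∈ V) :
    ∀ y ∈ CS u K, x * y * x⁻¹ ∈ V := by
  have h1 : CS u K ≤ V.comap (MulAut.conj x).toMonoidHom := le_of_gens h hK hg hV
  exact fun y hy => h1 hy

theorem mem_normalizer_of_gens [Finite G] (h : Emb S u) {K : ℕ} (hK : closedK K = true)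
    (hg : genK K = true) {x : G}
    (hV : ∀ k, k < 10 → tb K k = true → x * u (2 ^ k) * x⁻¹ ∈ CS u K) :
    x ∈ normalizer (CS u K : Set G) := by
  rw [← cj_eq_iff]
  exact cj_eq_of_le (cj_le_iff.2 (conj_of_gens h hK hg hV)) le_rfl

/-- the root elements of `R` normalise `K` -/
def normc (R K : ℕ) : Bool := allb 10 fun j => !(tb R j) || allb 10 fun k => !(tb K k) ||
  sb (cc (Nat.pow 2 j) (Nat.pow 2 k)) K

theorem normalizes_of [Finite G] (h : Emb S u) {R K : ℕ} (hR : closedK R = true)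
    (hgR : genK R = true) (hK : closedK K = true) (hgK : genK K = true) (hn : normc R K = true) :
    CS u R ≤ normalizer (CS u K : Set G) := by
  apply le_of_gens h hR hgR
  intro j hj hjR
  apply mem_normalizer_of_gens h hK hgK
  intro k hk hkK
  have h1 := of_allb hn j hj
  simp only [hjR, Bool.not_true, Bool.false_or] at h1
  have h2 := of_allb h1 k hk
  simp only [hkK, Bool.not_true, Bool.false_or] at h2
  have h3 := (u_mem_CS h hK (cc_lt (two_pow_lt hj) (two_pow_lt hk))).2 h2
  rwa [cc_u h (two_pow_lt hj) (two_pow_lt hk)] at h3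

theorem S_normalizes [Finite G] (h : Emb S u) {K : ℕ}
    (hK : closedK K = true) (hgK : genK K = true) (hn : normc 1023 K = true) :
    S ≤ normalizer (CS u K : Set G) := by
  calc S = CS u 1023 := S_eq h
    _ ≤ _ := normalizes_of h closed_1023 (by decide +kernel) hK hgK hn

/-- commutators with `x` -/
theorem comm_of_gens (h : Emb S u) {K : ℕ} (hK : closedK K = true) (hg : genK K = true)
    {V : Subgroup G} (hVn : CS u K ≤ normalizer (V : Set G)) {x : G}
    (hV : ∀ k, k < 10 → tb K k = true → x * u (2 ^ k) * x⁻¹ * (u (2 ^ k))⁻¹ ∈ V) :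
    ∀ y ∈ CS u K, x * y * x⁻¹ * y⁻¹ ∈ V := by
  let W : Subgroup G :=
    { carrier := {y | y ∈ normalizer (V : Set G) ∧ x * y * x⁻¹ * y⁻¹ ∈ V}
      one_mem' := ⟨one_mem _, by simp⟩
      mul_mem' := by
        rintro a b ⟨ha, ha'⟩ ⟨hb, hb'⟩
        refine ⟨mul_mem ha hb, ?_⟩
        have h1 : x * (a * b) * x⁻¹ * (a * b)⁻¹ = x * a * x⁻¹ * a⁻¹ * (a * (x * b * x⁻¹ * b⁻¹) * a⁻¹) := by
          group
        rw [h1]
        exact V.mul_mem ha' ((Subgroup.mem_normalizer_iff.1 ha _).1 hb')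
      inv_mem' := by
        rintro a ⟨ha, ha'⟩
        refine ⟨inv_mem ha, ?_⟩
        have h1 : x * a⁻¹ * x⁻¹ * a⁻¹⁻¹ = a⁻¹ * (x * a * x⁻¹ * a⁻¹)⁻¹ * a⁻¹⁻¹ := by group
        rw [h1]
        exact (Subgroup.mem_normalizer_iff.1 (inv_mem ha) _).1 (V.inv_mem ha') }
  have h1 : CS u K ≤ W := by
    apply le_of_gens h hK hg
    intro k hk hkK
    refine ⟨hVn ?_, hV k hk hkK⟩
    rw [u_mem_CS h hK (two_pow_lt hk)]
    exact sb_pow hkK
  exact fun y hy => (h1 hy).2

end

end Cfsg.Agent.SylowL5.Tools
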