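import Mathlib
import Cfsg.Agent.SylowL5.Weak
import Cfsg.Agent.SylowL5.Transv

/-!
# The transvection lemmas for subgroups of `G` acting by conjugation
-/

set_option autoImplicit false

namespace Cfsg.Agent.SylowL5.TransvG

open Subgroup
open Cfsg.Agent.SignalizersComponents.RelSylow
open Cfsg.Agent.SylowL5.Transv

variable {G : Type*} [Group G]

/-- the abelian subgroup `V` as a commutative group -/
abbrev commGroup (V : Subgroup G) (hc : ∀ x ∈ V, ∀ y ∈ V, x * y = y * x) : CommGroup V :=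
  { (inferInstance : Group V) with mul_comm := fun a b => Subtype.ext (hc a a.2 b b.2) }

/-- conjugation action on the additive version of `V` -/
abbrev conjAct (N V : Subgroup G) (hc : ∀ x ∈ V, ∀ y ∈ V, x * y = y * x)
    (hN : ∀ n ∈ N, ∀ v ∈ V, n * v * n⁻¹ ∈ V) :
    letI := commGroup V hc
    DistribMulAction N (Additive V) :=
  letI := commGroup V hc
  { smul := fun n w => Additive.ofMul ⟨n * (Additive.toMul w : V) * (n : G)⁻¹,
      hN n n.2 _ (Additive.toMul w).2⟩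
    one_smul := fun w => by
      apply Subtype.ext
      show ((1 : N) : G) * (Additive.toMul w : V) * ((1 : N) : G)⁻¹ = (Additive.toMul w : V)
      simp
    mul_smul := fun a b w => by
      apply Subtype.ext
      show ((a * b : N) : G) * (Additive.toMul w : V) * ((a * b : N) : G)⁻¹
        = a * (b * (Additive.toMul w : V) * (b : G)⁻¹) * (a : G)⁻¹
      rw [Subgroup.coe_mul]; group
    smul_zero := fun a => by
      apply Subtype.ext
      show (a : G) * ((1 : V) : G) * (a : G)⁻¹ = 1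
      simp
    smul_add := fun a v w => by
      apply Subtype.ext
      show (a : G) * (((Additive.toMul v : V) : G) * ((Additive.toMul w : V) : G)) * (a : G)⁻¹
        = (a * (Additive.toMul v : V) * (a : G)⁻¹) * (a * (Additive.toMul w : V) * (a : G)⁻¹)
      group }

section
variable {N V Z P : Subgroup G}

/-- `x` acts on `V / Z` as a transvection with centre `c` -/
def TrG (V Z : Subgroup G) (x c : G) : Prop :=
  ∀ v ∈ V, x * v * x⁻¹ * v⁻¹ ∈ Z ∨ x * v * x⁻¹ * v⁻¹ * c⁻¹ ∈ Z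

theorem center_inv [Finite G] (hP : IsMaxP 2 N P) (h2 : ∀ v ∈ V, v * v = 1)
    (hc : ∀ x ∈ V, ∀ y ∈ V, x * y = y * x)
    (hN : ∀ n ∈ N, ∀ v ∈ V, n * v * n⁻¹ ∈ V) (hZ : ∀ n ∈ N, ∀ v ∈ Z, n * v * n⁻¹ ∈ Z)
    {c : G} (hcV : c ∈ V)
    (H1 : ∀ s ∈ P, ∀ c' ∈ V, TrG V Z s c' → (∃ v ∈ V, s * v * s⁻¹ * v⁻¹ ∉ Z) → c' * c⁻¹ ∈ Z)
    (H2 : ∀ w ∈ V, ∃ θ ∈ P, TrG V Z θ c ∧ (∃ v ∈ V, θ * v * θ⁻¹ * v⁻¹ ∉ Z) ∧
      θ * w * θ⁻¹ * w⁻¹ ∈ Z) {x : G} (hx : x ∈ N) : x * c * x⁻¹ * c⁻¹ ∈ Z := by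
  let _ := commGroup V hc
  let _ := conjAct N V hc hN
  let Z' : AddSubgroup (Additive V) := (Z.subgroupOf V).toAddSubgroup
  have hW : ∀ w : Additive V, w + w = 0 := fun w => Subtype.ext (h2 _ (Additive.toMul w).2)
  have hs1 : ∀ v w : Additive V, v - w ∈ Z' ↔
      ((Additive.toMul v : V) : G) * ((Additive.toMul w : V) : G)⁻¹ ∈ Z := by
    intro v w
    show ((Additive.toMul v : V) : G) / ((Additive.toMul w : V) : G) ∈ Z ↔ _
    rw [div_eq_mul_inv]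
  have hs2 : ∀ u v w : Additive V, u - v - w ∈ Z' ↔
      ((Additive.toMul u : V) : G) * ((Additive.toMul v : V) : G)⁻¹ *
        ((Additive.toMul w : V) : G)⁻¹ ∈ Z := by
    intro u v w
    show (((Additive.toMul u : V) : G) / ((Additive.toMul v : V) : G)) /
      ((Additive.toMul w : V) : G) ∈ Z ↔ _
    rw [div_eq_mul_inv, div_eq_mul_inv]
  have hP' : ∀ s : N, s ∈ hP.toSylow ↔ (s : G) ∈ P := by
    intro s
    show s ∈ (hP.toSylow : Subgroup N) ↔ _
    rw [hP.coe_toSylow]; rfl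
  have key := center_invariant (X := N) (W := Additive V) hW Z'
    (fun x z hz => hZ x x.2 _ hz) hP.toSylow (Additive.ofMul ⟨c, hcV⟩) (by
      intro s hs c' hTr hv
      obtain ⟨v, hv⟩ := hv
      have h3 := H1 s ((hP' s).1 hs) (Additive.toMul c' : V) (Additive.toMul c').2 (by
        intro v hv
        rcases hTr (Additive.ofMul ⟨v, hv⟩) with h4 | h4
        · left; exact (hs1 _ _).1 h4
        · right; exact (hs2 _ _ _).1 h4)
        ⟨(Additive.toMul v : V), (Additive.toMul v).2, fun h => hv ((hs1 _ _).2 h)⟩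
      exact (hs1 _ _).2 h3) (by
      intro w
      obtain ⟨θ, hθ, hT, ⟨v, hvV, hv⟩, hw⟩ := H2 (Additive.toMul w : V) (Additive.toMul w).2
      refine ⟨⟨θ, hP.2.1 hθ⟩, (hP' _).2 hθ, ?_,
        ⟨Additive.ofMul ⟨v, hvV⟩, fun h => hv ((hs1 _ _).1 h)⟩, (hs1 _ _).2 hw⟩
      intro v
      rcases hT (Additive.toMul v : V) (Additive.toMul v).2 with h4 | h4
      · left; exact (hs1 _ _).2 h4
      · right; exact (hs2 _ _ _).2 h4) ⟨x, hx⟩
  exact (hs1 _ _).1 key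

theorem axis_inv [Finite G] (hP : IsMaxP 2 N P) (h2 : ∀ v ∈ V, v * v = 1)
    (hc : ∀ x ∈ V, ∀ y ∈ V, x * y = y * x)
    (hN : ∀ n ∈ N, ∀ v ∈ V, n * v * n⁻¹ ∈ V) (hZ : ∀ n ∈ N, ∀ v ∈ Z, n * v * n⁻¹ ∈ Z)
    {H : Subgroup G}
    (H1 : ∀ s ∈ P, ∀ c' ∈ V, TrG V Z s c' → (∃ v ∈ V, s * v * s⁻¹ * v⁻¹ ∉ Z) →
      ∀ v ∈ V, s * v * s⁻¹ * v⁻¹ ∈ Z ↔ v ∈ H)
    (H2 : ∀ x ∈ N, ∃ θ ∈ P, ∃ c ∈ V, TrG V Z θ c ∧ (∃ v ∈ V, θ * v * θ⁻¹ * v⁻¹ ∉ Z) ∧
      x * c * x⁻¹ ∈ H) {x : G} (hx : x ∈ N) : ∀ v ∈ V, v ∈ H ↔ x * v * x⁻¹ ∈ H := by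
  let _ := commGroup V hc
  let _ := conjAct N V hc hN
  let Z' : AddSubgroup (Additive V) := (Z.subgroupOf V).toAddSubgroup
  have hW : ∀ w : Additive V, w + w = 0 := fun w => Subtype.ext (h2 _ (Additive.toMul w).2)
  have hs1 : ∀ v w : Additive V, v - w ∈ Z' ↔
      ((Additive.toMul v : V) : G) * ((Additive.toMul w : V) : G)⁻¹ ∈ Z := by
    intro v w
    show ((Additive.toMul v : V) : G) / ((Additive.toMul w : V) : G) ∈ Z ↔ _
    rw [div_eq_mul_inv]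
  have hs2 : ∀ u v w : Additive V, u - v - w ∈ Z' ↔
      ((Additive.toMul u : V) : G) * ((Additive.toMul v : V) : G)⁻¹ *
        ((Additive.toMul w : V) : G)⁻¹ ∈ Z := by
    intro u v w
    show (((Additive.toMul u : V) : G) / ((Additive.toMul v : V) : G)) /
      ((Additive.toMul w : V) : G) ∈ Z ↔ _
    rw [div_eq_mul_inv, div_eq_mul_inv]
  have hP' : ∀ s : N, s ∈ hP.toSylow ↔ (s : G) ∈ P := by
    intro s
    show s ∈ (hP.toSylow : Subgroup N) ↔ _
    rw [hP.coe_toSylow]; rfl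
  have key := axis_invariant (X := N) (W := Additive V) hW Z'
    (fun x z hz => hZ x x.2 _ hz) hP.toSylow {w | ((Additive.toMul w : V) : G) ∈ H} (by
      intro s hs c' hTr hv v
      obtain ⟨v', hv'⟩ := hv
      rw [hs1]
      exact H1 s ((hP' s).1 hs) (Additive.toMul c' : V) (Additive.toMul c').2 (by
        intro v hv
        rcases hTr (Additive.ofMul ⟨v, hv⟩) with h4 | h4
        · left; exact (hs1 _ _).1 h4
        · right; exact (hs2 _ _ _).1 h4)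
        ⟨(Additive.toMul v' : V), (Additive.toMul v').2, fun h => hv' ((hs1 _ _).2 h)⟩
        (Additive.toMul v : V) (Additive.toMul v).2) (by
      intro x
      obtain ⟨θ, hθ, c, hcV, hT, ⟨v, hvV, hv⟩, hw⟩ := H2 x x.2
      refine ⟨⟨θ, hP.2.1 hθ⟩, (hP' _).2 hθ, Additive.ofMul ⟨c, hcV⟩, ?_,
        ⟨Additive.ofMul ⟨v, hvV⟩, fun h => hv ((hs1 _ _).1 h)⟩, hw⟩
      intro v
      rcases hT (Additive.toMul v : V) (Additive.toMul v).2 with h4 | h4
      · left; exact (hs1 _ _).2 h4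
      · right; exact (hs2 _ _ _).2 h4) ⟨x, hx⟩
  intro v hv
  exact key (Additive.ofMul ⟨v, hv⟩)

end

end Cfsg.Agent.SylowL5.TransvG
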