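import Mathlib
import Cfsg.Agent.SylowL5.Tools
import Cfsg.Agent.SylowL5.TransvG

/-!
# Weak closure of `A1`, `A2` and `Q`
-/

set_option autoImplicit false

namespace Cfsg.Agent.SylowL5.WC

open Subgroup
open Cfsg.Agent.SignalizersComponents.RelSylow
open Cfsg.Agent.SylowL5.Setup Cfsg.Agent.SylowL5.Calc Cfsg.Agent.SylowL5.Weak
  Cfsg.Agent.SylowL5.Elem Cfsg.Agent.SylowL5.Tools

variable {G : Type*} [Group G]

/-- a 2-element normalising a maximal 2-subgroup lies in it -/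
theorem mem_of_norm [Finite G] {M R : Subgroup G} (hR : IsMaxP 2 M R) {x : G} (hx : x ∈ M)
    (hxR : cj x R = R) {k : ℕ} (hk : x ^ (2 ^ k) = 1) : x ∈ R := by
  have f2 : Fact (Nat.Prime 2) := ⟨Nat.prime_two⟩
  have h1 : IsPGroup 2 (zpowers x) := by
    intro y
    obtain ⟨n, hn⟩ := Subgroup.mem_zpowers_iff.1 y.2
    refine ⟨k, Subtype.ext ?_⟩
    show (y : G) ^ (2 ^ k) = 1
    rw [← hn, ← zpow_natCast, ← zpow_mul, mul_comm, zpow_mul, zpow_natCast, hk, one_zpow]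
  have h2 : zpowers x ≤ normalizer (R : Set G) := by
    rw [zpowers_le]
    exact cj_eq_iff.1 hxR
  have h3 : IsPGroup 2 (zpowers x ⊔ R : Subgroup G) := h1.to_sup_of_normal_right' hR.1 h2
  exact hR.2.2 _ h3 (sup_le (by rwa [zpowers_le]) hR.2.1) le_sup_right
    (mem_sup_left (mem_zpowers x))

/-- odd-order elements: if `x ^ 2` normalises `A` and `x` has odd order then `x` normalises `A`;
more generally for any subgroup. -/
theorem mem_of_sq_mem {H : Subgroup G} {x : G} (hx : Odd (orderOf x)) (h2 : x ^ 2 ∈ H) :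
    x ∈ H := by
  obtain ⟨m, hm⟩ := hx
  have h3 : x = (x ^ 2) ^ (m + 1) := by
    rw [← pow_mul]
    have : 2 * (m + 1) = orderOf x + 1 := by omega
    rw [this, pow_succ, pow_orderOf_eq_one, one_mul]
  rw [h3]
  exact H.pow_mem h2 _

/-- the odd part of an element: some power with odd order; the complementary power is a
`2`-element -/
theorem exists_odd_pow [Finite G] (x : G) : ∃ m k : ℕ, Odd m ∧ (x ^ m) ^ (2 ^ k) = 1 := by
  have h0 : orderOf x ≠ 0 := (orderOf_pos x).ne'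
  obtain ⟨k, m, hm, hk⟩ := Nat.exists_eq_two_pow_mul_odd h0
  refine ⟨m, k, hm, ?_⟩
  rw [← pow_mul, mul_comm, ← hk, pow_orderOf_eq_one]

section
variable {S : Sylow 2 G} {u : ℕ → G}

theorem sqA1 {S : Subgroup G} (h : Emb S u) : ∀ x ∈ CS u kA1, x * x = 1 := by
  intro x hx
  obtain ⟨a, ha, haK, rfl⟩ := (h.mem_CS closed_kA1).1 hx
  have h1 := of_allb (P := fun a => !(sb a kA1) || Nat.beq (mu a a) 0) (N := 1024)
    (by decide +kernel) a ha
  rw [sb_iff.2 haK] at h1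
  simp only [Bool.not_true, Bool.false_or, Nat.beq_eq] at h1
  rw [← h.mul ha ha, h1, h.zero]

theorem sqA2 {S : Subgroup G} (h : Emb S u) : ∀ x ∈ CS u kA2, x * x = 1 := by
  rw [← CS_du_A1 h]; exact sqA1 (emb_du h)

theorem commA1 {S : Subgroup G} (h : Emb S u) : ∀ x ∈ CS u kA1, ∀ y ∈ CS u kA1, x * y = y * x :=
  comm_of_sq (sqA1 h)

theorem commA2 {S : Subgroup G} (h : Emb S u) : ∀ x ∈ CS u kA2, ∀ y ∈ CS u kA2, x * y = y * x :=
  comm_of_sq (sqA2 h)

theorem S_norm_A1 {S : Subgroup G} [Finite G] (h : Emb S u) :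
    S ≤ normalizer (CS u kA1 : Set G) :=
  S_normalizes h closed_kA1 (by decide +kernel) (by decide +kernel)

theorem S_norm_A2 {S : Subgroup G} [Finite G] (h : Emb S u) :
    S ≤ normalizer (CS u kA2 : Set G) :=
  S_normalizes h closed_kA2 (by decide +kernel) (by decide +kernel)

theorem S_norm_Q {S : Subgroup G} [Finite G] (h : Emb S u) :
    S ≤ normalizer (CS u kQ : Set G) :=
  S_normalizes h closed_kQ (by decide +kernel) (by decide +kernel)

theorem sq_cj {A : Subgroup G} (hA : ∀ x ∈ A, x * x = 1) (g : G) : ∀ x ∈ cj g A, x * x = 1 := by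
  rintro _ ⟨x, hx, rfl⟩
  show g * x * g⁻¹ * (g * x * g⁻¹) = 1
  have : g * x * g⁻¹ * (g * x * g⁻¹) = g * (x * x) * g⁻¹ := by group
  rw [this, hA x hx]; group

theorem A1_ne_A2 {S : Subgroup G} (h : Emb S u) : CS u kA1 ≠ CS u kA2 := by
  intro h1
  have h2 : u 2 ∈ CS u kA1 := (u_mem_CS h closed_kA1 (by norm_num)).2 (by decide)
  rw [h1, u_mem_CS h closed_kA2 (by norm_num)] at h2
  exact absurd h2 (by decide)

variable [Finite G]

/-- no element fuses `A1` to `A2` -/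
theorem cj_A1_ne (h : Emb (S : Subgroup G) u) (g : G) : cj g (CS u kA1) ≠ CS u kA2 := by
  have f2 : Fact (Nat.Prime 2) := ⟨Nat.prime_two⟩
  intro hg
  -- two Sylow subgroups of the normalizer of `A1`
  have hS1 : IsMaxP 2 (normalizer (CS u kA1 : Set G)) (S : Subgroup G) :=
    isMaxP_of_le S (S_norm_A1 h)
  have hS2 : cj g⁻¹ (S : Subgroup G) ≤ normalizer (CS u kA1 : Set G) := by
    rw [cj_le_iff]
    intro s hs
    rw [← cj_eq_iff, cj_mul, cj_mul, inv_inv, hg, cj_eq_iff.2 (S_norm_A2 h hs), ← hg, cj_inv_cj]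
  obtain ⟨c, hc, hcR⟩ := hS1.exists_conj_le (isPGroup_cj (g := g⁻¹) hS1.1) hS2
  have hy : cj (c * g⁻¹) (S : Subgroup G) = S := by
    rw [cj_mul]
    exact cj_eq_of_le hcR (by rw [card_cj])
  set y := c * g⁻¹ with hydef
  have hy2 : cj y (CS u kA2) = CS u kA1 := by
    rw [hydef, cj_mul, ← hg, cj_inv_cj, cj_eq_iff.2 hc]
  have hy1 : cj y (CS u kA1) = CS u kA2 := by
    rcases eq_of_card_64 h (cj y (CS u kA1)) (by
        calc cj y (CS u kA1) ≤ cj y (S : Subgroup G) := cj_mono (h.CS_le _)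
          _ = S := hy) (sq_cj (sqA1 h) y) ((card_cj _ _).trans (card_A1 h)) with h3 | h3
    · exact absurd (cj_inj (h3.trans hy2.symm)) (A1_ne_A2 h)
    · exact h3
  -- odd powers swap
  have key : ∀ m : ℕ, cj (y ^ (2 * m)) (CS u kA1) = CS u kA1 ∧
      cj (y ^ (2 * m + 1)) (CS u kA1) = CS u kA2 := by
    intro m
    induction m with
    | zero =>
      refine ⟨by rw [mul_zero, pow_zero, cj_one], by rw [mul_zero, zero_add, pow_one, hy1]⟩
    | succ m ih =>
      have h3 : cj (y ^ (2 * (m + 1))) (CS u kA1) = CS u kA1 := by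
        have : 2 * (m + 1) = (2 * m + 1) + 1 := by ring
        rw [this, pow_succ', cj_mul, ih.2, hy2]
      refine ⟨h3, ?_⟩
      rw [pow_succ', cj_mul, h3, hy1]
  obtain ⟨m, k, ⟨j, hj⟩, hk⟩ := exists_odd_pow y
  have hyS : ∀ n : ℕ, cj (y ^ n) (S : Subgroup G) = S := by
    intro n
    induction n with
    | zero => rw [pow_zero, cj_one]
    | succ n ih => rw [pow_succ', cj_mul, ih, hy]
  have h5 : y ^ m ∈ (S : Subgroup G) := mem_of_norm (isMaxP_sylow S) (mem_top _) (hyS m) hk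
  have h6 := cj_eq_iff.2 (S_norm_A1 h h5)
  rw [hj, (key j).2] at h6
  exact A1_ne_A2 h h6.symm

theorem wA1 (h : Emb (S : Subgroup G) u) : WeakCl ⊤ (CS u kA1) (S : Subgroup G) := by
  refine ⟨h.CS_le _, fun g _ hg => ?_⟩
  rcases eq_of_card_64 h (cj g (CS u kA1)) hg (sq_cj (sqA1 h) g)
    ((card_cj _ _).trans (card_A1 h)) with h3 | h3
  · exact h3
  · exact absurd h3 (cj_A1_ne h g)

theorem wA2 (h : Emb (S : Subgroup G) u) : WeakCl ⊤ (CS u kA2) (S : Subgroup G) := by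
  rw [← CS_du_A1 h]
  exact wA1 (emb_du h)

omit [Finite G] in
theorem Z_central (h : Emb (S : Subgroup G) u) {g : G} (hg : g * u 512 = u 512 * g) :
    ∀ x ∈ CS u 512, g * x * g⁻¹ = x := by
  intro x hx
  obtain ⟨a, ha, haK, rfl⟩ := (h.mem_CS (by decide)).1 hx
  have h1 := of_allb (P := fun a => !(sb a 512) || Nat.beq a 0 || Nat.beq a 512) (N := 1024)
    (by decide +kernel) a ha
  rw [sb_iff.2 haK] at h1
  simp only [Bool.not_true, Bool.false_or, Bool.or_eq_true, Nat.beq_eq] at h1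
  rcases h1 with rfl | rfl
  · rw [h.zero]; group
  · rw [hg]; group

theorem wQ (h : Emb (S : Subgroup G) u) :
    WeakCl (centralizer {u 512}) (CS u kQ) (S : Subgroup G) := by
  have hZsq : ∀ x ∈ CS u kQ, x * x ∈ CS u 512 := by
    intro x hx
    obtain ⟨a, ha, haK, rfl⟩ := (h.mem_CS closed_kQ).1 hx
    have h1 := of_allb (P := fun a => !(sb a kQ) || sb (mu a a) 512) (N := 1024)
      (by decide +kernel) a ha
    rw [sb_iff.2 haK] at h1
    rw [← h.mul ha ha, u_mem_CS h (by decide) (mu_lt ha ha)]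
    simpa using h1
  have hgZ : CS u kQ ≤ normalizer (CS u 512 : Set G) :=
    (h.CS_le _).trans (S_normalizes h (by decide) (by decide +kernel) (by decide +kernel))
  have hcomm : ∀ x ∈ CS u kQ, ∀ y ∈ CS u kQ, x * y * x⁻¹ * y⁻¹ ∈ CS u 512 := by
    intro x hx
    apply comm_of_gens h closed_kQ (by decide +kernel) hgZ
    intro k hk hkQ
    have h1 : (u (2 ^ k)) * x * (u (2 ^ k))⁻¹ * x⁻¹ ∈ CS u 512 := by
      revert x
      apply comm_of_gens h closed_kQ (by decide +kernel) hgZ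
      intro j hj hjQ
      have h2 := of_allb (P := fun k => !(tb kQ k) || allb 10 fun j => !(tb kQ j) ||
        sb (cm (Nat.pow 2 k) (Nat.pow 2 j)) 512) (N := 10) (by decide +kernel) k hk
      simp only [hkQ, Bool.not_true, Bool.false_or] at h2
      have h3 := of_allb h2 j hj
      simp only [hjQ, Bool.not_true, Bool.false_or] at h3
      have h4 := (u_mem_CS h (K := 512) (by decide) (cm_lt (two_pow_lt hk) (two_pow_lt hj))).2 h3
      rwa [cm_u h (two_pow_lt hk) (two_pow_lt hj)] at h4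
    have h2 : x * u (2 ^ k) * x⁻¹ * (u (2 ^ k))⁻¹ = (u (2 ^ k) * x * (u (2 ^ k))⁻¹ * x⁻¹)⁻¹ := by
      group
    rw [h2]
    exact inv_mem h1
  refine ⟨h.CS_le _, fun g hg hgS => ?_⟩
  have hgz := Z_central h (mem_centralizer_singleton_iff.1 hg)
  apply eq_Q h _ hgS
  · rintro _ ⟨x, hx, rfl⟩
    show g * x * g⁻¹ * (g * x * g⁻¹) ∈ _
    have h3 : g * x * g⁻¹ * (g * x * g⁻¹) = g * (x * x) * g⁻¹ := by group
    rw [h3, hgz _ (hZsq x hx)]
    exact hZsq x hx
  · rintro _ ⟨x, hx, rfl⟩ _ ⟨y, hy, rfl⟩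
    show g * x * g⁻¹ * (g * y * g⁻¹) * (g * x * g⁻¹)⁻¹ * (g * y * g⁻¹)⁻¹ ∈ _
    have h3 : g * x * g⁻¹ * (g * y * g⁻¹) * (g * x * g⁻¹)⁻¹ * (g * y * g⁻¹)⁻¹
      = g * (x * y * x⁻¹ * y⁻¹) * g⁻¹ := by group
    rw [h3, hgz _ (hcomm x hx y hy)]
    exact hcomm x hx y hy
  · rw [card_cj, card_Q h]

end

end Cfsg.Agent.SylowL5.WC
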