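import Mathlib
import Cfsg.Agent.SylowL5.WC

/-!
# The action of `N1 = C_G(z) ∩ N(A1)` on `A1`
-/

set_option autoImplicit false

namespace Cfsg.Agent.SylowL5.Act

open Subgroup
open Cfsg.Agent.SignalizersComponents.RelSylow
open Cfsg.Agent.SylowL5.Setup Cfsg.Agent.SylowL5.Calc Cfsg.Agent.SylowL5.Weak
  Cfsg.Agent.SylowL5.Elem Cfsg.Agent.SylowL5.Tools Cfsg.Agent.SylowL5.WC
  Cfsg.Agent.SylowL5.TransvG Cfsg.Agent.SylowL5.Transv

variable {G : Type*} [Group G]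

/-! ### General lemmas -/

/-- Elements of a normal subgroup which is a 2-group modulo `K` lie in `S K`. -/
theorem exists_modG [Finite G] {N K L P : Subgroup G} (hP : IsMaxP 2 N P)
    (hKn : ∀ n ∈ N, ∀ k ∈ K, n * k * n⁻¹ ∈ K) (hL : L ≤ N)
    (hLn : ∀ n ∈ N, ∀ l ∈ L, n * l * n⁻¹ ∈ L) (hKL : K ≤ L)
    (h2 : ∀ l ∈ L, ∃ k : ℕ, l ^ (2 ^ k) ∈ K) :
    ∀ l ∈ L, ∃ s ∈ P, s ∈ L ∧ s⁻¹ * l ∈ K := by
  have hKnorm : (K.subgroupOf N).Normal := ⟨fun k hk n => hKn n n.2 k hk⟩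
  obtain ⟨m, hm⟩ := exists_mod hP.toSylow (K.subgroupOf N) (L.subgroupOf N) (by
    rintro ⟨x, hx⟩
    obtain ⟨l, hl, rfl⟩ := hx
    obtain ⟨k, hk⟩ := h2 l hl
    refine ⟨k, Subtype.ext ?_⟩
    show (QuotientGroup.mk' (K.subgroupOf N) l) ^ (2 ^ k) = 1
    rw [← map_pow]
    exact (QuotientGroup.eq_one_iff _).2 hk)
  intro l hl
  have h1 : (m : G)⁻¹ * l * m ∈ L := by
    have := hLn _ (N.inv_mem m.2) l hl
    rwa [inv_inv] at this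
  obtain ⟨s, hs, hs2⟩ := hm ⟨_, hL h1⟩ h1
  have hs3 : (s : G) ∈ P := by
    have : s ∈ (hP.toSylow : Subgroup N) := hs
    rw [hP.coe_toSylow] at this
    exact this
  have hs4 : (s : G)⁻¹ * l ∈ K := by
    have h6 : (s : G)⁻¹ * ((m : G) * ((m : G)⁻¹ * l * (m : G)) * (m : G)⁻¹) ∈ K := hs2
    have h5 : (m : G) * ((m : G)⁻¹ * l * (m : G)) * (m : G)⁻¹ = l := by group
    rwa [h5] at h6
  refine ⟨s, hs3, ?_, hs4⟩
  have h5 : (s : G) = l * ((s : G)⁻¹ * l)⁻¹ := by group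
  rw [h5]
  exact L.mul_mem hl (L.inv_mem (hKL hs4))

theorem isMaxP_inter [Finite G] {N L S : Subgroup G} (hS : IsMaxP 2 N S) (hL : L ≤ N)
    (hLn : ∀ n ∈ N, ∀ l ∈ L, n * l * n⁻¹ ∈ L) : IsMaxP 2 L (S ⊓ L) := by
  have f2 : Fact (Nat.Prime 2) := ⟨Nat.prime_two⟩
  refine ⟨hS.1.to_le inf_le_left, inf_le_right, ?_⟩
  intro R hR hRL hle
  obtain ⟨c, hc, hcR⟩ := hS.exists_conj_le hR (hRL.trans hL)
  have h1 : cj c R ≤ S ⊓ L := by
    refine le_inf hcR ?_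
    rw [cj_le_iff]
    exact fun x hx => hLn c hc x (hRL hx)
  have h2 : Nat.card R ≤ Nat.card (S ⊓ L : Subgroup G) := by
    rw [← card_cj c R]
    exact Nat.le_of_dvd Nat.card_pos (Subgroup.card_dvd_of_le h1)
  exact (Subgroup.eq_of_le_of_card_ge hle h2).ge

/-- `a` and `b` act in the same way on `V` -/
def Sim (V : Subgroup G) (a b : G) : Prop := ∀ v ∈ V, a * v * a⁻¹ = b * v * b⁻¹

theorem nrm {V : Subgroup G} {n v : G} (hn : n ∈ normalizer (V : Set G)) (hv : v ∈ V) :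
    n * v * n⁻¹ ∈ V := (Subgroup.mem_normalizer_iff.1 hn v).1 hv

section
variable {V : Subgroup G} {a b c d n : G}

theorem Sim.refl (a : G) : Sim V a a := fun _ _ => rfl

theorem Sim.symm (h : Sim V a b) : Sim V b a := fun v hv => (h v hv).symm

theorem Sim.trans (h : Sim V a b) (h' : Sim V b c) : Sim V a c :=
  fun v hv => (h v hv).trans (h' v hv)

theorem Sim.mul (h1 : Sim V a b) (h2 : Sim V c d) (hd : d ∈ normalizer (V : Set G)) :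
    Sim V (a * c) (b * d) := by
  intro v hv
  have h3 : a * c * v * (a * c)⁻¹ = a * (c * v * c⁻¹) * a⁻¹ := by group
  have h4 : b * d * v * (b * d)⁻¹ = b * (d * v * d⁻¹) * b⁻¹ := by group
  rw [h3, h4, h2 v hv, h1 _ (nrm hd hv)]

theorem Sim.inv (h : Sim V a b) (ha : a ∈ normalizer (V : Set G)) : Sim V a⁻¹ b⁻¹ := by
  intro v hv
  have h1 := nrm (inv_mem ha) hv
  have h2 := h _ h1
  have h3 : a * (a⁻¹ * v * a⁻¹⁻¹) * a⁻¹ = v := by group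
  rw [h3] at h2
  calc a⁻¹ * v * a⁻¹⁻¹ = b⁻¹ * (b * (a⁻¹ * v * a⁻¹⁻¹) * b⁻¹) * b⁻¹⁻¹ := by group
    _ = _ := by rw [← h2]

theorem Sim.conj (h : Sim V a b) (hn : n ∈ normalizer (V : Set G)) :
    Sim V (n * a * n⁻¹) (n * b * n⁻¹) := by
  intro v hv
  have h1 := nrm (inv_mem hn) hv
  have h2 := h _ h1
  calc n * a * n⁻¹ * v * (n * a * n⁻¹)⁻¹ = n * (a * (n⁻¹ * v * n⁻¹⁻¹) * a⁻¹) * n⁻¹ := by group
    _ = n * (b * (n⁻¹ * v * n⁻¹⁻¹) * b⁻¹) * n⁻¹ := by rw [h2]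
    _ = _ := by group

theorem sim_one_iff : Sim V a 1 ↔ a ∈ centralizer (V : Set G) := by
  rw [mem_centralizer_iff]
  constructor
  · intro h v hv
    have h1 := h v hv
    rw [one_mul, inv_one, mul_one] at h1
    calc v * a = (a * v * a⁻¹) * a := by rw [h1]
      _ = a * v := by group
  · intro h v hv
    rw [one_mul, inv_one, mul_one, ← h v hv]; group

theorem sim_iff :
    Sim V a b ↔ b⁻¹ * a ∈ centralizer (V : Set G) := by
  rw [mem_centralizer_iff]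
  constructor
  · intro h v hv
    have h1 := h v hv
    calc v * (b⁻¹ * a) = b⁻¹ * (b * v * b⁻¹) * a := by group
      _ = b⁻¹ * (a * v * a⁻¹) * a := by rw [h1]
      _ = _ := by group
  · intro h v hv
    have h1 := h v hv
    calc a * v * a⁻¹ = b * (b⁻¹ * a * v) * a⁻¹ := by group
      _ = b * (v * (b⁻¹ * a)) * a⁻¹ := by rw [← h1]
      _ = _ := by group

/-- transport of commutators -/
theorem Sim.comm {e e' : G} (h : Sim V (n * e * n⁻¹) e') (hn : n ∈ normalizer (V : Set G))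
    {v : G} (hv : v ∈ V) :
    n * (e * v * e⁻¹ * v⁻¹) * n⁻¹ = e' * (n * v * n⁻¹) * e'⁻¹ * (n * v * n⁻¹)⁻¹ := by
  rw [← h _ (nrm hn hv)]
  group

/-- commutators with a fixed element are additive on an abelian group -/
theorem comm_mul' (hc : ∀ x ∈ V, ∀ y ∈ V, x * y = y * x) {e v w : G}
    (hew : e * w * e⁻¹ ∈ V) (hv : v ∈ V) (hw : w ∈ V) :
    e * (v * w) * e⁻¹ * (v * w)⁻¹ = (e * v * e⁻¹ * v⁻¹) * (e * w * e⁻¹ * w⁻¹) := by
  have h1 : e * (v * w) * e⁻¹ * (v * w)⁻¹ = (e * v * e⁻¹) * ((e * w * e⁻¹ * w⁻¹) * v⁻¹) := by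
    group
  have h2 : e * w * e⁻¹ * w⁻¹ ∈ V := V.mul_mem hew (V.inv_mem hw)
  rw [h1, hc _ h2 _ (V.inv_mem hv), ← mul_assoc]

/-- the commutator map of the square is the square of the commutator map -/
theorem comm_sq (h2 : ∀ v ∈ V, v * v = 1) {v : G}
    (hv : n * v * n⁻¹ ∈ V) (hv' : v ∈ V) :
    (n * n) * v * (n * n)⁻¹ * v⁻¹ =
      n * (n * v * n⁻¹ * v⁻¹) * n⁻¹ * (n * v * n⁻¹ * v⁻¹)⁻¹ := by
  have hd : n * v * n⁻¹ * v⁻¹ ∈ V := V.mul_mem hv (V.inv_mem hv')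
  have h3 : (n * v * n⁻¹ * v⁻¹)⁻¹ = n * v * n⁻¹ * v⁻¹ := inv_eq_of_mul_eq_one_right (h2 _ hd)
  have h4 : v * v = 1 := h2 v hv'
  have h5 : v⁻¹ = v := inv_eq_of_mul_eq_one_right h4
  rw [h3]
  calc n * n * v * (n * n)⁻¹ * v⁻¹ = n * (n * v * n⁻¹ * v⁻¹) * n⁻¹ * (n * v * n⁻¹ * v⁻¹) := by group
    _ = _ := rfl

/-- an element acting trivially on the factors of a chain of length 4 -/
theorem pow_four_mem (h2 : ∀ v ∈ V, v * v = 1) (hn : n ∈ normalizer (V : Set G))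
    {W U Z : Subgroup G} (hWV : W ≤ V) (hUW : U ≤ W)
    (h3 : ∀ v ∈ V, n * v * n⁻¹ * v⁻¹ ∈ W) (h4 : ∀ v ∈ W, n * v * n⁻¹ * v⁻¹ ∈ U)
    (h5 : ∀ v ∈ U, n * v * n⁻¹ * v⁻¹ ∈ Z) (h6 : ∀ v ∈ Z, n * v * n⁻¹ * v⁻¹ = 1) :
    n ^ (2 ^ 2) ∈ centralizer (V : Set G) := by
  have h7 : ∀ v ∈ V, (n * n) * v * (n * n)⁻¹ * v⁻¹ ∈ U := by
    intro v hv
    rw [comm_sq h2 (nrm hn hv) hv]
    exact h4 _ (h3 v hv)
  have h8 : ∀ v ∈ U, (n * n) * v * (n * n)⁻¹ * v⁻¹ = 1 := by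
    intro v hv
    have hv' := hWV (hUW hv)
    rw [comm_sq h2 (nrm hn hv') hv']
    exact h6 _ (h5 v hv)
  have h9 : n * n ∈ normalizer (V : Set G) := mul_mem hn hn
  rw [mem_centralizer_iff]
  intro v hv
  have h10 : (n * n * (n * n)) * v * (n * n * (n * n))⁻¹ * v⁻¹ = 1 := by
    rw [comm_sq h2 (nrm h9 hv) hv]
    exact h8 _ (h7 v hv)
  have h11 : n ^ (2 ^ 2) = n * n * (n * n) := by
    rw [show (2 : ℕ) ^ 2 = 4 from rfl, show (4 : ℕ) = 2 + 2 from rfl, pow_add, pow_two]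
  rw [h11]
  have h12 := mul_inv_eq_one.1 h10
  have h13 := mul_inv_eq_iff_eq_mul.1 h12
  exact h13.symm

end

end Cfsg.Agent.SylowL5.Act
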