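import Mathlib

/-!
# A strong form of Thompson's transfer lemma

If `G` has no subgroup of index two, `M` is a subgroup of index two of the Sylow 2-subgroup `S`, `t` is an
involution and `P` a 2-subgroup centralising `t`, then some conjugate of `P` lies in `S` such that the
corresponding conjugate of `t` lies in `M`.
-/

set_option autoImplicit false

namespace Cfsg.Agent.SylowL5.Trans

open Subgroup

theorem exists_conj {G : Type*} [Group G] [Finite G] (hG : ∀ H : Subgroup G, H.index ≠ 2)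
    (S : Sylow 2 G) (M : Subgroup G) (hMS : M ≤ (S : Subgroup G))
    (hM : M.relIndex (S : Subgroup G) = 2) (t : G) (ht : t ^ 2 = 1) (P : Subgroup G)
    (hP : IsPGroup 2 P) (hPt : ∀ p ∈ P, p * t = t * p) :
    ∃ g : G, (∀ p ∈ P, g * p * g⁻¹ ∈ (S : Subgroup G)) ∧ g * t * g⁻¹ ∈ M := by
  classical
  have f2 : Fact (Nat.Prime 2) := ⟨Nat.prime_two⟩
  have : Fintype (G ⧸ M) := Fintype.ofFinite _
  have : Fintype (G ⧸ (S : Subgroup G)) := Fintype.ofFinite _
  set m := (S : Subgroup G).index with hm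
  have hmodd : Odd m := by
    rw [← Nat.not_even_iff_odd, even_iff_two_dvd]
    exact S.not_dvd_index
  have hcard : Fintype.card (G ⧸ M) = 2 * m := by
    rw [← Nat.card_eq_fintype_card, ← Subgroup.index, ← Subgroup.relIndex_mul_index hMS, hM]
  have hSM : ∀ s ∈ (S : Subgroup G), ∀ x, x ∈ M ↔ s * x * s⁻¹ ∈ M := by
    have hn : (M.subgroupOf (S : Subgroup G)).Normal := Subgroup.normal_of_index_eq_two hM
    have h1 : ∀ s ∈ (S : Subgroup G), ∀ x ∈ M, s * x * s⁻¹ ∈ M := by
      intro s hs x hx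
      exact hn.conj_mem ⟨x, hMS hx⟩ hx ⟨s, hs⟩
    intro s hs x
    refine ⟨h1 s hs x, fun h => ?_⟩
    have h2 := h1 s⁻¹ (inv_mem hs) _ h
    have h3 : s⁻¹ * (s * x * s⁻¹) * s⁻¹⁻¹ = x := by group
    rwa [h3] at h2
  -- the set of good cosets
  let Om : Set (G ⧸ (S : Subgroup G)) := {q | ∃ x : G, (x : G ⧸ (S : Subgroup G)) = q ∧ x⁻¹ * t * x ∈ M}
  have hOm : ∀ x : G, ((x : G ⧸ (S : Subgroup G)) ∈ Om ↔ x⁻¹ * t * x ∈ M) := by
    intro x
    constructor
    · rintro ⟨y, hy, hyM⟩
      have h1 : y⁻¹ * x ∈ (S : Subgroup G) := QuotientGroup.eq.1 hy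
      have h2 := (hSM _ (inv_mem h1) (y⁻¹ * t * y)).1 hyM
      have h3 : (y⁻¹ * x)⁻¹ * (y⁻¹ * t * y) * (y⁻¹ * x)⁻¹⁻¹ = x⁻¹ * t * x := by group
      rwa [h3] at h2
    · intro h
      exact ⟨x, rfl, h⟩
  -- fixed points of `t` on `G ⧸ M`
  let σ : Equiv.Perm (G ⧸ M) := MulAction.toPermHom G (G ⧸ M) t
  have hσ2 : σ ^ 2 = 1 := by
    show (MulAction.toPermHom G (G ⧸ M) t) ^ 2 = 1
    rw [← map_pow, ht, map_one]
  have hfix : ∀ x : G, (x : G ⧸ M) ∈ Function.fixedPoints σ ↔ x⁻¹ * t * x ∈ M := by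
    intro x
    have h1 : ((x : G ⧸ M) ∈ Function.fixedPoints σ) ↔ ((t * x : G) : G ⧸ M) = (x : G ⧸ M) := Iff.rfl
    rw [h1, QuotientGroup.eq]
    have h3 : x⁻¹ * t * x = ((t * x)⁻¹ * x)⁻¹ := by group
    rw [h3, inv_mem_iff]
  let e := Subgroup.quotientEquivProdOfLE hMS
  have he : ∀ q : G ⧸ M, q ∈ Function.fixedPoints σ ↔ (e q).1 ∈ Om := by
    intro q
    obtain ⟨x, rfl⟩ := QuotientGroup.mk_surjective q
    have h1 : (e (x : G ⧸ M)).1 = (x : G ⧸ (S : Subgroup G)) := rfl
    rw [h1, hOm, hfix]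
  have hcardfix : Fintype.card (Function.fixedPoints σ) = Nat.card Om * 2 := by
    have e2 : Function.fixedPoints σ ≃ Om × ((S : Subgroup G) ⧸ M.subgroupOf (S : Subgroup G)) :=
      { toFun := fun q => (⟨(e q.1).1, (he q.1).1 q.2⟩, (e q.1).2)
        invFun := fun r => ⟨e.symm (r.1.1, r.2), (he _).2 (by rw [Equiv.apply_symm_apply]; exact r.1.2)⟩
        left_inv := fun q => by
          apply Subtype.ext
          simp
        right_inv := fun r => by
          apply Prod.ext
          · apply Subtype.ext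
            simp
          · simp }
    rw [← Nat.card_eq_fintype_card, Nat.card_congr e2, Nat.card_prod]
    congr 1
  -- the sign is trivial
  let f : G →* ℤˣ := Equiv.Perm.sign.comp (MulAction.toPermHom G (G ⧸ M))
  have hf : f t = 1 := by
    rcases Int.units_eq_one_or (f t) with h | h
    · exact h
    · exfalso
      apply hG f.ker
      rw [Subgroup.index_ker]
      have htop : f.range = ⊤ := by
        rw [eq_top_iff]
        intro u _
        rcases Int.units_eq_one_or u with rfl | rfl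
        · exact Subgroup.one_mem _
        · exact ⟨t, h⟩
      rw [htop, Subgroup.card_top]
      simp
  have hsign : Equiv.Perm.sign σ = 1 := hf
  rw [Equiv.Perm.sign_of_pow_two_eq_one hσ2, hcard, hcardfix] at hsign
  have hle : Nat.card Om ≤ m := by
    have h1 : Nat.card Om ≤ Nat.card (G ⧸ (S : Subgroup G)) := Nat.card_le_card_of_injective _ Subtype.val_injective
    exact h1
  have hodd : Odd (Nat.card Om) := by
    have h1 : (2 * m - Nat.card Om * 2) / 2 = m - Nat.card Om := by omega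
    rw [h1] at hsign
    have h2 : Even (m - Nat.card Om) := by
      by_contra h3
      rw [Nat.not_even_iff_odd] at h3
      rw [h3.neg_one_pow] at hsign
      exact absurd hsign (by decide)
    obtain ⟨a, ha⟩ := hmodd
    obtain ⟨b, hb⟩ := h2
    exact ⟨a - b, by omega⟩
  -- `P` acts on `Om`
  have hPOm : ∀ p : P, ∀ q ∈ Om, (p : G) • q ∈ Om := by
    rintro p _ ⟨x, rfl, hx⟩
    refine ⟨p * x, rfl, ?_⟩
    have h1 := hPt p p.2
    have h2 : ((p : G) * x)⁻¹ * t * (p * x) = x⁻¹ * t * x := by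
      calc ((p : G) * x)⁻¹ * t * (p * x) = x⁻¹ * (p : G)⁻¹ * (t * p) * x := by group
        _ = x⁻¹ * (p : G)⁻¹ * (p * t) * x := by rw [h1]
        _ = x⁻¹ * t * x := by group
    rwa [h2]
  let act : MulAction P Om :=
    { smul := fun p q => ⟨(p : G) • q.1, hPOm p q.1 q.2⟩
      one_smul := by
        intro q
        apply Subtype.ext
        exact one_smul G q.1
      mul_smul := by
        intro a b q
        apply Subtype.ext
        exact mul_smul (a : G) (b : G) q.1 }
  have hmod := hP.card_modEq_card_fixedPoints Om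
  have hne : Nat.card (MulAction.fixedPoints P Om) ≠ 0 := by
    intro h0
    rw [h0] at hmod
    have := (Nat.modEq_zero_iff_dvd.1 hmod)
    rw [← Nat.not_even_iff_odd, even_iff_two_dvd] at hodd
    exact hodd this
  have hne' : Nonempty (MulAction.fixedPoints P Om) := (Nat.card_pos_iff.1 (Nat.pos_of_ne_zero hne)).1
  obtain ⟨⟨⟨q, hq⟩, hqf⟩⟩ := hne'
  obtain ⟨x, rfl, hx⟩ := hq
  refine ⟨x⁻¹, ?_, by rwa [inv_inv]⟩
  intro p hp
  have h1 := congrArg Subtype.val (hqf ⟨p, hp⟩)
  have h2 : ((p * x : G) : G ⧸ (S : Subgroup G)) = (x : G ⧸ (S : Subgroup G)) := h1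
  have h3 := QuotientGroup.eq.1 h2
  have h4 : x⁻¹ * p * x⁻¹⁻¹ = ((p * x)⁻¹ * x)⁻¹ := by group
  rw [h4]
  exact inv_mem h3

end Cfsg.Agent.SylowL5.Trans
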