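import Mathlib
import Cfsg.Prelude.Def_Local
import Cfsg.Agent.Lib.Cores

/-!
# A normal 2-subgroup which is self-centralizing in a Sylow 2-subgroup

If `O(Y) = 1`, `E` is a normal elementary abelian 2-subgroup and `C_S(E) ≤ E`, then `C_Y(E) ≤ E`.
-/

set_option autoImplicit false

namespace Cfsg.Agent.SylowL5.SelfCent

open Cfsg Subgroup
open scoped Pointwise

variable {Y : Type*} [Group Y] [Finite Y]

theorem exists_conj_mem (S : Sylow 2 Y) {x : Y} {n : ℕ} (hx : x ^ 2 ^ n = 1) :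
    ∃ g : Y, g * x * g⁻¹ ∈ (S : Subgroup Y) := by
  have h1 : IsPGroup 2 (zpowers x) := by
    rintro ⟨y, hy⟩
    obtain ⟨k, rfl⟩ := hy
    refine ⟨n, Subtype.ext ?_⟩
    show (x ^ k) ^ 2 ^ n = 1
    rw [← zpow_natCast, ← zpow_mul, mul_comm, zpow_mul, zpow_natCast, hx, one_zpow]
  obtain ⟨P, hP⟩ := h1.exists_le_sylow
  obtain ⟨g, hg⟩ := MulAction.exists_smul_eq Y P S
  refine ⟨g, ?_⟩
  rw [← hg, Sylow.coe_subgroup_smul]
  have h2 : MulAut.conj g • x ∈ MulAut.conj g • (P : Subgroup Y) :=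
    Subgroup.smul_mem_pointwise_smul _ _ _ (hP (mem_zpowers x))
  exact h2

theorem cent_le (S : Sylow 2 Y) (E : Subgroup Y) (hn : E.Normal) (h2 : ∀ x ∈ E, x * x = 1)
    (hS : ∀ s ∈ (S : Subgroup Y), (∀ e ∈ E, s * e = e * s) → s ∈ E)
    (hO : pPrimeCore 2 Y = ⊥) (y : Y) (hy : ∀ e ∈ E, y * e = e * y) : y ∈ E := by
  classical
  have : Fact (Nat.Prime 2) := ⟨Nat.prime_two⟩
  have hcomm : ∀ x ∈ E, ∀ y ∈ E, x * y = y * x := by
    intro x hx y hy
    have h3 := h2 _ (E.mul_mem hx hy)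
    have h4 : x⁻¹ = x := inv_eq_of_mul_eq_one_right (h2 x hx)
    have h5 : y⁻¹ = y := inv_eq_of_mul_eq_one_right (h2 y hy)
    have h6 : x * y = (x * y)⁻¹ := (inv_eq_of_mul_eq_one_right h3).symm
    rw [h6, _root_.mul_inv_rev, h4, h5]
  set D : Subgroup Y := centralizer (E : Set Y) with hD
  have hmemD : ∀ {x : Y}, x ∈ D ↔ ∀ e ∈ E, x * e = e * x := by
    intro x
    rw [hD, mem_centralizer_iff]
    exact ⟨fun h e he => (h e he).symm, fun h e he => (h e he).symm⟩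
  have hDn : D.Normal := by
    constructor
    intro x hx g
    rw [hmemD] at hx ⊢
    intro e he
    have h3 := hx (g⁻¹ * e * g) (by simpa using hn.conj_mem e he g⁻¹)
    calc g * x * g⁻¹ * e = g * (x * (g⁻¹ * e * g)) * g⁻¹ := by group
      _ = g * ((g⁻¹ * e * g) * x) * g⁻¹ := by rw [h3]
      _ = e * (g * x * g⁻¹) := by group
  have hED : E ≤ D := fun x hx => hmemD.2 (hcomm x hx)
  -- 2-elements of `D` lie in `E`
  have hA : ∀ x ∈ D, ∀ n : ℕ, x ^ 2 ^ n = 1 → x ∈ E := by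
    intro x hx n hxn
    obtain ⟨g, hg⟩ := exists_conj_mem S hxn
    have h3 := hS _ hg (hmemD.1 (hDn.conj_mem x hx g))
    have h4 := hn.conj_mem _ h3 g⁻¹
    have h5 : g⁻¹ * (g * x * g⁻¹) * g⁻¹⁻¹ = x := by group
    rwa [h5] at h4
  -- the index of `E` in `D` is odd
  let E' : Subgroup D := E.subgroupOf D
  have hE'n : E'.Normal := hn.subgroupOf D
  obtain ⟨P⟩ : Nonempty (Sylow 2 D) := inferInstance
  have hPE : (P : Subgroup D) ≤ E' := by
    intro x hx
    obtain ⟨n, hn'⟩ := P.2 ⟨x, hx⟩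
    have h3 : (x : Y) ^ 2 ^ n = 1 := by
      have := congrArg (fun w : (P : Subgroup D) => ((w : D) : Y)) hn'
      simpa using this
    exact mem_subgroupOf.2 (hA x x.2 n h3)
  have hodd : ¬ 2 ∣ E'.index := by
    intro h3
    exact P.not_dvd_index (h3.trans (Subgroup.index_dvd_of_le hPE))
  have hE'2 : IsPGroup 2 E' := by
    rintro ⟨x, hx⟩
    refine ⟨1, Subtype.ext (Subtype.ext ?_)⟩
    have := h2 (x : Y) (mem_subgroupOf.1 hx)
    show (x : Y) ^ 2 ^ 1 = 1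
    rw [pow_one, pow_two, this]
  have hcop : Nat.Coprime (Nat.card E') E'.index := by
    obtain ⟨n, hn'⟩ := IsPGroup.iff_card.1 hE'2
    rw [hn']
    exact Nat.Coprime.pow_left n ((Nat.prime_two.coprime_iff_not_dvd).2 hodd)
  obtain ⟨H, hH⟩ := Subgroup.exists_right_complement'_of_coprime hcop
  have hHcard : ¬ 2 ∣ Nat.card H := by
    rw [← hH.symm.index_eq_card]; exact hodd
  -- `H` is normal in `Y`
  set m := Nat.card H with hm
  have hmodd : Odd m := by
    rw [← Nat.not_even_iff_odd, even_iff_two_dvd]; exact hHcard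
  let H' : Subgroup Y := H.map D.subtype
  have hH'm : ∀ x ∈ H', x ^ m = 1 := by
    rintro _ ⟨x, hx, rfl⟩
    have h3 : (⟨x, hx⟩ : H) ^ m = 1 := pow_card_eq_one'
    have := congrArg (fun w : H => ((w : D) : Y)) h3
    simpa using this
  have hH'n : H'.Normal := by
    constructor
    intro x hx g
    have hxD : x ∈ D := by
      obtain ⟨w, _, rfl⟩ := hx; exact w.2
    have h3 : g * x * g⁻¹ ∈ D := hDn.conj_mem x hxD g
    obtain ⟨⟨⟨e, he⟩, ⟨k, hk⟩⟩, h4, -⟩ := hH.existsUnique (⟨g * x * g⁻¹, h3⟩ : D)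
    have h5 : (e : Y) * (k : Y) = g * x * g⁻¹ := congrArg Subtype.val h4
    have heE : (e : Y) ∈ E := mem_subgroupOf.1 he
    have hkH : (k : Y) ∈ H' := ⟨k, hk, rfl⟩
    have h6 : (e : Y) * (k : Y) = k * e := ((hmemD.1 k.2) e heE).symm
    have h7 : (g * x * g⁻¹) ^ m = 1 := by
      rw [conj_pow, hH'm x hx]; group
    rw [← h5, (show Commute (e : Y) (k : Y) from h6).mul_pow, hH'm _ hkH, mul_one] at h7
    have h8 : (e : Y) = 1 := by
      obtain ⟨r, hr⟩ := hmodd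
      rw [hr, pow_succ, pow_mul, pow_two, h2 _ heE, one_pow, one_mul] at h7
      exact h7
    rw [← h5, h8, one_mul]
    exact hkH
  have hH'c : (Nat.card H').Coprime 2 := by
    have h3 : Nat.card H' = m :=
      (Nat.card_congr (H.equivMapOfInjective D.subtype D.subtype_injective).toEquiv).symm
    rw [h3, Nat.coprime_comm]
    exact (Nat.prime_two.coprime_iff_not_dvd).2 hHcard
  have hbot : H' = ⊥ := by
    have := Cfsg.Agent.Lib.Cores.le_pPrimeCore hH'n hH'c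
    rw [hO, le_bot_iff] at this
    exact this
  have hyD : y ∈ D := hmemD.2 hy
  obtain ⟨⟨⟨e, he⟩, ⟨k, hk⟩⟩, h4, -⟩ := hH.existsUnique (⟨y, hyD⟩ : D)
  have h5 : (e : Y) * (k : Y) = y := congrArg Subtype.val h4
  have hkH : (k : Y) ∈ H' := ⟨k, hk, rfl⟩
  rw [hbot, mem_bot] at hkH
  rw [← h5, hkH, mul_one]
  exact mem_subgroupOf.1 he

end Cfsg.Agent.SylowL5.SelfCent
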