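import Cfsg.Agent.SylowL5.Setup
import Cfsg.Agent.LieClassical.FieldTransfer
import Cfsg.Agent.S0242

/-!
# Coordinates on a Sylow 2-subgroup of type `L_5(2)`

`exists_emb`: a subgroup `S` isomorphic to a Sylow 2-subgroup of `PSL_5(F)`, `|F| = 2`, has coordinates
`Emb S u`. `pslEquiv`: `PSL_5(F) ≃* SL_5(ZMod 2)`.
-/

set_option autoImplicit false

namespace Cfsg.Agent.SylowL5.Coords

open Matrix Cfsg.Agent.SylowL5.Setup

/-- Relabelling along an isomorphism of subgroups. -/
theorem emb_transport {G G' : Type*} [Group G] [Group G'] {S : Subgroup G} {H : Subgroup G'}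
    {u : ℕ → G'} (h : Emb H u) (φ : H ≃* S) : ∃ u' : ℕ → G, Emb S u' := by
  refine ⟨fun a => if ha : a < 1024 then (φ ⟨u a, h.mem ha⟩ : G) else 1, ?_, ?_, ?_, ?_⟩
  · intro a b ha hb
    simp only [dif_pos ha, dif_pos hb, dif_pos (mu_lt ha hb)]
    rw [← Subgroup.coe_mul, ← map_mul]
    congr 2
    exact Subtype.ext (h.mul ha hb)
  · intro a b ha hb hab
    simp only [dif_pos ha, dif_pos hb] at hab
    have h1 := φ.injective (Subtype.ext hab)
    exact h.inj ha hb (congrArg Subtype.val h1)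
  · intro a ha
    simp only [dif_pos ha]
    exact (φ _).2
  · intro g hg
    obtain ⟨⟨x, hx⟩, hx2⟩ := φ.surjective ⟨g, hg⟩
    obtain ⟨a, ha, rfl⟩ := h.surj x hx
    refine ⟨a, ha, ?_⟩
    simp only [dif_pos ha]
    rw [hx2]

/-- The bit `k` of `a` in `ZMod 2`. -/
def zb (a k : ℕ) : ZMod 2 := if a.testBit k then 1 else 0

/-- A Boolean in `ZMod 2`. -/
def bz (b : Bool) : ZMod 2 := if b then 1 else 0

theorem bz_xor (a b : Bool) : bz (a ^^ b) = bz a + bz b := by revert a b; decide
theorem bz_and (a b : Bool) : bz (a && b) = bz a * bz b := by revert a b; decide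
theorem bz_inj {a b : Bool} (h : bz a = bz b) : a = b := by revert a b; decide

/-- The unitriangular matrix with code `a`. -/
def um (a : ℕ) : Matrix (Fin 5) (Fin 5) (ZMod 2) :=
  !![1, bz (a.testBit 0), bz (a.testBit 4), bz (a.testBit 7), bz (a.testBit 9);
     0, 1, bz (a.testBit 1), bz (a.testBit 5), bz (a.testBit 8);
     0, 0, 1, bz (a.testBit 2), bz (a.testBit 6);
     0, 0, 0, 1, bz (a.testBit 3);
     0, 0, 0, 0, 1]

theorem um_mul (a b : ℕ) : um (mu a b) = um a * um b := by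
  have e0 : bz ((mu a b).testBit 0) = bz (a.testBit 0) + bz (b.testBit 0) := by
    rw [testBit_mu]; simp [bz_xor]
  have e1 : bz ((mu a b).testBit 1) = bz (a.testBit 1) + bz (b.testBit 1) := by
    rw [testBit_mu]; simp [bz_xor]
  have e2 : bz ((mu a b).testBit 2) = bz (a.testBit 2) + bz (b.testBit 2) := by
    rw [testBit_mu]; simp [bz_xor]
  have e3 : bz ((mu a b).testBit 3) = bz (a.testBit 3) + bz (b.testBit 3) := by
    rw [testBit_mu]; simp [bz_xor]
  have e4 : bz ((mu a b).testBit 4) = bz (a.testBit 4) + bz (b.testBit 4) +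
      bz (a.testBit 0) * bz (b.testBit 1) := by
    rw [testBit_mu]; simp [bz_xor, bz_and]; ring
  have e5 : bz ((mu a b).testBit 5) = bz (a.testBit 5) + bz (b.testBit 5) +
      bz (a.testBit 1) * bz (b.testBit 2) := by
    rw [testBit_mu]; simp [bz_xor, bz_and]; ring
  have e6 : bz ((mu a b).testBit 6) = bz (a.testBit 6) + bz (b.testBit 6) +
      bz (a.testBit 2) * bz (b.testBit 3) := by
    rw [testBit_mu]; simp [bz_xor, bz_and]; ring
  have e7 : bz ((mu a b).testBit 7) = bz (a.testBit 7) + bz (b.testBit 7) +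
      (bz (a.testBit 0) * bz (b.testBit 5) + bz (a.testBit 4) * bz (b.testBit 2)) := by
    rw [testBit_mu]; simp [bz_xor, bz_and]; ring
  have e8 : bz ((mu a b).testBit 8) = bz (a.testBit 8) + bz (b.testBit 8) +
      (bz (a.testBit 1) * bz (b.testBit 6) + bz (a.testBit 5) * bz (b.testBit 3)) := by
    rw [testBit_mu]; simp [bz_xor, bz_and]; ring
  have e9 : bz ((mu a b).testBit 9) = bz (a.testBit 9) + bz (b.testBit 9) +
      (bz (a.testBit 0) * bz (b.testBit 8) + (bz (a.testBit 4) * bz (b.testBit 6) +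
        bz (a.testBit 7) * bz (b.testBit 3))) := by
    rw [testBit_mu]; simp [bz_xor, bz_and]; ring
  unfold um
  rw [e0, e1, e2, e3, e4, e5, e6, e7, e8, e9]
  ext i j
  simp only [Matrix.mul_apply, Fin.sum_univ_five]
  fin_cases i <;> fin_cases j <;> simp <;> ring

theorem um_det (a : ℕ) : (um a).det = 1 := by
  rw [Matrix.det_of_isUpperTriangular]
  · rw [Fin.prod_univ_five]
    simp [um]
  · intro i j hij
    fin_cases i <;> fin_cases j <;> first | rfl | (exact absurd hij (by decide))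

/-- The element of `SL_5(2)` with code `a`. -/
def us (a : ℕ) : SpecialLinearGroup (Fin 5) (ZMod 2) := ⟨um a, um_det a⟩

theorem us_mul (a b : ℕ) : us (mu a b) = us a * us b := Subtype.ext (um_mul a b)

theorem us_inj {a b : ℕ} (ha : a < 1024) (hb : b < 1024) (h : us a = us b) : a = b := by
  have h0 : um a = um b := congrArg Subtype.val h
  have e (i j : Fin 5) : um a i j = um b i j := by rw [h0]
  apply Nat.eq_of_testBit_eq
  intro k
  by_cases hk : k < 10
  · interval_cases k
    · exact bz_inj (e 0 1)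
    · exact bz_inj (e 1 2)
    · exact bz_inj (e 2 3)
    · exact bz_inj (e 3 4)
    · exact bz_inj (e 0 2)
    · exact bz_inj (e 1 3)
    · exact bz_inj (e 2 4)
    · exact bz_inj (e 0 3)
    · exact bz_inj (e 1 4)
    · exact bz_inj (e 0 4)
  · push Not at hk
    have h1 : (2 : ℕ) ^ 10 ≤ 2 ^ k := Nat.pow_le_pow_right (by norm_num) hk
    rw [Nat.testBit_lt_two_pow (lt_of_lt_of_le (by norm_num; exact ha) h1),
      Nat.testBit_lt_two_pow (lt_of_lt_of_le (by norm_num; exact hb) h1)]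

theorem us_zero : us 0 = 1 := by
  have h : us (mu 0 0) = us 0 * us 0 := us_mul 0 0
  have h2 : mu 0 0 = 0 := by decide
  rw [h2] at h
  exact left_eq_mul.mp h

/-- Codes have inverses. -/
theorem exists_inv {a : ℕ} (ha : a < 1024) : ∃ b, b < 1024 ∧ us a * us b = 1 := by
  have h1 : Function.Injective (fun b : Fin 1024 => (⟨mu a b, mu_lt ha b.2⟩ : Fin 1024)) := by
    intro b c hbc
    have h2 : us a * us b = us a * us c := by
      have h3 : mu a b = mu a c := congrArg Fin.val hbc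
      rw [← us_mul, ← us_mul, h3]
    exact Fin.ext (us_inj b.2 c.2 (mul_left_cancel h2))
  obtain ⟨b, hb⟩ := (Finite.injective_iff_surjective.1 h1) ⟨0, by norm_num⟩
  have h3 : mu a b = 0 := congrArg Fin.val hb
  exact ⟨b, b.2, by rw [← us_mul, h3]; exact us_zero⟩

/-- The group of unitriangular matrices. -/
def UT : Subgroup (SpecialLinearGroup (Fin 5) (ZMod 2)) where
  carrier := {g | ∃ a, a < 1024 ∧ us a = g}
  one_mem' := ⟨0, by norm_num, us_zero⟩
  mul_mem' := by
    rintro _ _ ⟨a, ha, rfl⟩ ⟨b, hb, rfl⟩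
    exact ⟨mu a b, mu_lt ha hb, us_mul a b⟩
  inv_mem' := by
    rintro _ ⟨a, ha, rfl⟩
    obtain ⟨b, hb, h⟩ := exists_inv ha
    exact ⟨b, hb, (inv_eq_of_mul_eq_one_right h).symm⟩

theorem emb_UT : Emb UT us where
  mul := fun _ _ => us_mul _ _
  inj := fun ha hb h => us_inj ha hb h
  mem := fun ha => ⟨_, ha, rfl⟩
  surj := fun _ hg => hg

/-- A field with two elements is `ZMod 2`. -/
noncomputable def fieldEquiv {F : Type*} [Field F] [Fintype F] (hF : Fintype.card F = 2) :
    F ≃+* ZMod 2 :=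
  FiniteField.ringEquivOfCardEq (hF.trans (ZMod.card 2).symm)

theorem center_eq_bot : Subgroup.center (SpecialLinearGroup (Fin 5) (ZMod 2)) = ⊥ := by
  rw [eq_bot_iff]
  intro A hA
  rw [Matrix.SpecialLinearGroup.mem_center_iff] at hA
  obtain ⟨r, hr, h⟩ := hA
  have hr1 : r = 1 := by
    rw [Fintype.card_fin] at hr
    have h5 : ∀ r : ZMod 2, r ^ 5 = 1 → r = 1 := by decide
    exact h5 r hr
  rw [Subgroup.mem_bot]
  apply Subtype.ext
  rw [← h, hr1, map_one]
  rfl

/-- `PSL_5(2) ≃* SL_5(2)` over `ZMod 2`. -/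
noncomputable def pslTwo : Matrix.ProjectiveSpecialLinearGroup (Fin 5) (ZMod 2) ≃*
    SpecialLinearGroup (Fin 5) (ZMod 2) :=
  (QuotientGroup.quotientMulEquivOfEq center_eq_bot).trans QuotientGroup.quotientBot

/-- `PSL_5(F) ≃* SL_5(ZMod 2)`, `|F| = 2`. -/
noncomputable def pslEquiv {F : Type*} [Field F] [Fintype F] (hF : Fintype.card F = 2) :
    Matrix.ProjectiveSpecialLinearGroup (Fin 5) F ≃* SpecialLinearGroup (Fin 5) (ZMod 2) :=
  (Cfsg.Agent.LieClassical.FieldTransfer.pslCongr (fieldEquiv hF)).trans pslTwo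

theorem card_SL : Nat.card (SpecialLinearGroup (Fin 5) (ZMod 2)) = 9999360 := by
  have h := Cfsg.Agent.S0242.result (F := ZMod 2) (q := 2) (ZMod.card 2) 5 (by norm_num)
  rw [Fin.prod_univ_five] at h
  have e : ((2 : ℕ) ^ 5 - 2 ^ ((0 : Fin 5) : ℕ)) * (2 ^ 5 - 2 ^ ((1 : Fin 5) : ℕ)) *
      (2 ^ 5 - 2 ^ ((2 : Fin 5) : ℕ)) * (2 ^ 5 - 2 ^ ((3 : Fin 5) : ℕ)) *
      (2 ^ 5 - 2 ^ ((4 : Fin 5) : ℕ)) = 9999360 := by decide +kernel
  rw [e] at h
  omega

/-- The Sylow 2-subgroups of `PSL_5(F)`, `|F| = 2`, are isomorphic to the group of unitriangular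
matrices. -/
theorem nonempty_equiv_UT {F : Type*} [Field F] [Fintype F] (hF : Fintype.card F = 2)
    (P : Sylow 2 (Matrix.ProjectiveSpecialLinearGroup (Fin 5) F)) :
    Nonempty (UT ≃* (P : Subgroup (Matrix.ProjectiveSpecialLinearGroup (Fin 5) F))) := by
  let e : SpecialLinearGroup (Fin 5) (ZMod 2) ≃* Matrix.ProjectiveSpecialLinearGroup (Fin 5) F :=
    (pslEquiv hF).symm
  have hcardP : Nat.card (Matrix.ProjectiveSpecialLinearGroup (Fin 5) F) = 9999360 := by
    rw [← card_SL]
    exact (Nat.card_congr e.toEquiv).symm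
  have hfin : Finite (Matrix.ProjectiveSpecialLinearGroup (Fin 5) F) :=
    Nat.finite_of_card_ne_zero (by rw [hcardP]; norm_num)
  let f : UT →* Matrix.ProjectiveSpecialLinearGroup (Fin 5) F :=
    (e : SpecialLinearGroup (Fin 5) (ZMod 2) →* _).comp UT.subtype
  have hf : Function.Injective f := e.injective.comp UT.subtype_injective
  have hcard : Nat.card f.range = 1024 := by
    rw [← emb_UT.card]
    exact Nat.card_congr (MonoidHom.ofInjective hf).symm.toEquiv
  have hfac : (Nat.card (Matrix.ProjectiveSpecialLinearGroup (Fin 5) F)).factorization 2 = 10 := by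
    rw [hcardP]
    rw [show (9999360 : ℕ) = 2 ^ 10 * 9765 by norm_num, Nat.factorization_mul (by norm_num)
      (by norm_num), Finsupp.add_apply, Nat.Prime.factorization_pow Nat.prime_two,
      Finsupp.single_eq_same, Nat.factorization_eq_zero_of_not_dvd (by norm_num)]
  let Q : Sylow 2 (Matrix.ProjectiveSpecialLinearGroup (Fin 5) F) :=
    Sylow.ofCard f.range (by rw [hcard, hfac]; norm_num)
  have e2 : (Q : Subgroup (Matrix.ProjectiveSpecialLinearGroup (Fin 5) F)) = f.range := rfl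
  exact ⟨(MonoidHom.ofInjective hf).trans ((MulEquiv.subgroupCongr e2.symm).trans (Q.equiv P))⟩

/-- Coordinates on a subgroup isomorphic to a Sylow 2-subgroup of `PSL_5(F)`, `|F| = 2`. -/
theorem exists_emb {G : Type*} [Group G] (S : Subgroup G)
    {F : Type*} [Field F] [Fintype F] (hF : Fintype.card F = 2)
    (P : Sylow 2 (Matrix.ProjectiveSpecialLinearGroup (Fin 5) F))
    (hS : Nonempty (S ≃* (P : Subgroup (Matrix.ProjectiveSpecialLinearGroup (Fin 5) F)))) :
    ∃ u : ℕ → G, Emb S u := by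
  obtain ⟨e1⟩ := hS
  obtain ⟨e2⟩ := nonempty_equiv_UT hF P
  exact emb_transport emb_UT (e2.trans e1.symm)

end Cfsg.Agent.SylowL5.Coords
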