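import Mathlib
import Cfsg.Prelude.Def_Local
import Cfsg.Agent.SylowL5.Setup

/-!
# Interfaces for the Sylow type `L_5(2)` project (S0512)

* `Ctrl N` : the subgroup `N` controls strong 2-fusion.
* `VData S u` : what is known about `Y = C_G(z)` after the fusion analysis; input for
  "`Y / O(Y)` is the centraliser of a transvection in `SL(5,2)`".
-/

set_option autoImplicit false

namespace Cfsg.Agent.SylowL5.Data

open Cfsg Subgroup Cfsg.Agent.SylowL5.Setup

/-- `N` controls strong 2-fusion in `Y` (Sylow-free form). -/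
structure Ctrl {Y : Type*} [Group Y] (N : Subgroup Y) : Prop where
  odd : Odd N.index
  fus : ∀ A : Subgroup Y, IsPGroup 2 A → A ≤ N → ∀ g : Y, (∀ a ∈ A, g * a * g⁻¹ ∈ N) →
    ∃ n ∈ N, ∀ a ∈ A, n * a * n⁻¹ = g * a * g⁻¹

/-- The data on `Y = C_G(z)` produced by the fusion analysis. -/
structure VData {Y : Type*} [Group Y] (S : Sylow 2 Y) (u : ℕ → Y) : Prop where
  /-- coordinates -/
  emb : Emb (S : Subgroup Y) u
  /-- `z` is central in `Y` -/
  zc : ∀ g : Y, g * u x15 = u x15 * g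
  /-- `Q` is strongly closed -/
  scQ : ∀ s ∈ CS u kQ, ∀ g : Y, g * s * g⁻¹ ∈ (S : Subgroup Y) → g * s * g⁻¹ ∈ CS u kQ
  /-- `N_Y(Q)` normalises `E1` and `E2` -/
  nE1 : normalizer (CS u kQ : Set Y) ≤ normalizer (CS u kE1 : Set Y)
  nE2 : normalizer (CS u kQ : Set Y) ≤ normalizer (CS u kE2 : Set Y)
  /-- an odd element normalising `Q`, `A1`, acting nontrivially on `E1/<x25,x15>` -/
  k3 : ∃ k ∈ normalizer (CS u kQ : Set Y), Odd (orderOf k) ∧ k ∈ normalizer (CS u kA1 : Set Y) ∧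
    ∃ a, a < 1024 ∧ SubK a kU1 ∧ k * u x35 * k⁻¹ = u (mu x45 a)
  /-- an odd element normalising `Q`, `A2`, acting nontrivially on `E2/<x14,x15>` -/
  k2 : ∃ k ∈ normalizer (CS u kQ : Set Y), Odd (orderOf k) ∧ k ∈ normalizer (CS u kA2 : Set Y) ∧
    ∃ a, a < 1024 ∧ SubK a kU2 ∧ k * u x13 * k⁻¹ = u (mu x12 a)

/-- `g` lies in `O(Y) N`. -/
def Solved {Y : Type*} [Group Y] (N : Subgroup Y) : Prop :=
  ∀ g : Y, ∃ a ∈ pPrimeCore 2 Y, ∃ n ∈ N, g = a * n

end Cfsg.Agent.SylowL5.Data
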