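import Mathlib
import Cfsg.Prelude.Def_Local
import Cfsg.Prelude.Def_Involutions
import Cfsg.Agent.Lib.Cores
import Cfsg.Agent.S0058
import Cfsg.Agent.S0205
import Cfsg.Agent.SignalizersComponents.SFTwo
import Cfsg.Agent.SignalizersComponents.CoreOfCentralizer
import Cfsg.Agent.Lib.CoreCent

/-!
# The signalizer functor on a `z`-pure elementary abelian subgroup

`Con X` : `X / O(X)` is of characteristic 2 (constrained).
If all non-identity elements of `E` (elementary abelian of order `≥ 8`) are conjugate to `z` and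
`C_G(z)` is constrained, then `W = ⟨O(C_G(e)) : e ∈ E#⟩` has odd order, `W ∩ C_G(e) = O(C_G(e))`, and
`W` is normalised by `N_G(E)`, by `C_G(z)` if `C_G(z) = O(C_G(z)) N(E)`, and by `N_G(A)` for every
elementary abelian `A` with `|A ∩ E| ≥ 4`.
-/

set_option autoImplicit false

namespace Cfsg.Agent.SylowL5.Functor

open Cfsg Subgroup
open Cfsg.Agent.SignalizersComponents

/-- `X / O(X)` is of characteristic 2. -/
def Con (X : Type*) [Group X] : Prop :=
  centralizer (pCore 2 (X ⧸ pPrimeCore 2 X) : Set (X ⧸ pPrimeCore 2 X)) ≤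
    pCore 2 (X ⧸ pPrimeCore 2 X)

theorem con_iff {X : Type*} [Group X] : Con X ↔ ∀ x : X ⧸ pPrimeCore 2 X,
    (∀ y ∈ pCore 2 (X ⧸ pPrimeCore 2 X), y * x = x * y) → x ∈ pCore 2 (X ⧸ pPrimeCore 2 X) := by
  unfold Con
  constructor
  · intro h x hx
    apply h
    rw [mem_centralizer_iff]
    intro y hy
    exact hx y hy
  · intro h x hx
    rw [mem_centralizer_iff] at hx
    exact h x hx

theorem Con.congr {X Y : Type*} [Group X] [Group Y] (e : X ≃* Y) (h : Con X) : Con Y := by
  have h1 : (pPrimeCore 2 X).map e.toMonoidHom = pPrimeCore 2 Y :=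
    Lib.Cores.map_equiv_pPrimeCore e 2
  let f : X ⧸ pPrimeCore 2 X ≃* Y ⧸ pPrimeCore 2 Y :=
    QuotientGroup.congr (pPrimeCore 2 X) (pPrimeCore 2 Y) e h1
  have h2 : (pCore 2 (X ⧸ pPrimeCore 2 X)).map f.toMonoidHom = pCore 2 (Y ⧸ pPrimeCore 2 Y) :=
    Lib.Cores.map_equiv_pCore f 2
  rw [con_iff] at h ⊢
  intro y hy
  obtain ⟨x, rfl⟩ := f.surjective y
  rw [← h2]
  refine ⟨x, h x ?_, rfl⟩
  intro x' hx'
  apply f.injective
  rw [map_mul, map_mul]
  apply hy
  rw [← h2]
  exact ⟨x', hx', rfl⟩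

theorem le_pPrimeCore_of_con {X : Type*} [Group X] [Finite X] (hX : Con X)
    (P : Subgroup X) (hP : IsPGroup 2 P) (H : Subgroup X) (hH : (Nat.card H).Coprime 2)
    (hHP : H ≤ centralizer (P : Set X))
    (hn : centralizer (P : Set X) ≤ normalizer (H : Set X)) :
    H ≤ pPrimeCore 2 X := by
  have h2 : Fact (Nat.Prime 2) := ⟨Nat.prime_two⟩
  have hN : (pPrimeCore 2 X).Normal := pPrimeCore_normal 2 X
  have hNp : ¬ 2 ∣ Nat.card (pPrimeCore 2 X) :=
    (Nat.prime_two.coprime_iff_not_dvd).mp (Lib.Cores.pPrimeCore_coprime 2).symm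
  let f : X →* X ⧸ pPrimeCore 2 X := QuotientGroup.mk' (pPrimeCore 2 X)
  have hbot : H.map f = ⊥ := by
    refine CoreOfCentralizer.eq_bot_of_centralizer_pCore_le hX (P.map f) (hP.map f) (H.map f)
      ?_ ?_ ?_
    · exact Nat.Coprime.coprime_dvd_left (card_dvd_of_surjective (f.subgroupMap H)
        (f.subgroupMap_surjective H)) hH
    · rintro _ ⟨h, hh, rfl⟩
      rw [mem_centralizer_iff]
      rintro _ ⟨a, ha, rfl⟩
      rw [← map_mul, ← map_mul, mem_centralizer_iff.mp (hHP hh) a ha]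
    · rintro c ⟨hc, -⟩
      obtain ⟨g, hg, hgc⟩ := CoreOfCentralizer.exists_centralizing_of_quotient P hP
        (pPrimeCore 2 X) hNp c (fun a ha => mem_centralizer_iff.mp hc (f a) ⟨a, ha, rfl⟩)
      have hgn : g ∈ normalizer (H : Set X) := by
        apply hn
        rw [mem_centralizer_iff]
        exact hg
      rw [← hgc]
      have h1 : f g ∈ (normalizer (H : Set X)).map f := ⟨g, hgn, rfl⟩
      exact le_normalizer_map f h1
  intro h hh
  have h1 : f h ∈ H.map f := ⟨h, hh, rfl⟩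
  rw [hbot, mem_bot] at h1
  exact (QuotientGroup.eq_one_iff h).mp h1

section

variable {G : Type*} [Group G]

/-- the core of the centralizer -/
abbrev th (a : G) : Subgroup G := centralizerPPrimeCore 2 a

/-- centralizers of conjugates are isomorphic -/
theorem con_conj {a : G} (g : G) (h : Con ↥(centralizer ({a} : Set G))) :
    Con ↥(centralizer ({g * a * g⁻¹} : Set G)) := by
  have h1 : (centralizer ({a} : Set G)).map (MulAut.conj g).toMonoidHom =
      centralizer ({g * a * g⁻¹} : Set G) := by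
    ext x
    constructor
    · rintro ⟨y, hy, rfl⟩
      have hy' : y * a = a * y := mem_centralizer_singleton_iff.1 hy
      rw [mem_centralizer_singleton_iff]
      show g * y * g⁻¹ * (g * a * g⁻¹) = g * a * g⁻¹ * (g * y * g⁻¹)
      calc g * y * g⁻¹ * (g * a * g⁻¹) = g * (y * a) * g⁻¹ := by group
        _ = g * (a * y) * g⁻¹ := by rw [hy']
        _ = _ := by group
    · intro hx
      rw [mem_centralizer_singleton_iff] at hx
      refine ⟨g⁻¹ * x * g, ?_, ?_⟩
      · show g⁻¹ * x * g ∈ centralizer ({a} : Set G)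
        rw [mem_centralizer_singleton_iff]
        calc g⁻¹ * x * g * a = g⁻¹ * (x * (g * a * g⁻¹)) * g := by group
          _ = g⁻¹ * (g * a * g⁻¹ * x) * g := by rw [hx]
          _ = a * (g⁻¹ * x * g) := by group
      · show g * (g⁻¹ * x * g) * g⁻¹ = x
        group
  have e : ↥(centralizer ({a} : Set G)) ≃* ↥(centralizer ({g * a * g⁻¹} : Set G)) :=
    ((centralizer ({a} : Set G)).equivMapOfInjective (MulAut.conj g).toMonoidHom
      (MulAut.conj g).injective).trans (MulEquiv.subgroupCongr h1)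
  exact h.congr e

theorem con_isConj {a b : G} (hab : IsConj a b) (h : Con ↥(centralizer ({a} : Set G))) :
    Con ↥(centralizer ({b} : Set G)) := by
  obtain ⟨g, hg⟩ := isConj_iff.1 hab
  rw [← hg]
  exact con_conj g h

variable [Finite G]

/-- balance for a constrained centralizer -/
theorem balance_of_con (a b : G) (hab : a * b = b * a) (ha : a * a = 1)
    (hb : Con ↥(centralizer ({b} : Set G))) :
    th a ⊓ centralizer ({b} : Set G) ≤ th b := by
  have haC : a ∈ centralizer ({b} : Set G) := mem_centralizer_singleton_iff.2 hab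
  let C : Subgroup G := centralizer ({b} : Set G)
  let a' : C := ⟨a, haC⟩
  let H : Subgroup C := (th a).subgroupOf C
  have hP : IsPGroup 2 (zpowers a') := by
    rintro ⟨z, hz⟩
    obtain ⟨n, rfl⟩ := mem_zpowers_iff.mp hz
    refine ⟨1, ?_⟩
    apply Subtype.ext
    apply Subtype.ext
    show (a ^ n) ^ 2 ^ 1 = 1
    rw [← zpow_natCast, ← zpow_mul, mul_comm, zpow_mul, zpow_natCast, pow_one, pow_two, ha,
      one_zpow]
  have hcentr : ∀ c : C, c ∈ centralizer (zpowers a' : Set C) ↔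
      (c : G) ∈ centralizer ({a} : Set G) := by
    intro c
    rw [mem_centralizer_iff, mem_centralizer_iff]
    constructor
    · intro h g hg
      rw [Set.mem_singleton_iff.mp hg]
      exact congrArg Subtype.val (h a' (mem_zpowers a'))
    · intro h g hg
      obtain ⟨n, rfl⟩ := mem_zpowers_iff.mp hg
      have h1 : Commute a' c := Subtype.ext (h a rfl)
      exact (h1.zpow_left n).eq
  have hle : H ≤ pPrimeCore 2 C := by
    apply le_pPrimeCore_of_con hb (zpowers a') hP H
    · exact Nat.Coprime.coprime_dvd_left (card_comap_dvd_of_injective _ _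
        C.subtype_injective) (CoreOfCentralizer.card_centralizerPPrimeCore_coprime 2 a)
    · intro h hh
      rw [hcentr]
      exact CoreOfCentralizer.centralizerPPrimeCore_le 2 a hh
    · intro c hc
      rw [hcentr] at hc
      have h1 := CoreOfCentralizer.centralizer_le_normalizer_centralizerPPrimeCore 2 a hc
      rw [mem_normalizer_iff] at h1 ⊢
      intro g
      exact h1 g
  rintro g ⟨hg1, hg2⟩
  exact ⟨⟨g, hg2⟩, hle hg1, rfl⟩

theorem th_odd (a : G) : Odd (Nat.card (th a)) := by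
  have h : ¬ 2 ∣ Nat.card (th a) := Lib.CoreCent.core_card 2 a
  exact Nat.odd_iff.2 (by omega)

theorem th_solvable (a : G) : Group.IsSolvable ↥(th a) := S0205.result (th_odd a)

theorem th_conj (a g : G) : th (g * a * g⁻¹) = (th a).map (MulAut.conj g).toMonoidHom :=
  Lib.CoreCent.core_conj 2 a g

/-- the join of the `O(C_G(e))`, `e ∈ E#` -/
def W (E : Subgroup G) : Subgroup G := ⨆ a : {a : G // a ∈ E ∧ a ≠ 1}, th (a : G)

theorem le_W {E : Subgroup G} {a : G} (ha : a ∈ E) (ha1 : a ≠ 1) : th a ≤ W E :=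
  le_iSup (fun a : {a : G // a ∈ E ∧ a ≠ 1} => th (a : G)) ⟨a, ha, ha1⟩

theorem W_le {E H : Subgroup G} (h : ∀ a ∈ E, a ≠ 1 → th a ≤ H) : W E ≤ H :=
  iSup_le fun a => h a a.2.1 a.2.2

/-- a subgroup generated by the cores of a conjugation invariant family -/
theorem mem_normalizer_of_perm {W : Subgroup G} {X : Set G} (hW : W = ⨆ x : X, th (x : G)) {n : G}
    (hn : ∀ x ∈ X, n * x * n⁻¹ ∈ X) (hn' : ∀ x ∈ X, n⁻¹ * x * n ∈ X) :
    n ∈ normalizer (W : Set G) := by
  have key : ∀ m : G, (∀ x ∈ X, m * x * m⁻¹ ∈ X) → W.map (MulAut.conj m).toMonoidHom ≤ W := by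
    intro m hm
    rw [hW, Subgroup.map_iSup]
    refine iSup_le ?_
    rintro ⟨x, hx⟩
    show (th x).map (MulAut.conj m).toMonoidHom ≤ _
    rw [← th_conj x m]
    exact le_iSup (fun x : X => th (x : G)) ⟨m * x * m⁻¹, hm x hx⟩
  rw [mem_normalizer_iff]
  intro x
  constructor
  · intro hx
    exact key n hn ⟨x, hx, rfl⟩
  · intro hx
    have h1 := key n⁻¹ (by simpa using hn') ⟨_, hx, rfl⟩
    have h2 : (MulAut.conj n⁻¹).toMonoidHom (n * x * n⁻¹) = x := by
      show n⁻¹ * (n * x * n⁻¹) * n⁻¹⁻¹ = x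
      group
    rw [h2] at h1
    exact h1

/-- `E` is elementary abelian, all its non-identity elements are conjugate to `z`. -/
structure Pure (z : G) (E : Subgroup G) : Prop where
  comm : ∀ a ∈ E, ∀ b ∈ E, a * b = b * a
  sq : ∀ a ∈ E, a * a = 1
  card : 8 ≤ Nat.card E
  conj : ∀ a ∈ E, a ≠ 1 → IsConj z a

variable {z : G} (hz : Con ↥(centralizer ({z} : Set G)))

include hz

theorem closure {E : Subgroup G} (hE : Pure z E) :
    Odd (Nat.card (W E)) ∧ ∀ a ∈ E, a ≠ 1 → W E ⊓ centralizer ({a} : Set G) = th a := by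
  have h2 : Fact (Nat.Prime 2) := ⟨Nat.prime_two⟩
  have hV2' : ∀ a ∈ E, a ^ 2 = 1 := fun a ha => by rw [pow_two]; exact hE.sq a ha
  have hmain := SFTwo.result E hE.comm hV2' (by norm_num; exact hE.card)
    (fun a => centralizerPPrimeCore 2 a)
    (fun a _ _ => Lib.CoreCent.core_le 2 a)
    (fun a _ _ => Lib.CoreCent.core_card 2 a)
    (fun a ha _ b hb x hx => by
      have h := Lib.CoreCent.core_normalized 2 a
        (mem_centralizer_singleton_iff.2 (hE.comm b hb a ha))
      exact (mem_normalizer_iff.1 h x).1 hx)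
    (fun a _ _ => th_solvable a)
    (fun a ha _ b hb hb1 =>
      balance_of_con a b (hE.comm a ha b hb) (hE.sq a ha) (con_isConj (hE.conj b hb hb1) hz))
  refine ⟨?_, hmain.2⟩
  have h := hmain.1
  rw [Nat.odd_iff]
  change ¬ 2 ∣ Nat.card (W E) at h
  omega

omit hz in
/-- elements normalising `E` normalise `W` -/
theorem normalizer_le (E : Subgroup G) : normalizer (E : Set G) ≤ normalizer (W E : Set G) := by
  intro n hn
  have hn1 := mem_normalizer_iff.1 hn
  have hn2 := mem_normalizer_iff.1 (inv_mem hn)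
  apply mem_normalizer_of_perm (X := {a : G | a ∈ E ∧ a ≠ 1}) rfl
  · rintro x ⟨hx, hx1⟩
    refine ⟨(hn1 x).1 hx, fun h => hx1 ?_⟩
    have := congrArg (fun y => n⁻¹ * y * n) h
    simpa [mul_assoc] using this
  · rintro x ⟨hx, hx1⟩
    refine ⟨by simpa using (hn2 x).1 hx, fun h => hx1 ?_⟩
    have := congrArg (fun y => n * y * n⁻¹) h
    simpa [mul_assoc] using this

omit hz in
/-- generation by centralizers of the elements of a subgroup of order at least 4 -/
theorem gen_le {F K : Subgroup G} (hFc : ∀ a ∈ F, ∀ b ∈ F, a * b = b * a) (hF2 : ∀ a ∈ F, a * a = 1)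
    (hF4 : 4 ≤ Nat.card F) (hK : Odd (Nat.card K)) (hFK : F ≤ normalizer (K : Set G))
    {H : Subgroup G} (h : ∀ f ∈ F, f ≠ 1 → K ⊓ centralizer ({f} : Set G) ≤ H) : K ≤ H := by
  have : IsMulCommutative F := IsMulCommutative.of_setLike_mul_comm hFc
  have hncyc : ¬ IsCyclic F := by
    intro hcyc
    obtain ⟨g, hg⟩ := IsCyclic.exists_generator (α := F)
    have h3 : orderOf g = Nat.card F := orderOf_eq_card_of_forall_mem_zpowers hg
    have h4 : g ^ 2 = 1 := by
      ext
      simpa [pow_two] using hF2 g g.2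
    have h5 : orderOf g ≤ 2 := orderOf_le_of_pow_eq_one (by norm_num) h4
    omega
  have hp : IsPGroup 2 F := by
    rintro ⟨x, hx⟩
    exact ⟨1, Subtype.ext (by show x ^ 2 ^ 1 = 1; rw [pow_one, pow_two]; exact hF2 x hx)⟩
  have hcop : (Nat.card F).Coprime (Nat.card K) := by
    have h2 : Fact (Nat.Prime 2) := ⟨Nat.prime_two⟩
    obtain ⟨n, hn⟩ := (IsPGroup.iff_card (p := 2)).1 hp
    rw [hn]
    exact Nat.Coprime.pow_left n (Nat.coprime_two_left.2 hK)
  have h7 := S0058.result F K hncyc hFK hcop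
  rw [← h7]
  refine iSup₂_le ?_
  rintro a ⟨ha, ha1⟩
  exact h a ha ha1

theorem th_le_W {E : Subgroup G} (hE : Pure z E) {F : Subgroup G} (hFE : F ≤ E)
    (hF4 : 4 ≤ Nat.card F) {b : G} (hb : ∀ f ∈ F, f * b = b * f) (hb2 : b * b = 1) :
    th b ≤ W E := by
  apply gen_le (F := F) (fun a ha c hc => hE.comm a (hFE ha) c (hFE hc))
    (fun a ha => hE.sq a (hFE ha)) hF4 (th_odd b)
  · intro f hf
    exact Lib.CoreCent.core_normalized 2 b (mem_centralizer_singleton_iff.2 (hb f hf))
  · intro f hf hf1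
    refine le_trans (balance_of_con b f (hb f hf).symm hb2 ?_) (le_W (hFE hf) hf1)
    exact con_isConj (hE.conj f (hFE hf) hf1) hz

/-- the normalizer of `A` normalises `W` if `A` is elementary abelian and `|A ∩ E| ≥ 4` -/
theorem normalizer_le_of_inf {E A : Subgroup G} (hE : Pure z E)
    (hAc : ∀ a ∈ A, ∀ b ∈ A, a * b = b * a) (hA2 : ∀ a ∈ A, a * a = 1)
    (hAE : 4 ≤ Nat.card (A ⊓ E : Subgroup G)) :
    normalizer (A : Set G) ≤ normalizer (W E : Set G) := by
  obtain ⟨hodd, hW⟩ := closure hz hE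
  have hEq : W E = ⨆ x : {b : G | b ∈ A ∧ IsConj z b}, th (x : G) := by
    apply le_antisymm
    · apply gen_le (F := A ⊓ E) (fun a ha c hc => hE.comm a ha.2 c hc.2)
        (fun a ha => hE.sq a ha.2) hAE hodd
      · intro f hf
        apply normalizer_le E
        exact le_normalizer hf.2
      · intro f hf hf1
        rw [hW f hf.2 hf1]
        exact le_iSup (fun x : {b : G | b ∈ A ∧ IsConj z b} => th (x : G))
          ⟨f, hf.1, hE.conj f hf.2 hf1⟩
    · refine iSup_le ?_
      rintro ⟨b, hb, hbz⟩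
      exact th_le_W hz hE inf_le_right hAE (fun f hf => hAc f hf.1 b hb) (hA2 b hb)
  intro n hn
  have hn1 := mem_normalizer_iff.1 hn
  have hn2 := mem_normalizer_iff.1 (inv_mem hn)
  apply mem_normalizer_of_perm hEq
  · rintro x ⟨hx, hx1⟩
    exact ⟨(hn1 x).1 hx, hx1.trans (isConj_iff.2 ⟨n, rfl⟩)⟩
  · rintro x ⟨hx, hx1⟩
    exact ⟨by simpa using (hn2 x).1 hx, hx1.trans (isConj_iff.2 ⟨n⁻¹, by simp⟩)⟩

omit hz in
/-- the centralizer of `z` normalises `W` -/
theorem centralizer_le {E : Subgroup G} (hzE : z ∈ E) (hz1 : z ≠ 1)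
    (hC : ∀ g ∈ centralizer ({z} : Set G), ∃ a ∈ th z, ∃ n ∈ normalizer (E : Set G), g = a * n) :
    centralizer ({z} : Set G) ≤ normalizer (W E : Set G) := by
  intro g hg
  obtain ⟨a, ha, n, hn, rfl⟩ := hC g hg
  exact mul_mem (le_normalizer (le_W hzE hz1 ha)) (normalizer_le E hn)

end

end Cfsg.Agent.SylowL5.Functor
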