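import Mathlib
import Cfsg.Agent.SylowL5.Setup
import Cfsg.Agent.SylowL5.Data

/-!
# The exact output of the fusion analysis (piece [A] of S0512)

`FData S u` collects what is proved in `G` itself; `Final` says that in addition the lift to
`Y = C_G(z)` satisfies `VData`. The theorem (to appear in `SylowL5/FusMain.lean`) is

`exists_final [Finite G] (hG : ∀ H : Subgroup G, H.index ≠ 2) (S : Sylow 2 G) (h : Emb S u₀) :
    ∃ u, Final S u`.
-/

set_option autoImplicit false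

namespace Cfsg.Agent.SylowL5.FusData

open Cfsg Subgroup Cfsg.Agent.SylowL5.Setup Cfsg.Agent.SylowL5.Data

structure FData {G : Type*} [Group G] (S : Subgroup G) (u : ℕ → G) : Prop where
  emb : Emb S u
  /-- `A1` and `A2` are weakly closed in `S` with respect to `G` -/
  wA1 : ∀ g : G, (∀ a ∈ CS u kA1, g * a * g⁻¹ ∈ S) → g ∈ normalizer (CS u kA1 : Set G)
  wA2 : ∀ g : G, (∀ a ∈ CS u kA2, g * a * g⁻¹ ∈ S) → g ∈ normalizer (CS u kA2 : Set G)
  /-- every involution of `S` is `C_G(z)`-conjugate to an element of `A1` or `A2` -/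
  inv : ∀ t ∈ S, t * t = 1 → ∃ g : G, g * u x15 = u x15 * g ∧
    (g * t * g⁻¹ ∈ CS u kA1 ∨ g * t * g⁻¹ ∈ CS u kA2)
  /-- `C_G(z) ∩ N(A1)` normalises `W1 = <13,14,25,15>` and `U1 = <25,15>` -/
  nW1 : ∀ g : G, g * u x15 = u x15 * g → g ∈ normalizer (CS u kA1 : Set G) →
    g ∈ normalizer (CS u kW1 : Set G)
  nU1 : ∀ g : G, g * u x15 = u x15 * g → g ∈ normalizer (CS u kA1 : Set G) →
    g ∈ normalizer (CS u kU1 : Set G)
  nW2 : ∀ g : G, g * u x15 = u x15 * g → g ∈ normalizer (CS u kA2 : Set G) →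
    g ∈ normalizer (CS u kW2 : Set G)
  nU2 : ∀ g : G, g * u x15 = u x15 * g → g ∈ normalizer (CS u kA2 : Set G) →
    g ∈ normalizer (CS u kU2 : Set G)
  k3 : ∃ k : G, k * u x15 = u x15 * k ∧ Odd (orderOf k) ∧ k ∈ normalizer (CS u kQ : Set G) ∧
    k ∈ normalizer (CS u kA1 : Set G) ∧
    ∃ a, a < 1024 ∧ SubK a kU1 ∧ k * u x35 * k⁻¹ = u (mu x45 a)
  k2 : ∃ k : G, k * u x15 = u x15 * k ∧ Odd (orderOf k) ∧ k ∈ normalizer (CS u kQ : Set G) ∧
    k ∈ normalizer (CS u kA2 : Set G) ∧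
    ∃ a, a < 1024 ∧ SubK a kU2 ∧ k * u x13 * k⁻¹ = u (mu x12 a)

/-- `FData` together with `VData` for `Y = C_G(z)`, `z = u x15`. -/
structure Final {G : Type*} [Group G] (S : Subgroup G) (u : ℕ → G) : Prop where
  fus : FData S u
  vdata : ∃ (T : Sylow 2 (centralizer {u x15} : Subgroup G))
    (v : ℕ → (centralizer {u x15} : Subgroup G)),
    (∀ a, a < 1024 → (v a : G) = u a) ∧
    (T : Subgroup (centralizer {u x15} : Subgroup G)).map
      (centralizer {u x15} : Subgroup G).subtype = S ∧ VData T v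

end Cfsg.Agent.SylowL5.FusData
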