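import Mathlib
import Cfsg.Agent.Held.AffineIso
import Cfsg.Agent.Held.HeldCardLe

/-!
# Identification of an extension of `2^4` with the centralizer of a transvection of `SL(5,2)`

`Cfg em K`: `em` is an isomorphism from `F_2^4` onto a normal, self-centralizing subgroup `E` of `Y`, `K` is a
complement, `em e₃` is central. Then `Y` embeds in `CC`, and `Y ≃* CC` if `21504 ≤ |Y|`.
-/

set_option autoImplicit false

namespace Cfsg.Agent.SylowL5.IdentCore

open Matrix Cfsg.Agent.SporadicRecognition.HeldModel Cfsg.Agent.Held.AffineIso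

/-- `F_2^4` -/
abbrev F4 := Fin 4 → ZMod 2

/-- The configuration. -/
structure Cfg {Y : Type*} [Group Y] (em : F4 → Y) (K : Subgroup Y) : Prop where
  add : ∀ f g, em (f + g) = em f * em g
  inj : Function.Injective em
  conj : ∀ (y : Y) (f : F4), ∃ g, y⁻¹ * em f * y = em g
  cent : ∀ y, (∀ f, y * em f = em f * y) → ∃ f, y = em f
  cover : ∀ y, ∃ k ∈ K, ∃ f, y = k * em f
  disj : ∀ f, em f ∈ K → f = 0
  zc : ∀ y, y * em (Pi.single 3 1) = em (Pi.single 3 1) * y

namespace Cfg

variable {Y : Type*} [Group Y] {em : F4 → Y} {K : Subgroup Y} (h : Cfg em K)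

include h in
theorem em_zero : em 0 = 1 := by
  have h1 := h.add 0 0
  rw [add_zero] at h1
  exact left_eq_mul.mp h1

include h in
theorem em_comm (f g : F4) : em f * em g = em g * em f := by
  rw [← h.add, ← h.add, add_comm]

/-- the action on the right -/
noncomputable def act (y : Y) (f : F4) : F4 := (h.conj y f).choose

theorem act_spec (y : Y) (f : F4) : y⁻¹ * em f * y = em (h.act y f) := (h.conj y f).choose_spec

theorem act_eq {y : Y} {f g : F4} (e : y⁻¹ * em f * y = em g) : h.act y f = g :=
  h.inj ((h.act_spec y f).symm.trans e)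

theorem act_add (y : Y) (f g : F4) : h.act y (f + g) = h.act y f + h.act y g := by
  apply h.act_eq
  rw [h.add, h.add, ← h.act_spec, ← h.act_spec]
  group

theorem act_zero (y : Y) : h.act y 0 = 0 := by
  apply h.act_eq
  rw [h.em_zero]; group

theorem act_mul (y y' : Y) (f : F4) : h.act (y * y') f = h.act y' (h.act y f) := by
  apply h.act_eq
  rw [← h.act_spec, ← h.act_spec]
  group

theorem act_one (f : F4) : h.act 1 f = f := by
  apply h.act_eq
  group

theorem act_em (f g : F4) : h.act (em f) g = g := by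
  apply h.act_eq
  rw [mul_assoc, h.em_comm g f, ← mul_assoc, inv_mul_cancel, one_mul]

/-- the action as a linear map -/
noncomputable def lin (y : Y) : F4 →ₗ[ZMod 2] F4 :=
  AddMonoidHom.toZModLinearMap 2
    { toFun := h.act y
      map_zero' := h.act_zero y
      map_add' := h.act_add y }

theorem lin_apply (y : Y) (f : F4) : h.lin y f = h.act y f := rfl

/-- the matrix of `y` acting from the right -/
noncomputable def B (y : Y) : Matrix (Fin 4) (Fin 4) (ZMod 2) := (LinearMap.toMatrix' (h.lin y))ᵀ

theorem vecMul_B (y : Y) (f : F4) : f ᵥ* h.B y = h.act y f := by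
  rw [B, Matrix.vecMul_transpose, ← Matrix.toLin'_apply, Matrix.toLin'_toMatrix', lin_apply]

theorem B_mul (y y' : Y) : h.B (y * y') = h.B y * h.B y' := by
  have e : h.lin (y * y') = (h.lin y').comp (h.lin y) := by
    apply LinearMap.ext
    intro f
    rw [LinearMap.comp_apply, lin_apply, lin_apply, lin_apply, act_mul]
  rw [B, B, B, e, LinearMap.toMatrix'_comp, Matrix.transpose_mul]

theorem B_one : h.B 1 = 1 := by
  have e : h.lin 1 = LinearMap.id := by
    apply LinearMap.ext
    intro f
    rw [lin_apply, act_one, LinearMap.id_apply]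
  rw [B, e, LinearMap.toMatrix'_id, Matrix.transpose_one]

theorem det_B (y : Y) : (h.B y).det = 1 := by
  have h1 : h.B y * h.B y⁻¹ = 1 := by rw [← B_mul, mul_inv_cancel, B_one]
  have h2 : (h.B y).det * (h.B y⁻¹).det = 1 := by rw [← Matrix.det_mul, h1, Matrix.det_one]
  have h3 : (h.B y).det ≠ 0 := by
    intro h4; rw [h4, zero_mul] at h2; exact zero_ne_one h2
  revert h3
  generalize (h.B y).det = d
  revert d
  decide

/-- the component in `E` -/
noncomputable def c (y : Y) : F4 := (h.cover y).choose_spec.2.choose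

theorem c_spec (y : Y) : ∃ k ∈ K, y = k * em (h.c y) :=
  ⟨(h.cover y).choose, (h.cover y).choose_spec.1, (h.cover y).choose_spec.2.choose_spec⟩

theorem add_self (f : F4) : f + f = 0 := by
  funext i
  exact CharTwo.add_self_eq_zero (f i)

theorem c_unique {y k : Y} {f : F4} (hk : k ∈ K) (e : y = k * em f) : h.c y = f := by
  obtain ⟨k', hk', e'⟩ := h.c_spec y
  have h1 : em f * (em (h.c y))⁻¹ = k⁻¹ * k' := by
    rw [mul_inv_eq_iff_eq_mul, mul_assoc, ← e', e, inv_mul_cancel_left]
  have h2 : (em (h.c y))⁻¹ = em (h.c y) :=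
    inv_eq_of_mul_eq_one_right (by rw [← h.add, add_self, h.em_zero])
  have h3 : em (f + h.c y) ∈ K := by
    rw [h.add, ← h2, h1]
    exact K.mul_mem (K.inv_mem hk) hk'
  have h4 := h.disj _ h3
  have h5 : f + h.c y + h.c y = h.c y := by rw [h4, zero_add]
  rw [add_assoc, add_self, add_zero] at h5
  exact h5.symm

theorem c_mul (y y' : Y) : h.c (y * y') = h.c y' + h.c y ᵥ* h.B y' := by
  obtain ⟨k, hk, e⟩ := h.c_spec y
  obtain ⟨k', hk', e'⟩ := h.c_spec y'
  have h1 : h.act y' (h.c y) = h.act k' (h.c y) := by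
    conv_lhs => rw [e']
    rw [act_mul, act_em]
  apply h.c_unique (K.mul_mem hk hk')
  rw [vecMul_B, h1, add_comm, h.add, ← h.act_spec]
  conv_lhs => rw [e, e']
  group

theorem c_one : h.c 1 = 0 := h.c_unique K.one_mem (by rw [h.em_zero, one_mul])

/-- the embedding -/
noncomputable def F : Y →* L5 where
  toFun y := slBlk (h.c y) (h.B y) (h.det_B y)
  map_one' := by
    apply Subtype.ext
    show blk (h.c 1) (h.B 1) = 1
    rw [c_one, B_one, blk_one]
  map_mul' y y' := by
    apply Subtype.ext
    show blk (h.c (y * y')) (h.B (y * y')) = blk (h.c y) (h.B y) * blk (h.c y') (h.B y')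
    rw [blk_mul, c_mul, B_mul]

theorem F_coe (y : Y) : ((h.F y : L5) : Matrix (Fin 5) (Fin 5) (ZMod 2)) = blk (h.c y) (h.B y) := rfl

theorem F_inj : Function.Injective h.F := by
  rw [injective_iff_map_eq_one]
  intro y hy
  have h1 : blk (h.c y) (h.B y) = 1 := congrArg Subtype.val hy
  have hB : h.B y = 1 := by
    ext i j
    have h2 := congrFun (congrFun h1 i.succ) j.succ
    rw [blk_succ_succ] at h2
    rw [h2, Matrix.one_apply, Matrix.one_apply]
    simp [Fin.succ_inj]
  have hc : h.c y = 0 := by
    funext j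
    have h2 := congrFun (congrFun h1 0) j.succ
    rw [blk_zero_succ] at h2
    rw [h2, Matrix.one_apply, if_neg (Fin.succ_ne_zero j).symm]
    rfl
  obtain ⟨f, hf⟩ := h.cent y (fun f => by
    have h2 := h.act_spec y f
    rw [← vecMul_B, hB, Matrix.vecMul_one] at h2
    calc y * em f = y * (y⁻¹ * em f * y) := by rw [h2]
      _ = em f * y := by group)
  have h3 := h.c_unique K.one_mem (show y = 1 * em f by rw [one_mul, hf])
  rw [hc] at h3
  rw [hf, ← h3, h.em_zero]

theorem F_mem (y : Y) : h.F y ∈ CC := by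
  rw [mem_CC_iff_pat]
  have hz : h.act y (Pi.single 3 1) = Pi.single 3 1 := by
    apply h.act_eq
    rw [mul_assoc, ← h.zc y, inv_mul_cancel_left]
  intro i j hij
  rw [Matrix.sub_apply, sub_eq_zero, F_coe]
  have hcase : j = 0 ∨ i = 4 := by
    revert hij
    simp only [PC, Bool.and_eq_false_iff, decide_eq_false_iff_not, not_not]
    exact fun h => h
  rcases hcase with rfl | rfl
  · refine Fin.cases ?_ (fun i => ?_) i
    · simp
    · simp
  · have h3 : (4 : Fin 5) = (3 : Fin 4).succ := rfl
    rw [h3]
    refine Fin.cases ?_ (fun j => ?_) j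
    · rw [blk_succ_zero, Matrix.one_apply, if_neg (Fin.succ_ne_zero _)]
    · rw [blk_succ_succ]
      have h4 : h.B y 3 j = (Pi.single 3 1 : F4) j := by
        rw [← hz, ← vecMul_B]
        simp [Matrix.vecMul, dotProduct, Pi.single_apply]
      rw [h4, Matrix.one_apply, Pi.single_apply]
      clear h4
      revert j
      decide

include h in
/-- **Identification**: `Y` is isomorphic to the centralizer of a transvection. -/
theorem nonempty_equiv_CC (hcard : 21504 ≤ Nat.card Y) : Nonempty (Y ≃* CC) := by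
  let F' : Y →* CC := h.F.codRestrict CC h.F_mem
  have hinj : Function.Injective F' := fun a b hab => h.F_inj (congrArg Subtype.val hab)
  have : Finite Y := Nat.finite_of_card_ne_zero (by omega)
  have hb : Function.Bijective F' := hinj.bijective_of_nat_card_le (by
    exact Cfsg.Agent.Held.HeldCardLe.card_CC_le.trans hcard)
  exact ⟨MulEquiv.ofBijective F' hb⟩

include h in
/-- the same with the centralizer of the transvection `1 + E_01` -/
theorem nonempty_equiv (hcard : 21504 ≤ Nat.card Y) (s : L5)
    (hs : (s : Matrix (Fin 5) (Fin 5) (ZMod 2)) = transvection 0 1 1) :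
    Nonempty (Y ≃* Subgroup.centralizer ({s} : Set L5)) := by
  obtain ⟨e⟩ := h.nonempty_equiv_CC hcard
  exact ⟨e.trans (MulEquiv.ofBijective (toCs hs) ⟨toCs_inj hs, toCs_surj hs⟩)⟩

end Cfg

end Cfsg.Agent.SylowL5.IdentCore
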