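import Mathlib
import Cfsg.Agent.SylowL5.Data
import Cfsg.Agent.SylowL5.IdentCore
import Cfsg.Agent.SylowL5.SelfCent
import Cfsg.Agent.Solvable.Gaschutz

/-!
# S0512, piece (B5): identification with the centralizer of a transvection

If `Y` has a Sylow 2-subgroup of type `L_5(2)`, `O(Y) = 1`, `Q` is normal, and the fusion data `VData` hold, then `Y`
is isomorphic to the centralizer of a transvection of `SL(5,2)`.
-/

set_option autoImplicit false
set_option linter.unusedSectionVars false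

namespace Cfsg.Agent.SylowL5.Ident

open Cfsg Subgroup Cfsg.Agent.SylowL5.Setup Cfsg.Agent.SylowL5.Data Cfsg.Agent.SylowL5.IdentCore

/-! ### codes of `E2` -/

/-- the code of an element of row `1` -/
def cde (f : F4) : ℕ := (f 0).val + 16 * (f 1).val + 128 * (f 2).val + 512 * (f 3).val

theorem cde_lt : ∀ f : F4, cde f < 1024 := by decide +kernel
theorem cde_land : ∀ f : F4, Nat.land (cde f) kE2 = cde f := by decide +kernel
theorem cde_add : ∀ f g : F4, cde (f + g) = mu (cde f) (cde g) := by decide +kernel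
theorem cde_inj : ∀ f g : F4, cde f = cde g → f = g := by decide +kernel
theorem cde_surj : ∀ a : Fin 1024, Nat.land a.1 kE2 = a.1 → ∃ f : F4, cde f = a.1 := by
  decide +kernel

theorem cde_sub (f : F4) : SubK (cde f) kE2 := (subK_iff _ _).2 (cde_land f)

/-- row one is self-centralizing -/
theorem cent_codes : ∀ a : Fin 1024, mu a.1 x12 = mu x12 a.1 → mu a.1 x13 = mu x13 a.1 →
    mu a.1 x14 = mu x14 a.1 → Nat.land a.1 kE2 = a.1 := by decide +kernel

/-- the mask of the lower right block -/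
abbrev kLR : ℕ := 366

theorem decomp : ∀ a : Fin 1024, ∃ f : F4, mu (cde f) (Nat.land a.1 kLR) = a.1 := by decide +kernel

theorem land_lt : ∀ a : Fin 1024, Nat.land a.1 kLR < 1024 := by decide +kernel
theorem land_land : ∀ a : Fin 1024, Nat.land (Nat.land a.1 kLR) kLR = Nat.land a.1 kLR := by
  decide +kernel
theorem disj_codes : ∀ f : F4, Nat.land (cde f) kLR = cde f → f = 0 := by decide +kernel

theorem cj12 : ∀ f : F4, f 0 = 1 → ∃ s : Fin 1024, mu s.1 x12 = mu (cde f) s.1 := by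
  decide +kernel
theorem cj13 : ∀ f : F4, f 0 = 0 → f 1 = 1 → ∃ s : Fin 1024, mu s.1 x13 = mu (cde f) s.1 := by
  decide +kernel
theorem cj14 : ∀ f : F4, f 0 = 0 → f 1 = 0 → f 2 = 1 →
    ∃ s : Fin 1024, mu s.1 x14 = mu (cde f) s.1 := by
  decide +kernel

theorem comm_codes : ∀ f : F4, f 0 = 0 → f 1 = 0 → ∀ a : Fin 1024, Nat.land a.1 kU1 = a.1 →
    mu (cde f) (mu x45 a.1) = mu (mu x45 a.1) (cde f) → f 2 = 0 := by decide +kernel

theorem A1_codes : ∀ f : F4, Nat.land (cde f) kA1 = cde f → f 0 = 0 := by decide +kernel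
theorem A2_codes : ∀ f : F4, Nat.land (cde f) kA2 = cde f ↔ f 0 = 0 ∧ f 1 = 0 := by decide +kernel
theorem U2_codes : ∀ a : Fin 1024, Nat.land a.1 kU2 = a.1 →
    ∃ f : F4, cde f = mu x12 a.1 ∧ f 0 = 1 ∧ f 1 = 0 := by decide +kernel

/-! ### a lemma on `2 × 2` matrices -/

/-- one step -/
def step (w v : ZMod 2 × ZMod 2) : ZMod 2 × ZMod 2 := (v.2 * w.1, v.1 + v.2 * w.2)

theorem step8 : ∀ w v : ZMod 2 × ZMod 2, (step w)^[8] v = (step w)^[2] v := by decide +kernel

theorem step_small : ∀ w : ZMod 2 × ZMod 2, ∀ m : Fin 8, (m.1 = 1 ∨ m.1 = 5 ∨ m.1 = 7) →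
    (step w)^[m.1] (1, 0) ≠ (1, 0) := by decide +kernel

theorem step_three (w : ZMod 2 × ZMod 2) (m : ℕ) (hm : Odd m) (h : (step w)^[m] (1, 0) = (1, 0)) :
    3 ∣ m := by
  induction m using Nat.strong_induction_on with
  | _ m ih =>
    rcases Nat.lt_or_ge m 8 with h1 | h1
    · by_contra h3
      have h2 : m = 1 ∨ m = 5 ∨ m = 7 := by
        obtain ⟨r, hr⟩ := hm
        omega
      exact step_small w ⟨m, h1⟩ h2 h
    · obtain ⟨r, hr⟩ := hm
      have h2 : (step w)^[m - 6] (1, 0) = (1, 0) := by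
        have e1 : m = (m - 8) + 8 := by omega
        have e2 : m - 6 = (m - 8) + 2 := by omega
        rw [e2, Function.iterate_add_apply, ← step8, ← Function.iterate_add_apply, ← e1]
        exact h
      have h3 := ih (m - 6) (by omega) ⟨r - 3, by omega⟩ h2
      omega

section main

variable {Y : Type*} [Group Y] [Finite Y] {S : Sylow 2 Y} {u : ℕ → Y}

/-- the coordinates of `E2` -/
def em (u : ℕ → Y) (f : F4) : Y := u (cde f)

theorem em_mem (h : Emb (S : Subgroup Y) u) (f : F4) : em u f ∈ CS u kE2 :=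
  (h.mem_CS (by decide)).2 ⟨cde f, cde_lt f, cde_sub f, rfl⟩

theorem exists_em (h : Emb (S : Subgroup Y) u) {y : Y} (hy : y ∈ CS u kE2) : ∃ f, y = em u f := by
  obtain ⟨a, ha, hs, rfl⟩ := (h.mem_CS (by decide)).1 hy
  obtain ⟨f, hf⟩ := cde_surj ⟨a, ha⟩ ((subK_iff _ _).1 hs)
  exact ⟨f, by rw [em, hf]⟩

theorem em_add (h : Emb (S : Subgroup Y) u) (f g : F4) : em u (f + g) = em u f * em u g := by
  rw [em, cde_add, h.mul (cde_lt f) (cde_lt g)]; rfl

theorem em_inj (h : Emb (S : Subgroup Y) u) : Function.Injective (em u) := fun f g e =>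
  cde_inj f g (h.inj (cde_lt f) (cde_lt g) e)

theorem em_12 : em u (Pi.single 0 1) = u x12 := by
  rw [em]; congr 1
theorem em_13 : em u (Pi.single 1 1) = u x13 := by
  rw [em]; congr 1
theorem em_14 : em u (Pi.single 2 1) = u x14 := by
  rw [em]; congr 1
theorem em_15 : em u (Pi.single 3 1) = u x15 := by
  rw [em]; congr 1

theorem comm_of_mu (h : Emb (S : Subgroup Y) u) {a b : ℕ} (ha : a < 1024) (hb : b < 1024) :
    u a * u b = u b * u a ↔ mu a b = mu b a := by
  rw [← h.mul ha hb, ← h.mul hb ha]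
  exact ⟨fun e => h.inj (mu_lt ha hb) (mu_lt hb ha) e, fun e => by rw [e]⟩

theorem normal_E2 (h : VData S u) (hQ : normalizer (CS u kQ : Set Y) = ⊤) :
    (CS u kE2).Normal := by
  rw [← normalizer_eq_top_iff, eq_top_iff, ← hQ]; exact h.nE2

theorem cent_E2 (h : VData S u) (hQ : normalizer (CS u kQ : Set Y) = ⊤)
    (hO : pPrimeCore 2 Y = ⊥) (y : Y) (hy : ∀ f, y * em u f = em u f * y) : y ∈ CS u kE2 := by
  apply SelfCent.cent_le S (CS u kE2) (normal_E2 h hQ) ?_ ?_ hO y ?_
  · intro x hx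
    obtain ⟨f, rfl⟩ := exists_em h.emb hx
    rw [← em_add h.emb, Cfg.add_self, em]
    exact h.emb.zero
  · intro s hs hc
    obtain ⟨a, ha, rfl⟩ := h.emb.surj s hs
    have h1 := cent_codes ⟨a, ha⟩
      ((comm_of_mu h.emb ha (by norm_num)).1 (by rw [← em_12 (u := u)]; exact hc _ (em_mem h.emb _)))
      ((comm_of_mu h.emb ha (by norm_num)).1 (by rw [← em_13 (u := u)]; exact hc _ (em_mem h.emb _)))
      ((comm_of_mu h.emb ha (by norm_num)).1 (by rw [← em_14 (u := u)]; exact hc _ (em_mem h.emb _)))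
    exact (h.emb.mem_CS (by decide)).2 ⟨a, ha, (subK_iff _ _).2 h1, rfl⟩
  · intro e he
    obtain ⟨f, rfl⟩ := exists_em h.emb he
    exact hy f

/-- the configuration of `IdentCore` -/
theorem exists_cfg (h : VData S u) (hQ : normalizer (CS u kQ : Set Y) = ⊤)
    (hO : pPrimeCore 2 Y = ⊥) : ∃ K : Subgroup Y, Cfg (em u) K := by
  have hN := normal_E2 h hQ
  have : Fact (Nat.Prime 2) := ⟨Nat.prime_two⟩
  have hcomm : ∀ x ∈ CS u kE2, ∀ y ∈ CS u kE2, x * y = y * x := by
    intro x hx y hy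
    obtain ⟨f, rfl⟩ := exists_em h.emb hx
    obtain ⟨g, rfl⟩ := exists_em h.emb hy
    rw [← em_add h.emb, ← em_add h.emb, add_comm]
  have hE2S : CS u kE2 ≤ (S : Subgroup Y) := h.emb.CS_le _
  have hlS : CS u kLR ≤ (S : Subgroup Y) := h.emb.CS_le _
  have hinf : CS u kLR ⊓ CS u kE2 = ⊥ := by
    rw [eq_bot_iff]
    rintro x ⟨h1, h2⟩
    obtain ⟨f, rfl⟩ := exists_em h.emb h2
    obtain ⟨a, ha, hs, e⟩ := (h.emb.mem_CS (by decide)).1 h1
    have h3 := h.emb.inj ha (cde_lt f) e
    rw [h3] at hs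
    rw [disj_codes f ((subK_iff _ _).1 hs), mem_bot]
    exact h.emb.zero
  have hsup : CS u kE2 ⊔ CS u kLR = (S : Subgroup Y) := by
    apply le_antisymm (sup_le hE2S hlS)
    intro s hs
    obtain ⟨a, ha, rfl⟩ := h.emb.surj s hs
    obtain ⟨f, hf⟩ := decomp ⟨a, ha⟩
    have hl := land_lt ⟨a, ha⟩
    have h1 : u a = em u f * u (Nat.land a kLR) := by
      rw [em, ← h.emb.mul (cde_lt f) hl, hf]
    rw [h1]
    exact mul_mem_sup (em_mem h.emb f)
      ((h.emb.mem_CS (by decide)).2 ⟨_, hl, (subK_iff _ _).2 (land_land ⟨a, ha⟩), rfl⟩)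
  have hcop : (Nat.card (CS u kE2)).Coprime (S : Subgroup Y).index := by
    obtain ⟨n, hn⟩ := IsPGroup.iff_card.1 (S.2.to_le hE2S)
    rw [hn]
    exact Nat.Coprime.pow_left n ((Nat.prime_two.coprime_iff_not_dvd).2 S.not_dvd_index)
  have hab : IsMulCommutative (CS u kE2) :=
    ⟨⟨fun x y => Subtype.ext (hcomm x x.2 y y.2)⟩⟩
  obtain ⟨K, hK⟩ := Cfsg.Agent.Solvable.Gaschutz.exists_complement (CS u kE2) (S : Subgroup Y)
    hcop.pow_left_bijective (CS u kLR) hinf hsup
  refine ⟨K, ⟨em_add h.emb, em_inj h.emb, ?_, ?_, ?_, ?_, ?_⟩⟩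
  · intro y f
    have h1 := hN.conj_mem (em u f) (em_mem h.emb f) y⁻¹
    rw [inv_inv] at h1
    exact exists_em h.emb h1
  · intro y hy
    exact exists_em h.emb (cent_E2 h hQ hO y hy)
  · intro y
    obtain ⟨⟨⟨e, he⟩, ⟨k, hk⟩⟩, h1, -⟩ := hK.existsUnique y
    have h2 : e * k = y := h1
    have h3 := hN.conj_mem e he k⁻¹
    rw [inv_inv] at h3
    obtain ⟨f, hf⟩ := exists_em h.emb h3
    refine ⟨k, hk, f, ?_⟩
    rw [← hf, ← h2]; group
  · intro f hf
    have h1 : em u f ∈ CS u kE2 ⊓ K := ⟨em_mem h.emb f, hf⟩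
    rw [hK.disjoint.eq_bot, mem_bot] at h1
    apply em_inj h.emb
    rw [h1, em]
    exact h.emb.zero.symm
  · intro y
    rw [em_15]; exact h.zc y

theorem isConj_of_mu (h : Emb (S : Subgroup Y) u) {a b s : ℕ} (ha : a < 1024) (hb : b < 1024)
    (hs : s < 1024) (e : mu s a = mu b s) : IsConj (u a) (u b) := by
  rw [isConj_iff]
  refine ⟨u s, ?_⟩
  rw [mul_inv_eq_iff_eq_mul, ← h.mul hs ha, ← h.mul hb hs, e]

/-- all noncentral elements of `E2` are conjugate -/
theorem isConj_em (h : VData S u) (hQ : normalizer (CS u kQ : Set Y) = ⊤) (f : F4)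
    (hf : f 0 ≠ 0 ∨ f 1 ≠ 0 ∨ f 2 ≠ 0) : IsConj (u x14) (em u f) := by
  have hN := normal_E2 h hQ
  have one_of_ne : ∀ a : ZMod 2, a ≠ 0 → a = 1 := by decide
  -- `x13 ~ x12`
  have hc1 : IsConj (u x13) (u x12) := by
    obtain ⟨k, -, -, -, a, ha, hs, hk⟩ := h.k2
    obtain ⟨g, hg, hg0, -⟩ := U2_codes ⟨a, ha⟩ ((subK_iff _ _).1 hs)
    have h1 : IsConj (u x13) (u (cde g)) := by
      rw [isConj_iff]
      exact ⟨k, by rw [hk, hg]⟩
    obtain ⟨s, hs'⟩ := cj12 g hg0
    exact h1.trans (isConj_of_mu h.emb (by norm_num) (cde_lt g) s.2 hs').symm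
  -- `x14 ~ x13`
  have hc2 : IsConj (u x14) (u x13) := by
    obtain ⟨k, -, -, hA1, a, ha, hs, hk⟩ := h.k3
    have h1 : k * em u (Pi.single 2 1) * k⁻¹ ∈ CS u kE2 := hN.conj_mem _ (em_mem h.emb _) k
    obtain ⟨g, hg⟩ := exists_em h.emb h1
    rw [em_14] at hg
    have h2 : u x14 ∈ CS u kA1 := (h.emb.mem_CS (by decide)).2
      ⟨x14, by norm_num, (subK_iff _ _).2 (by decide), rfl⟩
    have h3 : k * u x14 * k⁻¹ ∈ CS u kA1 := (mem_normalizer_iff.1 hA1 _).1 h2
    rw [hg] at h3
    obtain ⟨b, hb, hbs, hbe⟩ := (h.emb.mem_CS (by decide)).1 h3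
    have h4 := h.emb.inj hb (cde_lt g) hbe
    rw [h4] at hbs
    have hg0 := A1_codes g ((subK_iff _ _).1 hbs)
    have h5 : IsConj (u x14) (u (cde g)) := by
      rw [isConj_iff]; exact ⟨k, hg⟩
    by_cases hg1 : g 1 = 0
    · exfalso
      have h6 : u x14 * u x35 = u x35 * u x14 :=
        (comm_of_mu h.emb (by norm_num) (by norm_num)).2 (by decide)
      have h7 : (k * u x14 * k⁻¹) * (k * u x35 * k⁻¹) = (k * u x35 * k⁻¹) * (k * u x14 * k⁻¹) := by
        calc (k * u x14 * k⁻¹) * (k * u x35 * k⁻¹) = k * (u x14 * u x35) * k⁻¹ := by group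
          _ = k * (u x35 * u x14) * k⁻¹ := by rw [h6]
          _ = _ := by group
      rw [hg, hk] at h7
      have h8 := comm_codes g hg0 hg1 ⟨a, ha⟩ ((subK_iff _ _).1 hs)
        ((comm_of_mu h.emb (cde_lt g) (mu_lt (by norm_num) ha)).1 h7)
      have h9 : u x14 = k⁻¹ * em u g * k := by rw [← hg]; group
      have h10 : em u g * k = k * em u g := by
        have hcases : g 3 = 0 ∨ g 3 = 1 := by
          generalize g 3 = c
          revert c
          decide
        rcases hcases with h11 | h11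
        · have : g = 0 := by
            funext i
            fin_cases i
            · exact hg0
            · exact hg1
            · exact h8
            · exact h11
          rw [this, em]
          have e0 : u (cde 0) = 1 := h.emb.zero
          rw [e0, one_mul, mul_one]
        · have : g = Pi.single 3 1 := by
            funext i
            fin_cases i
            · exact hg0
            · exact hg1
            · exact h8
            · exact h11
          rw [this, em_15]
          exact (h.zc k).symm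
      rw [mul_assoc, h10, ← mul_assoc, inv_mul_cancel, one_mul] at h9
      have h11 := h.emb.inj (by norm_num) (cde_lt g) h9
      have h12 : ∀ g : F4, g 2 = 0 → x14 ≠ cde g := by decide +kernel
      exact h12 g h8 h11
    · have h6 := one_of_ne _ hg1
      obtain ⟨s, hs'⟩ := cj13 g hg0 h6
      exact h5.trans (isConj_of_mu h.emb (by norm_num) (cde_lt g) s.2 hs').symm
  by_cases h0 : f 0 = 0
  · by_cases h1 : f 1 = 0
    · have h2 : f 2 = 1 := one_of_ne _ (by
        rcases hf with h3 | h3 | h3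
        · exact absurd h0 h3
        · exact absurd h1 h3
        · exact h3)
      obtain ⟨s, hs'⟩ := cj14 f h0 h1 h2
      exact isConj_of_mu h.emb (by norm_num) (cde_lt f) s.2 hs'
    · obtain ⟨s, hs'⟩ := cj13 f h0 (one_of_ne _ h1)
      exact hc2.trans (isConj_of_mu h.emb (by norm_num) (cde_lt f) s.2 hs')
  · obtain ⟨s, hs'⟩ := cj12 f (one_of_ne _ h0)
    exact (hc2.trans hc1).trans (isConj_of_mu h.emb (by norm_num) (cde_lt f) s.2 hs')

theorem card_noncentral : Nat.card {f : F4 // f 0 ≠ 0 ∨ f 1 ≠ 0 ∨ f 2 ≠ 0} = 14 := by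
  rw [Nat.card_eq_fintype_card]; decide +kernel

theorem fourteen_dvd (h : VData S u) (hQ : normalizer (CS u kQ : Set Y) = ⊤) :
    14 ∣ Nat.card Y := by
  have hN := normal_E2 h hQ
  have hset : MulAction.orbit (ConjAct Y) (u x14) =
      Set.range (fun f : {f : F4 // f 0 ≠ 0 ∨ f 1 ≠ 0 ∨ f 2 ≠ 0} => em u f.1) := by
    ext y
    rw [ConjAct.mem_orbit_conjAct]
    constructor
    · intro hy
      obtain ⟨k, hk⟩ := isConj_iff.1 hy.symm
      have h1 : k * em u (Pi.single 2 1) * k⁻¹ ∈ CS u kE2 := hN.conj_mem _ (em_mem h.emb _) k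
      rw [em_14, hk] at h1
      obtain ⟨g, hg⟩ := exists_em h.emb h1
      refine ⟨⟨g, ?_⟩, hg.symm⟩
      by_contra hcon
      simp only [not_or, not_not] at hcon
      have h10 : em u g * k = k * em u g := by
        have hcases : g 3 = 0 ∨ g 3 = 1 := by
          generalize g 3 = c
          revert c
          decide
        rcases hcases with h11 | h11
        · have : g = 0 := by
            funext i
            fin_cases i
            · exact hcon.1
            · exact hcon.2.1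
            · exact hcon.2.2
            · exact h11
          rw [this, em]
          have e0 : u (cde 0) = 1 := h.emb.zero
          rw [e0, one_mul, mul_one]
        · have : g = Pi.single 3 1 := by
            funext i
            fin_cases i
            · exact hcon.1
            · exact hcon.2.1
            · exact hcon.2.2
            · exact h11
          rw [this, em_15]
          exact (h.zc k).symm
      have h9 : u x14 = k⁻¹ * em u g * k := by rw [← hg, ← hk]; group
      rw [mul_assoc, h10, ← mul_assoc, inv_mul_cancel, one_mul] at h9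
      have h11 := h.emb.inj (by norm_num) (cde_lt g) h9
      have h12 : ∀ g : F4, g 2 = 0 → x14 ≠ cde g := by decide +kernel
      exact h12 g hcon.2.2 h11
    · rintro ⟨⟨f, hf⟩, rfl⟩
      exact (isConj_em h hQ f hf).symm
  have h1 : (MulAction.orbit (ConjAct Y) (u x14)).ncard = 14 := by
    rw [← Nat.card_coe_set_eq, hset, ← card_noncentral]
    exact (Nat.card_congr (Equiv.ofInjective _ (fun a b hab =>
      Subtype.ext (em_inj h.emb hab)))).symm
  have h3 : Nat.card (ConjAct Y) = Nat.card Y := rfl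
  rw [← h1, ← MulAction.index_stabilizer, ← h3]
  exact Subgroup.index_dvd_card _

theorem three_dvd (h : VData S u) {K : Subgroup Y} (hc : Cfg (em u) K) : 3 ∣ Nat.card Y := by
  obtain ⟨k, -, hodd, hA2, a, ha, hs, hk⟩ := h.k2
  obtain ⟨g, hg, hg0, hg1⟩ := U2_codes ⟨a, ha⟩ ((subK_iff _ _).1 hs)
  -- the action of `k` on `E2`
  have hact : hc.act k g = Pi.single 1 1 := by
    apply hc.act_eq
    rw [em_13]
    have h1 : em u g = k * u x13 * k⁻¹ := by rw [hk, em, hg]
    rw [h1]; group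
  have hD : ∀ f : F4, f 0 = 0 → f 1 = 0 → hc.act k f 0 = 0 ∧ hc.act k f 1 = 0 := by
    intro f h0 h1
    have h2 : em u f ∈ CS u kA2 := (h.emb.mem_CS (by decide)).2
      ⟨cde f, cde_lt f, (subK_iff _ _).2 ((A2_codes f).2 ⟨h0, h1⟩), rfl⟩
    have h3 : k⁻¹ * em u f * k ∈ CS u kA2 := (mem_normalizer_iff''.1 hA2 _).1 h2
    rw [hc.act_spec] at h3
    obtain ⟨b, hb, hbs, hbe⟩ := (h.emb.mem_CS (by decide)).1 h3
    have h4 := h.emb.inj hb (cde_lt _) hbe
    rw [h4] at hbs
    exact (A2_codes _).1 ((subK_iff _ _).1 hbs)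
  set w : ZMod 2 × ZMod 2 := (hc.act k (Pi.single 1 1) 0, hc.act k (Pi.single 1 1) 1) with hw
  have key : ∀ f : F4, (hc.act k f 0, hc.act k f 1) = step w (f 0, f 1) := by
    intro f
    -- `f = f 0 • g + f 1 • e₁ + d`
    have hsmul : ∀ (c : ZMod 2) (f' : F4), hc.act k (c • f') = c • hc.act k f' := by
      intro c f'
      rw [← hc.lin_apply, ← hc.lin_apply, map_smul]
    have hd := hD (f - f 0 • g - f 1 • Pi.single 1 1) (by simp [hg0]) (by simp [hg1])
    have h1 : hc.act k f = hc.act k (f - f 0 • g - f 1 • Pi.single 1 1) +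
        (f 0 • Pi.single 1 1 + f 1 • hc.act k (Pi.single 1 1)) := by
      have e1 : f 0 • (Pi.single 1 1 : F4) = hc.act k (f 0 • g) := by rw [hsmul, hact]
      have e2 : f 1 • hc.act k (Pi.single 1 1) = hc.act k (f 1 • Pi.single 1 1) :=
        (hsmul _ _).symm
      rw [e1, e2, ← hc.act_add, ← hc.act_add]
      congr 1
      abel
    rw [h1]
    simp only [Pi.add_apply, Pi.smul_apply, smul_eq_mul, hd.1, hd.2, step, hw, zero_add]
    simp
  have hit : ∀ n : ℕ, (hc.act (k ^ n) (Pi.single 0 1) 0, hc.act (k ^ n) (Pi.single 0 1) 1) =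
      (step w)^[n] (1, 0) := by
    intro n
    induction n with
    | zero => rw [pow_zero, hc.act_one]; rfl
    | succ n ih =>
      rw [pow_succ, hc.act_mul, key, ih, Function.iterate_succ_apply']
  have h1 := hit (orderOf k)
  rw [pow_orderOf_eq_one, hc.act_one] at h1
  have h2 := step_three w (orderOf k) hodd (by rw [← h1]; rfl)
  exact h2.trans (orderOf_dvd_natCard k)

/-- **(B5)** -/
theorem nonempty_equiv (h : VData S u) (hQ : normalizer (CS u kQ : Set Y) = ⊤)
    (hO : pPrimeCore 2 Y = ⊥) (s : Matrix.SpecialLinearGroup (Fin 5) (ZMod 2))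
    (hs : (s : Matrix (Fin 5) (Fin 5) (ZMod 2)) = Matrix.transvection 0 1 1) :
    Nonempty (Y ≃* Subgroup.centralizer ({s} : Set (Matrix.SpecialLinearGroup (Fin 5) (ZMod 2)))) := by
  obtain ⟨K, hc⟩ := exists_cfg h hQ hO
  apply hc.nonempty_equiv ?_ s hs
  have h1 : 1024 ∣ Nat.card Y := by
    rw [← h.emb.card]; exact Subgroup.card_subgroup_dvd_card _
  have h2 : 7 ∣ Nat.card Y := (show 7 ∣ 14 by norm_num).trans (fourteen_dvd h hQ)
  have h3 := three_dvd h hc
  have h4 : 7 * 3 ∣ Nat.card Y := Nat.Coprime.mul_dvd_of_dvd_of_dvd (by norm_num) h2 h3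
  have h5 : 1024 * (7 * 3) ∣ Nat.card Y :=
    Nat.Coprime.mul_dvd_of_dvd_of_dvd (by norm_num) h1 h4
  exact Nat.le_of_dvd Nat.card_pos h5

end main

end Cfsg.Agent.SylowL5.Ident
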