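import Mathlib
import Cfsg.Prelude.Def_Local
import Cfsg.Agent.Lib.Cores
import Cfsg.Agent.SylowL5.Setup
import Cfsg.Agent.SylowL5.Data
import Cfsg.Agent.SylowL5.Functor
import Cfsg.Agent.SylowL5.Ident

/-!
# `VData` and `Solved` pass to `Y / O(Y)`; `Y / O(Y)` is the centralizer of a transvection
-/

set_option autoImplicit false

namespace Cfsg.Agent.SylowL5.Quot

open Cfsg Subgroup Cfsg.Agent.SylowL5.Setup Cfsg.Agent.SylowL5.Data Cfsg.Agent.SylowL5.Functor

section general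

variable {Y : Type*} [Group Y] [Finite Y]

/-- a normal subgroup `Q` of a group with `O(Y) = 1`: `C_S(Q) ≤ Q` implies `C_Y(Q) ≤ Q`. -/
theorem centralizer_le_of_normal (hO : pPrimeCore 2 Y = ⊥) (S : Sylow 2 Y) (Q : Subgroup Y)
    (hQ : Q.Normal) (hS : ∀ s ∈ (S : Subgroup Y), (∀ q ∈ Q, s * q = q * s) → s ∈ Q) :
    centralizer (Q : Set Y) ≤ Q := by
  classical
  have : Fact (Nat.Prime 2) := ⟨Nat.prime_two⟩
  set D : Subgroup Y := centralizer (Q : Set Y) with hD
  have hmemD : ∀ {x : Y}, x ∈ D ↔ ∀ e ∈ Q, x * e = e * x := by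
    intro x
    rw [hD, mem_centralizer_iff]
    exact ⟨fun h e he => (h e he).symm, fun h e he => (h e he).symm⟩
  have hDn : D.Normal := by
    constructor
    intro x hx g
    rw [hmemD] at hx ⊢
    intro e he
    have h3 := hx (g⁻¹ * e * g) (by simpa using hQ.conj_mem e he g⁻¹)
    calc g * x * g⁻¹ * e = g * (x * (g⁻¹ * e * g)) * g⁻¹ := by group
      _ = g * ((g⁻¹ * e * g) * x) * g⁻¹ := by rw [h3]
      _ = e * (g * x * g⁻¹) := by group
  -- 2-elements of `D` lie in `Q`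
  have hA : ∀ x ∈ D, ∀ n : ℕ, x ^ 2 ^ n = 1 → x ∈ Q := by
    intro x hx n hxn
    obtain ⟨g, hg⟩ := SelfCent.exists_conj_mem S hxn
    have h3 := hS _ hg (hmemD.1 (hDn.conj_mem x hx g))
    have h4 := hQ.conj_mem _ h3 g⁻¹
    have h5 : g⁻¹ * (g * x * g⁻¹) * g⁻¹⁻¹ = x := by group
    rwa [h5] at h4
  -- a Sylow 2-subgroup of `D` is central in `D`
  obtain ⟨P⟩ : Nonempty (Sylow 2 D) := inferInstance
  have hPQ : ∀ x : D, x ∈ (P : Subgroup D) → (x : Y) ∈ Q := by
    intro x hx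
    obtain ⟨n, hn'⟩ := P.2 ⟨x, hx⟩
    have h3 : (x : Y) ^ 2 ^ n = 1 := by
      have := congrArg (fun w : (P : Subgroup D) => ((w : D) : Y)) hn'
      simpa using this
    exact hA x x.2 n h3
  have hPc : ∀ x : D, x ∈ (P : Subgroup D) → ∀ y : D, y * x = x * y := by
    intro x hx y
    apply Subtype.ext
    exact hmemD.1 y.2 x (hPQ x hx)
  have hcompl := MonoidHom.ker_transferSylow_isComplement' P (by
    intro x _
    rw [mem_centralizer_iff]
    intro y hy
    exact (hPc y hy x).symm)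
  set K := (MonoidHom.transferSylow P (by
    intro x _
    rw [mem_centralizer_iff]
    intro y hy
    exact (hPc y hy x).symm)).ker with hK
  have hKn : K.Normal := MonoidHom.normal_ker _
  have hKodd : (Nat.card K).Coprime 2 := by
    rw [← hcompl.index_eq_card, Nat.coprime_comm]
    exact (Nat.prime_two.coprime_iff_not_dvd).2 P.not_dvd_index
  have hKle : K ≤ pPrimeCore 2 D := Lib.Cores.le_pPrimeCore hKn hKodd
  have hbot : pPrimeCore 2 D = ⊥ := by
    have h1 := Lib.Cores.map_subtype_pPrimeCore 2 hDn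
    rw [hO, inf_bot_eq] at h1
    exact (Subgroup.map_eq_bot_iff_of_injective _ D.subtype_injective).1 h1
  rw [hbot, le_bot_iff] at hKle
  have hPtop : (P : Subgroup D) = ⊤ := by
    have := hcompl
    rw [hKle] at this
    exact Subgroup.isComplement'_bot_left.1 this
  intro x hx
  exact hPQ ⟨x, hx⟩ (by rw [hPtop]; trivial)

/-- image of a Sylow subgroup -/
theorem inf_eq_one (S : Sylow 2 Y) {x : Y} (hx : x ∈ (S : Subgroup Y)) (hxO : x ∈ pPrimeCore 2 Y) :
    x = 1 := by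
  have h2 : Fact (Nat.Prime 2) := ⟨Nat.prime_two⟩
  have hdis : Disjoint (S : Subgroup Y) (pPrimeCore 2 Y) := by
    apply Subgroup.disjoint_of_coprime_natCard
    obtain ⟨n, hn⟩ := IsPGroup.iff_card.mp S.isPGroup'
    rw [hn]
    exact (Lib.Cores.pPrimeCore_coprime (G := Y) 2).symm.pow_left n
  exact Subgroup.mem_bot.1 (hdis.le_bot ⟨hx, hxO⟩)

end general

section vdata

variable {Y : Type*} [Group Y] [Finite Y] {S : Sylow 2 Y} {u : ℕ → Y}

theorem closed_Q : closedK kQ = true := by decide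
theorem closed_E1 : closedK kE1 = true := by decide
theorem closed_E2 : closedK kE2 = true := by decide
theorem closed_A1 : closedK kA1 = true := by decide
theorem closed_A2 : closedK kA2 = true := by decide

/-- the quotient map -/
abbrev q (Y : Type*) [Group Y] : Y →* Y ⧸ pPrimeCore 2 Y := QuotientGroup.mk' (pPrimeCore 2 Y)

theorem q_surj : Function.Surjective (q Y) := QuotientGroup.mk'_surjective _

/-- the image of the Sylow subgroup -/
noncomputable def Sq (S : Sylow 2 Y) : Sylow 2 (Y ⧸ pPrimeCore 2 Y) :=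
  S.mapSurjective (q_surj (Y := Y))

theorem coe_Sq (S : Sylow 2 Y) :
    ((Sq S : Sylow 2 (Y ⧸ pPrimeCore 2 Y)) : Subgroup (Y ⧸ pPrimeCore 2 Y)) =
      (S : Subgroup Y).map (q Y) := rfl

theorem emb_quot (h : Emb (S : Subgroup Y) u) :
    Emb ((Sq S : Sylow 2 (Y ⧸ pPrimeCore 2 Y)) : Subgroup (Y ⧸ pPrimeCore 2 Y))
      (fun a => q Y (u a)) := by
  refine ⟨?_, ?_, ?_, ?_⟩
  · intro a b ha hb
    show q Y (u (mu a b)) = q Y (u a) * q Y (u b)
    rw [h.mul ha hb, map_mul]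
  · intro a b ha hb hab
    apply h.inj ha hb
    have h1 : (u a)⁻¹ * u b ∈ pPrimeCore 2 Y := QuotientGroup.eq.1 hab
    have h2 := inf_eq_one S ((S : Subgroup Y).mul_mem ((S : Subgroup Y).inv_mem (h.mem ha))
      (h.mem hb)) h1
    exact inv_mul_eq_one.1 h2
  · intro a ha
    rw [coe_Sq]
    exact ⟨u a, h.mem ha, rfl⟩
  · intro g hg
    rw [coe_Sq] at hg
    obtain ⟨s, hs, rfl⟩ := hg
    obtain ⟨a, ha, rfl⟩ := h.surj s hs
    exact ⟨a, ha, rfl⟩

theorem CS_quot (u : ℕ → Y) (K : ℕ) : CS (fun a => q Y (u a)) K = (CS u K).map (q Y) := by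
  unfold CS
  rw [MonoidHom.map_closure]
  congr 1
  ext g
  constructor
  · rintro ⟨a, ha, haK, rfl⟩
    exact ⟨u a, ⟨a, ha, haK, rfl⟩, rfl⟩
  · rintro ⟨_, ⟨a, ha, haK, rfl⟩, rfl⟩
    exact ⟨a, ha, haK, rfl⟩

theorem top_of_solved {N : Subgroup Y} (hs : Solved N) : N.map (q Y) = ⊤ := by
  rw [eq_top_iff]
  intro x _
  obtain ⟨y, rfl⟩ := q_surj x
  obtain ⟨a, ha, n, hn, rfl⟩ := hs y
  refine ⟨n, hn, ?_⟩
  rw [map_mul]
  have h1 : q Y a = 1 := (QuotientGroup.eq_one_iff a).2 ha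
  rw [h1, one_mul]

theorem norm_quot {N : Subgroup Y} (hs : Solved N) (H : Subgroup Y)
    (hN : N ≤ normalizer (H : Set Y)) : normalizer (H.map (q Y) : Set (Y ⧸ pPrimeCore 2 Y)) = ⊤ := by
  rw [eq_top_iff, ← top_of_solved hs]
  exact (Subgroup.map_mono hN).trans (le_normalizer_map (q Y))

theorem vdata_quot (h : VData S u) (hs : Solved (normalizer (CS u kQ : Set Y))) :
    VData (Sq S) (fun a => q Y (u a)) := by
  have hQ : normalizer (CS (fun a => q Y (u a)) kQ : Set (Y ⧸ pPrimeCore 2 Y)) = ⊤ := by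
    rw [CS_quot]; exact norm_quot hs _ le_rfl
  have hE1 : normalizer (CS (fun a => q Y (u a)) kE1 : Set (Y ⧸ pPrimeCore 2 Y)) = ⊤ := by
    rw [CS_quot]; exact norm_quot hs _ h.nE1
  have hE2 : normalizer (CS (fun a => q Y (u a)) kE2 : Set (Y ⧸ pPrimeCore 2 Y)) = ⊤ := by
    rw [CS_quot]; exact norm_quot hs _ h.nE2
  refine ⟨emb_quot h.emb, ?_, ?_, ?_, ?_, ?_, ?_⟩
  · intro g
    obtain ⟨y, rfl⟩ := q_surj g
    show q Y y * q Y (u x15) = q Y (u x15) * q Y y
    rw [← map_mul, ← map_mul, h.zc]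
  · intro s hs' g _
    have h1 : g ∈ normalizer (CS (fun a => q Y (u a)) kQ : Set (Y ⧸ pPrimeCore 2 Y)) := by
      rw [hQ]; trivial
    exact (mem_normalizer_iff.1 h1 s).1 hs'
  · rw [hE1]; exact le_top
  · rw [hE2]; exact le_top
  · obtain ⟨k, hk1, hk2, hk3, a, ha, haK, hk4⟩ := h.k3
    refine ⟨q Y k, by rw [hQ]; trivial, ?_, ?_, a, ha, haK, ?_⟩
    · exact Odd.of_dvd_nat hk2 (orderOf_map_dvd (q Y) k)
    · rw [CS_quot]
      exact le_normalizer_map (q Y) ⟨k, hk3, rfl⟩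
    · show q Y k * q Y (u x35) * (q Y k)⁻¹ = q Y (u (mu x45 a))
      rw [← hk4, map_mul, map_mul, map_inv]
  · obtain ⟨k, hk1, hk2, hk3, a, ha, haK, hk4⟩ := h.k2
    refine ⟨q Y k, by rw [hQ]; trivial, ?_, ?_, a, ha, haK, ?_⟩
    · exact Odd.of_dvd_nat hk2 (orderOf_map_dvd (q Y) k)
    · rw [CS_quot]
      exact le_normalizer_map (q Y) ⟨k, hk3, rfl⟩
    · show q Y k * q Y (u x13) * (q Y k)⁻¹ = q Y (u (mu x12 a))
      rw [← hk4, map_mul, map_mul, map_inv]

theorem norm_Q_quot (hs : Solved (normalizer (CS u kQ : Set Y))) :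
    normalizer (CS (fun a => q Y (u a)) kQ : Set (Y ⧸ pPrimeCore 2 Y)) = ⊤ := by
  rw [CS_quot]; exact norm_quot hs _ le_rfl

/-- `Y / O(Y)` is the centralizer of a transvection -/
theorem nonempty_equiv (h : VData S u) (hs : Solved (normalizer (CS u kQ : Set Y)))
    (s : Matrix.SpecialLinearGroup (Fin 5) (ZMod 2))
    (hs' : (s : Matrix (Fin 5) (Fin 5) (ZMod 2)) = Matrix.transvection 0 1 1) :
    Nonempty (Y ⧸ pPrimeCore 2 Y ≃*
      Subgroup.centralizer ({s} : Set (Matrix.SpecialLinearGroup (Fin 5) (ZMod 2)))) :=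
  Ident.nonempty_equiv (vdata_quot h hs) (norm_Q_quot hs)
    (Lib.Cores.pPrimeCore_quotient_pPrimeCore 2) s hs'

theorem cent_Q : ∀ a : Fin 1024, mu a.1 x12 = mu x12 a.1 → mu a.1 x13 = mu x13 a.1 →
    mu a.1 x45 = mu x45 a.1 → mu a.1 x35 = mu x35 a.1 → Nat.land a.1 kQ = a.1 := by
  decide +kernel

theorem mem_Q (K a : ℕ) (ha : a < 1024) (hK : Nat.land a K = a) : u a ∈ CS u K :=
  Subgroup.subset_closure ⟨a, ha, (subK_iff a K).2 hK, rfl⟩

/-- `Y / O(Y)` has characteristic 2 -/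
theorem con (h : VData S u) (hs : Solved (normalizer (CS u kQ : Set Y))) : Functor.Con Y := by
  have hv := vdata_quot h hs
  have hQn := norm_Q_quot hs
  have hn : (CS (fun a => q Y (u a)) kQ).Normal := normalizer_eq_top_iff.1 hQn
  have h1 := centralizer_le_of_normal (Lib.Cores.pPrimeCore_quotient_pPrimeCore 2) (Sq S)
    (CS (fun a => q Y (u a)) kQ) hn (by
      intro s hs2 hc
      obtain ⟨a, ha, rfl⟩ := hv.emb.surj s hs2
      have key : ∀ b, b < 1024 → Nat.land b kQ = b → mu a b = mu b a := by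
        intro b hb hbQ
        apply hv.emb.inj (mu_lt ha hb) (mu_lt hb ha)
        rw [hv.emb.mul ha hb, hv.emb.mul hb ha]
        exact hc _ (mem_Q kQ b hb hbQ)
      apply mem_Q kQ a ha
      exact cent_Q ⟨a, ha⟩ (key x12 (by decide) (by decide)) (key x13 (by decide) (by decide))
        (key x45 (by decide) (by decide)) (key x35 (by decide) (by decide)))
  have hle : CS (fun a => q Y (u a)) kQ ≤ pCore 2 (Y ⧸ pPrimeCore 2 Y) := by
    apply Lib.Cores.le_pCore hn
    exact (Sq S).isPGroup'.to_le (hv.emb.CS_le kQ)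
  unfold Functor.Con
  intro x hx
  apply hle
  apply h1
  rw [mem_centralizer_iff] at hx ⊢
  intro y hy
  exact hx y (hle hy)

end vdata

end Cfsg.Agent.SylowL5.Quot
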