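import Mathlib
import Cfsg.Prelude.Def_Local
import Cfsg.Agent.Lib.Cores
import Cfsg.Agent.SylowL5.Setup
import Cfsg.Agent.SylowL5.Data
import Cfsg.Agent.SylowL5.FusData
import Cfsg.Agent.SylowL5.Functor
import Cfsg.Agent.SylowL5.Weak
import Cfsg.Agent.SylowL5.Quot
import Cfsg.Agent.SylowL5.Calc
import Cfsg.Agent.SylowL5.Elem

/-!
# The subgroup `M = N_G(W)`

From `Final S u`, `C_G(z) = O(C_G(z)) (C_G(z) ∩ N(Q))` and `z ~ x25` or `z ~ x14`: there is `W` of odd
order with `W ∩ C_G(z) = O(C_G(z))`, such that `M = N_G(W)` contains `C_G(z)`, and `g z g⁻¹ ∈ M`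
implies `g ∈ M`.
-/

set_option autoImplicit false

namespace Cfsg.Agent.SylowL5.MSub

open Cfsg Subgroup Cfsg.Agent.SylowL5.Setup Cfsg.Agent.SylowL5.Data Cfsg.Agent.SylowL5.FusData
open Cfsg.Agent.SylowL5.Functor Cfsg.Agent.SignalizersComponents.RelSylow
open Cfsg.Agent.SylowL5.Weak Cfsg.Agent.SylowL5.Calc

section abstr

variable {G : Type*} [Group G] [Finite G]

/-- `z` fixes exactly one coset of `M`. -/
theorem mem_of_conj_mem (S : Sylow 2 G) {z : G} (hzz : z * z = 1) {M : Subgroup G}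
    (hSM : (S : Subgroup G) ≤ M) (hCM : centralizer ({z} : Set G) ≤ M) {A1 A2 : Subgroup G}
    (h1S : A1 ≤ S) (h2S : A2 ≤ S)
    (hw1 : ∀ g : G, (∀ a ∈ A1, g * a * g⁻¹ ∈ (S : Subgroup G)) → g ∈ normalizer (A1 : Set G))
    (hw2 : ∀ g : G, (∀ a ∈ A2, g * a * g⁻¹ ∈ (S : Subgroup G)) → g ∈ normalizer (A2 : Set G))
    (hc1 : ∀ a ∈ A1, ∀ b ∈ A1, a * b = b * a) (hc2 : ∀ a ∈ A2, ∀ b ∈ A2, a * b = b * a)
    (hz1 : z ∈ A1) (hz2 : z ∈ A2)
    (hN1 : normalizer (A1 : Set G) ≤ M) (hN2 : normalizer (A2 : Set G) ≤ M)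
    (hinv : ∀ t ∈ (S : Subgroup G), t * t = 1 → ∃ g : G, g * z = z * g ∧
      (g * t * g⁻¹ ∈ A1 ∨ g * t * g⁻¹ ∈ A2)) {g : G} (hg : g * z * g⁻¹ ∈ M) : g ∈ M := by
  have f2 : Fact (Nat.Prime 2) := ⟨Nat.prime_two⟩
  have hS : IsMaxP 2 M (S : Subgroup G) := isMaxP_of_le S hSM
  have hST : IsMaxP 2 (⊤ : Subgroup G) (S : Subgroup G) := isMaxP_sylow S
  set t := g * z * g⁻¹ with ht
  have htt : t * t = 1 := by
    rw [ht]
    calc g * z * g⁻¹ * (g * z * g⁻¹) = g * (z * z) * g⁻¹ := by group
      _ = 1 := by rw [hzz]; group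
  have hp : IsPGroup 2 (zpowers t) := by
    rintro ⟨y, hy⟩
    obtain ⟨k, rfl⟩ := hy
    refine ⟨1, Subtype.ext ?_⟩
    show (t ^ k) ^ 2 ^ 1 = 1
    rw [← zpow_natCast, ← zpow_mul, mul_comm, zpow_mul, zpow_natCast, pow_one, pow_two, htt,
      one_zpow]
  obtain ⟨m, hm, hmS⟩ := hS.exists_conj_le hp (by rw [zpowers_le]; exact hg)
  have htS : m * t * m⁻¹ ∈ (S : Subgroup G) := hmS ⟨t, mem_zpowers t, rfl⟩
  obtain ⟨c, hc, hcA⟩ := hinv _ htS (by
    calc m * t * m⁻¹ * (m * t * m⁻¹) = m * (t * t) * m⁻¹ := by group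
      _ = 1 := by rw [htt]; group)
  have hcM : c ∈ M := hCM (mem_centralizer_singleton_iff.2 hc)
  -- `x = c m g` moves `z` into `A1` or `A2`
  have key : ∀ {A : Subgroup G}, A ≤ S →
      (∀ g : G, (∀ a ∈ A, g * a * g⁻¹ ∈ (S : Subgroup G)) → g ∈ normalizer (A : Set G)) →
      (∀ a ∈ A, ∀ b ∈ A, a * b = b * a) → z ∈ A → normalizer (A : Set G) ≤ M →
      c * (m * t * m⁻¹) * c⁻¹ ∈ A → g ∈ M := by
    intro A hAS hw hcomm hzA hN hA
    have hA' : (c * m * g) * z * (c * m * g)⁻¹ ∈ A := by
      have e : (c * m * g) * z * (c * m * g)⁻¹ = c * (m * t * m⁻¹) * c⁻¹ := by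
        rw [ht]; group
      rw [e]; exact hA
    have hwc : WeakCl (⊤ : Subgroup G) A (S : Subgroup G) := by
      refine ⟨hAS, ?_⟩
      intro y _ hy
      rw [cj_eq_iff]
      exact hw y (fun a ha => hy (conj_mem_cj ha))
    obtain ⟨n, -, hn, hnz⟩ := exists_normalizer hST hwc hcomm le_top hzA (mem_top (c * m * g)) hA'
    have hnM : n ∈ M := hN (cj_eq_iff.1 hn)
    have h1 : n⁻¹ * (c * m * g) ∈ M := by
      apply hCM
      rw [mem_centralizer_singleton_iff]
      have h2 : (c * m * g) * z = (n * z * n⁻¹) * (c * m * g) := by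
        rw [hnz]; group
      calc n⁻¹ * (c * m * g) * z = n⁻¹ * ((c * m * g) * z) := by group
        _ = n⁻¹ * ((n * z * n⁻¹) * (c * m * g)) := by rw [h2]
        _ = z * (n⁻¹ * (c * m * g)) := by group
    have h3 : g = (c * m)⁻¹ * (n * (n⁻¹ * (c * m * g))) := by group
    rw [h3]
    exact M.mul_mem (M.inv_mem (M.mul_mem hcM hm)) (M.mul_mem hnM h1)
  rcases hcA with h | h
  · exact key h1S hw1 hc1 hz1 hN1 h
  · exact key h2S hw2 hc2 hz2 hN2 h

end abstr

/-! ### moving elements -/

section move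

variable {G : Type*} [Group G]

theorem commute_of_pow_two {k r : G} (hodd : Odd (orderOf k))
    (h : k ^ 2 * r = r * k ^ 2) : k * r = r * k := by
  obtain ⟨j, hj⟩ := hodd
  have h1 : (k ^ 2) ^ (j + 1) = k := by
    rw [← pow_mul, show 2 * (j + 1) = orderOf k + 1 by omega, pow_succ, pow_orderOf_eq_one, one_mul]
  have h3 : Commute (k ^ 2) r := h
  have h4 := h3.pow_left (j + 1)
  rw [h1] at h4
  exact h4

theorem odd_sq {k : G} (hodd : Odd (orderOf k)) : Odd (orderOf (k ^ 2)) :=
  Odd.of_dvd_nat hodd (orderOf_pow_dvd 2)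

theorem commute_of_pow_four {k r : G} (hodd : Odd (orderOf k))
    (h : (k ^ 2) ^ 2 * r = r * (k ^ 2) ^ 2) : k * r = r * k :=
  commute_of_pow_two hodd (commute_of_pow_two (odd_sq hodd) h)

theorem move_aux1 {p r k c d : G} (hpp : p * p = 1) (hcc : c * c = 1)
    (hdd : d * d = 1) (hcr : c * r = r * c) (hdr : d * r = r * d) (hdp : d * p = p * d)
    (hkc : k * c = c * k) (hkd : k * d = d * k)
    (hodd : Odd (orderOf k)) (h' : k * r * k⁻¹ = p * r * c) (h : k * p * k⁻¹ = p * d) :
    p * c = 1 := by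
  have ec : k * c * k⁻¹ = c := by rw [hkc]; group
  have ed : k * d * k⁻¹ = d := by rw [hkd]; group
  have h1 : k ^ 2 * r = (r * d) * k ^ 2 := by
    have e1 : k ^ 2 * r = k * (k * r * k⁻¹) * k⁻¹ * k ^ 2 := by
      rw [pow_two]; group
    have e2 : k * (p * r * c) * k⁻¹ = (k * p * k⁻¹) * (k * r * k⁻¹) * (k * c * k⁻¹) := by group
    rw [e1, h', e2, h, h', ec]
    congr 1
    calc p * d * (p * r * c) * c = (p * (d * p)) * r * (c * c) := by group
      _ = (p * (p * d)) * r * (c * c) := by rw [hdp]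
      _ = (p * p) * (d * r) * (c * c) := by group
      _ = r * d := by rw [hpp, hcc, one_mul, mul_one, hdr]
  have h2 : (k ^ 2) ^ 2 * r = r * (k ^ 2) ^ 2 := by
    have hkd2 : k ^ 2 * d = d * k ^ 2 := by
      have : Commute k d := hkd
      exact (this.pow_left 2)
    calc (k ^ 2) ^ 2 * r = k ^ 2 * (k ^ 2 * r) := by rw [pow_two (k ^ 2)]; group
      _ = k ^ 2 * ((r * d) * k ^ 2) := by rw [h1]
      _ = (k ^ 2 * r) * d * k ^ 2 := by group
      _ = ((r * d) * k ^ 2) * d * k ^ 2 := by rw [h1]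
      _ = r * d * (k ^ 2 * d) * k ^ 2 := by group
      _ = r * d * (d * k ^ 2) * k ^ 2 := by rw [hkd2]
      _ = r * (d * d) * (k ^ 2) ^ 2 := by rw [pow_two (k ^ 2)]; group
      _ = r * (k ^ 2) ^ 2 := by rw [hdd, mul_one]
  have h3 := commute_of_pow_four hodd h2
  have h4 : k * r * k⁻¹ = r := by rw [h3]; group
  rw [h'] at h4
  have h5 : p * c * r = r := by
    calc p * c * r = p * (c * r) := by group
      _ = p * (r * c) := by rw [hcr]
      _ = p * r * c := by group
      _ = r := h4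
  exact mul_eq_right.1 h5

theorem move_aux2 {p r k c d : G} (hpp : p * p = 1) (hrr : r * r = 1) (hpr : p * r = r * p)
    (hcp : c * p = p * c) (hcr : c * r = r * c) (hdp : d * p = p * d) (hdr : d * r = r * d)
    (hkc : k * c = c * k) (hkd : k * d = d * k)
    (h' : k * r * k⁻¹ = p * r * c) (h : k * p * k⁻¹ = p * r * d) : p * r = d * c := by
  have h1 : k * (p * r) * k⁻¹ = d * c := by
    calc k * (p * r) * k⁻¹ = (k * p * k⁻¹) * (k * r * k⁻¹) := by group
      _ = (p * r * d) * (p * r * c) := by rw [h, h']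
      _ = p * r * (d * p) * r * c := by group
      _ = p * r * (p * d) * r * c := by rw [hdp]
      _ = p * (r * p) * (d * r) * c := by group
      _ = p * (p * r) * (r * d) * c := by rw [← hpr, hdr]
      _ = (p * p) * (r * r) * d * c := by group
      _ = d * c := by rw [hpp, hrr]; group
  calc p * r = k⁻¹ * (k * (p * r) * k⁻¹) * k := by group
    _ = k⁻¹ * (d * c) * k := by rw [h1]
    _ = k⁻¹ * (d * (c * k)) := by group
    _ = k⁻¹ * (d * (k * c)) := by rw [hkc]
    _ = k⁻¹ * (d * k) * c := by group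
    _ = k⁻¹ * (k * d) * c := by rw [hkd]
    _ = d * c := by group

/-- `k` of odd order acts on `⟨z, p, r⟩` with `r ↦ p z^i` or `p r z^i`; then `r ~ p`. -/
theorem conj_of_move {z p r k : G} (hzz : z * z = 1) (hpp : p * p = 1) (hrr : r * r = 1)
    (hzp : z * p = p * z) (hzr : z * r = r * z) (hpr : p * r = r * p) (hkz : k * z = z * k)
    (hodd : Odd (orderOf k))
    (hr : k * r * k⁻¹ = p ∨ k * r * k⁻¹ = p * z ∨ k * r * k⁻¹ = p * r ∨ k * r * k⁻¹ = p * r * z)
    (hp : k * p * k⁻¹ = r ∨ k * p * k⁻¹ = r * z ∨ k * p * k⁻¹ = p ∨ k * p * k⁻¹ = p * z ∨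
      k * p * k⁻¹ = p * r ∨ k * p * k⁻¹ = p * r * z)
    (hp1 : p ≠ 1) (hpz : p ≠ z) (hpr1 : p * r ≠ 1) (hprz : p * r ≠ z)
    (hcp : IsConj p (p * z)) (hcr : IsConj r (r * z)) : IsConj r p := by
  have key : ∀ c d : G, (c = 1 ∨ c = z) → (d = 1 ∨ d = z) → k * r * k⁻¹ = p * r * c →
      (k * p * k⁻¹ = p * d ∨ k * p * k⁻¹ = p * r * d) → False := by
    intro c d hc hd h' h
    have hcc : c * c = 1 := by rcases hc with rfl | rfl <;> simp [hzz]
    have hdd : d * d = 1 := by rcases hd with rfl | rfl <;> simp [hzz]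
    have hcr' : c * r = r * c := by rcases hc with rfl | rfl <;> simp [hzr]
    have hcp' : c * p = p * c := by rcases hc with rfl | rfl <;> simp [hzp]
    have hdr' : d * r = r * d := by rcases hd with rfl | rfl <;> simp [hzr]
    have hdp' : d * p = p * d := by rcases hd with rfl | rfl <;> simp [hzp]
    have hkc : k * c = c * k := by rcases hc with rfl | rfl <;> simp [hkz]
    have hkd : k * d = d * k := by rcases hd with rfl | rfl <;> simp [hkz]
    rcases h with h | h
    · have h1 := move_aux1 hpp hcc hdd hcr' hdr' hdp' hkc hkd hodd h' h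
      have h2 : p = c := by
        have := eq_inv_of_mul_eq_one_left h1
        rw [this]
        exact inv_eq_of_mul_eq_one_left hcc
      rcases hc with rfl | rfl
      · exact hp1 h2
      · exact hpz h2
    · have h1 := move_aux2 hpp hrr hpr hcp' hcr' hdp' hdr' hkc hkd h' h
      rcases hc with rfl | rfl <;> rcases hd with rfl | rfl
      · exact hpr1 (by rw [h1]; simp)
      · exact hprz (by rw [h1]; simp)
      · exact hprz (by rw [h1]; simp)
      · exact hpr1 (by rw [h1, hzz])
  rcases hr with h' | h' | h' | h'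
  · exact isConj_iff.2 ⟨k, h'⟩
  · exact (isConj_iff.2 ⟨k, h'⟩).trans hcp.symm
  · rcases hp with h | h | h | h | h | h
    · exact (isConj_iff.2 ⟨k, h⟩).symm
    · exact hcr.trans (isConj_iff.2 ⟨k, h⟩).symm
    · exact (key 1 1 (Or.inl rfl) (Or.inl rfl) (by rw [h', mul_one]) (Or.inl (by rw [h, mul_one]))).elim
    · exact (key 1 z (Or.inl rfl) (Or.inr rfl) (by rw [h', mul_one]) (Or.inl h)).elim
    · exact (key 1 1 (Or.inl rfl) (Or.inl rfl) (by rw [h', mul_one]) (Or.inr (by rw [h, mul_one]))).elim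
    · exact (key 1 z (Or.inl rfl) (Or.inr rfl) (by rw [h', mul_one]) (Or.inr h)).elim
  · rcases hp with h | h | h | h | h | h
    · exact (isConj_iff.2 ⟨k, h⟩).symm
    · exact hcr.trans (isConj_iff.2 ⟨k, h⟩).symm
    · exact (key z 1 (Or.inr rfl) (Or.inl rfl) h' (Or.inl (by rw [h, mul_one]))).elim
    · exact (key z z (Or.inr rfl) (Or.inr rfl) h' (Or.inl h)).elim
    · exact (key z 1 (Or.inr rfl) (Or.inl rfl) h' (Or.inr (by rw [h, mul_one]))).elim
    · exact (key z z (Or.inr rfl) (Or.inr rfl) h' (Or.inr h)).elim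

end move

/-! ### codes -/

/-- representatives on `E1` -/
theorem E1_codes : allb 1024 (fun a => !(sb a kE1) || Nat.beq a 0 || Nat.beq a x15 ||
    anyb 1024 (fun s => Nat.beq (mu s x25) (mu a s) || Nat.beq (mu s x35) (mu a s) ||
      Nat.beq (mu s x45) (mu a s))) = true := by decide +kernel

/-- representatives on `E2` -/
theorem E2_codes : allb 1024 (fun a => !(sb a kE2) || Nat.beq a 0 || Nat.beq a x15 ||
    anyb 1024 (fun s => Nat.beq (mu s x14) (mu a s) || Nat.beq (mu s x13) (mu a s) ||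
      Nat.beq (mu s x12) (mu a s))) = true := by decide +kernel

theorem U1_codes : allb 1024 (fun a => !(sb a kU1) ||
    anyb 1024 (fun s => Nat.beq (mu s x45) (mu (mu x45 a) s))) = true := by decide +kernel

theorem U2_codes : allb 1024 (fun a => !(sb a kU2) ||
    anyb 1024 (fun s => Nat.beq (mu s x12) (mu (mu x12 a) s))) = true := by decide +kernel

theorem sq_E1 : allb 1024 (fun a => !(sb a kE1) || Nat.beq (mu a a) 0) = true := by decide +kernel
theorem sq_E2 : allb 1024 (fun a => !(sb a kE2) || Nat.beq (mu a a) 0) = true := by decide +kernel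
theorem sq_A1 : allb 1024 (fun a => !(sb a kA1) || Nat.beq (mu a a) 0) = true := by decide +kernel
theorem sq_A2 : allb 1024 (fun a => !(sb a kA2) || Nat.beq (mu a a) 0) = true := by decide +kernel

section codes

variable {G : Type*} [Group G] {S : Subgroup G} {u : ℕ → G}

theorem isConj_of_code (h : Emb S u) {a b s : ℕ} (ha : a < 1024) (hb : b < 1024) (hs : s < 1024)
    (h1 : mu s b = mu a s) : IsConj (u b) (u a) := by
  rw [isConj_iff]
  refine ⟨u s, ?_⟩
  have h2 : u s * u b = u a * u s := by rw [← h.mul hs hb, ← h.mul ha hs, h1]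
  rw [h2]; group

theorem sq_of (h : Emb S u) {K : ℕ} (hK : closedK K = true)
    (hsq : allb 1024 (fun a => !(sb a K) || Nat.beq (mu a a) 0) = true) :
    ∀ x ∈ CS u K, x * x = 1 := by
  intro x hx
  obtain ⟨a, ha, haK, rfl⟩ := (h.mem_CS hK).1 hx
  have h1 := of_allb hsq a ha
  simp only [Bool.or_eq_true, Bool.not_eq_true', Nat.beq_eq] at h1
  rcases h1 with h1 | h1
  · rw [sb_iff.2 haK] at h1; exact absurd h1 (by decide)
  · rw [← h.mul ha ha, h1, h.zero]

end codes

/-! ### the subgroups `E1`, `E2` -/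

section pure

variable {G : Type*} [Group G] [Finite G] {S : Subgroup G} {u : ℕ → G}

omit [Finite G] in
/-- membership in coordinate subgroups of `Y = C_G(z)` -/
theorem mem_lift (h : Emb S u) {C : Subgroup G} {T : Sylow 2 C} {v : ℕ → C}
    (hv : ∀ a, a < 1024 → (v a : G) = u a) (hT : Emb (T : Subgroup C) v) {K : ℕ}
    (hK : closedK K = true) (y : C) : y ∈ CS v K ↔ (y : G) ∈ CS u K := by
  rw [hT.mem_CS hK, h.mem_CS hK]
  constructor
  · rintro ⟨a, ha, haK, rfl⟩
    exact ⟨a, ha, haK, (hv a ha).symm⟩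
  · rintro ⟨a, ha, haK, hay⟩
    refine ⟨a, ha, haK, Subtype.ext ?_⟩
    rw [hv a ha, hay]

theorem mem_normalizer_lift (h : Emb S u) {C : Subgroup G} {T : Sylow 2 C} {v : ℕ → C}
    (hv : ∀ a, a < 1024 → (v a : G) = u a) (hT : Emb (T : Subgroup C) v)
    (hSC : S ≤ C) {K : ℕ}
    (hK : closedK K = true) (y : C) :
    y ∈ normalizer (CS v K : Set C) ↔ (y : G) ∈ normalizer (CS u K : Set G) := by
  rw [mem_normalizer_iff, mem_normalizer_iff]
  constructor
  · intro h1 x
    constructor
    · intro hx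
      have hxC : x ∈ C := hSC (h.CS_le K hx)
      have h2 := (h1 ⟨x, hxC⟩).1 ((mem_lift h hv hT hK ⟨x, hxC⟩).2 hx)
      exact (mem_lift h hv hT hK _).1 h2
    · intro hx
      have hxC' : (y : G) * x * (y : G)⁻¹ ∈ C := hSC (h.CS_le K hx)
      have hxC : x ∈ C := by
        have := C.mul_mem (C.mul_mem (C.inv_mem y.2) hxC') y.2
        have e : (y : G)⁻¹ * ((y : G) * x * (y : G)⁻¹) * y = x := by group
        rwa [e] at this
      have h2 : y * ⟨x, hxC⟩ * y⁻¹ ∈ CS v K := (mem_lift h hv hT hK _).2 hx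
      exact (mem_lift h hv hT hK ⟨x, hxC⟩).1 ((h1 _).2 h2)
  · intro h1 x
    rw [mem_lift h hv hT hK, mem_lift h hv hT hK]
    exact h1 x

variable (h : Final S u)

include h

omit [Finite G] in
theorem Final_S_le : S ≤ centralizer ({u x15} : Set G) := by
  obtain ⟨T, v, hv, hT, hV⟩ := h.vdata
  rw [← hT]
  exact Subgroup.map_subtype_le _

theorem norm_E1 {k : G} (hk : k * u x15 = u x15 * k) (hkQ : k ∈ normalizer (CS u kQ : Set G)) :
    k ∈ normalizer (CS u kE1 : Set G) := by
  obtain ⟨T, v, hv, hT, hV⟩ := h.vdata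
  have hkC : k ∈ centralizer ({u x15} : Set G) := mem_centralizer_singleton_iff.2 hk
  have h1 := (mem_normalizer_lift h.fus.emb hv hV.emb (Final_S_le h) Quot.closed_Q ⟨k, hkC⟩).2 hkQ
  exact (mem_normalizer_lift h.fus.emb hv hV.emb (Final_S_le h) Quot.closed_E1 ⟨k, hkC⟩).1
    (hV.nE1 h1)

theorem norm_E2 {k : G} (hk : k * u x15 = u x15 * k) (hkQ : k ∈ normalizer (CS u kQ : Set G)) :
    k ∈ normalizer (CS u kE2 : Set G) := by
  obtain ⟨T, v, hv, hT, hV⟩ := h.vdata
  have hkC : k ∈ centralizer ({u x15} : Set G) := mem_centralizer_singleton_iff.2 hk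
  have h1 := (mem_normalizer_lift h.fus.emb hv hV.emb (Final_S_le h) Quot.closed_Q ⟨k, hkC⟩).2 hkQ
  exact (mem_normalizer_lift h.fus.emb hv hV.emb (Final_S_le h) Quot.closed_E2 ⟨k, hkC⟩).1
    (hV.nE2 h1)

end pure

/-! ### purity -/

theorem m1_codes : allb 1024 (fun a => !(sb a kU2) || allb 1024 (fun c => !(sb c 832) ||
    !(Nat.beq (mu (mu x12 a) c) (mu x15 (mu c (mu x12 a)))) || Nat.beq c 256 || Nat.beq c 768 ||
    Nat.beq c 320 || Nat.beq c 832)) = true := by decide +kernel

theorem m2_codes : allb 1024 (fun a => !(sb a kU1) || allb 1024 (fun c => !(sb c 656) ||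
    !(Nat.beq (mu (mu x45 a) c) (mu x15 (mu c (mu x45 a)))) || Nat.beq c 128 || Nat.beq c 640 ||
    Nat.beq c 144 || Nat.beq c 656)) = true := by decide +kernel

theorem n1_codes : allb 1024 (fun c => !(sb c kE1) || !(sb c kA2) || sb c 832) = true := by
  decide +kernel
theorem n2_codes : allb 1024 (fun c => !(sb c kE2) || !(sb c kA1) || sb c 656) = true := by
  decide +kernel
theorem o1_codes : allb 1024 (fun c => !(sb c 832) || Nat.beq c 0 || Nat.beq c 512 ||
    Nat.beq c 64 || Nat.beq c 576 || Nat.beq c 256 || Nat.beq c 768 ||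
    Nat.beq c 320 || Nat.beq c 832) = true := by decide +kernel
theorem o2_codes : allb 1024 (fun c => !(sb c 656) || Nat.beq c 0 || Nat.beq c 512 ||
    Nat.beq c 16 || Nat.beq c 528 || Nat.beq c 128 || Nat.beq c 640 ||
    Nat.beq c 144 || Nat.beq c 656) = true := by decide +kernel

section pure2

variable {G : Type*} [Group G] [Finite G] {S : Subgroup G} {u : ℕ → G}
variable (h : Final S u)

include h

theorem isConj_35_25 : IsConj (u x35) (u x25) := by
  obtain ⟨k, hkz, hodd, hkQ, hkA, a, ha, haK, hk⟩ := h.fus.k2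
  have hE := h.fus.emb
  have hkE := norm_E1 h hkz hkQ
  have cl : ∀ {c : ℕ}, c < 1024 → u c ∈ CS u kE1 → u c ∈ CS u kA2 → sb c 832 = true := by
    intro c hc h1 h2
    have h3 := of_allb n1_codes c hc
    rw [u_mem_CS hE Quot.closed_E1 hc] at h1
    rw [u_mem_CS hE Quot.closed_A2 hc] at h2
    rw [h1, h2] at h3
    simpa using h3
  have hm : ∀ {b : ℕ}, b < 1024 → sb b kE1 = true → sb b kA2 = true →
      ∃ c, c < 1024 ∧ sb c 832 = true ∧ k * u b * k⁻¹ = u c := by
    intro b hb h1 h2
    have h3 : k * u b * k⁻¹ ∈ CS u kE1 :=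
      (mem_normalizer_iff.1 hkE _).1 ((u_mem_CS hE Quot.closed_E1 hb).2 h1)
    have h4 : k * u b * k⁻¹ ∈ CS u kA2 :=
      (mem_normalizer_iff.1 hkA _).1 ((u_mem_CS hE Quot.closed_A2 hb).2 h2)
    obtain ⟨c, hc, -, hc2⟩ := (hE.mem_CS Quot.closed_E1).1 h3
    rw [← hc2] at h3 h4 ⊢
    exact ⟨c, hc, cl hc h3 h4, rfl⟩
  obtain ⟨c, hc, hcK, hkc⟩ := hm (b := x35) (by decide) (by decide) (by decide)
  obtain ⟨d, hd, hdK, hkd⟩ := hm (b := x25) (by decide) (by decide) (by decide)
  have hz : k * u x15 * k⁻¹ = u x15 := by rw [hkz]; group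
  -- the relation `[x13, x35] = z`
  have hrel : u x13 * u x35 = u x15 * (u x35 * u x13) := by
    rw [← hE.mul (by decide) (by decide), ← hE.mul (by decide) (by decide),
      ← hE.mul (by decide) (by decide)]
    congr 1
  have ham : mu x12 a < 1024 := mu_lt (by decide) ha
  have hrel2 : u (mu x12 a) * u c = u x15 * (u c * u (mu x12 a)) := by
    rw [← hkc, ← hk]
    calc k * u x13 * k⁻¹ * (k * u x35 * k⁻¹) = k * (u x13 * u x35) * k⁻¹ := by group
      _ = k * (u x15 * (u x35 * u x13)) * k⁻¹ := by rw [hrel]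
      _ = (k * u x15 * k⁻¹) * ((k * u x35 * k⁻¹) * (k * u x13 * k⁻¹)) := by group
      _ = _ := by rw [hz]
  have hrel3 : mu (mu x12 a) c = mu x15 (mu c (mu x12 a)) := by
    apply hE.inj (mu_lt ham hc) (mu_lt (by decide) (mu_lt hc ham))
    rw [hE.mul ham hc, hE.mul (by decide) (mu_lt hc ham), hE.mul hc ham, hrel2]
  have h1 := of_allb m1_codes a ha
  simp only [Bool.or_eq_true, Bool.not_eq_true'] at h1
  rcases h1 with h1 | h1
  · rw [sb_iff.2 haK] at h1; exact absurd h1 (by decide)
  have h2 := of_allb h1 c hc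
  simp only [Bool.or_eq_true, Bool.not_eq_true', hcK, Nat.beq_eq] at h2
  have h3 := of_allb o1_codes d hd
  simp only [Bool.or_eq_true, Bool.not_eq_true', hdK, Nat.beq_eq] at h3
  have e1 : u 768 = u x25 * u x15 := by rw [← hE.mul (by decide) (by decide)]; congr 1
  have e2 : u 320 = u x25 * u x35 := by rw [← hE.mul (by decide) (by decide)]; congr 1
  have e3 : u 832 = u x25 * u x35 * u x15 := by
    rw [← e2, ← hE.mul (by decide) (by decide)]; congr 1
  have e4 : u 576 = u x35 * u x15 := by rw [← hE.mul (by decide) (by decide)]; congr 1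
  have hco : ∀ {a b : ℕ}, a < 1024 → b < 1024 → mu a b = mu b a → u a * u b = u b * u a := by
    intro a b ha hb hab
    rw [← hE.mul ha hb, ← hE.mul hb ha, hab]
  have hsq : ∀ {a : ℕ}, a < 1024 → mu a a = 0 → u a * u a = 1 := by
    intro a ha hab
    rw [← hE.mul ha ha, hab, hE.zero]
  refine conj_of_move (z := u x15) (p := u x25) (r := u x35) (k := k)
    (hsq (by decide) (by decide)) (hsq (by decide) (by decide)) (hsq (by decide) (by decide))
    (hco (by decide) (by decide) (by decide)) (hco (by decide) (by decide) (by decide))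
    (hco (by decide) (by decide) (by decide)) hkz hodd ?_ ?_ ?_ ?_ ?_ ?_ ?_ ?_
  · rw [hkc, ← e2, ← e1, ← hE.mul (a := 320) (b := x15) (by decide) (by decide)]
    rcases h2 with ((((h2 | h2) | h2) | h2) | h2) | h2
    · exact absurd h2 (by decide)
    · rw [hrel3] at h2
      exact absurd h2 (by simp)
    · left; rw [h2]
    · right; left; rw [h2]
    · right; right; left; rw [h2]
    · right; right; right; rw [h2]; rfl
  · rw [hkd, ← e2, ← e1, ← e4, ← hE.mul (a := 320) (b := x15) (by decide) (by decide)]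
    rcases h3 with (((((((h3 | h3) | h3) | h3) | h3) | h3) | h3) | h3) | h3
    · exact absurd h3 (by decide)
    · exfalso
      rw [h3, hE.zero] at hkd
      have : u x25 = 1 := by
        have := congrArg (fun y => k⁻¹ * y * k) hkd
        simpa [mul_assoc] using this
      rw [← hE.zero] at this
      exact absurd (hE.inj (by decide) (by decide) this) (by decide)
    · exfalso
      rw [h3] at hkd
      have : u x25 = u x15 := by
        have h4 : k * u x25 * k⁻¹ = k * u x15 * k⁻¹ := by rw [hkd, hz]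
        have := congrArg (fun y => k⁻¹ * y * k) h4
        simpa [mul_assoc] using this
      exact absurd (hE.inj (by decide) (by decide) this) (by decide)
    · left; rw [h3]
    · right; left; rw [h3]
    · right; right; left; rw [h3]
    · right; right; right; left; rw [h3]
    · right; right; right; right; left; rw [h3]
    · right; right; right; right; right; rw [h3]; rfl
  · rw [← hE.zero]; intro h4; exact absurd (hE.inj (by decide) (by decide) h4) (by decide)
  · intro h4; exact absurd (hE.inj (by decide) (by decide) h4) (by decide)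
  · rw [← e2, ← hE.zero]; intro h4; exact absurd (hE.inj (by decide) (by decide) h4) (by decide)
  · rw [← e2]; intro h4; exact absurd (hE.inj (by decide) (by decide) h4) (by decide)
  · rw [← e1]
    exact isConj_of_code hE (s := x12) (by decide) (by decide) (by decide) (by decide)
  · rw [← e4]
    exact isConj_of_code hE (s := x13) (by decide) (by decide) (by decide) (by decide)

theorem isConj_13_14 : IsConj (u x13) (u x14) := by
  obtain ⟨k, hkz, hodd, hkQ, hkA, a, ha, haK, hk⟩ := h.fus.k3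
  have hE := h.fus.emb
  have hkE := norm_E2 h hkz hkQ
  have cl : ∀ {c : ℕ}, c < 1024 → u c ∈ CS u kE2 → u c ∈ CS u kA1 → sb c 656 = true := by
    intro c hc h1 h2
    have h3 := of_allb n2_codes c hc
    rw [u_mem_CS hE Quot.closed_E2 hc] at h1
    rw [u_mem_CS hE Quot.closed_A1 hc] at h2
    rw [h1, h2] at h3
    simpa using h3
  have hm : ∀ {b : ℕ}, b < 1024 → sb b kE2 = true → sb b kA1 = true →
      ∃ c, c < 1024 ∧ sb c 656 = true ∧ k * u b * k⁻¹ = u c := by
    intro b hb h1 h2
    have h3 : k * u b * k⁻¹ ∈ CS u kE2 :=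
      (mem_normalizer_iff.1 hkE _).1 ((u_mem_CS hE Quot.closed_E2 hb).2 h1)
    have h4 : k * u b * k⁻¹ ∈ CS u kA1 :=
      (mem_normalizer_iff.1 hkA _).1 ((u_mem_CS hE Quot.closed_A1 hb).2 h2)
    obtain ⟨c, hc, -, hc2⟩ := (hE.mem_CS Quot.closed_E2).1 h3
    rw [← hc2] at h3 h4 ⊢
    exact ⟨c, hc, cl hc h3 h4, rfl⟩
  obtain ⟨c, hc, hcK, hkc⟩ := hm (b := x13) (by decide) (by decide) (by decide)
  obtain ⟨d, hd, hdK, hkd⟩ := hm (b := x14) (by decide) (by decide) (by decide)
  have hz : k * u x15 * k⁻¹ = u x15 := by rw [hkz]; group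
  -- the relation `[x35, x13] = z`
  have hrel : u x35 * u x13 = u x15 * (u x13 * u x35) := by
    rw [← hE.mul (by decide) (by decide), ← hE.mul (by decide) (by decide),
      ← hE.mul (by decide) (by decide)]
    congr 1
  have ham : mu x45 a < 1024 := mu_lt (by decide) ha
  have hrel2 : u (mu x45 a) * u c = u x15 * (u c * u (mu x45 a)) := by
    rw [← hkc, ← hk]
    calc k * u x35 * k⁻¹ * (k * u x13 * k⁻¹) = k * (u x35 * u x13) * k⁻¹ := by group
      _ = k * (u x15 * (u x13 * u x35)) * k⁻¹ := by rw [hrel]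
      _ = (k * u x15 * k⁻¹) * ((k * u x13 * k⁻¹) * (k * u x35 * k⁻¹)) := by group
      _ = _ := by rw [hz]
  have hrel3 : mu (mu x45 a) c = mu x15 (mu c (mu x45 a)) := by
    apply hE.inj (mu_lt ham hc) (mu_lt (by decide) (mu_lt hc ham))
    rw [hE.mul ham hc, hE.mul (by decide) (mu_lt hc ham), hE.mul hc ham, hrel2]
  have h1 := of_allb m2_codes a ha
  simp only [Bool.or_eq_true, Bool.not_eq_true'] at h1
  rcases h1 with h1 | h1
  · rw [sb_iff.2 haK] at h1; exact absurd h1 (by decide)
  have h2 := of_allb h1 c hc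
  simp only [Bool.or_eq_true, Bool.not_eq_true', hcK, Nat.beq_eq] at h2
  have h3 := of_allb o2_codes d hd
  simp only [Bool.or_eq_true, Bool.not_eq_true', hdK, Nat.beq_eq] at h3
  have e1 : u 640 = u x14 * u x15 := by rw [← hE.mul (by decide) (by decide)]; congr 1
  have e2 : u 144 = u x14 * u x13 := by rw [← hE.mul (by decide) (by decide)]; congr 1
  have e3 : u 656 = u x14 * u x13 * u x15 := by
    rw [← e2, ← hE.mul (by decide) (by decide)]; congr 1
  have e4 : u 528 = u x13 * u x15 := by rw [← hE.mul (by decide) (by decide)]; congr 1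
  have hco : ∀ {a b : ℕ}, a < 1024 → b < 1024 → mu a b = mu b a → u a * u b = u b * u a := by
    intro a b ha hb hab
    rw [← hE.mul ha hb, ← hE.mul hb ha, hab]
  have hsq : ∀ {a : ℕ}, a < 1024 → mu a a = 0 → u a * u a = 1 := by
    intro a ha hab
    rw [← hE.mul ha ha, hab, hE.zero]
  refine conj_of_move (z := u x15) (p := u x14) (r := u x13) (k := k)
    (hsq (by decide) (by decide)) (hsq (by decide) (by decide)) (hsq (by decide) (by decide))
    (hco (by decide) (by decide) (by decide)) (hco (by decide) (by decide) (by decide))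
    (hco (by decide) (by decide) (by decide)) hkz hodd ?_ ?_ ?_ ?_ ?_ ?_ ?_ ?_
  · rw [hkc, ← e2, ← e1, ← hE.mul (a := 144) (b := x15) (by decide) (by decide)]
    rcases h2 with ((((h2 | h2) | h2) | h2) | h2) | h2
    · exact absurd h2 (by decide)
    · rw [hrel3] at h2
      exact absurd h2 (by simp)
    · left; rw [h2]
    · right; left; rw [h2]
    · right; right; left; rw [h2]
    · right; right; right; rw [h2]; rfl
  · rw [hkd, ← e2, ← e1, ← e4, ← hE.mul (a := 144) (b := x15) (by decide) (by decide)]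
    rcases h3 with (((((((h3 | h3) | h3) | h3) | h3) | h3) | h3) | h3) | h3
    · exact absurd h3 (by decide)
    · exfalso
      rw [h3, hE.zero] at hkd
      have : u x14 = 1 := by
        have := congrArg (fun y => k⁻¹ * y * k) hkd
        simpa [mul_assoc] using this
      rw [← hE.zero] at this
      exact absurd (hE.inj (by decide) (by decide) this) (by decide)
    · exfalso
      rw [h3] at hkd
      have : u x14 = u x15 := by
        have h4 : k * u x14 * k⁻¹ = k * u x15 * k⁻¹ := by rw [hkd, hz]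
        have := congrArg (fun y => k⁻¹ * y * k) h4
        simpa [mul_assoc] using this
      exact absurd (hE.inj (by decide) (by decide) this) (by decide)
    · left; rw [h3]
    · right; left; rw [h3]
    · right; right; left; rw [h3]
    · right; right; right; left; rw [h3]
    · right; right; right; right; left; rw [h3]
    · right; right; right; right; right; rw [h3]; rfl
  · rw [← hE.zero]; intro h4; exact absurd (hE.inj (by decide) (by decide) h4) (by decide)
  · intro h4; exact absurd (hE.inj (by decide) (by decide) h4) (by decide)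
  · rw [← e2, ← hE.zero]; intro h4; exact absurd (hE.inj (by decide) (by decide) h4) (by decide)
  · rw [← e2]; intro h4; exact absurd (hE.inj (by decide) (by decide) h4) (by decide)
  · rw [← e1]
    exact isConj_of_code hE (s := x45) (by decide) (by decide) (by decide) (by decide)
  · rw [← e4]
    exact isConj_of_code hE (s := x35) (by decide) (by decide) (by decide) (by decide)

/-- `E1` is `z`-pure -/
theorem pure_E1 (hz : IsConj (u x15) (u x25)) : Pure (u x15) (CS u kE1) := by
  have hE := h.fus.emb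
  have hsq := sq_of hE Quot.closed_E1 sq_E1
  have h35 : IsConj (u x15) (u x35) := hz.trans (isConj_35_25 h).symm
  have h45 : IsConj (u x15) (u x45) := by
    obtain ⟨k, hkz, hodd, hkQ, hkA, a, ha, haK, hk⟩ := h.fus.k3
    have h1 := of_allb U1_codes a ha
    simp only [Bool.or_eq_true, Bool.not_eq_true'] at h1
    rcases h1 with h1 | h1
    · rw [sb_iff.2 haK] at h1; exact absurd h1 (by decide)
    obtain ⟨s, hs, h2⟩ := of_anyb h1
    rw [Nat.beq_eq] at h2
    have h3 := isConj_of_code hE (s := s) (mu_lt (by decide) ha) (by decide) hs h2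
    exact h35.trans ((isConj_iff.2 ⟨k, hk⟩).trans h3.symm)
  refine ⟨Elem.comm_of_sq hsq, hsq, ?_, ?_⟩
  · rw [card_CS hE Quot.closed_E1]
    decide +kernel
  · intro x hx hx1
    obtain ⟨a, ha, haK, rfl⟩ := (hE.mem_CS Quot.closed_E1).1 hx
    have h1 := of_allb E1_codes a ha
    simp only [Bool.or_eq_true, Bool.not_eq_true', Nat.beq_eq] at h1
    rcases h1 with ((h1 | h1) | h1) | h1
    · rw [sb_iff.2 haK] at h1; exact absurd h1 (by decide)
    · exfalso; apply hx1; rw [h1, hE.zero]
    · rw [h1]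
    · obtain ⟨s, hs, h2⟩ := of_anyb h1
      simp only [Bool.or_eq_true, Nat.beq_eq] at h2
      rcases h2 with (h2 | h2) | h2
      · exact hz.trans (isConj_of_code hE ha (by decide) hs h2)
      · exact h35.trans (isConj_of_code hE ha (by decide) hs h2)
      · exact h45.trans (isConj_of_code hE ha (by decide) hs h2)

/-- `E2` is `z`-pure -/
theorem pure_E2 (hz : IsConj (u x15) (u x14)) : Pure (u x15) (CS u kE2) := by
  have hE := h.fus.emb
  have hsq := sq_of hE Quot.closed_E2 sq_E2
  have h13 : IsConj (u x15) (u x13) := hz.trans (isConj_13_14 h).symm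
  have h12 : IsConj (u x15) (u x12) := by
    obtain ⟨k, hkz, hodd, hkQ, hkA, a, ha, haK, hk⟩ := h.fus.k2
    have h1 := of_allb U2_codes a ha
    simp only [Bool.or_eq_true, Bool.not_eq_true'] at h1
    rcases h1 with h1 | h1
    · rw [sb_iff.2 haK] at h1; exact absurd h1 (by decide)
    obtain ⟨s, hs, h2⟩ := of_anyb h1
    rw [Nat.beq_eq] at h2
    have h3 := isConj_of_code hE (s := s) (mu_lt (by decide) ha) (by decide) hs h2
    exact h13.trans ((isConj_iff.2 ⟨k, hk⟩).trans h3.symm)
  refine ⟨Elem.comm_of_sq hsq, hsq, ?_, ?_⟩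
  · rw [card_CS hE Quot.closed_E2]
    decide +kernel
  · intro x hx hx1
    obtain ⟨a, ha, haK, rfl⟩ := (hE.mem_CS Quot.closed_E2).1 hx
    have h1 := of_allb E2_codes a ha
    simp only [Bool.or_eq_true, Bool.not_eq_true', Nat.beq_eq] at h1
    rcases h1 with ((h1 | h1) | h1) | h1
    · rw [sb_iff.2 haK] at h1; exact absurd h1 (by decide)
    · exfalso; apply hx1; rw [h1, hE.zero]
    · rw [h1]
    · obtain ⟨s, hs, h2⟩ := of_anyb h1
      simp only [Bool.or_eq_true, Nat.beq_eq] at h2
      rcases h2 with (h2 | h2) | h2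
      · exact hz.trans (isConj_of_code hE ha (by decide) hs h2)
      · exact h13.trans (isConj_of_code hE ha (by decide) hs h2)
      · exact h12.trans (isConj_of_code hE ha (by decide) hs h2)

end pure2

/-! ### the subgroup `M` -/

section final

variable {G : Type*} [Group G] [Finite G] {u : ℕ → G}

/-- the output of the signalizer functor argument -/
structure MData (S : Subgroup G) (u : ℕ → G) (W : Subgroup G) : Prop where
  odd : Odd (Nat.card W)
  inf : W ⊓ centralizer ({u x15} : Set G) = centralizerPPrimeCore 2 (u x15)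
  cent : centralizer ({u x15} : Set G) ≤ normalizer (W : Set G)
  nA1 : normalizer (CS u kA1 : Set G) ≤ normalizer (W : Set G)
  nA2 : normalizer (CS u kA2 : Set G) ≤ normalizer (W : Set G)
  fix : ∀ g : G, g * u x15 * g⁻¹ ∈ normalizer (W : Set G) → g ∈ normalizer (W : Set G)

theorem card_ge_of_U {S : Subgroup G} (h : Emb S u) {K : ℕ} (hK : closedK K = true)
    (h4 : cntb 1024 (fun a => sb a K) = 4)
    {A E : Subgroup G} (hA : CS u K ≤ A) (hE : CS u K ≤ E) : 4 ≤ Nat.card (A ⊓ E : Subgroup G) := by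
  have h1 : CS u K ≤ A ⊓ E := le_inf hA hE
  have h2 := Subgroup.card_le_of_le h1
  rw [card_CS h hK, h4] at h2
  exact h2

omit [Finite G] in
theorem CS_mono {S : Subgroup G} (h : Emb S u) {K K' : ℕ} (hK : closedK K = true) (hKK : SubK K K') :
    CS u K ≤ CS u K' := by
  intro x hx
  obtain ⟨a, ha, haK, rfl⟩ := (h.mem_CS hK).1 hx
  exact Subgroup.subset_closure ⟨a, ha, fun j hj => hKK j (haK j hj), rfl⟩

theorem cnt_U1 : cntb 1024 (fun a => sb a kU1) = 4 := by decide +kernel
theorem cnt_U2 : cntb 1024 (fun a => sb a kU2) = 4 := by decide +kernel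

/-- **[D]** -/
theorem exists_W (S : Sylow 2 G) (h : Final (S : Subgroup G) u)
    (hB : ∀ (T : Sylow 2 (centralizer ({u x15} : Set G)))
      (v : ℕ → (centralizer ({u x15} : Set G))), VData T v →
        Solved (normalizer (CS v kQ : Set (centralizer ({u x15} : Set G)))))
    (hC : IsConj (u x15) (u x25) ∨ IsConj (u x15) (u x14)) :
    ∃ W : Subgroup G, MData (S : Subgroup G) u W := by
  have hE := h.fus.emb
  have hz : Functor.Con (centralizer ({u x15} : Set G)) := by
    obtain ⟨T, v, hv, hT, hV⟩ := h.vdata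
    exact Quot.con hV (hB T v hV)
  have hz1 : u x15 ≠ 1 := by
    rw [← hE.zero]; intro h4; exact absurd (hE.inj (by decide) (by decide) h4) (by decide)
  have hzz : u x15 * u x15 = 1 := by
    rw [← hE.mul (by decide) (by decide), show mu x15 x15 = 0 by decide, hE.zero]
  have hzmem : ∀ {K : ℕ}, Nat.land x15 K = x15 → u x15 ∈ CS u K := fun hK =>
    Subgroup.subset_closure ⟨x15, by decide, (subK_iff _ _).2 hK, rfl⟩
  -- elements of `C(z)` modulo the core
  have hsol : ∀ g ∈ centralizer ({u x15} : Set G), ∃ a ∈ th (u x15), ∃ n : G,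
      n * u x15 = u x15 * n ∧ n ∈ normalizer (CS u kQ : Set G) ∧ g = a * n := by
    obtain ⟨T, v, hv, hT, hV⟩ := h.vdata
    intro g hg
    obtain ⟨a, ha, n, hn, hgn⟩ := hB T v hV ⟨g, hg⟩
    refine ⟨a, ⟨a, ha, rfl⟩, n, mem_centralizer_singleton_iff.1 n.2, ?_, congrArg Subtype.val hgn⟩
    exact (mem_normalizer_lift hE hv hV.emb (Final_S_le h) Quot.closed_Q n).1 hn
  -- main construction from a pure subgroup
  have main : ∀ {K : ℕ}, Pure (u x15) (CS u K) → Nat.land x15 K = x15 →
      (∀ k : G, k * u x15 = u x15 * k → k ∈ normalizer (CS u kQ : Set G) →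
        k ∈ normalizer (CS u K : Set G)) →
      4 ≤ Nat.card (CS u kA1 ⊓ CS u K : Subgroup G) →
      4 ≤ Nat.card (CS u kA2 ⊓ CS u K : Subgroup G) → ∃ W : Subgroup G, MData (S : Subgroup G) u W := by
    intro K hP hzK hn h1 h2
    have hcl := closure hz hP
    have hsq1 := sq_of hE Quot.closed_A1 sq_A1
    have hsq2 := sq_of hE Quot.closed_A2 sq_A2
    have hc1 := Elem.comm_of_sq hsq1
    have hc2 := Elem.comm_of_sq hsq2
    have hN1 := normalizer_le_of_inf hz hP hc1 hsq1 h1
    have hN2 := normalizer_le_of_inf hz hP hc2 hsq2 h2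
    have hcent : centralizer ({u x15} : Set G) ≤ normalizer (W (CS u K) : Set G) := by
      apply centralizer_le (hzmem hzK) hz1
      intro g hg
      obtain ⟨a, ha, n, hn1, hn2, hgn⟩ := hsol g hg
      exact ⟨a, ha, n, hn n hn1 hn2, hgn⟩
    refine ⟨W (CS u K), hcl.1, hcl.2 _ (hzmem hzK) hz1, hcent, hN1, hN2, ?_⟩
    intro g hg
    refine mem_of_conj_mem S hzz ((Final_S_le h).trans hcent) hcent (hE.CS_le kA1) (hE.CS_le kA2)
      h.fus.wA1 h.fus.wA2 hc1 hc2 (hzmem (by decide)) (hzmem (by decide)) hN1 hN2 h.fus.inv hg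
  rcases hC with hC | hC
  · refine main (pure_E1 h hC) (by decide) (fun k h1 h2 => norm_E1 h h1 h2) ?_ ?_
    · exact card_ge_of_U hE (K := kU1) (by decide) cnt_U1
        (CS_mono hE (by decide) ((subK_iff _ _).2 (by decide)))
        (CS_mono hE (by decide) ((subK_iff _ _).2 (by decide)))
    · exact card_ge_of_U hE (K := kU1) (by decide) cnt_U1
        (CS_mono hE (by decide) ((subK_iff _ _).2 (by decide)))
        (CS_mono hE (by decide) ((subK_iff _ _).2 (by decide)))
  · refine main (pure_E2 h hC) (by decide) (fun k h1 h2 => norm_E2 h h1 h2) ?_ ?_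
    · exact card_ge_of_U hE (K := kU2) (by decide) cnt_U2
        (CS_mono hE (by decide) ((subK_iff _ _).2 (by decide)))
        (CS_mono hE (by decide) ((subK_iff _ _).2 (by decide)))
    · exact card_ge_of_U hE (K := kU2) (by decide) cnt_U2
        (CS_mono hE (by decide) ((subK_iff _ _).2 (by decide)))
        (CS_mono hE (by decide) ((subK_iff _ _).2 (by decide)))

end final

end Cfsg.Agent.SylowL5.MSub
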