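import Mathlib
import Cfsg.Prelude.Def_Local
import Cfsg.Agent.SylowL5.OddLift
import Cfsg.Agent.SylowL5.MSub
import Cfsg.Agent.SylowL5.Quot

/-!
# The quotient `M / W`

`M = N_G(W)`: the hypotheses `OddHyp` for `M → M / W`, and the centralizer of the image of `z` is
isomorphic to the centralizer of a transvection of `SL(5, 2)`.
-/

set_option autoImplicit false

namespace Cfsg.Agent.SylowL5.MQuot

open Cfsg Subgroup Cfsg.Agent.SylowL5.Setup Cfsg.Agent.SylowL5.Data Cfsg.Agent.SylowL5.FusData
open Cfsg.Agent.SylowL5.MSub Cfsg.Agent.SylowL5.OddLift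

variable {G : Type*} [Group G]

/-- `W` as a (normal) subgroup of its normalizer -/
abbrev WM (W : Subgroup G) : Subgroup (normalizer (W : Set G)) := W.subgroupOf (normalizer (W : Set G))

instance WM_normal (W : Subgroup G) : (WM W).Normal := Subgroup.normal_in_normalizer

/-- the quotient map `M → M / W` -/
abbrev qW (W : Subgroup G) : (normalizer (W : Set G)) →* (normalizer (W : Set G)) ⧸ WM W :=
  QuotientGroup.mk' (WM W)

variable [Finite G] {S : Subgroup G} {u : ℕ → G} {W : Subgroup G}

/-- `z` as an element of `M` -/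
def zM (h : MData S u W) : normalizer (W : Set G) :=
  ⟨u x15, h.cent (mem_centralizer_singleton_iff.2 rfl)⟩

theorem card_ker (W : Subgroup G) : Nat.card (qW W).ker = Nat.card W := by
  rw [QuotientGroup.ker_mk']
  exact Nat.card_congr (Subgroup.subgroupOfEquivOfLe Subgroup.le_normalizer).toEquiv

theorem oddHyp (hE : Emb S u) (h : MData S u W) :
    OddHyp (normalizer (W : Set G)) (qW W) (zM h) := by
  refine ⟨QuotientGroup.mk'_surjective _, ?_, ?_, ?_, ?_⟩
  · rw [card_ker]; exact h.odd
  · apply Subtype.ext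
    show u x15 * u x15 = 1
    rw [← hE.mul (by decide) (by decide), show mu x15 x15 = 0 by decide, hE.zero]
  · intro h1
    have h2 : u x15 = 1 := congrArg Subtype.val h1
    rw [← hE.zero] at h2
    exact absurd (hE.inj (by decide) (by decide) h2) (by decide)
  · intro g hg
    exact h.fix g hg

/-- the map `C_G(z) → M / W` -/
def fC (h : MData S u W) : centralizer ({u x15} : Set G) →* (normalizer (W : Set G)) ⧸ WM W :=
  (qW W).comp (Subgroup.inclusion h.cent)

theorem fC_apply (h : MData S u W) (y : centralizer ({u x15} : Set G)) :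
    fC h y = qW W ⟨y, h.cent y.2⟩ := rfl

theorem range_fC (hE : Emb S u) (h : MData S u W) :
    (fC h).range = centralizer ({qW W (zM h)} : Set ((normalizer (W : Set G)) ⧸ WM W)) := by
  have hO := oddHyp hE h
  apply le_antisymm
  · rintro _ ⟨y, rfl⟩
    rw [mem_centralizer_singleton_iff, fC_apply, ← map_mul, ← map_mul]
    congr 1
    apply Subtype.ext
    exact mem_centralizer_singleton_iff.1 y.2
  · intro x hx
    rw [mem_centralizer_singleton_iff] at hx
    obtain ⟨g, hg, hgz⟩ := conj_lift hO.surj hO.odd hO.zz hO.zz (x := x) (by rw [hx]; group)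
    have h1 : (g : G) ∈ centralizer ({u x15} : Set G) := by
      rw [mem_centralizer_singleton_iff]
      have h2 : (g : G) * u x15 * (g : G)⁻¹ = u x15 := congrArg Subtype.val hgz
      calc (g : G) * u x15 = (g : G) * u x15 * (g : G)⁻¹ * g := by group
        _ = u x15 * g := by rw [h2]
    exact ⟨⟨g, h1⟩, hg⟩

theorem ker_fC (h : MData S u W) :
    (fC h).ker = pPrimeCore 2 (centralizer ({u x15} : Set G)) := by
  ext y
  rw [MonoidHom.mem_ker, fC_apply]
  have h1 : qW W ⟨y, h.cent y.2⟩ = 1 ↔ (y : G) ∈ W := by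
    rw [QuotientGroup.mk'_apply, QuotientGroup.eq_one_iff]
    rfl
  rw [h1]
  have h2 : (y : G) ∈ W ↔ (y : G) ∈ W ⊓ centralizer ({u x15} : Set G) :=
    ⟨fun hy => ⟨hy, y.2⟩, fun hy => hy.1⟩
  rw [h2, h.inf]
  constructor
  · rintro ⟨y', hy', hyy⟩
    have : y' = y := Subtype.ext hyy
    rwa [← this]
  · intro hy
    exact ⟨y, hy, rfl⟩

/-- the centralizer of the image of `z` in `M / W` -/
theorem nonempty_equiv (hE : Emb S u) (h : MData S u W)
    {T : Sylow 2 (centralizer ({u x15} : Set G))} {v : ℕ → (centralizer ({u x15} : Set G))}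
    (hV : VData T v)
    (hB : Solved (normalizer (CS v kQ : Set (centralizer ({u x15} : Set G)))))
    (s : Matrix.SpecialLinearGroup (Fin 5) (ZMod 2))
    (hs : (s : Matrix (Fin 5) (Fin 5) (ZMod 2)) = Matrix.transvection 0 1 1) :
    Nonempty (centralizer ({qW W (zM h)} : Set ((normalizer (W : Set G)) ⧸ WM W)) ≃*
      Subgroup.centralizer ({s} : Set (Matrix.SpecialLinearGroup (Fin 5) (ZMod 2)))) := by
  obtain ⟨e⟩ := Quot.nonempty_equiv hV hB s hs
  have e1 := QuotientGroup.quotientKerEquivRange (fC h)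
  have e2 : (centralizer ({u x15} : Set G)) ⧸ (fC h).ker ≃*
      (centralizer ({u x15} : Set G)) ⧸ pPrimeCore 2 (centralizer ({u x15} : Set G)) :=
    QuotientGroup.quotientMulEquivOfEq (ker_fC h)
  exact ⟨((MulEquiv.subgroupCongr (range_fC hE h)).symm.trans e1.symm).trans (e2.trans e)⟩

end Cfsg.Agent.SylowL5.MQuot
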