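import Mathlib
import Cfsg.Agent.SylowL5.OddLift
import Cfsg.Agent.R15.LiteFix
import Cfsg.Agent.Held.AffineCaseZ

/-!
# Piece [E] of S0512, affine case

`G` simple, `M ≤ G`, `q : M → X` surjective with odd kernel, `z ∈ M` an involution with `g z g⁻¹ ∈ M → g ∈ M`.
If the fusion of `X` is that of `2⁴:L₄(2)` then `M = G`.
-/

set_option autoImplicit false

universe u v

namespace Cfsg.Agent.SylowL5.OddAffine

open Cfsg Subgroup Cfsg.Agent.SylowL5.OddLift Cfsg.Agent.Held

section

variable {G : Type u} [Group G] {M : Subgroup G} {X : Type v} [Group X] {q : M →* X} {z : M}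

/-- centralizers of `M`-conjugates of `z` lie in `M` -/
theorem centralizer_le_of_conj (h : OddHyp M q z) {y m : G} (hm : m ∈ M)
    (hmy : m * (z : G) * m⁻¹ = y) : centralizer ({y} : Set G) ≤ M := by
  intro g hg
  have h1 : g * y = y * g := mem_centralizer_singleton_iff.1 hg
  have h2 : (g * m) * (z : G) * (g * m)⁻¹ ∈ M := by
    have e : (g * m) * (z : G) * (g * m)⁻¹ = g * (m * (z : G) * m⁻¹) * g⁻¹ := by group
    rw [e, hmy, h1, mul_inv_cancel_right, ← hmy]
    exact M.mul_mem (M.mul_mem hm z.2) (M.inv_mem hm)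
  have h3 := h.fix _ h2
  have e : g = (g * m) * m⁻¹ := by group
  rw [e]
  exact M.mul_mem h3 (M.inv_mem hm)

/-- an element `u` of `M` with `u² = 1` and trivial image is trivial -/
theorem eq_one_of_map [Finite G] (h : OddHyp M q z) {u : M} (hu : u * u = 1) (hq : q u = 1) : u = 1 := by
  obtain ⟨k, -, hk⟩ := conj_of_eq h.odd hu (one_mul 1) (hq.trans (map_one q).symm)
  have e : u = k⁻¹ * (k * u * k⁻¹) * k := by group
  rw [e, hk]; group

end

variable {G : Type u} [Group G] [Finite G] {M : Subgroup G} {X : Type u} [Group X]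
  {q : M →* X} {z : M}

variable [Finite X] {T : Sylow 2 X} {A U : Subgroup X}

set_option linter.unusedSectionVars false
set_option linter.unusedVariables false

/-- If `e ≠ z` is a conjugate of `z` commuting with `z`, then `e ∈ M` and `q e ∈ A`. -/
theorem conj_mem (h : OddHyp M q z) (H : AffineBasic.Hyp (q z) T A U) {g : G}
    (hc : (z : G) * (g * z * g⁻¹) = g * z * g⁻¹ * z) :
    ∃ hg : g ∈ M, q (⟨g, hg⟩ * z * ⟨g, hg⟩⁻¹) ∈ A := by
  have h1 : g * (z : G) * g⁻¹ ∈ M :=
    h.centralizer_le (mem_centralizer_singleton_iff.2 hc.symm)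
  have hg := h.fix g h1
  refine ⟨hg, ?_⟩
  set e : M := ⟨g, hg⟩ * z * ⟨g, hg⟩⁻¹ with he
  have h2 : e * z = z * e := Subtype.ext hc.symm
  have h3 : q e * q z = q z * q e := by rw [← map_mul, h2, map_mul]
  have h4 : IsConj (q z) (q e) := isConj_iff.2 ⟨q ⟨g, hg⟩, by rw [he, map_mul, map_mul, map_inv]⟩
  exact H.mem_of_isConj (H.CN (mem_centralizer_singleton_iff.2 h3)) h4

/-- the product of `z` and a commuting conjugate `e ≠ z` of `z` is `M`-conjugate to `z` -/
theorem prod_conj (h : OddHyp M q z) (H : AffineBasic.Hyp (q z) T A U) {e : M} (hee : e * e = 1)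
    (heA : q e ∈ A) (hez : e ≠ z) (hc : z * e = e * z) :
    ∃ m ∈ M, m * (z : G) * m⁻¹ = (z : G) * e := by
  have h1 : (z * e) * (z * e) = 1 := by
    calc (z * e) * (z * e) = z * (e * z) * e := by group
      _ = (z * z) * (e * e) := by rw [← hc]; group
      _ = 1 := by rw [h.zz, hee, one_mul]
  have h2 : q (z * e) ≠ 1 := by
    intro h3
    have h4 := eq_one_of_map h h1 h3
    apply hez
    have h5 : e = z⁻¹ := (inv_eq_of_mul_eq_one_right h4).symm
    rw [h5, inv_eq_of_mul_eq_one_right h.zz]
  have h3 : q (z * e) ∈ A := by rw [map_mul]; exact A.mul_mem H.zA heA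
  exact h.conj h.zz h1 (H.conj _ h3 h2)

/-- The centralizer of a transvection with centre `z` lies in `M`. -/
theorem centralizer_le (h : OddHyp M q z) (H : AffineBasic.Hyp (q z) T A U)
    {s : (T : Subgroup X) →* M} (hs : ∀ t, q (s t) = t) (hsz : s ⟨q z, H.AT H.zA⟩ = z)
    {r : X} (hrT : r ∈ (T : Subgroup X)) (hrA : r ∉ A) (hrr : r * r = 1)
    (hra : ∀ a ∈ A, r * a * r⁻¹ = a ∨ r * a * r⁻¹ = a * q z) :
    centralizer ({((s ⟨r, hrT⟩ : M) : G)} : Set G) ≤ M := by
  classical
  set ρ : M := s ⟨r, hrT⟩ with hρ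
  set C : Subgroup G := centralizer ({(ρ : G)} : Set G) with hC
  have hrz : r * q z = q z * r := mem_centralizer_singleton_iff.1 (H.Tz hrT)
  have hρz : ρ * z = z * ρ := by
    rw [hρ, ← hsz, ← map_mul, ← map_mul]
    congr 1
    exact Subtype.ext hrz
  have hzC : (z : G) ∈ C := mem_centralizer_singleton_iff.2 (congrArg Subtype.val hρz.symm)
  -- an element of `A` moved by `r`
  obtain ⟨a, haA, har⟩ : ∃ a ∈ A, r * a * r⁻¹ = a * q z := by
    by_contra hcon
    push Not at hcon
    apply hrA
    apply H.cent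
    intro y hy
    have h1 := (hra y hy).resolve_right (hcon y hy)
    exact mul_inv_eq_iff_eq_mul.1 h1
  -- an element of `A` centralised by `r`
  obtain ⟨b, hbA, hbr, hb1, hbz⟩ : ∃ b ∈ A, r * b = b * r ∧ b ≠ 1 ∧ b ≠ q z := by
    by_contra hcon
    push Not at hcon
    have hmove : ∀ b ∈ A, b ≠ 1 → b ≠ q z → r * b * r⁻¹ = b * q z := by
      intro b hb h1 h2
      refine (hra b hb).resolve_left ?_
      intro h3
      exact h2 (hcon b hb (mul_inv_eq_iff_eq_mul.1 h3) h1)
    -- `A` has order at most 4
    have hcard : Nat.card A ≤ Nat.card (Fin 4) := by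
      let f : A → Fin 4 := fun x => if (x : X) = 1 then 0 else if (x : X) = q z then 1 else
        if (x : X) = a then 2 else 3
      apply Nat.card_le_card_of_injective f
      have ha1 : a ≠ 1 := by
        rintro rfl
        apply H.z_ne_one
        have : (1 : X) = 1 * q z := by rw [← har]; group
        rw [one_mul] at this
        exact this.symm
      have haz : a ≠ q z := by
        intro haz
        apply H.z_ne_one
        rw [haz, hrz, mul_inv_cancel_right] at har
        exact (left_eq_mul.1 har)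
      have hkey : ∀ x ∈ A, x ≠ 1 → x ≠ q z → x ≠ a → x = a * q z := by
        intro x hx h1 h2 h3
        have h4 := hmove x hx h1 h2
        have h5 : r * (a * x) = (a * x) * r := by
          apply mul_inv_eq_iff_eq_mul.1
          calc r * (a * x) * r⁻¹ = (r * a * r⁻¹) * (r * x * r⁻¹) := by group
            _ = (a * q z) * (x * q z) := by rw [har, h4]
            _ = a * (q z * x) * q z := by group
            _ = a * (x * q z) * q z := by rw [H.comm _ H.zA _ hx]
            _ = a * x * (q z * q z) := by group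
            _ = a * x := by rw [H.sq _ H.zA, mul_one]
        have h6 : a * x ≠ 1 := by
          intro h7
          apply h3
          rw [← H.inv_eq haA]
          exact (inv_eq_of_mul_eq_one_right h7).symm
        have h7 := hcon (a * x) (A.mul_mem haA hx) h5 h6
        have h8 : x = a⁻¹ * (a * x) := by group
        rw [h8, h7, H.inv_eq haA]
      intro x y hxy
      apply Subtype.ext
      by_cases hx1 : (x : X) = 1
      · by_cases hy1 : (y : X) = 1
        · rw [hx1, hy1]
        · exfalso
          simp only [f, if_pos hx1, if_neg hy1] at hxy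
          split_ifs at hxy <;> simp at hxy
      · by_cases hy1 : (y : X) = 1
        · exfalso
          simp only [f, if_pos hy1, if_neg hx1] at hxy
          split_ifs at hxy <;> simp at hxy
        · by_cases hxz : (x : X) = q z
          · by_cases hyz : (y : X) = q z
            · rw [hxz, hyz]
            · exfalso
              simp only [f, if_neg hx1, if_neg hy1, if_pos hxz, if_neg hyz] at hxy
              split_ifs at hxy <;> simp at hxy
          · by_cases hyz : (y : X) = q z
            · exfalso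
              simp only [f, if_neg hx1, if_neg hy1, if_pos hyz, if_neg hxz] at hxy
              split_ifs at hxy <;> simp at hxy
            · by_cases hxa : (x : X) = a
              · by_cases hya : (y : X) = a
                · rw [hxa, hya]
                · exfalso
                  simp only [f, if_neg hx1, if_neg hy1, if_neg hxz, if_neg hyz, if_pos hxa,
                    if_neg hya] at hxy
                  simp at hxy
              · by_cases hya : (y : X) = a
                · exfalso
                  simp only [f, if_neg hx1, if_neg hy1, if_neg hxz, if_neg hyz, if_neg hxa,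
                    if_pos hya] at hxy
                  simp at hxy
                · rw [hkey x x.2 hx1 hxz hxa, hkey y y.2 hy1 hyz hya]
    rw [H.card] at hcard
    simp at hcard
  -- `z` is isolated in `C`
  have hiso : IsIsolatedInvolution (⟨z, hzC⟩ : C) := by
    refine ⟨?_, ?_⟩
    · rw [Subgroup.orderOf_mk, Subgroup.orderOf_coe]
      exact orderOf_eq_prime (by rw [pow_two]; exact h.zz) h.z1
    · rintro ⟨c, hcC⟩ hcomm
      have hcomm' : (z : G) * (c * z * c⁻¹) = c * z * c⁻¹ * z := congrArg Subtype.val hcomm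
      obtain ⟨hcM, hcA⟩ := conj_mem h H hcomm'
      have hcN : q ⟨c, hcM⟩ ∈ normalizer (A : Set X) := by
        apply H.mem_of_conj_mem H.zA H.z_ne_one
        rw [map_mul, map_mul, map_inv] at hcA
        exact hcA
      set k : X := q ⟨c, hcM⟩ with hk
      have hkr : k * r = r * k := by
        have h1 : c * (ρ : G) = ρ * c := mem_centralizer_singleton_iff.1 hcC
        have h2 : (⟨c, hcM⟩ : M) * ρ = ρ * ⟨c, hcM⟩ := Subtype.ext h1
        have h3 : q ρ = r := hs ⟨r, hrT⟩
        rw [hk, ← h3, ← map_mul, h2, map_mul]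
      have hkr' : ∀ x : X, r * (k * x * k⁻¹) * r⁻¹ = k * (r * x * r⁻¹) * k⁻¹ := by
        intro x
        calc r * (k * x * k⁻¹) * r⁻¹ = (r * k) * x * (r * k)⁻¹ := by group
          _ = (k * r) * x * (k * r)⁻¹ := by rw [hkr]
          _ = k * (r * x * r⁻¹) * k⁻¹ := by group
      have hka : k * a * k⁻¹ ∈ A := (mem_normalizer_iff.1 hcN a).1 haA
      have h4 := hkr' a
      rw [har] at h4
      have h5 : k * (a * q z) * k⁻¹ = (k * a * k⁻¹) * (k * q z * k⁻¹) := by group
      rw [h5] at h4
      have h6 : k * q z * k⁻¹ = q z := by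
        rcases hra _ hka with h7 | h7
        · rw [h7] at h4
          exfalso
          have h8 : k * q z * k⁻¹ = 1 := (left_eq_mul.1 h4)
          apply H.z_ne_one
          have : q z = k⁻¹ * (k * q z * k⁻¹) * k := by group
          rw [this, h8]; group
        · rw [h7] at h4
          exact (mul_left_cancel h4).symm
      -- back to `G`
      set e : M := ⟨c, hcM⟩ * z * ⟨c, hcM⟩⁻¹ with he
      have he1 : q e = q z := by rw [he, map_mul, map_mul, map_inv, ← hk, h6]
      have hez : z * e = e * z := Subtype.ext hcomm'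
      have hee : e * e = 1 := by
        rw [he]
        calc _ = (⟨c, hcM⟩ : M) * (z * z) * (⟨c, hcM⟩ : M)⁻¹ := by group
          _ = 1 := by rw [h.zz]; group
      have h7 : (z * e) * (z * e) = 1 := by
        calc (z * e) * (z * e) = z * (e * z) * e := by group
          _ = (z * z) * (e * e) := by rw [← hez]; group
          _ = 1 := by rw [h.zz, hee, one_mul]
      have h8 := eq_one_of_map h h7 (by rw [map_mul, he1, ← map_mul, h.zz, map_one])
      have h9 : e = z := by
        have : e = z⁻¹ := (inv_eq_of_mul_eq_one_right h8).symm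
        rw [this, inv_eq_of_mul_eq_one_right h.zz]
      apply Subtype.ext
      have := congrArg Subtype.val h9
      exact this
  -- the odd core of `C` lies in `M`
  let O : Subgroup G := (oddCore C).map C.subtype
  have hOn : ∀ x ∈ C, ∀ o ∈ O, x * o * x⁻¹ ∈ O := by
    rintro x hx _ ⟨o, ho, rfl⟩
    exact ⟨⟨x, hx⟩ * o * ⟨x, hx⟩⁻¹,
      (Cfsg.Agent.Lib.Cores.pPrimeCore_normal 2).conj_mem o ho _, rfl⟩
  have hOodd : Odd (Nat.card O) := by
    have h2 : Nat.card O = Nat.card (oddCore C) :=
      (Nat.card_congr (Subgroup.equivMapOfInjective _ _ C.subtype_injective).toEquiv).symm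
    rw [h2]
    exact Nat.coprime_two_right.mp (Cfsg.Agent.Lib.Cores.pPrimeCore_coprime 2)
  have hbT := H.AT hbA
  set β : M := s ⟨b, hbT⟩ with hβ
  have hβq : q β = b := hs ⟨b, hbT⟩
  have hββ : β * β = 1 := by
    rw [hβ, ← map_mul, ← map_one s]
    congr 1
    exact Subtype.ext (H.sq b hbA)
  have hzβ : z * β = β * z := by
    rw [hβ, ← hsz, ← map_mul, ← map_mul]
    congr 1
    exact Subtype.ext (H.comm _ H.zA b hbA)
  have hβρ : β * ρ = ρ * β := by
    rw [hβ, hρ, ← map_mul, ← map_mul]
    congr 1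
    exact Subtype.ext hbr.symm
  have hβz : β ≠ z := by
    intro h1
    apply hbz
    rw [← hβq, h1]
  have hβC : (β : G) ∈ C := mem_centralizer_singleton_iff.2 (congrArg Subtype.val hβρ)
  obtain ⟨m1, hm1, hm1'⟩ := h.conj h.zz hββ (by rw [hβq]; exact H.conj b hbA hb1)
  obtain ⟨m2, hm2, hm2'⟩ := prod_conj h H hββ (by rw [hβq]; exact hbA) hβz hzβ
  have hOle : O ≤ M := by
    apply Cfsg.Agent.Lib.KleinGen.le_of_klein O M hOodd (z : G) (β : G)
      (congrArg Subtype.val h.zz) (congrArg Subtype.val hββ) (congrArg Subtype.val hzβ)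
      (fun o ho => hOn _ hzC o ho) (fun o ho => hOn _ hβC o ho)
      (inf_le_right.trans h.centralizer_le)
      (inf_le_right.trans (centralizer_le_of_conj h hm1 hm1'))
      (inf_le_right.trans (centralizer_le_of_conj h hm2 hm2'))
  intro x hx
  have h2 := AffineCaseZ.zstar C ⟨z, hzC⟩ hiso ⟨x, hx⟩
  have h3 : (z : G) * x * (z : G)⁻¹ * x⁻¹ ∈ O := ⟨_, h2, rfl⟩
  have h4 := hOle h3
  apply h.fix
  have h6 : x * (z : G) * x⁻¹ = ((z : G) * x * (z : G)⁻¹ * x⁻¹)⁻¹ * z := by group
  rw [h6]
  exact M.mul_mem (M.inv_mem h4) z.2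

/-- **Piece [E], affine case.** -/
theorem eq_top [IsSimpleGroup G] (h : OddHyp M q z) (H : AffineBasic.Hyp (q z) T A U)
    {r : X} (hrT : r ∈ (T : Subgroup X)) (hrA : r ∉ A) (hrr : r * r = 1)
    (hra : ∀ a ∈ A, r * a * r⁻¹ = a ∨ r * a * r⁻¹ = a * q z) : M = ⊤ := by
  by_contra hM
  have hzT : q z ∈ T := H.AT H.zA
  obtain ⟨S, s, hs1, hs2, hs3, hs4⟩ := exists_section h T hzT
  have hzc : (S : Subgroup G) ≤ centralizer {(z : G)} := by
    intro x hx
    obtain ⟨t, rfl⟩ := hs4 x hx
    rw [mem_centralizer_singleton_iff]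
    have h1 : s t * z = z * s t := by
      conv_lhs => rw [← hs2]
      conv_rhs => rw [← hs2]
      rw [← map_mul, ← map_mul]
      congr 1
      exact Subtype.ext (mem_centralizer_singleton_iff.1 (H.Tz t.2))
    exact congrArg Subtype.val h1
  obtain ⟨g, hg⟩ := R15.LiteFix.exists_conj_eq S M hM (z := (z : G)) (v := (s ⟨r, hrT⟩ : M))
    hzc (congrArg Subtype.val h.zz) (fun h1 => h.z1 (Subtype.ext h1)) z.2 h.fix
    (by
      rintro _ ⟨g, rfl⟩ hne hc
      obtain ⟨hgM, hgA⟩ := conj_mem h H hc
      obtain ⟨m, hm, hm'⟩ := prod_conj h H (e := ⟨g, hgM⟩ * z * ⟨g, hgM⟩⁻¹)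
        (by
          calc _ = (⟨g, hgM⟩ : M) * (z * z) * (⟨g, hgM⟩ : M)⁻¹ := by group
            _ = 1 := by rw [h.zz]; group)
        hgA (fun h1 => hne (congrArg Subtype.val h1)) (Subtype.ext hc)
      exact centralizer_le_of_conj h hm hm')
    (by
      have h1 : s ⟨r, hrT⟩ * s ⟨r, hrT⟩ = 1 := by
        rw [← map_mul, ← map_one s]
        congr 1
        exact Subtype.ext hrr
      exact congrArg Subtype.val h1)
    (s ⟨r, hrT⟩).2 (centralizer_le h H hs1 hs2 hrT hrA hrr hra)
  obtain ⟨x, hx⟩ := h.isConj_of hg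
  rw [hs1] at hx
  exact hrA (H.fus r hrT (isConj_iff.2 ⟨x, hx⟩))

end Cfsg.Agent.SylowL5.OddAffine
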