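import Mathlib
import Cfsg.Agent.SylowL5.OddAffine
import Cfsg.Agent.Held.ClosingOdd
import Cfsg.Agent.Held.PCase

/-!
# Piece [E] of S0512: closing modulo a normal subgroup of odd order

`G` simple, `M ≤ G`, `q : M → X` surjective with odd kernel, `z ∈ M` an involution with `g z g⁻¹ ∈ M → g ∈ M`,
`C_X(q z)` the centralizer of a transvection of `SL(5,2)`, and `q z` is conjugate in `X` to `x03` or to `x14`.
Then `M = G`.
-/

set_option autoImplicit false

universe u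

namespace Cfsg.Agent.SylowL5.OddFinal

open Cfsg Subgroup Cfsg.Agent.SylowL5.OddLift Cfsg.Agent.Held
open Cfsg.Agent.SporadicRecognition.HeldModel Cfsg.Agent.Lib.F2Mat
  Cfsg.Agent.Held.NoBModel Cfsg.Agent.Held.Pattern Cfsg.Agent.Held.PFus Cfsg.Agent.Held.PCase

theorem cd_x14 : cd (x 1 4) = 17044033 := by rw [cd_x]; decide +kernel

theorem conj_x14 : ∀ a : Fin 16,
    (Nat.beq (mul 5 (mul 5 17044033 (rc a)) 17044033) (rc a) ||
      Nat.beq (mul 5 (mul 5 17044033 (rc a)) 17044033) (mul 5 (rc a) zc)) = true := by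
  decide +kernel

theorem x14_sq : x14C * x14C = 1 := by
  apply Subtype.ext
  apply cd_inj
  show cd (x 1 4 * x 1 4) = cd 1
  rw [cd_mul, cd_x14, cd_one]
  decide +kernel

theorem x14_mem_T0 : (x14C : L5) ∈ T0 := by
  show x 1 4 ∈ T0
  rw [T0, mem_pat, Pat_iff_inP, cd_x14]
  decide +kernel

theorem x14_not_mem_R1 : (x14C : L5) ∉ R1 := by
  show x 1 4 ∉ R1
  rw [R1, mem_pat, Pat_iff_inP, cd_x14]
  decide +kernel

theorem act_x14 {a : L5} (ha : a ∈ R1) : x 1 4 * a * x 1 4 = a ∨ x 1 4 * a * x 1 4 = a * zz := by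
  obtain ⟨i, rfl⟩ := re_surj ha
  have h := conj_x14 i
  rw [Bool.or_eq_true] at h
  rcases h with h | h
  · left
    apply cd_inj
    rw [cd_mul, cd_mul, cd_x14, cd_re]
    exact Nat.eq_of_beq_eq_true h
  · right
    apply cd_inj
    rw [cd_mul, cd_mul, cd_mul, cd_x14, cd_re, cd_zz]
    exact Nat.eq_of_beq_eq_true h

variable {G : Type u} [Group G] [Finite G] [IsSimpleGroup G] {M : Subgroup G} {X : Type u}
  [Group X] [Finite X] {q : M →* X} {z : M}

/-- **Affine case**, with the fusion facts as hypotheses -/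
theorem eq_top_affine (h : OddHyp M q z) {ι : CC →* X} (hyp : Hyp (q z) ι)
    (S : Sylow 2 X) (hS : (S : Subgroup X) = im ι T0)
    (hctl1 : ∀ b : Fin 64, F (q z) ι b → ∃ n : X, n * q z * n⁻¹ = ι (vC b) ∧
      ∀ w ∈ im ι V1, n * w * n⁻¹ ∈ im ι V1)
    (hctl2 : ∀ b : Fin 64, F (q z) (ι.comp tauC) b → ∃ n : X, n * q z * n⁻¹ = (ι.comp tauC) (vC b) ∧
      ∀ w ∈ im (ι.comp tauC) V1, n * w * n⁻¹ ∈ im (ι.comp tauC) V1)
    (hb : ¬ IsConj (q z) (ι bC))
    (hrep : ∀ u : CC, u * u = 1 → ∃ g : CC, ((g * u * g⁻¹ : CC) : L5) ∈ V1 ∨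
      ((g * u * g⁻¹ : CC) : L5) ∈ V2)
    (h1 : IsConj (q z) (ι x03C)) (h2 : ¬ IsConj (q z) (ι x14C)) : M = ⊤ := by
  have H := hypAffine hyp S hS HeldCardEq.card_CC h1
    (PFus.pcase' hyp hctl1 hctl2 hb hrep h1 h2)
  refine OddAffine.eq_top h H (r := ι x14C) ?_ ?_ ?_ ?_
  · rw [hS]
    exact mem_im.2 ⟨x14C, x14_mem_T0, rfl⟩
  · intro hr
    obtain ⟨u, hu, hux⟩ := mem_im.1 hr
    have : u = x14C := hyp.inj hux
    rw [this] at hu
    exact x14_not_mem_R1 hu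
  · rw [← map_mul, x14_sq, map_one]
  · intro a ha
    obtain ⟨u, hu, rfl⟩ := mem_im.1 ha
    have hinv : x14C⁻¹ = x14C := inv_eq_of_mul_eq_one_right x14_sq
    rw [← map_inv, ← map_mul, ← map_mul, hinv, ← hyp.map_zz, ← map_mul]
    rcases act_x14 hu with h3 | h3
    · left
      have h4 : x14C * u * x14C = u := Subtype.ext h3
      rw [h4]
    · right
      have h4 : x14C * u * x14C = u * zC := Subtype.ext h3
      rw [h4]

/-- **Piece [E].** -/
theorem eq_top (h : OddHyp M q z) {ι : CC →* X} (hyp : Hyp (q z) ι)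
    (hz : IsConj (q z) (ι x03C) ∨ IsConj (q z) (ι x14C)) : M = ⊤ := by
  have Fu := Assembly.fusion hyp
  obtain ⟨S, hS⟩ := Fu.sylow
  have hb := NoBFin.not_isConj_bC hyp
  by_cases h1 : IsConj (q z) (ι x03C)
  swap
  · have h2 : IsConj (q z) (ι x14C) := hz.resolve_left h1
    refine eq_top_affine h hyp.tau S (by rw [hS, Assembly.im_tau_T0]) Fu.ctl2 ?_ ?_ Fu.rep ?_ ?_
    · rw [Assembly.comp_tau_tau]; exact Fu.ctl1
    · show ¬ IsConj (q z) (ι (tauC bC))
      rw [tauC_bC]; exact hb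
    · show IsConj (q z) (ι (tauC x03C))
      rw [tau_x03]; exact h2
    · show ¬ IsConj (q z) (ι (tauC x14C))
      rw [tau_x14]; exact h1
  by_cases h2 : IsConj (q z) (ι x14C)
  swap
  · exact eq_top_affine h hyp S hS Fu.ctl1 Fu.ctl2 hb Fu.rep h1 h2
  exact ClosingOdd.eq_top q h.surj h.odd z h.zz h.fix hyp h1 h2

end Cfsg.Agent.SylowL5.OddFinal
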