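import Mathlib
import Cfsg.Agent.SylowL5.Setup

/-!
# The flip of the codes (reflection in the anti-diagonal)

`u' a = (u (flip a))⁻¹` is again an `Emb`; it exchanges `A1` and `A2`, `E1` and `E2`.
-/

set_option autoImplicit false

namespace Cfsg.Agent.SylowL5.Flip

open Subgroup Cfsg.Agent.SylowL5.Setup

/-- reflection in the anti-diagonal, on codes -/
def flip (a : ℕ) : ℕ :=
  Nat.xor (Nat.shiftLeft (bt a 0) 3) (Nat.xor (Nat.shiftLeft (bt a 1) 2)
    (Nat.xor (Nat.shiftLeft (bt a 2) 1) (Nat.xor (Nat.shiftLeft (bt a 3) 0)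
      (Nat.xor (Nat.shiftLeft (bt a 4) 6) (Nat.xor (Nat.shiftLeft (bt a 5) 5)
        (Nat.xor (Nat.shiftLeft (bt a 6) 4) (Nat.xor (Nat.shiftLeft (bt a 7) 8)
          (Nat.xor (Nat.shiftLeft (bt a 8) 7) (Nat.shiftLeft (bt a 9) 9)))))))))

theorem testBit_flip (a j : ℕ) : (flip a).testBit j =
    ((decide (j = 3) && a.testBit 0) ^^ ((decide (j = 2) && a.testBit 1) ^^
    ((decide (j = 1) && a.testBit 2) ^^ ((decide (j = 0) && a.testBit 3) ^^
    ((decide (j = 6) && a.testBit 4) ^^ ((decide (j = 5) && a.testBit 5) ^^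
    ((decide (j = 4) && a.testBit 6) ^^ ((decide (j = 8) && a.testBit 7) ^^
    ((decide (j = 7) && a.testBit 8) ^^ (decide (j = 9) && a.testBit 9)))))))))) := by
  have hx : ∀ p q : ℕ, (Nat.xor p q).testBit j = (p.testBit j ^^ q.testBit j) := fun p q =>
    Nat.testBit_xor p q j
  unfold flip
  simp only [hx, testBit_shl]

theorem flip_lt (a : ℕ) : flip a < 1024 := by
  apply Nat.lt_pow_two_of_testBit (n := 10)
  intro j hj
  rw [testBit_flip]
  have h : ∀ k, k ≤ 9 → decide (j = k) = false := by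
    intro k hk
    simp only [decide_eq_false_iff_not]
    omega
  rw [h 0 (by norm_num), h 1 (by norm_num), h 2 (by norm_num), h 3 (by norm_num),
    h 4 (by norm_num), h 5 (by norm_num), h 6 (by norm_num), h 7 (by norm_num),
    h 8 (by norm_num), h 9 (by norm_num)]
  rfl

theorem flip_flip {a : ℕ} (ha : a < 1024) : flip (flip a) = a := by
  have key : allb 1024 (fun a => Nat.beq (flip (flip a)) a) = true := by decide +kernel
  exact Nat.eq_of_beq_eq_true (of_allb key a ha)

theorem flip_mu {a b : ℕ} (ha : a < 1024) (hb : b < 1024) :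
    flip (mu a b) = mu (flip b) (flip a) := by
  apply Nat.eq_of_testBit_eq
  intro j
  by_cases hj : j < 10
  · have e : ∀ (a j : ℕ), (flip a).testBit j =
      ((decide (j = 3) && a.testBit 0) ^^ ((decide (j = 2) && a.testBit 1) ^^
      ((decide (j = 1) && a.testBit 2) ^^ ((decide (j = 0) && a.testBit 3) ^^
      ((decide (j = 6) && a.testBit 4) ^^ ((decide (j = 5) && a.testBit 5) ^^
      ((decide (j = 4) && a.testBit 6) ^^ ((decide (j = 8) && a.testBit 7) ^^
      ((decide (j = 7) && a.testBit 8) ^^ (decide (j = 9) && a.testBit 9)))))))))) := testBit_flip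
    interval_cases j <;> simp [e, testBit_mu, -Nat.testBit_zero]
    all_goals grind
  · have h1 : flip (mu a b) < 2 ^ 10 := flip_lt _
    have h2 : mu (flip b) (flip a) < 2 ^ 10 := mu_lt (flip_lt _) (flip_lt _)
    have h3 : 2 ^ 10 ≤ 2 ^ j := Nat.pow_le_pow_right (by norm_num) (by omega)
    rw [Nat.testBit_lt_two_pow (lt_of_lt_of_le h1 h3), Nat.testBit_lt_two_pow (lt_of_lt_of_le h2 h3)]

variable {G : Type*} [Group G] {S : Subgroup G} {u : ℕ → G}

/-- the flipped coordinates -/
def fu (u : ℕ → G) (a : ℕ) : G := (u (flip a))⁻¹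

theorem emb_fu (h : Emb S u) : Emb S (fu u) := by
  refine ⟨?_, ?_, ?_, ?_⟩
  · intro a b ha hb
    show (u (flip (mu a b)))⁻¹ = (u (flip a))⁻¹ * (u (flip b))⁻¹
    rw [flip_mu ha hb, h.mul (flip_lt _) (flip_lt _), mul_inv_rev]
  · intro a b ha hb hab
    have h1 : u (flip a) = u (flip b) := inv_injective hab
    have h2 := h.inj (flip_lt _) (flip_lt _) h1
    rw [← flip_flip ha, ← flip_flip hb, h2]
  · intro a ha
    exact S.inv_mem (h.mem (flip_lt _))
  · intro g hg
    obtain ⟨a, ha, ha2⟩ := h.surj g⁻¹ (S.inv_mem hg)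
    refine ⟨flip a, flip_lt _, ?_⟩
    show (u (flip (flip a)))⁻¹ = g
    rw [flip_flip ha, ha2, inv_inv]

/-- a mask and its flipped mask -/
def okF (K K' : ℕ) : Bool :=
  cond (closedK K) (cond (closedK K')
    (allb 1024 (fun a => cond (Nat.beq (Nat.land a K) a)
      (Nat.beq (Nat.land (flip a) K') (flip a)) (!(Nat.beq (Nat.land (flip a) K') (flip a))))) false)
    false

theorem CS_fu (h : Emb S u) {K K' : ℕ} (hK : okF K K' = true) : CS (fu u) K = CS u K' := by
  unfold okF at hK
  cases hK1 : closedK K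
  · rw [hK1] at hK; exact absurd hK Bool.false_ne_true
  rw [hK1] at hK
  cases hK2 : closedK K'
  · rw [hK2] at hK; exact absurd hK Bool.false_ne_true
  rw [hK2] at hK
  have hK3 : allb 1024 (fun a => cond (Nat.beq (Nat.land a K) a)
      (Nat.beq (Nat.land (flip a) K') (flip a))
      (!(Nat.beq (Nat.land (flip a) K') (flip a)))) = true := hK
  have key : ∀ a, a < 1024 → (SubK a K ↔ SubK (flip a) K') := by
    intro a ha
    have h1 := of_allb hK3 a ha
    rw [subK_iff, subK_iff]
    cases h2 : Nat.beq (Nat.land a K) a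
    · rw [h2] at h1
      have h3 : Nat.beq (Nat.land (flip a) K') (flip a) = false := by
        simpa using h1
      constructor
      · intro h4; rw [h4] at h2; exact absurd h2 (by rw [Nat.beq_refl]; decide)
      · intro h4; rw [h4] at h3; exact absurd h3 (by rw [Nat.beq_refl]; decide)
    · rw [h2] at h1
      exact ⟨fun _ => Nat.eq_of_beq_eq_true h1, fun _ => Nat.eq_of_beq_eq_true h2⟩
  ext g
  rw [(emb_fu h).mem_CS hK1, ← inv_mem_iff (x := g), h.mem_CS hK2]
  constructor
  · rintro ⟨a, ha, hs, rfl⟩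
    exact ⟨flip a, flip_lt _, (key a ha).1 hs, by unfold fu; rw [inv_inv]⟩
  · rintro ⟨b, hb, hs, hg⟩
    refine ⟨flip b, flip_lt _, (key _ (flip_lt _)).2 (by rw [flip_flip hb]; exact hs), ?_⟩
    unfold fu
    rw [flip_flip hb, hg, inv_inv]

theorem okF_A1 : okF kA1 kA2 = true := by decide +kernel
theorem okF_A2 : okF kA2 kA1 = true := by decide +kernel
theorem okF_Q : okF kQ kQ = true := by decide +kernel
theorem okF_E1 : okF kE1 kE2 = true := by decide +kernel
theorem okF_E2 : okF kE2 kE1 = true := by decide +kernel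
theorem okF_U1 : okF kU1 kU2 = true := by decide +kernel
theorem okF_U2 : okF kU2 kU1 = true := by decide +kernel

end Cfsg.Agent.SylowL5.Flip
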