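import Cfsg.Agent.SylowL5.Setup

/-!
# Finite checks for the `z`-purity step (S0512, piece C)

The elements of `A1` are coded by numbers `< 64` (`code` is the embedding into the codes `< 1024`;
products are `Nat.xor`). `msk b1 … b8` is the set (a 64-bit mask) consisting of `z` and the
`S`-orbits with `bi = true`.
-/

set_option autoImplicit false

namespace Cfsg.Agent.SylowL5.PurityTab

open Cfsg.Agent.SylowL5.Setup

/-- `6`-bit codes of the elements of `A1` -/
def code (c : ℕ) : ℕ :=
  Nat.lor (Nat.shiftLeft (Nat.land c 1) 1)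
    (Nat.lor (Nat.shiftLeft (Nat.land (Nat.shiftRight c 1) 3) 4)
      (Nat.shiftLeft (Nat.shiftRight c 3) 7))

/-- the inverse of `code` -/
def dcode (a : ℕ) : ℕ :=
  Nat.lor (Nat.land (Nat.shiftRight a 1) 1)
    (Nat.lor (Nat.shiftLeft (Nat.land (Nat.shiftRight a 4) 3) 1)
      (Nat.shiftLeft (Nat.shiftRight a 7) 3))

/-- test of a bit -/
def tb (M c : ℕ) : Bool := Nat.beq (Nat.land (Nat.shiftRight M c) 1) 1

/-- label of the `S`-orbit of a code -/
def lab (c : ℕ) : ℕ :=
  Nat.land (Nat.shiftRight
    8711034171110317728955106954461813598061714537344843014306850651794484370192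
    (Nat.mul 4 c)) 15

/-- representative of the orbit with a given label -/
def rep (l : ℕ) : ℕ :=
  Nat.land (Nat.shiftRight 151272820995008910344256 (Nat.mul 6 l)) 63

/-- conjugating element -/
def cj (c : ℕ) : ℕ :=
  Nat.land (Nat.shiftRight
    57960807424897866620719247790321439620581745888160572154801173188543765620352113980882379130574770949797104512203933618367371339152250861731916567377650967538291746120645090527714673986371584
    (Nat.mul 10 c)) 1023

/-- the set with given orbits -/
def msk (b1 b2 b3 b4 b5 b6 b7 b8 : Bool) : ℕ :=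
  Nat.add 4294967296 (Nat.add (cond b1 9225623836670722090 0)
    (Nat.add (cond b2 1152921504607899664 0)
    (Nat.add (cond b3 4629771061636907072 0)
    (Nat.add (cond b4 3062494476569160320 0)
    (Nat.add (cond b5 289356276125925376 0)
    (Nat.add (cond b6 9711069233152000 0)
    (Nat.add (cond b7 72057594054705152 0) (cond b8 4521260801327104 0))))))))

/-- selection by label -/
def selb (b1 b2 b3 b4 b5 b6 b7 b8 : Bool) (l : ℕ) : Bool :=
  cond (Nat.beq l 1) b1 (cond (Nat.beq l 2) b2 (cond (Nat.beq l 3) b3 (cond (Nat.beq l 4) b4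
    (cond (Nat.beq l 5) b5 (cond (Nat.beq l 6) b6 (cond (Nat.beq l 7) b7 (cond (Nat.beq l 8) b8
      (Nat.beq l 12))))))))

/-- counting -/
def cnt (N : ℕ) (P : ℕ → Bool) : ℕ :=
  Nat.rec 0 (fun n ih => Nat.add ih (cond (P n) 1 0)) N

/-- `#{a ∈ D : a v ∈ D}` -/
def n3 (M v : ℕ) : ℕ := cnt 64 (fun c => cond (tb M c) (tb M (Nat.xor c v)) false)

/-- `#{(a, b) ∈ D × D : a b v ∈ D}` -/
def n4 (M v : ℕ) : ℕ :=
  cnt 4096 (fun e => cond (tb M (Nat.land e 63))
    (cond (tb M (Nat.shiftRight e 6))
      (tb M (Nat.xor (Nat.xor (Nat.land e 63) (Nat.shiftRight e 6)) v)) false) false)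

/-- `c` lies in the coset `x24 W1` -/
def in24 (c : ℕ) : Bool := cond (tb c 2) (!(tb c 0)) false

/-- `c` lies in the coset `x23 W1` -/
def in23 (c : ℕ) : Bool := cond (tb c 0) (!(tb c 2)) false

/-- bounded existence -/
def anyb (N : ℕ) (P : ℕ → Bool) : Bool := !(allb N (fun n => !(P n)))

/-- equivalence of Booleans -/
def eqb (a b : Bool) : Bool := cond a b (!b)

def okk (b1 b2 b3 b4 b5 b6 b7 b8 : Bool) : Bool :=
  let M := msk b1 b2 b3 b4 b5 b6 b7 b8
  let n := n3 M 32
  let hyp : Bool :=
    cond (eqb (anyb 64 (fun c => cond (in24 c) (tb M c) false))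
        (anyb 64 (fun c => cond (in23 c) (tb M c) false)))
    (cond (eqb (tb M 24) (tb M 18))
    (cond (cond b1 (Nat.beq (n3 M 1) n) true)
    (cond (cond b2 (Nat.beq (n3 M 4) n) true)
    (cond (cond b3 (Nat.beq (n3 M 6) n) true)
    (cond (cond b4 (Nat.beq (n3 M 7) n) true)
    (cond (cond b5 (Nat.beq (n3 M 18) n) true)
    (cond (cond b6 (Nat.beq (n3 M 19) n) true)
    (cond (cond b7 (Nat.beq (n3 M 24) n) true)
    (cond b8 (Nat.beq (n3 M 28) n) true) false) false) false) false) false) false) false) false) false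
  cond hyp (cond (Nat.beq M 4294967296) true
    (cond (Nat.beq M 9230145101767016490) b1 (cond (Nat.beq M 14232334329446400) b6 false))) true

theorem chk_code : allb 64 (fun c => cond (Nat.ble (Nat.succ (code c)) 1024)
    (cond (Nat.beq (Nat.land (code c) kA1) (code c)) (Nat.beq (dcode (code c)) c) false) false) =
    true := by decide +kernel

theorem chk_dcode : allb 1024 (fun a => cond (Nat.beq (Nat.land a kA1) a)
    (cond (Nat.ble (Nat.succ (dcode a)) 64) (Nat.beq (code (dcode a)) a) false) true) =
    true := by decide +kernel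

theorem chk_mul : allb 64 (fun c => allb 64 (fun d =>
    Nat.beq (mu (code c) (code d)) (code (Nat.xor c d)))) = true := by decide +kernel

theorem chk_conj : allb 64 (fun c => cond (Nat.ble (Nat.succ (cj c)) 1024)
    (cond (Nat.ble (lab c) 12)
    (Nat.beq (mu (cj c) (code (rep (lab c)))) (mu (code c) (cj c))) false) false) = true := by
  decide +kernel

theorem chk_msk : ∀ b1 b2 b3 b4 b5 b6 b7 b8 : Bool,
    allb 64 (fun c => eqb (tb (msk b1 b2 b3 b4 b5 b6 b7 b8) c)
      (selb b1 b2 b3 b4 b5 b6 b7 b8 (lab c))) = true := by decide +kernel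

theorem chk_okk : ∀ b1 b2 b3 b4 b5 b6 b7 b8 : Bool, okk b1 b2 b3 b4 b5 b6 b7 b8 = true := by
  decide +kernel

theorem chk_n4a : n4 9230145101767016490 1 ≠ n4 9230145101767016490 32 := by decide +kernel

theorem chk_n4b : n4 14232334329446400 19 ≠ n4 14232334329446400 32 := by decide +kernel

/-- `c` is the code of an element of `W1 = A1 ∩ Q` -/
def inW (c : ℕ) : Bool := Nat.beq (Nat.land (code c) kQ) (code c)

theorem chk_k24 : allb 64 (fun c => allb 4 (fun i =>
    cond (Nat.beq (mu (code c) (mu x45 (Nat.mul 256 i))) (mu (mu x45 (Nat.mul 256 i)) (code c)))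
      (cond (inW c) true (in23 c)) true)) = true := by decide +kernel

theorem chk_k14 : allb 64 (fun c => allb 4 (fun i =>
    cond (Nat.beq (mu (code c) (mu x45 (Nat.mul 256 i))) (mu (mu x45 (Nat.mul 256 i)) (code c)))
      (cond (Nat.beq (Nat.land (code c) kE2) (code c))
        (cond (Nat.beq c 0) true (cond (Nat.beq c 32) true (cond (Nat.beq c 2) true
          (Nat.beq c 34)))) true) true)) = true := by decide +kernel

theorem chk_k25 : allb 64 (fun c => cond (Nat.beq (Nat.land (code c) kE1) (code c))
    (cond (Nat.beq c 0) true (cond (Nat.beq c 32) true (cond (Nat.beq c 16) true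
      (Nat.beq c 48)))) true) = true := by decide +kernel

theorem chk_W : allb 64 (fun c => allb 64 (fun d =>
    cond (cond (in23 c) (cond (inW d) (in23 (Nat.xor c d)) true) true)
      (cond (cond (in23 c) (cond (in23 d) (inW (Nat.xor c d)) true) true)
        (cond (cond (in24 c) (inW (Nat.xor 4 c)) true)
          (cond (inW c) (in24 (Nat.xor 4 c)) true) false) false) false)) = true := by
  decide +kernel

/-- the elements of `kU1` -/
theorem chk_U1 : allb 1024 (fun a => cond (Nat.beq (Nat.land a kU1) a)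
    (anyb 4 (fun i => Nat.beq (Nat.mul 256 i) a)) true) = true := by decide +kernel

end Cfsg.Agent.SylowL5.PurityTab
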