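import Mathlib
import Cfsg.Agent.SylowL5.Data
import Cfsg.Agent.SylowL5.PurityTab
import Cfsg.Agent.SylowL5.Flip
import Cfsg.Agent.S0215

/-!
# `z`-purity (S0512, piece C)
-/

set_option autoImplicit false

namespace Cfsg.Agent.SylowL5.Purity

open Subgroup Cfsg.Agent.SylowL5.Setup Cfsg.Agent.SylowL5.PurityTab

/-- the half of the data which concerns `A1` -/
structure Side {G : Type*} [Group G] (S : Subgroup G) (u : ℕ → G) : Prop where
  emb : Emb S u
  fus : ∀ b ∈ CS u kA1, IsConj (u x15) b →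
    ∃ n ∈ normalizer (CS u kA1 : Set G), n * u x15 * n⁻¹ = b
  k3 : ∃ k : G, k * u x15 = u x15 * k ∧ k ∈ normalizer (CS u kA1 : Set G) ∧
    k ∈ normalizer (CS u kQ : Set G) ∧ k ∈ normalizer (CS u kE1 : Set G) ∧
    k ∈ normalizer (CS u kE2 : Set G) ∧
    ∃ a, a < 1024 ∧ SubK a kU1 ∧ k * u x35 * k⁻¹ = u (mu x45 a)

section basic

theorem mem_of_beq {a b : ℕ} (h : Nat.beq a b = true) : a = b := Nat.eq_of_beq_eq_true h

theorem nbeq_iff {a b : ℕ} : Nat.beq a b = true ↔ a = b :=
  ⟨Nat.eq_of_beq_eq_true, fun h => by rw [h]; exact Nat.beq_refl b⟩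

theorem cond_false_right {a b : Bool} (h : cond a b false = true) : a = true ∧ b = true := by
  cases a
  · exact absurd h Bool.false_ne_true
  · exact ⟨rfl, h⟩

theorem cond_true_right {a b : Bool} (h : cond a b true = true) : a = true → b = true := by
  cases a
  · intro h1; exact absurd h1 Bool.false_ne_true
  · intro _; exact h

theorem code_lt {c : ℕ} (hc : c < 64) : code c < 1024 := by
  have h := of_allb chk_code c hc
  exact Nat.le_of_ble_eq_true (cond_false_right h).1

theorem code_sub {c : ℕ} (hc : c < 64) : SubK (code c) kA1 := by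
  have h := of_allb chk_code c hc
  rw [subK_iff]
  exact mem_of_beq (cond_false_right (cond_false_right h).2).1

theorem dcode_code {c : ℕ} (hc : c < 64) : dcode (code c) = c := by
  have h := of_allb chk_code c hc
  exact mem_of_beq (cond_false_right (cond_false_right h).2).2

theorem exists_code {a : ℕ} (ha : a < 1024) (hK : SubK a kA1) : ∃ c, c < 64 ∧ code c = a := by
  have h := of_allb chk_dcode a ha
  rw [subK_iff] at hK
  have h1 : Nat.beq (Nat.land a kA1) a = true := by rw [hK]; exact Nat.beq_refl a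
  have h2 := cond_true_right h h1
  exact ⟨dcode a, Nat.le_of_ble_eq_true (cond_false_right h2).1, mem_of_beq (cond_false_right h2).2⟩

theorem mu_code {c d : ℕ} (hc : c < 64) (hd : d < 64) :
    mu (code c) (code d) = code (Nat.xor c d) :=
  mem_of_beq (of_allb (of_allb chk_mul c hc) d hd)

theorem xor_lt {c d : ℕ} (hc : c < 64) (hd : d < 64) : Nat.xor c d < 64 :=
  Nat.xor_lt_two_pow (n := 6) hc hd

theorem closed_A1 : closedK kA1 = true := by decide +kernel
theorem closed_Q : closedK kQ = true := by decide +kernel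
theorem closed_E1 : closedK kE1 = true := by decide +kernel
theorem closed_E2 : closedK kE2 = true := by decide +kernel

end basic

variable {G : Type*} [Group G] {S : Subgroup G} {u : ℕ → G}

/-- the element of `A1` with a given 6-bit code -/
def w (u : ℕ → G) (c : ℕ) : G := u (code c)

theorem w_mul (h : Emb S u) {c d : ℕ} (hc : c < 64) (hd : d < 64) :
    w u c * w u d = w u (Nat.xor c d) := by
  unfold w
  rw [← h.mul (code_lt hc) (code_lt hd), mu_code hc hd]

theorem w_mem {c : ℕ} (hc : c < 64) : w u c ∈ CS u kA1 :=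
  Subgroup.subset_closure ⟨code c, code_lt hc, code_sub hc, rfl⟩

theorem exists_w (h : Emb S u) {g : G} (hg : g ∈ CS u kA1) : ∃ c, c < 64 ∧ w u c = g := by
  obtain ⟨a, ha, hK, rfl⟩ := (h.mem_CS closed_A1).1 hg
  obtain ⟨c, hc, rfl⟩ := exists_code ha hK
  exact ⟨c, hc, rfl⟩

theorem w_inj (h : Emb S u) {c d : ℕ} (hc : c < 64) (hd : d < 64) (hcd : w u c = w u d) :
    c = d := by
  have h1 := h.inj (code_lt hc) (code_lt hd) hcd
  rw [← dcode_code hc, ← dcode_code hd, h1]

theorem w_mem_CS (h : Emb S u) {c K : ℕ} (hK : closedK K = true) (hc : c < 64) :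
    w u c ∈ CS u K ↔ Nat.land (code c) K = code c := by
  rw [← subK_iff, h.mem_CS hK]
  constructor
  · rintro ⟨a, ha, hs, he⟩
    have := h.inj ha (code_lt hc) he
    rwa [← this]
  · intro hs
    exact ⟨code c, code_lt hc, hs, rfl⟩

theorem code_32 : code 32 = 512 := by decide +kernel

omit [Group G] in
theorem w_32 : w u 32 = u x15 := by
  unfold w; rw [code_32]

/-- conjugation inside `S` -/
theorem isConj_lab (h : Emb S u) {c : ℕ} (hc : c < 64) :
    IsConj (w u (rep (lab c))) (w u c) := by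
  have h1 := of_allb chk_conj c hc
  have h2 : cj c < 1024 := Nat.le_of_ble_eq_true (cond_false_right h1).1
  have h3 := mem_of_beq (cond_false_right (cond_false_right h1).2).2
  have h4 : rep (lab c) < 64 := by
    have : rep (lab c) ≤ 63 := Nat.and_le_right
    omega
  rw [isConj_iff]
  refine ⟨u (cj c), ?_⟩
  have h5 : u (cj c) * u (code (rep (lab c))) = u (code c) * u (cj c) := by
    rw [← h.mul h2 (code_lt h4), ← h.mul (code_lt hc) h2, h3]
  unfold w
  rw [h5]
  group

theorem lab_le {c : ℕ} (hc : c < 64) : lab c ≤ 12 := by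
  have h1 := of_allb chk_conj c hc
  exact Nat.le_of_ble_eq_true (cond_false_right (cond_false_right h1).2).1

theorem anyb_iff {N : ℕ} {P : ℕ → Bool} : anyb N P = true ↔ ∃ n, n < N ∧ P n = true := by
  have key : ∀ N : ℕ, allb N (fun n => !(P n)) = false ↔ ∃ n, n < N ∧ P n = true := by
    intro N
    induction N with
    | zero =>
      constructor
      · intro h; exact absurd (show true = false from h) (by decide)
      · rintro ⟨n, hn, _⟩; omega
    | succ N ih =>
      have h0 : allb (N + 1) (fun n => !(P n)) = cond (!(P N)) (allb N (fun n => !(P n))) false := rfl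
      rw [h0]
      cases hp : P N
      · show allb N (fun n => !(P n)) = false ↔ _
        rw [ih]
        constructor
        · rintro ⟨n, hn, h⟩; exact ⟨n, by omega, h⟩
        · rintro ⟨n, hn, h⟩
          rcases Nat.lt_succ_iff_lt_or_eq.1 hn with h1 | h1
          · exact ⟨n, h1, h⟩
          · rw [h1, hp] at h; exact absurd h Bool.false_ne_true
      · constructor
        · intro _; exact ⟨N, by omega, hp⟩
        · intro _; rfl
  unfold anyb
  rw [← key N]
  cases allb N (fun n => !(P n)) <;> simp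

theorem eqb_of_iff {a b : Bool} (h : a = true ↔ b = true) : eqb a b = true := by
  cases a <;> cases b <;> first | rfl | exact absurd h (by decide)

theorem iff_of_eqb {a b : Bool} (h : eqb a b = true) : a = true ↔ b = true := by
  revert h; cases a <;> cases b <;> decide

/-- `cnt` counts -/
theorem cnt_eq (N : ℕ) (P : ℕ → Bool) : cnt N P = Set.ncard {n : ℕ | n < N ∧ P n = true} := by
  induction N with
  | zero =>
    have : {n : ℕ | n < 0 ∧ P n = true} = ∅ := by
      ext n; simp
    rw [this, Set.ncard_empty]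
    rfl
  | succ N ih =>
    have h0 : cnt (N + 1) P = cnt N P + cond (P N) 1 0 := rfl
    rw [h0, ih]
    have hfin : {n : ℕ | n < N ∧ P n = true}.Finite :=
      (Set.finite_lt_nat N).subset (fun n hn => hn.1)
    cases hp : P N
    · have : {n : ℕ | n < N + 1 ∧ P n = true} = {n : ℕ | n < N ∧ P n = true} := by
        ext n
        constructor
        · rintro ⟨h1, h2⟩
          rcases Nat.lt_succ_iff_lt_or_eq.1 h1 with h3 | h3
          · exact ⟨h3, h2⟩
          · rw [h3, hp] at h2; exact absurd h2 Bool.false_ne_true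
        · rintro ⟨h1, h2⟩; exact ⟨by omega, h2⟩
      rw [this]; rfl
    · have : {n : ℕ | n < N + 1 ∧ P n = true} = insert N {n : ℕ | n < N ∧ P n = true} := by
        ext n
        constructor
        · rintro ⟨h1, h2⟩
          rcases Nat.lt_succ_iff_lt_or_eq.1 h1 with h3 | h3
          · exact Or.inr ⟨h3, h2⟩
          · exact Or.inl h3
        · rintro (h1 | ⟨h1, h2⟩)
          · rw [h1]; exact ⟨by omega, hp⟩
          · exact ⟨by omega, h2⟩
      rw [this, Set.ncard_insert_of_notMem (fun h => absurd h.1 (lt_irrefl N)) hfin]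
      rfl

/-- action of an element normalising `A1` on codes -/
theorem exists_act (h : Emb S u) {n : G} (hn : n ∈ normalizer (CS u kA1 : Set G)) {c : ℕ}
    (hc : c < 64) : ∃ d, d < 64 ∧ n * w u c * n⁻¹ = w u d := by
  have h1 : n * w u c * n⁻¹ ∈ CS u kA1 := (Subgroup.mem_normalizer_iff.1 hn _).1 (w_mem hc)
  obtain ⟨d, hd, hd2⟩ := exists_w h h1
  exact ⟨d, hd, hd2.symm⟩

theorem ncard_three (h : Emb S u) {M : ℕ}
    (hM : ∀ c, c < 64 → (tb M c = true ↔ IsConj (u x15) (w u c))) {v : ℕ} (hv : v < 64) :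
    Set.ncard {x : G | x ∈ CS u kA1 ∧ IsConj (u x15) x ∧ IsConj (u x15) (x * w u v)} = n3 M v := by
  unfold n3
  rw [cnt_eq]
  have : {x : G | x ∈ CS u kA1 ∧ IsConj (u x15) x ∧ IsConj (u x15) (x * w u v)} =
      w u '' {n : ℕ | n < 64 ∧ (cond (tb M n) (tb M (Nat.xor n v)) false) = true} := by
    ext x
    constructor
    · rintro ⟨h1, h2, h3⟩
      obtain ⟨c, hc, rfl⟩ := exists_w h h1
      refine ⟨c, ⟨hc, ?_⟩, rfl⟩
      rw [w_mul h hc hv, ← hM _ (xor_lt hc hv)] at h3
      rw [← hM c hc] at h2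
      rw [h2, h3]; rfl
    · rintro ⟨c, ⟨hc, h2⟩, rfl⟩
      obtain ⟨h3, h4⟩ := cond_false_right h2
      refine ⟨w_mem hc, (hM c hc).1 h3, ?_⟩
      rw [w_mul h hc hv]
      exact (hM _ (xor_lt hc hv)).1 h4
  rw [this, Set.InjOn.ncard_image]
  rintro a ⟨ha, _⟩ b ⟨hb, _⟩ hab
  exact w_inj h ha hb hab

theorem ncard_four (h : Emb S u) {M : ℕ}
    (hM : ∀ c, c < 64 → (tb M c = true ↔ IsConj (u x15) (w u c))) {v : ℕ} (hv : v < 64) :
    Set.ncard {p : G × G | (p.1 ∈ CS u kA1 ∧ p.2 ∈ CS u kA1) ∧ IsConj (u x15) p.1 ∧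
      IsConj (u x15) p.2 ∧ IsConj (u x15) (p.1 * p.2 * w u v)} = n4 M v := by
  unfold n4
  rw [cnt_eq]
  have hlo : ∀ e : ℕ, Nat.land e 63 < 64 := fun e => by
    have : Nat.land e 63 ≤ 63 := Nat.and_le_right
    omega
  have hhi : ∀ e : ℕ, e < 4096 → Nat.shiftRight e 6 < 64 := fun e he => by
    show e >>> 6 < 64
    rw [Nat.shiftRight_eq_div_pow]
    omega
  have : {p : G × G | (p.1 ∈ CS u kA1 ∧ p.2 ∈ CS u kA1) ∧ IsConj (u x15) p.1 ∧
      IsConj (u x15) p.2 ∧ IsConj (u x15) (p.1 * p.2 * w u v)} =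
      (fun e => (w u (Nat.land e 63), w u (Nat.shiftRight e 6))) ''
      {e : ℕ | e < 4096 ∧ (cond (tb M (Nat.land e 63)) (cond (tb M (Nat.shiftRight e 6))
        (tb M (Nat.xor (Nat.xor (Nat.land e 63) (Nat.shiftRight e 6)) v)) false) false) = true} := by
    ext ⟨x, y⟩
    constructor
    · rintro ⟨⟨h0, h1⟩, h2, h3, h4⟩
      dsimp only at h0 h1 h2 h3 h4
      obtain ⟨c, hc, rfl⟩ := exists_w h h0
      obtain ⟨d, hd, rfl⟩ := exists_w h h1
      have e1 : Nat.land (c + 64 * d) 63 = c := by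
        show (c + 64 * d) &&& 63 = c
        rw [show (63 : ℕ) = 2 ^ 6 - 1 by norm_num, Nat.and_two_pow_sub_one_eq_mod]
        omega
      have e2 : Nat.shiftRight (c + 64 * d) 6 = d := by
        show (c + 64 * d) >>> 6 = d
        rw [Nat.shiftRight_eq_div_pow]
        omega
      refine ⟨c + 64 * d, ⟨by omega, ?_⟩, ?_⟩
      · rw [e1, e2]
        rw [w_mul h hc hd, w_mul h (xor_lt hc hd) hv, ← hM _ (xor_lt (xor_lt hc hd) hv)] at h4
        rw [← hM c hc] at h2
        rw [← hM d hd] at h3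
        rw [h2, h3, h4]; rfl
      · show (w u (Nat.land (c + 64 * d) 63), w u (Nat.shiftRight (c + 64 * d) 6)) = _
        rw [e1, e2]
    · rintro ⟨e, ⟨he, h2⟩, h5⟩
      obtain ⟨h3, h4⟩ := cond_false_right h2
      obtain ⟨h4, h6⟩ := cond_false_right h4
      have h7 := Prod.ext_iff.1 h5
      dsimp only at h7
      obtain ⟨rfl, rfl⟩ := h7
      refine ⟨⟨w_mem (hlo e), w_mem (hhi e he)⟩, (hM _ (hlo e)).1 h3, (hM _ (hhi e he)).1 h4, ?_⟩
      show IsConj (u x15) (w u (Nat.land e 63) * w u (Nat.shiftRight e 6) * w u v)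
      rw [w_mul h (hlo e) (hhi e he), w_mul h (xor_lt (hlo e) (hhi e he)) hv]
      exact (hM _ (xor_lt (xor_lt (hlo e) (hhi e he)) hv)).1 h6
  rw [this, Set.InjOn.ncard_image]
  rintro a ⟨ha, _⟩ b ⟨hb, _⟩ hab
  have h7 := Prod.ext_iff.1 hab
  dsimp only at h7
  have e1 := w_inj h (hlo a) (hlo b) h7.1
  have e2 := w_inj h (hhi a ha) (hhi b hb) h7.2
  have e1' : a % 64 = b % 64 := by
    have := e1
    rw [show Nat.land a 63 = a &&& (2 ^ 6 - 1) from rfl,
      show Nat.land b 63 = b &&& (2 ^ 6 - 1) from rfl, Nat.and_two_pow_sub_one_eq_mod,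
      Nat.and_two_pow_sub_one_eq_mod] at this
    simpa using this
  have e2' : a / 64 = b / 64 := by
    have := e2
    rw [show Nat.shiftRight a 6 = a >>> 6 from rfl, show Nat.shiftRight b 6 = b >>> 6 from rfl,
      Nat.shiftRight_eq_div_pow, Nat.shiftRight_eq_div_pow] at this
    simpa using this
  omega

/-- invariance of the first count under the normalizer of `A1` -/
theorem n3_inv (h : Emb S u) {M : ℕ}
    (hM : ∀ c, c < 64 → (tb M c = true ↔ IsConj (u x15) (w u c))) {v v' : ℕ} (hv : v < 64)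
    (hv' : v' < 64) {n : G} (hn : n ∈ normalizer (CS u kA1 : Set G))
    (hnv : n * w u v * n⁻¹ = w u v') : n3 M v' = n3 M v := by
  rw [← ncard_three h hM hv, ← ncard_three h hM hv']
  have : {x : G | x ∈ CS u kA1 ∧ IsConj (u x15) x ∧ IsConj (u x15) (x * w u v')} =
      (fun x => n * x * n⁻¹) ''
        {x : G | x ∈ CS u kA1 ∧ IsConj (u x15) x ∧ IsConj (u x15) (x * w u v)} := by
    have hc : ∀ x : G, IsConj x (n * x * n⁻¹) := fun x => isConj_iff.2 ⟨n, rfl⟩
    ext y
    constructor
    · rintro ⟨h1, h2, h3⟩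
      refine ⟨n⁻¹ * y * n, ⟨?_, ?_, ?_⟩, by group⟩
      · have := (Subgroup.mem_normalizer_iff.1 hn (n⁻¹ * y * n)).2
        apply this
        have e : n * (n⁻¹ * y * n) * n⁻¹ = y := by group
        rw [e]; exact h1
      · refine h2.trans ?_
        have e : y = n * (n⁻¹ * y * n) * n⁻¹ := by group
        have := (hc (n⁻¹ * y * n)).symm
        rwa [← e] at this
      · refine h3.trans ?_
        have e : y * w u v' = n * (n⁻¹ * y * n * w u v) * n⁻¹ := by
          rw [← hnv]; group
        have := (hc (n⁻¹ * y * n * w u v)).symm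
        rwa [← e] at this
    · rintro ⟨x, ⟨h1, h2, h3⟩, rfl⟩
      refine ⟨(Subgroup.mem_normalizer_iff.1 hn x).1 h1, h2.trans (hc x), ?_⟩
      have e : n * x * n⁻¹ * w u v' = n * (x * w u v) * n⁻¹ := by rw [← hnv]; group
      show IsConj (u x15) (n * x * n⁻¹ * w u v')
      rw [e]
      exact h3.trans (hc _)
  rw [this, Set.ncard_image_of_injective]
  intro a b hab
  have : n * a * n⁻¹ = n * b * n⁻¹ := hab
  simpa using this

/-- invariance of the second count under the normalizer of `A1` -/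
theorem n4_inv (h : Emb S u) {M : ℕ}
    (hM : ∀ c, c < 64 → (tb M c = true ↔ IsConj (u x15) (w u c))) {v v' : ℕ} (hv : v < 64)
    (hv' : v' < 64) {n : G} (hn : n ∈ normalizer (CS u kA1 : Set G))
    (hnv : n * w u v * n⁻¹ = w u v') : n4 M v' = n4 M v := by
  rw [← ncard_four h hM hv, ← ncard_four h hM hv']
  have hc : ∀ x : G, IsConj x (n * x * n⁻¹) := fun x => isConj_iff.2 ⟨n, rfl⟩
  have hc' : ∀ y : G, IsConj y (n⁻¹ * y * n) := fun y => by
    have := (hc (n⁻¹ * y * n)).symm
    have e : n * (n⁻¹ * y * n) * n⁻¹ = y := by group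
    rwa [e] at this
  have hin : ∀ y ∈ CS u kA1, n⁻¹ * y * n ∈ CS u kA1 := by
    intro y hy
    apply (Subgroup.mem_normalizer_iff.1 hn (n⁻¹ * y * n)).2
    have e : n * (n⁻¹ * y * n) * n⁻¹ = y := by group
    rw [e]; exact hy
  have : {p : G × G | (p.1 ∈ CS u kA1 ∧ p.2 ∈ CS u kA1) ∧ IsConj (u x15) p.1 ∧
      IsConj (u x15) p.2 ∧ IsConj (u x15) (p.1 * p.2 * w u v')} =
      (fun p : G × G => (n * p.1 * n⁻¹, n * p.2 * n⁻¹)) ''
        {p : G × G | (p.1 ∈ CS u kA1 ∧ p.2 ∈ CS u kA1) ∧ IsConj (u x15) p.1 ∧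
          IsConj (u x15) p.2 ∧ IsConj (u x15) (p.1 * p.2 * w u v)} := by
    ext ⟨y1, y2⟩
    constructor
    · rintro ⟨⟨h0, h1⟩, h2, h3, h4⟩
      dsimp only at h0 h1 h2 h3 h4
      refine ⟨(n⁻¹ * y1 * n, n⁻¹ * y2 * n), ⟨⟨hin _ h0, hin _ h1⟩, h2.trans (hc' _),
        h3.trans (hc' _), ?_⟩, ?_⟩
      · have e : n⁻¹ * y1 * n * (n⁻¹ * y2 * n) * w u v = n⁻¹ * (y1 * y2 * w u v') * n := by
          rw [← hnv]; group
        show IsConj (u x15) (n⁻¹ * y1 * n * (n⁻¹ * y2 * n) * w u v)
        rw [e]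
        exact h4.trans (hc' _)
      · show (n * (n⁻¹ * y1 * n) * n⁻¹, n * (n⁻¹ * y2 * n) * n⁻¹) = (y1, y2)
        rw [show n * (n⁻¹ * y1 * n) * n⁻¹ = y1 by group,
          show n * (n⁻¹ * y2 * n) * n⁻¹ = y2 by group]
    · rintro ⟨⟨x1, x2⟩, ⟨⟨h0, h1⟩, h2, h3, h4⟩, h5⟩
      dsimp only at h0 h1 h2 h3 h4 h5
      have h7 := Prod.ext_iff.1 h5
      dsimp only at h7
      obtain ⟨rfl, rfl⟩ := h7
      refine ⟨⟨(Subgroup.mem_normalizer_iff.1 hn x1).1 h0,
        (Subgroup.mem_normalizer_iff.1 hn x2).1 h1⟩, h2.trans (hc _), h3.trans (hc _), ?_⟩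
      have e : n * x1 * n⁻¹ * (n * x2 * n⁻¹) * w u v' = n * (x1 * x2 * w u v) * n⁻¹ := by
        rw [← hnv]; group
      show IsConj (u x15) (n * x1 * n⁻¹ * (n * x2 * n⁻¹) * w u v')
      rw [e]
      exact h4.trans (hc _)
  rw [this, Set.ncard_image_of_injective]
  rintro ⟨a1, a2⟩ ⟨b1, b2⟩ hab
  have h7 := Prod.ext_iff.1 hab
  dsimp only at h7
  obtain ⟨h8, h9⟩ := h7
  have e1 : a1 = b1 := by simpa using h8
  have e2 : a2 = b2 := by simpa using h9
  rw [e1, e2]

theorem cond_true_mid {a b : Bool} (h : cond a true b = true) : a = true ∨ b = true := by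
  cases a
  · exact Or.inr h
  · exact Or.inl rfl

theorem normalizer_CS {K : ℕ} {k g : G} (hk : k ∈ normalizer (CS u K : Set G)) :
    g ∈ CS u K ↔ k * g * k⁻¹ ∈ CS u K := Subgroup.mem_normalizer_iff.1 hk g

theorem k_facts (h : Side S u) : ∃ k : G, k ∈ normalizer (CS u kA1 : Set G) ∧
    (∀ c, c < 64 → in24 c = true → ∃ d, d < 64 ∧ in23 d = true ∧ k * w u c * k⁻¹ = w u d) ∧
    (∀ d, d < 64 → in23 d = true → ∃ c, c < 64 ∧ in24 c = true ∧ k * w u c * k⁻¹ = w u d) ∧
    (k * w u 8 * k⁻¹ = w u 2 ∨ k * w u 8 * k⁻¹ = w u 34) ∧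
    (k * w u 24 * k⁻¹ = w u 18 ∨ k * w u 24 * k⁻¹ = w u 50) := by
  have he := h.emb
  obtain ⟨k, hz, kA, kQ', kE, kE', a, ha, haU, hk⟩ := h.k3
  have hkz : k * w u 32 * k⁻¹ = w u 32 := by
    rw [w_32, hz]; group
  obtain ⟨i, hi, hai⟩ : ∃ i, i < 4 ∧ Nat.mul 256 i = a := by
    have h1 := of_allb chk_U1 a ha
    rw [subK_iff] at haU
    have h2 := cond_true_right h1 (by rw [haU]; exact Nat.beq_refl a)
    obtain ⟨i, hi, hi2⟩ := anyb_iff.1 h2
    exact ⟨i, hi, mem_of_beq hi2⟩
  have hlt : mu x45 a < 1024 := mu_lt (by norm_num) ha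
  -- elements commuting with `x35` go to elements commuting with `x45 a`
  have comm : ∀ c d, c < 64 → d < 64 → mu (code c) x35 = mu x35 (code c) →
      k * w u c * k⁻¹ = w u d → mu (code d) (mu x45 a) = mu (mu x45 a) (code d) := by
    intro c d hc hd h1 h2
    apply he.inj (mu_lt (code_lt hd) hlt) (mu_lt hlt (code_lt hd))
    rw [he.mul (code_lt hd) hlt, he.mul hlt (code_lt hd)]
    have h3 : u (code c) * u x35 = u x35 * u (code c) := by
      rw [← he.mul (code_lt hc) (by norm_num), ← he.mul (by norm_num) (code_lt hc), h1]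
    have h4 : u (code d) = k * u (code c) * k⁻¹ := h2.symm
    rw [h4, ← hk]
    calc k * u (code c) * k⁻¹ * (k * u x35 * k⁻¹) = k * (u (code c) * u x35) * k⁻¹ := by group
      _ = k * (u x35 * u (code c)) * k⁻¹ := by rw [h3]
      _ = k * u x35 * k⁻¹ * (k * u (code c) * k⁻¹) := by group
  have ne_one : ∀ c d, c < 64 → d < 64 → k * w u c * k⁻¹ = w u d → (d = 0 → c = 0) ∧
      (d = 32 → c = 32) := by
    intro c d hc hd h1
    constructor
    · intro h2
      rw [h2] at h1
      have h3 : w u 0 = (1 : G) := by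
        unfold w
        rw [show code 0 = 0 by decide +kernel]
        exact he.zero
      have h4 : w u c = w u 0 := by
        rw [h3] at h1 ⊢
        simpa using h1
      exact w_inj he hc (by norm_num) h4
    · intro h2
      rw [h2, ← hkz] at h1
      have h4 : w u c = w u 32 := by simpa using h1
      exact w_inj he hc (by norm_num) h4
  have inWiff : ∀ c d, c < 64 → d < 64 → k * w u c * k⁻¹ = w u d →
      (inW c = true ↔ inW d = true) := by
    intro c d hc hd h1
    have h2 : w u c ∈ CS u kQ ↔ w u d ∈ CS u kQ := by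
      rw [← h1]; exact normalizer_CS kQ'
    rw [w_mem_CS he closed_Q hc, w_mem_CS he closed_Q hd] at h2
    unfold inW
    rw [nbeq_iff, nbeq_iff]
    exact h2
  obtain ⟨d4, hd4, hd4'⟩ := exists_act he kA (show 4 < 64 by norm_num)
  have h23 : in23 d4 = true := by
    have h1 := of_allb (of_allb chk_k24 d4 hd4) i hi
    have h2 := comm 4 d4 (by norm_num) hd4 (by decide +kernel) hd4'
    rw [← hai] at h2
    have h3 := cond_true_right h1 (by rw [h2]; exact Nat.beq_refl _)
    rcases cond_true_mid h3 with h4 | h4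
    · have h5 := (inWiff 4 d4 (by norm_num) hd4 hd4').2 h4
      exact absurd h5 (by decide +kernel)
    · exact h4
  have hW : ∀ c d, c < 64 → d < 64 → (in23 c = true → inW d = true → in23 (Nat.xor c d) = true) ∧
      (in23 c = true → in23 d = true → inW (Nat.xor c d) = true) ∧
      (in24 c = true → inW (Nat.xor 4 c) = true) ∧ (inW c = true → in24 (Nat.xor 4 c) = true) := by
    intro c d hc hd
    obtain ⟨h1, h2⟩ := cond_false_right (of_allb (of_allb chk_W c hc) d hd)
    obtain ⟨h2, h3⟩ := cond_false_right h2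
    obtain ⟨h3, h4⟩ := cond_false_right h3
    exact ⟨fun a b => cond_true_right (cond_true_right h1 a) b,
      fun a b => cond_true_right (cond_true_right h2 a) b, cond_true_right h3, cond_true_right h4⟩
  have hmul : ∀ c d c' d', c < 64 → d < 64 → c' < 64 → d' < 64 → k * w u c * k⁻¹ = w u c' →
      k * w u d * k⁻¹ = w u d' → k * w u (Nat.xor c d) * k⁻¹ = w u (Nat.xor c' d') := by
    intro c d c' d' hc hd hc' hd' h1 h2
    rw [← w_mul he hc hd, ← w_mul he hc' hd', ← h1, ← h2]
    group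
  have hxx : ∀ c d : ℕ, Nat.xor c (Nat.xor c d) = d := fun c d => by
    show c ^^^ (c ^^^ d) = d
    rw [← Nat.xor_assoc, Nat.xor_self, Nat.zero_xor]
  refine ⟨k, kA, ?_, ?_, ?_, ?_⟩
  · intro c hc h24
    have h1 := (hW c 0 hc (by norm_num)).2.2.1 h24
    have h4c : Nat.xor 4 c < 64 := xor_lt (by norm_num) hc
    obtain ⟨e, he1, he2⟩ := exists_act he kA h4c
    have h2 := (inWiff _ e h4c he1 he2).1 h1
    refine ⟨Nat.xor d4 e, xor_lt hd4 he1, (hW d4 e hd4 he1).1 h23 h2, ?_⟩
    have h3 := hmul 4 (Nat.xor 4 c) d4 e (by norm_num) h4c hd4 he1 hd4' he2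
    rwa [hxx] at h3
  · intro d hd h
    have h1 := (hW d4 d hd4 hd).2.1 h23 h
    have hlt' : Nat.xor d4 d < 64 := xor_lt hd4 hd
    -- the preimage of `w (d4 ^ d)`
    have h2 : k⁻¹ * w u (Nat.xor d4 d) * k ∈ CS u kA1 := by
      rw [normalizer_CS kA]
      have : k * (k⁻¹ * w u (Nat.xor d4 d) * k) * k⁻¹ = w u (Nat.xor d4 d) := by group
      rw [this]; exact w_mem hlt'
    obtain ⟨e, he1, he2⟩ := exists_w he h2
    have h3 : k * w u e * k⁻¹ = w u (Nat.xor d4 d) := by rw [he2]; group
    have h4 := (inWiff e _ he1 hlt' h3).2 h1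
    refine ⟨Nat.xor 4 e, xor_lt (by norm_num) he1, (hW e 0 he1 (by norm_num)).2.2.2 h4, ?_⟩
    have h5 := hmul 4 e d4 (Nat.xor d4 d) (by norm_num) he1 hd4 hlt' hd4' h3
    rwa [hxx] at h5
  all_goals
    obtain ⟨d8, hd8, hd8'⟩ := exists_act he kA (show 8 < 64 by norm_num)
    have h8 : d8 = 2 ∨ d8 = 34 := by
      have h1 := of_allb (of_allb chk_k14 d8 hd8) i hi
      have h2 := comm 8 d8 (by norm_num) hd8 (by decide +kernel) hd8'
      rw [← hai] at h2
      have h3 := cond_true_right h1 (by rw [h2]; exact Nat.beq_refl _)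
      have h4 : w u d8 ∈ CS u kE2 := by
        rw [← hd8', ← normalizer_CS kE', w_mem_CS he closed_E2 (by norm_num)]
        decide +kernel
      rw [w_mem_CS he closed_E2 hd8] at h4
      have h5 := cond_true_right h3 (by rw [h4]; exact Nat.beq_refl _)
      have h6 := ne_one 8 d8 (by norm_num) hd8 hd8'
      rcases cond_true_mid h5 with h7 | h7
      · exact absurd (h6.1 (mem_of_beq h7)) (by norm_num)
      rcases cond_true_mid h7 with h7 | h7
      · exact absurd (h6.2 (mem_of_beq h7)) (by norm_num)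
      rcases cond_true_mid h7 with h7 | h7
      · exact Or.inl (mem_of_beq h7)
      · exact Or.inr (mem_of_beq h7)
  · rcases h8 with h8 | h8
    · left; rw [hd8', h8]
    · right; rw [hd8', h8]
  · obtain ⟨d16, hd16, hd16'⟩ := exists_act he kA (show 16 < 64 by norm_num)
    have h16 : d16 = 16 ∨ d16 = 48 := by
      have h1 := of_allb chk_k25 d16 hd16
      have h4 : w u d16 ∈ CS u kE1 := by
        rw [← hd16', ← normalizer_CS kE, w_mem_CS he closed_E1 (by norm_num)]
        decide +kernel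
      rw [w_mem_CS he closed_E1 hd16] at h4
      have h5 := cond_true_right h1 (by rw [h4]; exact Nat.beq_refl _)
      have h6 := ne_one 16 d16 (by norm_num) hd16 hd16'
      rcases cond_true_mid h5 with h7 | h7
      · exact absurd (h6.1 (mem_of_beq h7)) (by norm_num)
      rcases cond_true_mid h7 with h7 | h7
      · exact absurd (h6.2 (mem_of_beq h7)) (by norm_num)
      rcases cond_true_mid h7 with h7 | h7
      · exact Or.inl (mem_of_beq h7)
      · exact Or.inr (mem_of_beq h7)
    have h5 := hmul 8 16 d8 d16 (by norm_num) (by norm_num) hd8 hd16 hd8' hd16'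
    rw [show Nat.xor 8 16 = 24 by decide +kernel] at h5
    rw [h5]
    rcases h8 with rfl | rfl <;> rcases h16 with rfl | rfl
    · left; rfl
    · right; rfl
    · right; rfl
    · left; rfl

open Classical in
/-- `A1`-part of `z`-purity. -/
theorem side_pure (h : Side S u) (h14 : ¬ IsConj (u x15) (u x14))
    (h25 : ¬ IsConj (u x15) (u x25)) : ∀ g ∈ CS u kA1, IsConj (u x15) g → g = u x15 := by
  have he := h.emb
  obtain ⟨k, kA, k1, k2, k3, k4⟩ := k_facts h
  have hconj : ∀ g : G, IsConj g (k * g * k⁻¹) := fun g => isConj_iff.2 ⟨k, rfl⟩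
  let f : ℕ → Bool := fun l => decide (IsConj (u x15) (w u (rep l)))
  have hf : ∀ l, f l = true ↔ IsConj (u x15) (w u (rep l)) := fun l => decide_eq_true_iff
  have hf2 : ∀ c, c < 64 → (f (lab c) = true ↔ IsConj (u x15) (w u c)) := by
    intro c hc
    rw [hf]
    exact ⟨fun h1 => h1.trans (isConj_lab he hc), fun h1 => h1.trans (isConj_lab he hc).symm⟩
  have hne : u x15 ≠ 1 := by
    intro h1
    have := he.inj (show 512 < 1024 by norm_num) (show 0 < 1024 by norm_num)
      (by rw [he.zero]; exact h1)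
    omega
  have f0 : f 0 = false := by
    rw [← Bool.not_eq_true, hf]
    intro h1
    have h3 : w u (rep 0) = (1 : G) := by
      unfold w
      rw [show code (rep 0) = 0 by decide +kernel]
      exact he.zero
    rw [h3] at h1
    exact hne (isConj_one_left.1 h1)
  have f9 : f 9 = false := by
    rw [← Bool.not_eq_true, hf]
    unfold w
    rw [show code (rep 9) = x25 by decide +kernel]
    exact h25
  have f10 : f 10 = false := by
    rw [← Bool.not_eq_true, hf]
    unfold w
    rw [show code (rep 10) = x14 by decide +kernel]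
    exact h14
  have f11 : f 11 = false := by
    have f10' : ¬ IsConj (u x15) (w u 8) := by
      unfold w
      rw [show code 8 = x14 by decide +kernel]
      exact h14
    rw [← Bool.not_eq_true]
    intro h1
    apply f10'
    rcases k3 with h2 | h2
    · have h3 : IsConj (u x15) (w u 2) := by
        rw [← hf2 2 (by norm_num), show lab 2 = 11 by decide +kernel]
        exact h1
      exact (h3.trans (h2 ▸ (hconj (w u 8)).symm))
    · have h3 : IsConj (u x15) (w u 34) := by
        rw [← hf2 34 (by norm_num), show lab 34 = 11 by decide +kernel]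
        exact h1
      exact (h3.trans (h2 ▸ (hconj (w u 8)).symm))
  have f12 : f 12 = true := by
    rw [hf, show rep 12 = 32 by decide +kernel, w_32]
  obtain ⟨M, hMdef⟩ : ∃ M, M = msk (f 1) (f 2) (f 3) (f 4) (f 5) (f 6) (f 7) (f 8) := ⟨_, rfl⟩
  have hM : ∀ c, c < 64 → (tb M c = true ↔ IsConj (u x15) (w u c)) := by
    intro c hc
    rw [hMdef, ← hf2 c hc,
      iff_of_eqb (of_allb (chk_msk (f 1) (f 2) (f 3) (f 4) (f 5) (f 6) (f 7) (f 8)) c hc)]
    have hl := lab_le hc
    generalize lab c = l at hl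
    have : selb (f 1) (f 2) (f 3) (f 4) (f 5) (f 6) (f 7) (f 8) l = f l := by
      interval_cases l
      · rw [f0]; rfl
      · rfl
      · rfl
      · rfl
      · rfl
      · rfl
      · rfl
      · rfl
      · rfl
      · rw [f9]; rfl
      · rw [f10]; rfl
      · rw [f11]; rfl
      · rw [f12]; rfl
    rw [this]
  -- transitivity
  have htr : ∀ c, c < 64 → IsConj (u x15) (w u c) → ∃ n ∈ normalizer (CS u kA1 : Set G),
      n * w u 32 * n⁻¹ = w u c := by
    intro c hc h1
    rw [w_32]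
    exact h.fus _ (w_mem hc) h1
  have hn3 : ∀ c, c < 64 → IsConj (u x15) (w u c) → n3 M c = n3 M 32 := by
    intro c hc h1
    obtain ⟨n, hn, hn2⟩ := htr c hc h1
    exact n3_inv he hM (by norm_num) hc hn hn2
  have hn4 : ∀ c, c < 64 → IsConj (u x15) (w u c) → n4 M c = n4 M 32 := by
    intro c hc h1
    obtain ⟨n, hn, hn2⟩ := htr c hc h1
    exact n4_inv he hM (by norm_num) hc hn hn2
  have hP1 : eqb (anyb 64 (fun c => cond (in24 c) (tb M c) false))
      (anyb 64 (fun c => cond (in23 c) (tb M c) false)) = true := by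
    apply eqb_of_iff
    rw [anyb_iff, anyb_iff]
    constructor
    · rintro ⟨c, hc, h1⟩
      obtain ⟨h2, h3⟩ := cond_false_right h1
      obtain ⟨d, hd, h4, h5⟩ := k1 c hc h2
      refine ⟨d, hd, ?_⟩
      rw [h4]
      show tb M d = true
      rw [hM d hd, ← h5]
      exact ((hM c hc).1 h3).trans (hconj _)
    · rintro ⟨d, hd, h1⟩
      obtain ⟨h2, h3⟩ := cond_false_right h1
      obtain ⟨c, hc, h4, h5⟩ := k2 d hd h2
      refine ⟨c, hc, ?_⟩
      rw [h4]
      show tb M c = true
      rw [hM c hc]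
      refine ((hM d hd).1 h3).trans ?_
      rw [← h5]
      exact (hconj _).symm
  have hP2 : eqb (tb M 24) (tb M 18) = true := by
    apply eqb_of_iff
    rw [hM 24 (by norm_num), hM 18 (by norm_num)]
    have h50 : IsConj (w u 18) (w u 50) := by
      have h1 := isConj_lab he (show 50 < 64 by norm_num)
      rwa [show rep (lab 50) = 18 by decide +kernel] at h1
    have h24 : IsConj (w u 24) (w u 18) := by
      rcases k4 with h1 | h1
      · rw [← h1]; exact hconj _
      · have h2 : IsConj (w u 24) (w u 50) := by rw [← h1]; exact hconj _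
        exact h2.trans h50.symm
    exact ⟨fun h1 => h1.trans h24, fun h1 => h1.trans h24.symm⟩
  have hrep : ∀ l c, rep l = c → c < 64 → cond (f l) (Nat.beq (n3 M c) (n3 M 32)) true = true := by
    intro l c hl hc
    cases hfl : f l
    · rfl
    · show Nat.beq (n3 M c) (n3 M 32) = true
      rw [hf, hl] at hfl
      rw [hn3 c hc hfl]
      exact Nat.beq_refl _
  have hok := chk_okk (f 1) (f 2) (f 3) (f 4) (f 5) (f 6) (f 7) (f 8)
  unfold okk at hok
  simp only [← hMdef] at hok
  rw [hP1, hP2, hrep 1 1 (by decide +kernel) (by norm_num),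
    hrep 2 4 (by decide +kernel) (by norm_num), hrep 3 6 (by decide +kernel) (by norm_num),
    hrep 4 7 (by decide +kernel) (by norm_num), hrep 5 18 (by decide +kernel) (by norm_num),
    hrep 6 19 (by decide +kernel) (by norm_num), hrep 7 24 (by decide +kernel) (by norm_num),
    hrep 8 28 (by decide +kernel) (by norm_num)] at hok
  have hok : cond (Nat.beq M 4294967296) true
    (cond (Nat.beq M 9230145101767016490) (f 1)
      (cond (Nat.beq M 14232334329446400) (f 6) false)) = true := hok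
  rcases cond_true_mid hok with h1 | h1
  · have hM1 : M = 4294967296 := mem_of_beq h1
    intro g hg hgz
    obtain ⟨c, hc, rfl⟩ := exists_w he hg
    have h2 := (hM c hc).2 hgz
    rw [hM1] at h2
    have h3 : c = 32 := by
      have key : allb 64 (fun c => cond (tb 4294967296 c) (Nat.beq c 32) true) = true := by
        decide +kernel
      exact mem_of_beq (cond_true_right (of_allb key c hc) h2)
    rw [h3, w_32]
  · exfalso
    cases hb : Nat.beq M 9230145101767016490
    · rw [hb] at h1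
      have h1 : cond (Nat.beq M 14232334329446400) (f 6) false = true := h1
      obtain ⟨h2, h3⟩ := cond_false_right h1
      rw [hf, show rep 6 = 19 by decide +kernel] at h3
      have h4 := hn4 19 (by norm_num) h3
      rw [mem_of_beq h2] at h4
      exact chk_n4b h4
    · rw [hb] at h1
      have h3 : f 1 = true := h1
      rw [hf, show rep 1 = 1 by decide +kernel] at h3
      have h4 := hn4 1 (by norm_num) h3
      rw [mem_of_beq hb] at h4
      exact chk_n4a h4

/-- the fusion data used for `z`-purity (all statements in `G`). -/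
structure PData {G : Type*} [Group G] (S : Subgroup G) (u : ℕ → G) : Prop where
  emb : Emb S u
  /-- `N_G(A1)` controls the fusion of `z` in `A1` -/
  f1 : ∀ b ∈ CS u kA1, IsConj (u x15) b →
    ∃ n ∈ normalizer (CS u kA1 : Set G), n * u x15 * n⁻¹ = b
  /-- `N_G(A2)` controls the fusion of `z` in `A2` -/
  f2 : ∀ b ∈ CS u kA2, IsConj (u x15) b →
    ∃ n ∈ normalizer (CS u kA2 : Set G), n * u x15 * n⁻¹ = b
  /-- every involution of `S` is `C_G(z)`-conjugate into `A1 ∪ A2` -/
  inv : ∀ g ∈ S, g * g = 1 → ∃ c : G, c * u x15 = u x15 * c ∧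
    (c * g * c⁻¹ ∈ CS u kA1 ∨ c * g * c⁻¹ ∈ CS u kA2)
  k3 : ∃ k : G, k * u x15 = u x15 * k ∧ k ∈ normalizer (CS u kA1 : Set G) ∧
    k ∈ normalizer (CS u kQ : Set G) ∧ k ∈ normalizer (CS u kE1 : Set G) ∧
    k ∈ normalizer (CS u kE2 : Set G) ∧
    ∃ a, a < 1024 ∧ SubK a kU1 ∧ k * u x35 * k⁻¹ = u (mu x45 a)
  k2 : ∃ k : G, k * u x15 = u x15 * k ∧ k ∈ normalizer (CS u kA2 : Set G) ∧
    k ∈ normalizer (CS u kQ : Set G) ∧ k ∈ normalizer (CS u kE1 : Set G) ∧
    k ∈ normalizer (CS u kE2 : Set G) ∧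
    ∃ a, a < 1024 ∧ SubK a kU2 ∧ k * u x13 * k⁻¹ = u (mu x12 a)

theorem PData.side (h : PData S u) : Side S u := ⟨h.emb, h.f1, h.k3⟩

theorem sq_one (h : Emb S u) {a : ℕ} (ha : a < 1024) (h2 : mu a a = 0) : (u a)⁻¹ = u a := by
  rw [inv_eq_iff_mul_eq_one, ← h.mul ha ha, h2, h.zero]

theorem PData.side' (h : PData S u) : Side S (Flip.fu u) := by
  have he := h.emb
  have e15 : Flip.fu u x15 = u x15 := by
    show (u (Flip.flip 512))⁻¹ = u 512
    rw [show Flip.flip 512 = 512 by decide +kernel]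
    exact sq_one he (by norm_num) (by decide +kernel)
  have cA : CS (Flip.fu u) kA1 = CS u kA2 := Flip.CS_fu he Flip.okF_A1
  have cQ : CS (Flip.fu u) kQ = CS u kQ := Flip.CS_fu he Flip.okF_Q
  have cE1 : CS (Flip.fu u) kE1 = CS u kE2 := Flip.CS_fu he Flip.okF_E1
  have cE2 : CS (Flip.fu u) kE2 = CS u kE1 := Flip.CS_fu he Flip.okF_E2
  refine ⟨Flip.emb_fu he, ?_, ?_⟩
  · rw [e15, cA]; exact h.f2
  · obtain ⟨k, hz, kA, kQ', kE, kE', a, ha, haU, hk⟩ := h.k2
    rw [e15, cA, cQ, cE1, cE2]
    refine ⟨k, hz, kA, kQ', kE', kE, Flip.flip a, Flip.flip_lt a, ?_, ?_⟩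
    · have key : allb 1024 (fun a => cond (Nat.beq (Nat.land a kU2) a)
        (Nat.beq (Nat.land (Flip.flip a) kU1) (Flip.flip a)) true) = true := by decide +kernel
      rw [subK_iff] at haU ⊢
      exact mem_of_beq (cond_true_right (of_allb key a ha) (by rw [haU]; exact Nat.beq_refl _))
    · show k * (u (Flip.flip 64))⁻¹ * k⁻¹ = (u (Flip.flip (mu x45 (Flip.flip a))))⁻¹
      have key : allb 1024 (fun a => cond (Nat.beq (Nat.land a kU2) a)
        (Nat.beq (Flip.flip (mu x45 (Flip.flip a))) (mu x12 a)) true) = true := by decide +kernel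
      rw [subK_iff] at haU
      rw [mem_of_beq (cond_true_right (of_allb key a ha) (by rw [haU]; exact Nat.beq_refl _)),
        show Flip.flip 64 = x13 by decide +kernel, ← hk]
      group

/-- `z` is isolated in `S` unless it is fused to `x14` or `x25`. -/
theorem isolated (h : PData S u) (h14 : ¬ IsConj (u x15) (u x14))
    (h25 : ¬ IsConj (u x15) (u x25)) : ∀ g ∈ S, IsConj (u x15) g → g = u x15 := by
  have he := h.emb
  have e15 : Flip.fu u x15 = u x15 := by
    show (u (Flip.flip 512))⁻¹ = u 512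
    rw [show Flip.flip 512 = 512 by decide +kernel]
    exact sq_one he (by norm_num) (by decide +kernel)
  have e14 : Flip.fu u x14 = u x25 := by
    show (u (Flip.flip 128))⁻¹ = u 256
    rw [show Flip.flip 128 = 256 by decide +kernel]
    exact sq_one he (by norm_num) (by decide +kernel)
  have e25 : Flip.fu u x25 = u x14 := by
    show (u (Flip.flip 256))⁻¹ = u 128
    rw [show Flip.flip 256 = 128 by decide +kernel]
    exact sq_one he (by norm_num) (by decide +kernel)
  have p1 := side_pure h.side h14 h25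
  have p2 := side_pure h.side' (by rw [e15, e14]; exact h25) (by rw [e15, e25]; exact h14)
  rw [e15, Flip.CS_fu he Flip.okF_A1] at p2
  intro g hg hgz
  have hsq : g * g = 1 := by
    obtain ⟨c, hc⟩ := isConj_iff.1 hgz
    have h1 : u x15 * u x15 = 1 := by
      rw [← he.mul (by norm_num) (by norm_num), show mu x15 x15 = 0 by decide +kernel, he.zero]
    calc g * g = c * (u x15 * u x15) * c⁻¹ := by rw [← hc]; group
      _ = 1 := by rw [h1]; group
  obtain ⟨c, hc, h1⟩ := h.inv g hg hsq
  have h2 : IsConj (u x15) (c * g * c⁻¹) := hgz.trans (isConj_iff.2 ⟨c, rfl⟩)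
  have h3 : c * g * c⁻¹ = u x15 := by
    rcases h1 with h1 | h1
    · exact p1 _ h1 h2
    · exact p2 _ h1 h2
  calc g = c⁻¹ * (c * g * c⁻¹) * c := by group
    _ = c⁻¹ * (u x15 * c) := by rw [h3]; group
    _ = u x15 := by rw [← hc]; group

/-- **`z`-purity** (piece C of S0512). -/
theorem purity [Finite G] [IsSimpleGroup G] (T : Sylow 2 G) {u : ℕ → G}
    (h : PData (T : Subgroup G) u) : IsConj (u x15) (u x25) ∨ IsConj (u x15) (u x14) := by
  by_contra hcon
  push Not at hcon
  obtain ⟨h25, h14⟩ := hcon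
  have he := h.emb
  have hiso := isolated h h14 h25
  have h1 : u x15 * u x15 = 1 := by
    rw [← he.mul (by norm_num) (by norm_num), show mu x15 x15 = 0 by decide +kernel, he.zero]
  have hne : u x15 ≠ 1 := by
    intro h1
    have := he.inj (show 512 < 1024 by norm_num) (show 0 < 1024 by norm_num)
      (by rw [he.zero]; exact h1)
    omega
  have hord : orderOf (u x15) = 2 := orderOf_eq_prime (by rw [pow_two]; exact h1) hne
  obtain ⟨N, hN, hodd, hcomm⟩ := S0215.result T (u x15) hord (he.mem (by norm_num))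
    (fun g hg => hiso _ hg (isConj_iff.2 ⟨g, rfl⟩))
  have hcent : ∀ g : G, u x15 * g = g * u x15 := by
    rcases hN.eq_bot_or_eq_top with h2 | h2
    · intro g
      have h3 := hcomm g
      rw [h2, mem_bot] at h3
      calc u x15 * g = u x15 * g * (u x15)⁻¹ * g⁻¹ * (g * u x15) := by group
        _ = g * u x15 := by rw [h3, one_mul]
    · exfalso
      rw [h2, Subgroup.card_top] at hodd
      have h3 : 2 ∣ Nat.card G := hord ▸ orderOf_dvd_natCard _
      exact (Nat.not_even_iff_odd.2 hodd) (even_iff_two_dvd.2 h3)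
  have hz : (Subgroup.zpowers (u x15)).Normal := by
    refine ⟨fun n hn g => ?_⟩
    rw [Subgroup.mem_zpowers_iff] at hn
    obtain ⟨i, rfl⟩ := hn
    have h3 : Commute g (u x15 ^ i) := Commute.zpow_right (hcent g).symm i
    rw [h3.eq, mul_inv_cancel_right]
    exact Subgroup.zpow_mem_zpowers _ _
  rcases hz.eq_bot_or_eq_top with h2 | h2
  · exact hne (Subgroup.zpowers_eq_bot.1 h2)
  · have h3 : Nat.card G = 2 := by
      rw [← Subgroup.card_top (G := G), ← h2, Nat.card_zpowers, hord]
    have h4 : Nat.card (T : Subgroup G) ∣ Nat.card G := Subgroup.card_subgroup_dvd_card _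
    rw [he.card, h3] at h4
    exact absurd (Nat.le_of_dvd (by norm_num) h4) (by norm_num)

end Cfsg.Agent.SylowL5.Purity
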