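import Mathlib
import Cfsg.Agent.SylowL5.Purity
import Cfsg.Agent.SylowL5.FusData
import Cfsg.Agent.SylowL5.Weak

/-!
# `z`-purity from the output of the fusion analysis (S0512)
-/

set_option autoImplicit false

namespace Cfsg.Agent.SylowL5.PurityFinal

open Cfsg Subgroup Cfsg.Agent.SylowL5.Setup Cfsg.Agent.SylowL5.Data Cfsg.Agent.SylowL5.FusData
open Cfsg.Agent.SignalizersComponents.RelSylow

variable {G : Type*} [Group G] {u : ℕ → G}

theorem comm_A1 {S : Subgroup G} (h : Emb S u) : ∀ x ∈ CS u kA1, ∀ y ∈ CS u kA1,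
    x * y = y * x := by
  intro x hx y hy
  obtain ⟨c, hc, rfl⟩ := Purity.exists_w h hx
  obtain ⟨d, hd, rfl⟩ := Purity.exists_w h hy
  rw [Purity.w_mul h hc hd, Purity.w_mul h hd hc]
  congr 1
  exact Nat.xor_comm c d

theorem comm_A2 {S : Subgroup G} (h : Emb S u) : ∀ x ∈ CS u kA2, ∀ y ∈ CS u kA2,
    x * y = y * x := by
  have h1 := comm_A1 (Flip.emb_fu h)
  rwa [Flip.CS_fu h Flip.okF_A1] at h1

theorem isMaxP_sylow [Finite G] (T : Sylow 2 G) : IsMaxP 2 (⊤ : Subgroup G) (T : Subgroup G) :=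
  ⟨T.isPGroup', le_top, fun _ h1 _ h3 => (T.is_maximal' h1 h3).le⟩

theorem fusion_of_weak [Finite G] (T : Sylow 2 G) {A : Subgroup G} (hAT : A ≤ T)
    (hc : ∀ x ∈ A, ∀ y ∈ A, x * y = y * x)
    (hw : ∀ g : G, (∀ a ∈ A, g * a * g⁻¹ ∈ (T : Subgroup G)) → g ∈ normalizer (A : Set G))
    {a b : G} (ha : a ∈ A) (hb : b ∈ A) (hab : IsConj a b) :
    ∃ n ∈ normalizer (A : Set G), n * a * n⁻¹ = b := by
  obtain ⟨g, rfl⟩ := isConj_iff.1 hab
  have hW : Weak.WeakCl (⊤ : Subgroup G) A T := ⟨hAT, fun g _ hg =>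
    Weak.cj_eq_iff.2 (hw g (Weak.cj_le_iff.1 hg))⟩
  obtain ⟨n, -, hn, hn2⟩ := Weak.exists_normalizer (isMaxP_sylow T) hW hc le_top ha
    (mem_top g) hb
  exact ⟨n, Weak.cj_eq_iff.1 hn, hn2⟩

theorem CS_map {Y : Subgroup G} {v : ℕ → Y} (hv : ∀ a, a < 1024 → (v a : G) = u a) (K : ℕ) :
    (CS v K).map Y.subtype = CS u K := by
  unfold CS
  rw [MonoidHom.map_closure]
  congr 1
  ext g
  constructor
  · rintro ⟨y, ⟨a, ha, hs, rfl⟩, rfl⟩
    exact ⟨a, ha, hs, (hv a ha).symm⟩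
  · rintro ⟨a, ha, hs, rfl⟩
    exact ⟨v a, ⟨a, ha, hs, rfl⟩, hv a ha⟩

theorem mem_normalizer_map {Y H : Subgroup G} {H' : Subgroup Y} (hH : H'.map Y.subtype = H)
    {k : Y} : (k : G) ∈ normalizer (H : Set G) ↔ k ∈ normalizer (H' : Set Y) := by
  have key : ∀ y : Y, (y : G) ∈ H ↔ y ∈ H' := by
    intro y
    rw [← hH]
    constructor
    · rintro ⟨x, hx, hxy⟩
      have : x = y := Subtype.ext hxy
      rwa [← this]
    · intro hy; exact ⟨y, hy, rfl⟩
  rw [Subgroup.mem_normalizer_iff, Subgroup.mem_normalizer_iff]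
  constructor
  · intro h y
    rw [← key, ← key]
    exact h y
  · intro h g
    constructor
    · intro hg
      have hg' := hg
      rw [← hH] at hg'
      obtain ⟨x, hx, rfl⟩ := hg'
      exact (key _).2 ((h x).1 hx)
    · intro hg
      have hg' := hg
      rw [← hH] at hg'
      obtain ⟨x, hx, hxg⟩ := hg'
      have h1 : g = ((k⁻¹ * x * k : Y) : G) := by
        have h2 : (x : G) = k * g * (k : G)⁻¹ := hxg
        push_cast
        rw [h2]; group
      rw [h1, key, h]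
      have h3 : k * (k⁻¹ * x * k) * k⁻¹ = x := by group
      rw [h3]; exact hx

theorem pdata_of_final [Finite G] (T : Sylow 2 G) (h : Final (T : Subgroup G) u) :
    Purity.PData (T : Subgroup G) u := by
  have he := h.fus.emb
  obtain ⟨T', v, hv, hT', hV⟩ := h.vdata
  have hE1 : ∀ k : G, k * u x15 = u x15 * k → k ∈ normalizer (CS u kQ : Set G) →
      k ∈ normalizer (CS u kE1 : Set G) ∧ k ∈ normalizer (CS u kE2 : Set G) := by
    intro k hk hkQ
    have hkY : k ∈ (centralizer {u x15} : Subgroup G) := by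
      rw [mem_centralizer_singleton_iff]; exact hk
    have h1 : ((⟨k, hkY⟩ : (centralizer {u x15} : Subgroup G)) : G) ∈
        normalizer (CS u kQ : Set G) := hkQ
    rw [mem_normalizer_map (CS_map hv kQ)] at h1
    exact ⟨(mem_normalizer_map (CS_map hv kE1)).2 (hV.nE1 h1),
      (mem_normalizer_map (CS_map hv kE2)).2 (hV.nE2 h1)⟩
  have z1 : u x15 ∈ CS u kA1 := Subgroup.subset_closure ⟨512, by norm_num,
    by rw [subK_iff]; decide +kernel, rfl⟩
  have z2 : u x15 ∈ CS u kA2 := Subgroup.subset_closure ⟨512, by norm_num,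
    by rw [subK_iff]; decide +kernel, rfl⟩
  refine ⟨he, ?_, ?_, h.fus.inv, ?_, ?_⟩
  · intro b hb hzb
    exact fusion_of_weak T (he.CS_le _) (comm_A1 he) h.fus.wA1 z1 hb hzb
  · intro b hb hzb
    exact fusion_of_weak T (he.CS_le _) (comm_A2 he) h.fus.wA2 z2 hb hzb
  · obtain ⟨k, hz, -, hQ, hA, h3⟩ := h.fus.k3
    obtain ⟨h1, h2⟩ := hE1 k hz hQ
    exact ⟨k, hz, hA, hQ, h1, h2, h3⟩
  · obtain ⟨k, hz, -, hQ, hA, h3⟩ := h.fus.k2
    obtain ⟨h1, h2⟩ := hE1 k hz hQ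
    exact ⟨k, hz, hA, hQ, h1, h2, h3⟩

/-- **`z`-purity**: in a simple group `z` is fused to `x25` or to `x14`. -/
theorem purity [Finite G] [IsSimpleGroup G] (T : Sylow 2 G) (h : Final (T : Subgroup G) u) :
    IsConj (u x15) (u x25) ∨ IsConj (u x15) (u x14) :=
  Purity.purity T (pdata_of_final T h)

end Cfsg.Agent.SylowL5.PurityFinal
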