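import Cfsg.Agent.SylowL5.CtrlV

/-!
# `Y = O(Y) N_Y(Q)` (S0512)
-/

set_option autoImplicit false

namespace Cfsg.Agent.SylowL5.SolvedFinal

open Cfsg Subgroup Cfsg.Agent.SylowL5.Setup

theorem solved {Y : Type*} [Group Y] [Finite Y] {T : Sylow 2 Y} {v : ℕ → Y}
    (h : Data.VData T v) : Data.Solved (normalizer (CS v kQ : Set Y)) :=
  CtrlV.solved h

end Cfsg.Agent.SylowL5.SolvedFinal
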