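import Mathlib
import Cfsg.Agent.SylowL5.MQuot
import Cfsg.Agent.SylowL5.OddFinal
import Cfsg.Agent.SylowL5.SolvedFinal
import Cfsg.Agent.SylowL5.PurityFinal

/-!
# The centralizer of `z` in a simple group with Sylow 2-subgroups of type `L_5(2)`

From `FusData.Final` we deduce that `C_G(z)` is isomorphic to the centralizer of a transvection of
`SL(5, 2)`.
-/

set_option autoImplicit false

universe u

namespace Cfsg.Agent.SylowL5.CentIso

open Cfsg Subgroup Cfsg.Agent.SylowL5.Setup Cfsg.Agent.SylowL5.Data Cfsg.Agent.SylowL5.FusData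
open Cfsg.Agent.SylowL5.MSub Cfsg.Agent.SylowL5.OddLift Cfsg.Agent.SylowL5.MQuot
open Cfsg.Agent.SporadicRecognition

variable {G : Type u} [Group G] [Finite G] {S : Subgroup G} {u : ℕ → G} {W : Subgroup G}

/-- the map `C_G(z) → C_{M/W}(z W)` -/
def fr (hE : Emb S u) (h : MData S u W) : centralizer ({u x15} : Set G) →*
    centralizer ({qW W (zM h)} : Set ((normalizer (W : Set G)) ⧸ WM W)) :=
  (fC h).codRestrict _ fun y => by
    rw [← range_fC hE h]; exact ⟨y, rfl⟩

theorem fr_apply (hE : Emb S u) (h : MData S u W) (y : centralizer ({u x15} : Set G)) :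
    ((fr hE h y : centralizer ({qW W (zM h)} : Set ((normalizer (W : Set G)) ⧸ WM W))) :
      (normalizer (W : Set G)) ⧸ WM W) = fC h y := rfl

theorem fr_surj (hE : Emb S u) (h : MData S u W) : Function.Surjective (fr hE h) := by
  rintro ⟨x, hx⟩
  have hx' := hx
  rw [← range_fC hE h] at hx'
  obtain ⟨y, hy⟩ := hx'
  exact ⟨y, Subtype.ext hy⟩

/-- the image of `Q` lies in `O_2(C_{M/W}(z W))` -/
theorem fr_mem_pCore (hE : Emb S u) (h : MData S u W)
    {T : Sylow 2 (centralizer ({u x15} : Set G))} {v : ℕ → (centralizer ({u x15} : Set G))}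
    (hV : VData T v) {y : centralizer ({u x15} : Set G)} (hy : y ∈ CS v kQ) :
    fr hE h y ∈ Cfsg.pCore 2
      (centralizer ({qW W (zM h)} : Set ((normalizer (W : Set G)) ⧸ WM W))) := by
  have hB := SolvedFinal.solved hV
  have hN : ((CS v kQ).map (fr hE h)).Normal := by
    constructor
    rintro _ ⟨x, hx, rfl⟩ g
    obtain ⟨k, rfl⟩ := fr_surj hE h g
    obtain ⟨a, ha, n, hn, rfl⟩ := hB k
    have h1 : fr hE h a = 1 := by
      apply Subtype.ext
      rw [fr_apply]
      have : a ∈ (fC h).ker := by rw [ker_fC]; exact ha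
      exact this
    rw [map_mul, h1, one_mul]
    refine ⟨n * x * n⁻¹, (mem_normalizer_iff.1 hn x).1 hx, ?_⟩
    rw [map_mul, map_mul, map_inv]
  have hle : CS v kQ ≤ (T : Subgroup (centralizer ({u x15} : Set G))) := by
    intro x hx
    obtain ⟨a, ha, -, rfl⟩ := (hV.emb.mem_CS Quot.closed_Q).1 hx
    exact hV.emb.mem ha
  have hp : IsPGroup 2 ((CS v kQ).map (fr hE h)) := (T.isPGroup'.to_le hle).map _
  exact Lib.Cores.le_pCore hN hp ⟨y, hy, rfl⟩

/-- one direction of the fusion, for a code `c` of an element of `Q` -/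
theorem fused (hE : Emb S u) (h : MData S u W)
    {T : Sylow 2 (centralizer ({u x15} : Set G))} {v : ℕ → (centralizer ({u x15} : Set G))}
    (hv : ∀ a, a < 1024 → (v a : G) = u a)
    (hV : VData T v) {c : ℕ} (hc : c < 1024) (hcQ : Nat.land c kQ = c) (hcz : c ≠ x15)
    (hcc : mu c c = 0) (hcj : IsConj (u x15) (u c)) :
    ∃ g : (normalizer (W : Set G)) ⧸ WM W,
      (∃ hq : g * qW W (zM h) * g⁻¹ ∈
        centralizer ({qW W (zM h)} : Set ((normalizer (W : Set G)) ⧸ WM W)),
        (⟨g * qW W (zM h) * g⁻¹, hq⟩ :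
          centralizer ({qW W (zM h)} : Set ((normalizer (W : Set G)) ⧸ WM W))) ∈
          Cfsg.pCore 2 (centralizer ({qW W (zM h)} : Set ((normalizer (W : Set G)) ⧸ WM W)))) ∧
      g * qW W (zM h) * g⁻¹ ≠ qW W (zM h) := by
  have hO := oddHyp hE h
  obtain ⟨g, hg⟩ := isConj_iff.1 hcj
  have hcC : u c ∈ centralizer ({u x15} : Set G) := by rw [← hv c hc]; exact (v c).2
  have hcM : u c ∈ normalizer (W : Set G) := h.cent hcC
  have hgM : g ∈ normalizer (W : Set G) := by
    apply h.fix
    rw [hg]; exact hcM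
  have e1 : qW W ⟨g, hgM⟩ * qW W (zM h) * (qW W ⟨g, hgM⟩)⁻¹ =
      ((fr hE h (v c) : centralizer ({qW W (zM h)} : Set ((normalizer (W : Set G)) ⧸ WM W))) :
      (normalizer (W : Set G)) ⧸ WM W) := by
    rw [fr_apply, fC_apply, ← map_inv, ← map_mul, ← map_mul]
    congr 1
    apply Subtype.ext
    show g * u x15 * g⁻¹ = (v c : G)
    rw [hg, hv c hc]
  refine ⟨qW W ⟨g, hgM⟩, ⟨?_, ?_⟩, ?_⟩
  · rw [e1]; exact (fr hE h (v c)).2
  · have h2 := fr_mem_pCore hE h hV (y := v c) (Quot.mem_Q kQ c hc hcQ)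
    have e2 : (⟨qW W ⟨g, hgM⟩ * qW W (zM h) * (qW W ⟨g, hgM⟩)⁻¹, by
        rw [e1]; exact (fr hE h (v c)).2⟩ :
        centralizer ({qW W (zM h)} : Set ((normalizer (W : Set G)) ⧸ WM W))) =
        fr hE h (v c) := Subtype.ext e1
    rw [e2]; exact h2
  · rw [e1, fr_apply, fC_apply]
    intro h3
    -- conjugate under the odd kernel; both lie in the 2-group `S`
    have h4 : (⟨(v c : G), h.cent (v c).2⟩ : normalizer (W : Set G))⁻¹ * zM h ∈ WM W := by
      rw [← QuotientGroup.eq]; exact h3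
    have h5 : (v c : G)⁻¹ * u x15 ∈ W := h4
    have hcz' : u c * u x15 = u x15 * u c := mem_centralizer_singleton_iff.1 hcC
    have hzz : u x15 * u x15 = 1 := congrArg Subtype.val hO.zz
    have hcc' : u c * u c = 1 := by rw [← hE.mul hc hc, hcc, hE.zero]
    have hci : (u c)⁻¹ = u c := inv_eq_of_mul_eq_one_left hcc'
    rw [hv c hc, hci] at h5
    have h6 : (u c * u x15) * (u c * u x15) = 1 := by
      calc (u c * u x15) * (u c * u x15) = u c * (u x15 * u c) * u x15 := by group
        _ = u c * (u c * u x15) * u x15 := by rw [hcz']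
        _ = (u c * u c) * (u x15 * u x15) := by group
        _ = 1 := by rw [hcc', hzz, one_mul]
    have h7 : orderOf (u c * u x15) ∣ 2 := orderOf_dvd_of_pow_eq_one (by rw [pow_two]; exact h6)
    have h8 : orderOf (⟨u c * u x15, h5⟩ : W) ∣ Nat.card W := orderOf_dvd_natCard _
    rw [Subgroup.orderOf_mk] at h8
    have h9 : orderOf (u c * u x15) = 1 := by
      rcases (Nat.dvd_prime Nat.prime_two).1 h7 with h9 | h9
      · exact h9
      · rw [h9] at h8
        exact absurd (even_iff_two_dvd.2 h8) (Nat.not_even_iff_odd.2 h.odd)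
    have h10 : u c * u x15 = 1 := orderOf_eq_one_iff.1 h9
    have h11 : u c = u x15 := by
      calc u c = u c * (u x15 * u x15) := by rw [hzz, mul_one]
        _ = (u c * u x15) * u x15 := by group
        _ = u x15 := by rw [h10, one_mul]
    exact hcz (hE.inj hc (by decide) h11)

/-- **The centralizer of `z`.** -/
theorem centralizer_equiv [IsSimpleGroup G] (S : Sylow 2 G) (h : Final (S : Subgroup G) u)
    (s : Matrix.SpecialLinearGroup (Fin 5) (ZMod 2))
    (hs : (s : Matrix (Fin 5) (Fin 5) (ZMod 2)) = Matrix.transvection 0 1 1) :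
    Nonempty (centralizer ({u x15} : Set G) ≃*
      Subgroup.centralizer ({s} : Set (Matrix.SpecialLinearGroup (Fin 5) (ZMod 2)))) := by
  have hE := h.fus.emb
  have hC := PurityFinal.purity S h
  obtain ⟨W, hM⟩ := exists_W S h (fun T v hV => SolvedFinal.solved hV) hC
  obtain ⟨T, v, hv, hT, hV⟩ := h.vdata
  have hB := SolvedFinal.solved hV
  have hO := oddHyp hE hM
  -- `M = G`
  have htop : normalizer (W : Set G) = ⊤ := by
    obtain ⟨e⟩ := MQuot.nonempty_equiv hE hM hV hB s hs
    have hord : orderOf (qW W (zM hM)) = 2 := by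
      apply orderOf_eq_prime
      · rw [pow_two, ← map_mul, hO.zz, map_one]
      · intro h1
        exact hO.z1 (OddAffine.eq_one_of_map hO hO.zz h1)
    obtain ⟨ι, H, -⟩ := HeldModel.exists_hyp s hs (qW W (zM hM)) hord e
    have hf : ∃ g : (normalizer (W : Set G)) ⧸ WM W,
      (∃ hq : g * qW W (zM hM) * g⁻¹ ∈
        centralizer ({qW W (zM hM)} : Set ((normalizer (W : Set G)) ⧸ WM W)),
        (⟨g * qW W (zM hM) * g⁻¹, hq⟩ :
          centralizer ({qW W (zM hM)} : Set ((normalizer (W : Set G)) ⧸ WM W))) ∈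
          Cfsg.pCore 2 (centralizer ({qW W (zM hM)} : Set ((normalizer (W : Set G)) ⧸ WM W)))) ∧
      g * qW W (zM hM) * g⁻¹ ≠ qW W (zM hM) := by
      rcases hC with hC | hC
      · exact fused hE hM hv hV (by decide) (by decide) (by decide) (by decide) hC
      · exact fused hE hM hv hV (by decide) (by decide) (by decide) (by decide) hC
    obtain ⟨g, ⟨hq, hq2⟩, hne⟩ := hf
    exact OddFinal.eq_top hO H (Held.Assembly.exists_fusion H g hq hq2 hne)
  -- `W = 1`
  have hWn : W.Normal := normalizer_eq_top_iff.1 htop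
  have hW : W = ⊥ := by
    rcases hWn.eq_bot_or_eq_top with h1 | h1
    · exact h1
    · exfalso
      have h2 := hM.odd
      rw [h1, Subgroup.card_top] at h2
      have h3 : orderOf (u x15) = 2 := by
        apply orderOf_eq_prime
        · rw [pow_two]; exact congrArg Subtype.val hO.zz
        · intro h4
          exact hO.z1 (Subtype.ext h4)
      have h4 : 2 ∣ Nat.card G := by rw [← h3]; exact orderOf_dvd_natCard _
      exact (Nat.not_even_iff_odd.2 h2) (even_iff_two_dvd.2 h4)
  have hcore : pPrimeCore 2 (centralizer ({u x15} : Set G)) = ⊥ := by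
    have h1 := hM.inf
    rw [hW, bot_inf_eq] at h1
    have h2 : (pPrimeCore 2 (centralizer ({u x15} : Set G))).map
      (centralizer ({u x15} : Set G)).subtype = ⊥ := h1.symm
    rwa [Subgroup.map_eq_bot_iff_of_injective _ (Subgroup.subtype_injective _)] at h2
  obtain ⟨e⟩ := Quot.nonempty_equiv hV hB s hs
  exact ⟨((QuotientGroup.quotientMulEquivOfEq hcore).trans QuotientGroup.quotientBot).symm.trans e⟩

end Cfsg.Agent.SylowL5.CentIso
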