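import Mathlib
import Cfsg.Agent.SylowL5.Act

/-!
# The action of `N1 = C_G(z) ∩ N(A1)` on `A1`: invariance of `U1`, `W1`
-/

set_option autoImplicit false

namespace Cfsg.Agent.SylowL5.Act1

open Subgroup
open Cfsg.Agent.SignalizersComponents.RelSylow
open Cfsg.Agent.SylowL5.Setup Cfsg.Agent.SylowL5.Calc Cfsg.Agent.SylowL5.Weak
  Cfsg.Agent.SylowL5.Elem Cfsg.Agent.SylowL5.Tools Cfsg.Agent.SylowL5.WC
  Cfsg.Agent.SylowL5.TransvG Cfsg.Agent.SylowL5.Transv Cfsg.Agent.SylowL5.Act

/-! ### Boolean facts -/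

theorem fact1 : allb 1024 (fun a => (allb 10 fun k => !(tb kA1 k) ||
    sb (cm a (Nat.pow 2 k)) 768) || anyb 10 fun k => tb kA1 k &&
      force (cm a (Nat.pow 2 k)) fun p => !(zz p) && anyb 10 fun l => tb kA1 l &&
        force (cm a (Nat.pow 2 l)) fun q => !(zz q) && !(zz (mu p (iv q)))) = true := by
  decide +kernel

theorem fact2 : allb 1024 (fun a => !(sb a kA1) || ((zz (cm 64 a) || zz (cm 8 a) || zz (cm 72 a)) &&
    sb (cm 64 a) 768 && sb (cm 8 a) 768 && sb (cm 72 a) 768)) = true := by decide +kernel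

/-- `U1 = Z ∪ u 256 Z` -/
theorem fact3 : allb 1024 (fun a => !(sb a 768) || zz a || zz (mu a 256)) = true := by decide +kernel

theorem closed_512 : closedK 512 = true := by decide
theorem closed_768 : closedK 768 = true := by decide
theorem closed_kW1 : closedK kW1 = true := by decide
theorem closed_kS3 : closedK kS3 = true := by decide
theorem gen_kA1 : genK kA1 = true := by decide +kernel
theorem gen_512 : genK 512 = true := by decide +kernel
theorem gen_768 : genK 768 = true := by decide +kernel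
theorem gen_kW1 : genK kW1 = true := by decide +kernel
theorem gen_kS3 : genK kS3 = true := by decide +kernel
theorem gen_1023 : genK 1023 = true := by decide +kernel

section
variable {G : Type*} [Group G] {S : Subgroup G} {u : ℕ → G}

/-- `N1 = C_G(z) ∩ N(A1)` -/
def N1 (u : ℕ → G) : Subgroup G := centralizer {u 512} ⊓ normalizer (CS u kA1 : Set G)

theorem mem_N1 {x : G} : x ∈ N1 u ↔ x * u 512 = u 512 * x ∧ x ∈ normalizer (CS u kA1 : Set G) := by
  unfold N1
  rw [mem_inf, mem_centralizer_singleton_iff]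

/-- the kernel of the action -/
def K1 (u : ℕ → G) : Subgroup G := centralizer (CS u kA1 : Set G)

/-- monotonicity of coordinate subgroups -/
theorem CS_mono {K K' : ℕ} (h : Nat.land K K' = K) : CS u K ≤ CS u K' := by
  unfold CS
  apply Subgroup.closure_mono
  rintro _ ⟨a, ha, haK, rfl⟩
  refine ⟨a, ha, fun j hj => ?_, rfl⟩
  exact (subK_iff K K').2 h j (haK j hj)

theorem mem_of_zz (h : Emb S u) {a : ℕ} (ha : a < 1024) (hz : zz a = true) : u a ∈ CS u 512 :=
  (zz_iff h ha).1 hz

/-- an element of `S` given by its code -/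
theorem u_mem (h : Emb S u) {K a : ℕ} (hK : closedK K = true) (ha : a < 1024)
    (hs : sb a K = true) : u a ∈ CS u K := (u_mem_CS h hK ha).2 hs

theorem cm_mem (h : Emb S u) {K a b : ℕ} (hK : closedK K = true) (ha : a < 1024) (hb : b < 1024)
    (hs : sb (cm a b) K = true) : u a * u b * (u a)⁻¹ * (u b)⁻¹ ∈ CS u K := by
  rw [← cm_u h ha hb]
  exact u_mem h hK (cm_lt ha hb) hs

theorem S_le_C (h : Emb S u) : S ≤ centralizer {u 512} := by
  intro g hg
  obtain ⟨a, ha, rfl⟩ := h.surj g hg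
  rw [mem_centralizer_singleton_iff, ← h.mul ha (by norm_num), ← h.mul (by norm_num) ha]
  have h1 := of_allb (P := fun a => Nat.beq (mu a 512) (mu 512 a)) (N := 1024)
    (by decide +kernel) a ha
  rw [Nat.beq_eq] at h1
  rw [h1]

end

section
variable {G : Type*} [Group G] [Finite G] {S : Sylow 2 G} {u : ℕ → G}

theorem S_le_N1 (h : Emb (S : Subgroup G) u) : (S : Subgroup G) ≤ N1 u :=
  le_inf (S_le_C h) (S_norm_A1 h)

theorem maxP_N1 (h : Emb (S : Subgroup G) u) : IsMaxP 2 (N1 u) (S : Subgroup G) :=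
  isMaxP_of_le S (S_le_N1 h)

omit [Finite G] in
theorem K1_le_N1 (h : Emb (S : Subgroup G) u) : K1 u ≤ N1 u := by
  intro x hx
  have hx' : ∀ v ∈ CS u kA1, v * x = x * v := mem_centralizer_iff.1 hx
  rw [mem_N1]
  refine ⟨(hx' _ (u_mem h closed_kA1 (by norm_num) (by decide))).symm, ?_⟩
  exact (centralizer_le_normalizer _) hx

omit [Finite G] in
theorem N1_Z (h : Emb (S : Subgroup G) u) {n : G} (hn : n ∈ N1 u) {x : G} (hx : x ∈ CS u 512) :
    n * x * n⁻¹ = x := Z_central h (mem_N1.1 hn).1 x hx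

/-- `N1` fixes `u 256` modulo `Z` -/
theorem c_inv (h : Emb (S : Subgroup G) u) {x : G} (hx : x ∈ N1 u) :
    x * u 256 * x⁻¹ * (u 256)⁻¹ ∈ CS u 512 := by
  apply center_inv (N := N1 u) (P := (S : Subgroup G)) (V := CS u kA1) (Z := CS u 512)
    (maxP_N1 h) (sqA1 h) (commA1 h) (fun n hn v hv => nrm (mem_N1.1 hn).2 hv)
    (fun n hn v hv => by rw [N1_Z h hn hv]; exact hv) (u_mem h closed_kA1 (by norm_num) (by decide))
  · intro s hs c' hc' hT ⟨v, hv, hvZ⟩
    obtain ⟨a, ha, rfl⟩ := h.surj s hs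
    have h1 := of_allb fact1 a ha
    rw [Bool.or_eq_true] at h1
    rcases h1 with h1 | h1
    · -- all commutators lie in `U1`
      have h2 : u a * v * (u a)⁻¹ * v⁻¹ ∈ CS u 768 := by
        apply comm_of_gens h closed_kA1 gen_kA1 _ _ v hv
        · exact (h.CS_le _).trans (S_normalizes h closed_768 gen_768 (by decide +kernel))
        · intro k hk hkK
          have h3 := of_allb h1 k hk
          simp only [hkK, Bool.not_true, Bool.false_or] at h3
          exact cm_mem h closed_768 ha (two_pow_lt hk) h3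
      obtain ⟨b, hb, hbK, hb2⟩ := (h.mem_CS closed_768).1 h2
      rcases hT v hv with h3 | h3
      · exact absurd h3 hvZ
      · rw [← hb2] at h3 hvZ
        have h4 := of_allb fact3 b hb
        rw [sb_iff.2 hbK] at h4
        simp only [Bool.not_true, Bool.false_or, Bool.or_eq_true] at h4
        rcases h4 with h4 | h4
        · exact absurd (mem_of_zz h hb h4) hvZ
        · have h5 := mem_of_zz h (mu_lt hb (by norm_num)) h4
          rw [h.mul hb (by norm_num)] at h5
          have h6 : c' * (u 256)⁻¹ = (u b * c'⁻¹)⁻¹ * (u b * u 256) * (u 256)⁻¹ * (u 256)⁻¹ := by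
            group
          have h7 : u 256 * u 256 = 1 :=
            sqA1 h _ (u_mem h closed_kA1 (by norm_num) (by decide))
          have h8 : c' * (u 256)⁻¹ = (u b * c'⁻¹)⁻¹ * (u b * u 256) * (u 256 * u 256)⁻¹ := by
            rw [h6]; group
          rw [h8, h7, inv_one, mul_one]
          exact mul_mem (inv_mem h3) h5
    · -- two different commutators
      exfalso
      obtain ⟨k, hk, h2⟩ := of_anyb h1
      simp only [force_eq, Bool.and_eq_true, Bool.not_eq_true'] at h2
      obtain ⟨hkK, hk2, h2⟩ := h2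
      obtain ⟨l, hl, h3⟩ := of_anyb h2
      simp only [Bool.and_eq_true, Bool.not_eq_true'] at h3
      obtain ⟨hlK, hl2, h3⟩ := h3
      have hkl := two_pow_lt hk
      have hll := two_pow_lt hl
      have hk3 : ¬ u (cm a (2 ^ k)) ∈ CS u 512 := fun h4 => by
        have h5 := (zz_iff h (cm_lt ha hkl)).2 h4
        rw [show zz (cm a (2 ^ k)) = false from hk2] at h5
        exact absurd h5 (by decide)
      have hl3 : ¬ u (cm a (2 ^ l)) ∈ CS u 512 := fun h4 => by
        have h5 := (zz_iff h (cm_lt ha hll)).2 h4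
        rw [show zz (cm a (2 ^ l)) = false from hl2] at h5
        exact absurd h5 (by decide)
      have h4 : ¬ u (mu (cm a (2 ^ k)) (iv (cm a (2 ^ l)))) ∈ CS u 512 := fun h4 => by
        have h5 := (zz_iff h (mu_lt (cm_lt ha hkl) (iv_lt (cm_lt ha hll)))).2 h4
        rw [show zz (mu (cm a (2 ^ k)) (iv (cm a (2 ^ l)))) = false from h3] at h5
        exact absurd h5 (by decide)
      rw [h.mul (cm_lt ha hkl) (iv_lt (cm_lt ha hll)), inv_eq h (cm_lt ha hll), cm_u h ha hkl,
        cm_u h ha hll] at h4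
      rw [cm_u h ha hkl] at hk3
      rw [cm_u h ha hll] at hl3
      have hgk : u (2 ^ k) ∈ CS u kA1 := u_mem h closed_kA1 hkl (sb_pow hkK)
      have hgl : u (2 ^ l) ∈ CS u kA1 := u_mem h closed_kA1 hll (sb_pow hlK)
      rcases hT _ hgk with h5 | h5
      · exact hk3 h5
      · rcases hT _ hgl with h6 | h6
        · exact hl3 h6
        · apply h4
          have h7 := mul_mem h5 (inv_mem h6)
          have h8 : ∀ x y : G, x * c'⁻¹ * (y * c'⁻¹)⁻¹ = x * y⁻¹ := fun x y => by group
          rwa [h8] at h7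
  · intro w hw
    have h0 : ∀ a, a < 1024 → sb a kA1 = true →
      ((u 64 * u a * (u 64)⁻¹ * (u a)⁻¹ ∈ CS u 512 ∨ u 8 * u a * (u 8)⁻¹ * (u a)⁻¹ ∈ CS u 512 ∨
        u 72 * u a * (u 72)⁻¹ * (u a)⁻¹ ∈ CS u 512) ∧
        u 64 * u a * (u 64)⁻¹ * (u a)⁻¹ ∈ CS u 768 ∧ u 8 * u a * (u 8)⁻¹ * (u a)⁻¹ ∈ CS u 768 ∧
        u 72 * u a * (u 72)⁻¹ * (u a)⁻¹ ∈ CS u 768) := by
      intro a ha haK
      have h1 := of_allb fact2 a ha
      rw [haK] at h1
      simp only [Bool.not_true, Bool.false_or, Bool.and_eq_true, Bool.or_eq_true] at h1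
      obtain ⟨⟨⟨h1, h2⟩, h3⟩, h4⟩ := h1
      refine ⟨?_, cm_mem h closed_768 (by norm_num) ha h2, cm_mem h closed_768 (by norm_num) ha h3,
        cm_mem h closed_768 (by norm_num) ha h4⟩
      rcases h1 with (h1 | h1) | h1
      · left
        rw [← cm_u h (by norm_num) ha]; exact mem_of_zz h (cm_lt (by norm_num) ha) h1
      · right; left
        rw [← cm_u h (by norm_num) ha]; exact mem_of_zz h (cm_lt (by norm_num) ha) h1
      · right; right
        rw [← cm_u h (by norm_num) ha]; exact mem_of_zz h (cm_lt (by norm_num) ha) h1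
    -- elements of `U1` are trivial or `u 256` modulo `Z`
    have hU : ∀ x ∈ CS u 768, x ∈ CS u 512 ∨ x * (u 256)⁻¹ ∈ CS u 512 := by
      intro x hx
      obtain ⟨b, hb, hbK, rfl⟩ := (h.mem_CS closed_768).1 hx
      have h4 := of_allb fact3 b hb
      rw [sb_iff.2 hbK] at h4
      simp only [Bool.not_true, Bool.false_or, Bool.or_eq_true] at h4
      rcases h4 with h4 | h4
      · left; exact mem_of_zz h hb h4
      · right
        have h5 := mem_of_zz h (mu_lt hb (by norm_num)) h4
        rw [h.mul hb (by norm_num)] at h5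
        have h7 : u 256 * u 256 = 1 :=
          sqA1 h _ (u_mem h closed_kA1 (by norm_num) (by decide))
        rwa [inv_eq_of_mul_eq_one_right h7]
    have hA : ∀ w ∈ CS u kA1,
      ((u 64 * w * (u 64)⁻¹ * w⁻¹ ∈ CS u 512 ∨ u 8 * w * (u 8)⁻¹ * w⁻¹ ∈ CS u 512 ∨
        u 72 * w * (u 72)⁻¹ * w⁻¹ ∈ CS u 512) ∧
        u 64 * w * (u 64)⁻¹ * w⁻¹ ∈ CS u 768 ∧ u 8 * w * (u 8)⁻¹ * w⁻¹ ∈ CS u 768 ∧
        u 72 * w * (u 72)⁻¹ * w⁻¹ ∈ CS u 768) := by
      intro w hw
      obtain ⟨b, hb, hbK, rfl⟩ := (h.mem_CS closed_kA1).1 hw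
      exact h0 b hb (sb_iff.2 hbK)
    -- nontriviality: `x35` and `x45` act nontrivially modulo `Z`
    have hne : ∀ e v : ℕ, e < 1024 → v < 1024 → sb v kA1 = true → zz (cm e v) = false →
        ∃ v ∈ CS u kA1, u e * v * (u e)⁻¹ * v⁻¹ ∉ CS u 512 := by
      intro e v he hv hvK hz
      refine ⟨u v, u_mem h closed_kA1 hv hvK, ?_⟩
      rw [← cm_u h he hv, ← zz_iff h (cm_lt he hv), hz]
      decide
    rcases (hA w hw).1 with h1 | h1 | h1
    · exact ⟨u 64, h.mem (by norm_num), fun v hv => hU _ (hA v hv).2.1,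
        hne 64 2 (by norm_num) (by norm_num) (by decide) (by decide), h1⟩
    · exact ⟨u 8, h.mem (by norm_num), fun v hv => hU _ (hA v hv).2.2.1,
        hne 8 32 (by norm_num) (by norm_num) (by decide) (by decide), h1⟩
    · exact ⟨u 72, h.mem (by norm_num), fun v hv => hU _ (hA v hv).2.2.2,
        hne 72 32 (by norm_num) (by norm_num) (by decide) (by decide), h1⟩
  · exact hx

end

end Cfsg.Agent.SylowL5.Act1
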