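import Mathlib
import Cfsg.Agent.SylowL5.Calc
import Cfsg.Agent.SylowL5.Weak
import Cfsg.Agent.SylowL5.Trans
import Cfsg.Agent.SylowL5.Transv
import Cfsg.Agent.SylowL5.Elem

/-!
# The subgroup `R3` is active (basic facts)

Preparations for `SylowL5/ActiveB.lean`: normal coordinate subgroups of `UT_5(2)`, centralisers of
subgroups of order 16 of `A1`, and the exclusion of a fusion of `x45` with `x34` modulo `A1`.
-/

set_option autoImplicit false

namespace Cfsg.Agent.SylowL5.Active

open Subgroup
open Cfsg.Agent.SylowL5.Setup Cfsg.Agent.SylowL5.Calc Cfsg.Agent.SylowL5.Weak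
open Cfsg.Agent.SylowL5.Elem
open Cfsg.Agent.SignalizersComponents.RelSylow

/-- `A1 ∩ A2 = 24 14 25 15` -/
abbrev kI : ℕ := 928
/-- `A1 <x45>` -/
abbrev kR : ℕ := 954
/-- `A1 E`, `E = <x35, x45>` -/
abbrev kAE : ℕ := 1018

theorem closed_kI : closedK kI = true := by decide
theorem closed_kR : closedK kR = true := by decide
theorem closed_kAE : closedK kAE = true := by decide
theorem closed_kS2 : closedK kS2 = true := by decide
theorem closed_kS3 : closedK kS3 = true := by decide
theorem closed_kS4 : closedK kS4 = true := by decide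
theorem closed_kU1 : closedK kU1 = true := by decide
theorem closed_950 : closedK 950 = true := by decide
theorem closed_160 : closedK 160 = true := by decide

section
variable {G : Type*} [Group G] {S : Subgroup G} {u : ℕ → G}

theorem CS_mono {K K' : ℕ} (hK : Nat.land K K' = K) : CS u K ≤ CS u K' := by
  apply Subgroup.closure_mono
  rintro g ⟨a, ha, haK, rfl⟩
  rw [← subK_iff] at hK
  exact ⟨a, ha, fun j hj => hK j (haK j hj), rfl⟩

/-- elementwise description of membership -/
theorem of_mem (h : Emb S u) {K : ℕ} (hK : closedK K = true) {g : G} (hg : g ∈ CS u K) :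
    ∃ a, a < 1024 ∧ sb a K = true ∧ u a = g := by
  obtain ⟨a, ha, haK, rfl⟩ := (h.mem_CS hK).1 hg
  exact ⟨a, ha, sb_iff.2 haK, rfl⟩

theorem all_CS (h : Emb S u) {K : ℕ} (hK : closedK K = true) {P : G → Prop}
    (hP : ∀ a, a < 1024 → sb a K = true → P (u a)) : ∀ g ∈ CS u K, P g := by
  intro g hg
  obtain ⟨a, ha, haK, rfl⟩ := of_mem h hK hg
  exact hP a ha haK

theorem mem_normalizer_of_le [Finite G] {g : G} {A : Subgroup G} (h : ∀ x ∈ A, g * x * g⁻¹ ∈ A) :
    g ∈ normalizer (A : Set G) := cj_eq_iff.1 (cj_eq_of_le (cj_le_iff.2 h) le_rfl)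

/-- coordinate subgroups normalised by all root elements are normal in `S`. -/
theorem le_normalizer_CS [Finite G] (h : Emb S u) {K : ℕ} (hK : closedK K = true)
    (hf : allb 10 (fun k => force (Nat.pow 2 k) fun g => allb 1024 fun a =>
      !(sb a K) || sb (cc g a) K) = true) : S ≤ normalizer (CS u K : Set G) := by
  have key : ∀ a, a < 1024 → u a ∈ normalizer (CS u K : Set G) := by
    apply code_induction
    · rw [h.zero]; exact Subgroup.one_mem _
    · intro b k hb hk hbN hlt
      have h2k : 2 ^ k < 1024 := by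
        calc 2 ^ k < 2 ^ 10 := Nat.pow_lt_pow_right (by norm_num) hk
          _ = 1024 := by norm_num
      rw [h.mul hb h2k]
      apply Subgroup.mul_mem _ hbN
      apply mem_normalizer_of_le
      intro g' hg'
      obtain ⟨a, ha, haK, rfl⟩ := of_mem h hK hg'
      rw [← cc_u h h2k ha, u_mem_CS h hK (cc_lt h2k ha)]
      have h3 := of_allb hf k hk
      rw [force_eq] at h3
      have h4 := of_allb h3 a ha
      rw [haK] at h4
      simpa using h4
  intro s hs
  obtain ⟨a, ha, rfl⟩ := h.surj s hs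
  exact key a ha

theorem S_le_nA [Finite G] (h : Emb S u) : S ≤ normalizer (CS u kA1 : Set G) :=
  le_normalizer_CS h closed_kA1 (by decide +kernel)

theorem S_le_nA2 [Finite G] (h : Emb S u) : S ≤ normalizer (CS u kA2 : Set G) :=
  le_normalizer_CS h closed_kA2 (by decide +kernel)

theorem S_le_nAE [Finite G] (h : Emb S u) : S ≤ normalizer (CS u kAE : Set G) :=
  le_normalizer_CS h closed_kAE (by decide +kernel)

theorem S_le_nS3 [Finite G] (h : Emb S u) : S ≤ normalizer (CS u kS3 : Set G) :=
  le_normalizer_CS h closed_kS3 (by decide +kernel)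

theorem S_le_nS2 [Finite G] (h : Emb S u) : S ≤ normalizer (CS u kS2 : Set G) :=
  le_normalizer_CS h closed_kS2 (by decide +kernel)

theorem S_le_nS4 [Finite G] (h : Emb S u) : S ≤ normalizer (CS u kS4 : Set G) :=
  le_normalizer_CS h closed_kS4 (by decide +kernel)

theorem sq_A (h : Emb S u) : ∀ x ∈ CS u kA1, x * x = 1 := by
  intro g' hg'
  obtain ⟨a, ha, haK, rfl⟩ := of_mem h closed_kA1 hg'
  have := of_allb (P := fun a => !(sb a kA1) || Nat.beq (mu a a) 0) (N := 1024) (by decide +kernel) a ha
  rw [haK] at this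
  simp only [Bool.not_true, Bool.false_or, Nat.beq_eq] at this
  rw [← h.mul ha ha, this, h.zero]

theorem sq_A2 (h : Emb S u) : ∀ x ∈ CS u kA2, x * x = 1 := by
  intro g' hg'
  obtain ⟨a, ha, haK, rfl⟩ := of_mem h closed_kA2 hg'
  have := of_allb (P := fun a => !(sb a kA2) || Nat.beq (mu a a) 0) (N := 1024) (by decide +kernel) a ha
  rw [haK] at this
  simp only [Bool.not_true, Bool.false_or, Nat.beq_eq] at this
  rw [← h.mul ha ha, this, h.zero]

theorem sq_B (h : Emb S u) : ∀ x ∈ CS u kB1, x * x = 1 := by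
  intro g' hg'
  obtain ⟨a, ha, haK, rfl⟩ := of_mem h closed_kB1 hg'
  have := of_allb (P := fun a => !(sb a kB1) || Nat.beq (mu a a) 0) (N := 1024) (by decide +kernel) a ha
  rw [haK] at this
  simp only [Bool.not_true, Bool.false_or, Nat.beq_eq] at this
  rw [← h.mul ha ha, this, h.zero]

theorem comm_A (h : Emb S u) : ∀ x ∈ CS u kA1, ∀ y ∈ CS u kA1, x * y = y * x := comm_of_sq (sq_A h)
theorem comm_A2 (h : Emb S u) : ∀ x ∈ CS u kA2, ∀ y ∈ CS u kA2, x * y = y * x :=
  comm_of_sq (sq_A2 h)
theorem comm_B (h : Emb S u) : ∀ x ∈ CS u kB1, ∀ y ∈ CS u kB1, x * y = y * x := comm_of_sq (sq_B h)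

theorem D_le_A : CS u kD1 ≤ CS u kA1 := CS_mono (by decide)
theorem D_le_B : CS u kD1 ≤ CS u kB1 := CS_mono (by decide)
theorem A_le_R : CS u kA1 ≤ CS u kR := CS_mono (by decide)
theorem A_le_AE : CS u kA1 ≤ CS u kAE := CS_mono (by decide)
theorem AE_le_S3 : CS u kAE ≤ CS u kS3 := CS_mono (by decide)
theorem B_le_R : CS u kB1 ≤ CS u kR := CS_mono (by decide)
theorem B_le_S3 : CS u kB1 ≤ CS u kS3 := CS_mono (by decide)
theorem A_le_S3 : CS u kA1 ≤ CS u kS3 := CS_mono (by decide)

theorem card_D (h : Emb S u) : Nat.card (CS u kD1) = 16 := by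
  rw [card_CS h closed_kD1]; decide +kernel
theorem card_I (h : Emb S u) : Nat.card (CS u kI) = 16 := by
  rw [card_CS h closed_kI]; decide +kernel
theorem card_R (h : Emb S u) : Nat.card (CS u kR) = 128 := by
  rw [card_CS h closed_kR]; decide +kernel
theorem card_AE (h : Emb S u) : Nat.card (CS u kAE) = 256 := by
  rw [card_CS h closed_kAE]; decide +kernel
theorem card_950 (h : Emb S u) : Nat.card (CS u 950) = 128 := by
  rw [card_CS h closed_950]; decide +kernel
theorem card_160 (h : Emb S u) : Nat.card (CS u 160) = 4 := by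
  rw [card_CS h closed_160]; decide +kernel
theorem card_U1 (h : Emb S u) : Nat.card (CS u kU1) = 4 := by
  rw [card_CS h closed_kU1]; decide +kernel
theorem card_S3 (h : Emb S u) : Nat.card (CS u kS3) = 512 := by
  rw [card_CS h closed_kS3]; decide +kernel
theorem card_S2 (h : Emb S u) : Nat.card (CS u kS2) = 512 := by
  rw [card_CS h closed_kS2]; decide +kernel
theorem card_S4 (h : Emb S u) : Nat.card (CS u kS4) = 512 := by
  rw [card_CS h closed_kS4]; decide +kernel

theorem isP_S (h : Emb S u) : IsPGroup 2 S := by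
  apply IsPGroup.of_card (n := 10)
  rw [h.card]; norm_num

theorem isP_of_le (h : Emb S u) {X : Subgroup G} (hX : X ≤ S) : IsPGroup 2 X := (isP_S h).to_le hX

/-! ### `J / A1` is commutative -/

theorem fact_cmJ : allb 1024 (fun a => !(sb a kJ) || (sb (cm a 4) kA1 && sb (cm a 64) kA1 &&
    sb (cm a 68) kA1 && force (Nat.land a 68) fun r => sb (mu a (iv r)) kA1)) = true := by
  decide +kernel

theorem land68 : allb 1024 (fun a => Nat.beq (Nat.land a 68) 0 || Nat.beq (Nat.land a 68) 4 ||
    Nat.beq (Nat.land a 68) 64 || Nat.beq (Nat.land a 68) 68) = true := by decide +kernel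

theorem comm_J [Finite G] (h : Emb S u) {x y : G} (hx : x ∈ CS u kJ) (hy : y ∈ CS u kJ) :
    x * y * x⁻¹ * y⁻¹ ∈ CS u kA1 := by
  obtain ⟨a, ha, haK, rfl⟩ := of_mem h closed_kJ hx
  obtain ⟨b, hb, hbK, rfl⟩ := of_mem h closed_kJ hy
  have h1 := of_allb fact_cmJ a ha
  have h2 := of_allb fact_cmJ b hb
  rw [haK] at h1
  rw [hbK, force_eq] at h2
  simp only [Bool.not_true, Bool.false_or, Bool.and_eq_true] at h1 h2
  have hr : ∀ r, (r = 0 ∨ r = 4 ∨ r = 64 ∨ r = 68) → r < 1024 ∧
      u a * u r * (u a)⁻¹ * (u r)⁻¹ ∈ CS u kA1 := by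
    rintro r (rfl | rfl | rfl | rfl)
    · refine ⟨by norm_num, ?_⟩
      rw [h.zero]
      simp
    · refine ⟨by norm_num, ?_⟩
      rw [← cm_u h ha (by norm_num), u_mem_CS h closed_kA1 (cm_lt ha (by norm_num))]
      exact h1.1.1.1
    · refine ⟨by norm_num, ?_⟩
      rw [← cm_u h ha (by norm_num), u_mem_CS h closed_kA1 (cm_lt ha (by norm_num))]
      exact h1.1.1.2
    · refine ⟨by norm_num, ?_⟩
      rw [← cm_u h ha (by norm_num), u_mem_CS h closed_kA1 (cm_lt ha (by norm_num))]
      exact h1.1.2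
  obtain ⟨hr1, hr2⟩ := hr (Nat.land b 68) (by
    have := of_allb land68 b hb
    simp only [Bool.or_eq_true, Nat.beq_eq] at this
    tauto)
  set r := Nat.land b 68 with hrdef
  have h3 : u b * (u r)⁻¹ ∈ CS u kA1 := by
    rw [← inv_eq h hr1, ← h.mul hb (iv_lt hr1), u_mem_CS h closed_kA1 (mu_lt hb (iv_lt hr1))]
    exact h2.2
  have hN := S_le_nA h (h.mem ha)
  have h4 : u a * (u b * (u r)⁻¹) * (u a)⁻¹ ∈ CS u kA1 := (Subgroup.mem_normalizer_iff.1 hN _).1 h3
  have h5 : u a * u b * (u a)⁻¹ * (u b)⁻¹ = (u a * (u b * (u r)⁻¹) * (u a)⁻¹) *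
      (u a * u r * (u a)⁻¹ * (u r)⁻¹) * (u b * (u r)⁻¹)⁻¹ := by group
  rw [h5]
  exact Subgroup.mul_mem _ (Subgroup.mul_mem _ h4 hr2) (Subgroup.inv_mem _ h3)

/-! ### Centralisers of subgroups of order 16 of `A1` -/

theorem fI1 : allb 1024 (fun c => !(tb c 0) || allb 1024 fun d => !(sb d 290) || Nat.beq d 0 ||
    !(co c d)) = true := by decide +kernel

theorem fI2 : allb 1024 (fun c => !(tb c 2) || !(tb c 3) || allb 1024 fun d => !(sb d 178) ||
    Nat.beq d 0 || !(co c d)) = true := by decide +kernel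

theorem fI3 : allb 1024 (fun c => tb c 0 || tb c 2 || !(tb c 3) || tb c 6 ||
    (co c 2 && co c 16)) = true := by decide +kernel

theorem fI3' : allb 1024 (fun c => tb c 0 || !(co c 2) || !(co c 16) || tb c 3 || sb c kA1)
    = true := by decide +kernel

theorem fI4 : allb 1024 (fun c => tb c 0 || tb c 2 || !(tb c 3) || !(tb c 6) ||
    (co c 34 && co c 144)) = true := by decide +kernel

theorem fI4' : allb 1024 (fun c => tb c 0 || !(co c 34) || !(co c 144) || tb c 3 || sb c kA1)
    = true := by decide +kernel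

theorem fI5 : allb 1024 (fun c => tb c 0 || tb c 3 || sb c kA1 || allb 1024 fun d => !(sb d kA1) ||
    !(co c d) || sb d kI) = true := by decide +kernel

theorem fact_I [Finite G] (h : Emb S u) {D' P : Subgroup G} (hD' : D' ≤ CS u kA1)
    (hcD : Nat.card D' = 16) (hP : P ≤ S) (hc : 128 < Nat.card P)
    (hPD : ∀ p ∈ P, ∀ d ∈ D', p * d = d * p) : D' = CS u kI ∧ P ≤ CS u kJ := by
  have hfinS := h.finite
  -- a complement argument
  have hno : ∀ c, c < 1024 → u c ∈ P → ∀ K, closedK K = true → Nat.land K kA1 = K →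
      4 < Nat.card (CS u K) →
      (∀ d, d < 1024 → sb d K = true → d = 0 ∨ co c d = false) → False := by
    intro c hc hcP K hK hKA hcard hK2
    have h1 := card_mul_le hD' (CS_mono hKA) (by
      intro g hgD hgK
      obtain ⟨d, hd, hdK, rfl⟩ := of_mem h hK hgK
      rcases hK2 d hd hdK with h2 | h2
      · rw [h2, h.zero]
      · exfalso
        have h3 : co c d = true := (co_iff h hc hd).2 (hPD _ hcP _ hgD)
        rw [h2] at h3
        exact Bool.false_ne_true h3)
    rw [hcD, card_A1 h] at h1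
    omega
  have h0 : ∀ c, c < 1024 → u c ∈ P → tb c 0 = false := by
    intro c hc hcP
    by_contra h1
    rw [Bool.not_eq_false] at h1
    apply hno c hc hcP 290 (by decide) (by decide) (by rw [card_CS h (by decide)]; decide +kernel)
    intro d hd hdK
    have h2 := of_allb (of_allb fI1 c hc |> fun h => by rw [h1] at h; simpa using h) d hd
    rw [hdK] at h2
    simpa using h2
  -- if all elements commute with two elements then `P` is small
  have hsmall : ∀ e f : ℕ, (∀ c, c < 1024 → u c ∈ P → co c e = true ∧ co c f = true) →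
      (∀ c, c < 1024 → tb c 0 = false → co c e = true → co c f = true →
        tb c 3 = true ∨ sb c kA1 = true) → False := by
    intro e f h1 h2
    have h3 := card_le_two P (CS u kA1) (by
      intro x hx y hy hxA hyA
      obtain ⟨a, ha, rfl, haP⟩ := mem_of_le h hP hx
      obtain ⟨b, hb, rfl, hbP⟩ := mem_of_le h hP hy
      have h4 : ∀ c, c < 1024 → u c ∈ P → tb c 3 = true ∨ sb c kA1 = true := fun c hc hcP =>
        h2 c hc (h0 c hc hcP) (h1 c hc hcP).1 (h1 c hc hcP).2
      have ha3 : tb a 3 = true := by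
        rcases h4 a ha haP with h5 | h5
        · exact h5
        · exact absurd ((u_mem_CS h closed_kA1 ha).2 h5) hxA
      have hb3 : tb b 3 = true := by
        rcases h4 b hb hbP with h5 | h5
        · exact h5
        · exact absurd ((u_mem_CS h closed_kA1 hb).2 h5) hyA
      have h6 : u (mu (iv a) b) ∈ P := by
        rw [h.mul (iv_lt ha) hb, inv_eq h ha]
        exact P.mul_mem (P.inv_mem haP) hbP
      have h7 : tb (mu (iv a) b) 3 = false := by
        have h8 : tb (mu a (iv a)) 3 = false := by rw [mu_iv ha]; rfl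
        rw [tb_xor (by norm_num), ha3] at h8
        rw [tb_xor (by norm_num), hb3]
        simpa using h8
      rcases h4 _ (mu_lt (iv_lt ha) hb) h6 with h8 | h8
      · rw [h7] at h8; exact absurd h8 Bool.false_ne_true
      · rw [← inv_eq h ha, ← h.mul (iv_lt ha) hb]
        exact (u_mem_CS h closed_kA1 (mu_lt (iv_lt ha) hb)).2 h8)
    have h4 : Nat.card (P ⊓ CS u kA1 : Subgroup G) ≤ 64 := by
      rw [← card_A1 h]
      exact Nat.card_le_card_of_injective _ (Subgroup.inclusion_injective inf_le_right)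
    omega
  -- the elements of `A1` commuting with `c` are in `D'` if there are only 16 of them
  have hmem : ∀ c, c < 1024 → u c ∈ P → tb c 2 = false → tb c 3 = true →
      ∀ e, e < 1024 → sb e kA1 = true → co c e = true → u e ∈ D' := by
    intro c hc hcP h2 h3 e he heA hce
    -- the centraliser of `u c` in `A1` has order at most 16
    let Z : Subgroup G := CS u kA1 ⊓ centralizer {u c}
    have hDZ : D' ≤ Z := by
      intro d hd
      refine ⟨hD' hd, ?_⟩
      show _ ∈ centralizer {u c}
      rw [mem_centralizer_singleton_iff]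
      exact (hPD _ hcP _ hd).symm
    have hZ : Nat.card Z ≤ 16 := by
      have h5 := card_mul_le (X := Z) (K := CS u 160) (T := CS u kA1) inf_le_left
        (CS_mono (by decide)) (by
        rintro g ⟨hgA, hgc⟩ hgK
        obtain ⟨d, hd, hdK, rfl⟩ := of_mem h closed_160 hgK
        have h6 : co c d = true := by
          rw [co_iff h hc hd]
          exact (mem_centralizer_singleton_iff.1 hgc).symm
        have h7 := of_allb (P := fun c => tb c 2 || !(tb c 3) || (!(co c 32) && !(co c 128) &&
          !(co c 160))) (N := 1024) (by decide +kernel) c hc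
        rw [h2, h3] at h7
        simp only [Bool.not_true, Bool.false_or, Bool.and_eq_true, Bool.not_eq_true'] at h7
        have h8 := of_allb (P := fun c => !(sb c 160) || Nat.beq c 0 || Nat.beq c 32 ||
          Nat.beq c 128 || Nat.beq c 160) (N := 1024) (by decide +kernel) d hd
        rw [hdK] at h8
        simp only [Bool.not_true, Bool.false_or, Bool.or_eq_true, Nat.beq_eq] at h8
        rcases h8 with ((h8 | h8) | h8) | h8
        · rw [h8, h.zero]
        · rw [h8, h7.1.1] at h6; exact absurd h6 Bool.false_ne_true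
        · rw [h8, h7.1.2] at h6; exact absurd h6 Bool.false_ne_true
        · rw [h8, h7.2] at h6; exact absurd h6 Bool.false_ne_true)
      rw [card_160 h, card_A1 h] at h5
      omega
    have hDZ' : D' = Z := Subgroup.eq_of_le_of_card_ge hDZ (by rw [hcD]; exact hZ)
    rw [hDZ']
    refine ⟨(u_mem_CS h closed_kA1 he).2 heA, ?_⟩
    show _ ∈ centralizer {u c}
    rw [mem_centralizer_singleton_iff]
    exact ((co_iff h hc he).1 hce).symm
  have h3 : ∀ c, c < 1024 → u c ∈ P → tb c 3 = false := by
    intro c hc hcP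
    by_contra h1
    rw [Bool.not_eq_false] at h1
    cases h2 : tb c 2
    · cases h6 : tb c 6
      · have h7 := of_allb fI3 c hc
        rw [h0 c hc hcP, h1, h2, h6] at h7
        simp only [Bool.not_true, Bool.false_or, Bool.and_eq_true] at h7
        have k1 := hmem c hc hcP h2 h1 2 (by norm_num) (by decide) h7.1
        have k2 := hmem c hc hcP h2 h1 16 (by norm_num) (by decide) h7.2
        apply hsmall 2 16
        · intro d hd hdP
          exact ⟨(co_iff h hd (by norm_num)).2 (hPD _ hdP _ k1),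
            (co_iff h hd (by norm_num)).2 (hPD _ hdP _ k2)⟩
        · intro d hd hd0 hd1 hd2
          have h8 := of_allb fI3' d hd
          rw [hd0, hd1, hd2] at h8
          simpa using h8
      · have h7 := of_allb fI4 c hc
        rw [h0 c hc hcP, h1, h2, h6] at h7
        simp only [Bool.not_true, Bool.false_or, Bool.and_eq_true] at h7
        have k1 := hmem c hc hcP h2 h1 34 (by norm_num) (by decide) h7.1
        have k2 := hmem c hc hcP h2 h1 144 (by norm_num) (by decide) h7.2
        apply hsmall 34 144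
        · intro d hd hdP
          exact ⟨(co_iff h hd (by norm_num)).2 (hPD _ hdP _ k1),
            (co_iff h hd (by norm_num)).2 (hPD _ hdP _ k2)⟩
        · intro d hd hd0 hd1 hd2
          have h8 := of_allb fI4' d hd
          rw [hd0, hd1, hd2] at h8
          simpa using h8
    · apply hno c hc hcP 178 (by decide) (by decide) (by rw [card_CS h (by decide)]; decide +kernel)
      intro d hd hdK
      have h4 := of_allb (of_allb fI2 c hc |> fun h => by rw [h1, h2] at h; simpa using h) d hd
      rw [hdK] at h4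
      simpa using h4
  have hPJ : P ≤ CS u kJ := by
    apply le_CS_of h hP closed_kJ
    intro a ha haP
    have h4 := of_allb factK a ha
    rw [h0 a ha haP, h3 a ha haP] at h4
    simpa using h4
  refine ⟨?_, hPJ⟩
  -- an element of `P` outside `A1`
  have hex : ∃ c, c < 1024 ∧ u c ∈ P ∧ sb c kA1 = false := by
    by_contra hcon
    push Not at hcon
    have h4 : P ≤ CS u kA1 := by
      apply le_CS_of h hP closed_kA1
      intro a ha haP
      simpa using hcon a ha haP
    have h5 : Nat.card P ≤ 64 := by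
      rw [← card_A1 h]
      exact Nat.card_le_card_of_injective _ (Subgroup.inclusion_injective h4)
    omega
  obtain ⟨c, hc, hcP, hcA⟩ := hex
  apply Subgroup.eq_of_le_of_card_ge _ (by rw [card_I h, hcD])
  intro d hd
  obtain ⟨a, ha, haA, rfl⟩ := of_mem h closed_kA1 (hD' hd)
  rw [u_mem_CS h closed_kI ha]
  have h4 := of_allb (of_allb fI5 c hc |> fun h' => by
    rw [h0 c hc hcP, h3 c hc hcP, hcA] at h'
    simpa using h') a ha
  have h5 : co c a = true := (co_iff h hc ha).2 (hPD _ hcP _ hd)
  rw [haA, h5] at h4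
  simpa using h4

/-! ### Conjugates of `A1 E` -/

theorem fAE : allb 1024 (fun a => !(sb a kA1) || allb 1024 fun e => !(sb e kAE) ||
    sb (cm a e) kU1) = true := by decide +kernel

theorem comm_AE (h : Emb S u) {x y : G} (hx : x ∈ CS u kA1) (hy : y ∈ CS u kAE) :
    x * y * x⁻¹ * y⁻¹ ∈ CS u kU1 := by
  obtain ⟨a, ha, haK, rfl⟩ := of_mem h closed_kA1 hx
  obtain ⟨b, hb, hbK, rfl⟩ := of_mem h closed_kAE hy
  rw [← cm_u h ha hb, u_mem_CS h closed_kU1 (cm_lt ha hb)]
  have := of_allb (of_allb fAE a ha |> fun h => by rw [haK] at h; simpa using h) b hb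
  rw [hbK] at this
  simpa using this

/-- commutators of `A1` with the conjugate of `A1 E` -/
theorem comm_conj [Finite G] (h : Emb S u) {g : G} (hg : g ∈ normalizer (CS u kA1 : Set G)) {x y : G}
    (hx : x ∈ CS u kA1) (hy : y ∈ cj g (CS u kAE)) : x * y * x⁻¹ * y⁻¹ ∈ cj g (CS u kU1) := by
  rw [mem_cj] at hy ⊢
  have h1 : g⁻¹ * x * g ∈ CS u kA1 := by
    have := (Subgroup.mem_normalizer_iff.1 (Subgroup.inv_mem _ hg) x).1 hx
    rwa [inv_inv] at this
  have h2 := comm_AE h h1 hy
  have h3 : g⁻¹ * x * g * (g⁻¹ * y * g) * (g⁻¹ * x * g)⁻¹ * (g⁻¹ * y * g)⁻¹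
      = g⁻¹ * (x * y * x⁻¹ * y⁻¹) * g := by group
  rwa [h3] at h2

/-- if two commutators are known, the conjugate of `U1` is known. -/
theorem conj_U [Finite G] (h : Emb S u) {g : G} {K : ℕ} (hK : closedK K = true)
    (hc : Nat.card (CS u K) = 4) {a b : ℕ} (ha : a < 1024) (hb : b < 1024)
    (hgen : ∀ c, c < 1024 → sb c K = true → c = 0 ∨ c = a ∨ c = b ∨ c = mu a b)
    (h1 : u a ∈ cj g (CS u kU1)) (h2 : u b ∈ cj g (CS u kU1)) : cj g (CS u kU1) = CS u K := by
  symm
  apply Subgroup.eq_of_le_of_card_ge _ (by rw [card_cj, card_U1 h, hc])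
  intro g' hg'
  obtain ⟨c, hcl, hcK, rfl⟩ := of_mem h hK hg'
  rcases hgen c hcl hcK with rfl | rfl | rfl | rfl
  · rw [h.zero]; exact Subgroup.one_mem _
  · exact h1
  · exact h2
  · rw [h.mul ha hb]; exact Subgroup.mul_mem _ h1 h2

theorem f34 : allb 1024 (fun c => !(sb c 950) || !(tb c 2) || (Nat.beq (cm 2 c) 32 &&
    Nat.beq (cm 16 c) 128)) = true := by decide +kernel

theorem f34' : allb 1024 (fun d => !(sb (cm 2 d) 160) || !(sb (cm 16 d) 160) ||
    !(sb (cm 32 d) 160) || !(sb (cm 128 d) 160) || sb d 950) = true := by decide +kernel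

/-- `x45` is not conjugate to `x34` modulo `A1` when `(A1 E)^g ≤ S`. -/
theorem no_34 [Finite G] (h : Emb S u) {g : G} (hg : g ∈ normalizer (CS u kA1 : Set G))
    (hX : cj g (CS u kAE) ≤ S) {c : ℕ} (hc : c < 1024) (hcK : sb c 950 = true) (hc2 : tb c 2 = true)
    (hgc : g * u x45 * g⁻¹ = u c) : False := by
  have hcX : u c ∈ cj g (CS u kAE) := by
    rw [← hgc]
    exact conj_mem_cj ((u_mem_CS h closed_kAE (by norm_num)).2 (by decide))
  have h1 := of_allb f34 c hc
  rw [hcK, hc2] at h1
  simp only [Bool.not_true, Bool.false_or, Bool.and_eq_true, Nat.beq_eq] at h1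
  have m2 : u 2 ∈ CS u kA1 := (u_mem_CS h closed_kA1 (by norm_num)).2 (by decide)
  have m16 : u 16 ∈ CS u kA1 := (u_mem_CS h closed_kA1 (by norm_num)).2 (by decide)
  have m32 : u 32 ∈ CS u kA1 := (u_mem_CS h closed_kA1 (by norm_num)).2 (by decide)
  have m128 : u 128 ∈ CS u kA1 := (u_mem_CS h closed_kA1 (by norm_num)).2 (by decide)
  have h2 := comm_conj h hg m2 hcX
  rw [← cm_u h (by norm_num) hc, h1.1] at h2
  have h3 := comm_conj h hg m16 hcX
  rw [← cm_u h (by norm_num) hc, h1.2] at h3
  have hU : cj g (CS u kU1) = CS u 160 := conj_U h closed_160 (card_160 h) (a := 32) (b := 128)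
    (by norm_num) (by norm_num) (by
      intro c hc hcK
      have := of_allb (P := fun c => !(sb c 160) || Nat.beq c 0 || Nat.beq c 32 || Nat.beq c 128 ||
        Nat.beq c (mu 32 128)) (N := 1024) (by decide +kernel) c hc
      rw [hcK] at this
      simp only [Bool.not_true, Bool.false_or, Bool.or_eq_true, Nat.beq_eq] at this
      tauto) h2 h3
  have hle : cj g (CS u kAE) ≤ CS u 950 := by
    apply le_CS_of h hX closed_950
    intro d hd hdX
    have k : ∀ e, e < 1024 → u e ∈ CS u kA1 → sb (cm e d) 160 = true := by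
      intro e he heA
      have := comm_conj h hg heA hdX
      rw [hU, ← cm_u h he hd, u_mem_CS h closed_160 (cm_lt he hd)] at this
      exact this
    have h4 := of_allb f34' d hd
    rw [k 2 (by norm_num) m2, k 16 (by norm_num) m16, k 32 (by norm_num) m32,
      k 128 (by norm_num) m128] at h4
    simpa using h4
  have h5 : Nat.card (cj g (CS u kAE)) ≤ Nat.card (CS u 950) :=
    Nat.card_le_card_of_injective _ (Subgroup.inclusion_injective hle)
  rw [card_cj, card_AE h, card_950 h] at h5
  omega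

theorem f35 : allb 1024 (fun c => !(sb c 1010) || !(tb c 6) || (Nat.beq (cm 2 c) 256 &&
    Nat.beq (cm 16 c) 512)) = true := by decide +kernel

theorem f35' : allb 1024 (fun d => !(sb (cm 2 d) kU1) || !(sb (cm 16 d) kU1) ||
    !(sb (cm 32 d) kU1) || !(sb (cm 128 d) kU1) || sb d kAE) = true := by decide +kernel

/-- if `x45` is conjugate to `x35` modulo `A1` and `(A1 E)^g ≤ S` then `g` normalises `A1 E`
and `U1`. -/
theorem of_35 [Finite G] (h : Emb S u) {g : G} (hg : g ∈ normalizer (CS u kA1 : Set G))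
    (hX : cj g (CS u kAE) ≤ S) {c : ℕ} (hc : c < 1024) (hcK : sb c 1010 = true) (hc2 : tb c 6 = true)
    (hgc : g * u x45 * g⁻¹ = u c) : g ∈ normalizer (CS u kAE : Set G) ∧
      g ∈ normalizer (CS u kU1 : Set G) := by
  have hcX : u c ∈ cj g (CS u kAE) := by
    rw [← hgc]
    exact conj_mem_cj ((u_mem_CS h closed_kAE (by norm_num)).2 (by decide))
  have h1 := of_allb f35 c hc
  rw [hcK, hc2] at h1
  simp only [Bool.not_true, Bool.false_or, Bool.and_eq_true, Nat.beq_eq] at h1
  have m2 : u 2 ∈ CS u kA1 := (u_mem_CS h closed_kA1 (by norm_num)).2 (by decide)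
  have m16 : u 16 ∈ CS u kA1 := (u_mem_CS h closed_kA1 (by norm_num)).2 (by decide)
  have m32 : u 32 ∈ CS u kA1 := (u_mem_CS h closed_kA1 (by norm_num)).2 (by decide)
  have m128 : u 128 ∈ CS u kA1 := (u_mem_CS h closed_kA1 (by norm_num)).2 (by decide)
  have h2 := comm_conj h hg m2 hcX
  rw [← cm_u h (by norm_num) hc, h1.1] at h2
  have h3 := comm_conj h hg m16 hcX
  rw [← cm_u h (by norm_num) hc, h1.2] at h3
  have hU : cj g (CS u kU1) = CS u kU1 := conj_U h closed_kU1 (card_U1 h) (a := 256) (b := 512)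
    (by norm_num) (by norm_num) (by
      intro c hc hcK
      have := of_allb (P := fun c => !(sb c kU1) || Nat.beq c 0 || Nat.beq c 256 || Nat.beq c 512 ||
        Nat.beq c (mu 256 512)) (N := 1024) (by decide +kernel) c hc
      rw [hcK] at this
      simp only [Bool.not_true, Bool.false_or, Bool.or_eq_true, Nat.beq_eq] at this
      tauto) h2 h3
  refine ⟨?_, cj_eq_iff.1 hU⟩
  apply cj_eq_iff.1
  apply Subgroup.eq_of_le_of_card_ge _ (by rw [card_cj])
  apply le_CS_of h hX closed_kAE
  intro d hd hdX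
  have k : ∀ e, e < 1024 → u e ∈ CS u kA1 → sb (cm e d) kU1 = true := by
    intro e he heA
    have := comm_conj h hg heA hdX
    rw [hU, ← cm_u h he hd, u_mem_CS h closed_kU1 (cm_lt he hd)] at this
    exact this
  have h4 := of_allb f35' d hd
  rw [k 2 (by norm_num) m2, k 16 (by norm_num) m16, k 32 (by norm_num) m32,
    k 128 (by norm_num) m128] at h4
  simpa using h4

end

end Cfsg.Agent.SylowL5.Active
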