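import Mathlib
import Cfsg.Agent.SylowL5.ActiveA

/-!
# The subgroup `R3` is active

If `G` has no subgroup of index two then `C_G(z) ∩ N(A1) ∩ N(A1 E)` contains an element permuting
the three cosets of `A1` in `A1 E - A1` cyclically and centralising `U1 = <x25, x15>`.
-/

set_option autoImplicit false

namespace Cfsg.Agent.SylowL5.Active

open Subgroup
open Cfsg.Agent.SylowL5.Setup Cfsg.Agent.SylowL5.Calc Cfsg.Agent.SylowL5.Weak
open Cfsg.Agent.SylowL5.Elem
open Cfsg.Agent.SignalizersComponents.RelSylow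

variable {G : Type*} [Group G] {u : ℕ → G}

/-- The output: a 3-cycle on `E#`. -/
structure Act3 (u : ℕ → G) (k : G) : Prop where
  cz : k * u x15 = u x15 * k
  c25 : k * u x25 = u x25 * k
  nA : k ∈ normalizer (CS u kA1 : Set G)
  nAE : k ∈ normalizer (CS u kAE : Set G)
  k45 : k * u x45 * k⁻¹ * (u x35)⁻¹ ∈ CS u kA1
  k35 : k * u x35 * k⁻¹ * (u x35 * u x45)⁻¹ ∈ CS u kA1

/-! ### From an element mapping `x45` to `x35` modulo `A1` -/

section quot

variable {S : Subgroup G}

/-- abstract calculation with two permutations of three cosets -/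
theorem three {Q : Type*} [Group Q] {a b s t : Q} (hab : a * b = b * a) (ha : a * a = 1)
    (hb : b * b = 1) (hne : a ≠ b) (hta : t * a * t⁻¹ = a * b) (htb : t * b * t⁻¹ = b)
    (hsa : s * a * s⁻¹ = b) (hsb : s * b * s⁻¹ = a ∨ s * b * s⁻¹ = a * b ∨ s * b * s⁻¹ = b ∨
      s * b * s⁻¹ = 1) (hb1 : b ≠ 1) :
    (∃ k, (k = s * t * s⁻¹ * t⁻¹ ∨ k = (s * t * s⁻¹ * t⁻¹)⁻¹) ∧ k * a * k⁻¹ = b ∧
      k * b * k⁻¹ = b * a) := by
  have e1 : s⁻¹ * b * s = a := by rw [← hsa]; group
  have e2 : t⁻¹ * b * t = b := by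
    calc t⁻¹ * b * t = t⁻¹ * (t * b * t⁻¹) * t := by rw [htb]
      _ = b := by group
  have e3 : t⁻¹ * a * t = a * b := by
    have h1 : t⁻¹ * (t * a * t⁻¹) * t = a := by group
    rw [hta] at h1
    have h2 : t⁻¹ * (a * b) * t = (t⁻¹ * a * t) * (t⁻¹ * b * t) := by group
    rw [h2, e2] at h1
    calc t⁻¹ * a * t = (t⁻¹ * a * t) * (b * b) := by rw [hb, mul_one]
      _ = (t⁻¹ * a * t * b) * b := by rw [← mul_assoc]
      _ = a * b := by rw [h1]
  have hba : b * a = a * b := hab.symm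
  have hbab : b * (a * b) = a := by rw [← mul_assoc, hba, mul_assoc, hb, mul_one]
  rcases hsb with h1 | h1 | h1 | h1
  · -- `s` interchanges `a` and `b`
    have e4 : s⁻¹ * a * s = b := by
      calc s⁻¹ * a * s = s⁻¹ * (s * b * s⁻¹) * s := by rw [h1]
        _ = b := by group
    refine ⟨_, Or.inl rfl, ?_, ?_⟩
    · calc s * t * s⁻¹ * t⁻¹ * a * (s * t * s⁻¹ * t⁻¹)⁻¹
          = s * (t * (s⁻¹ * (t⁻¹ * a * t) * s) * t⁻¹) * s⁻¹ := by group
        _ = s * (t * ((s⁻¹ * a * s) * (s⁻¹ * b * s)) * t⁻¹) * s⁻¹ := by rw [e3]; group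
        _ = s * ((t * b * t⁻¹) * (t * a * t⁻¹)) * s⁻¹ := by rw [e1, e4]; group
        _ = s * (b * (a * b)) * s⁻¹ := by rw [hta, htb]
        _ = s * a * s⁻¹ := by rw [hbab]
        _ = b := hsa
    · calc s * t * s⁻¹ * t⁻¹ * b * (s * t * s⁻¹ * t⁻¹)⁻¹
          = s * (t * (s⁻¹ * (t⁻¹ * b * t) * s) * t⁻¹) * s⁻¹ := by group
        _ = s * (t * a * t⁻¹) * s⁻¹ := by rw [e2, e1]
        _ = (s * a * s⁻¹) * (s * b * s⁻¹) := by rw [hta]; group
        _ = b * a := by rw [hsa, h1]
  · -- `s : a → b → ab → a`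
    have e4 : s * (a * b) * s⁻¹ = a := by
      calc s * (a * b) * s⁻¹ = (s * a * s⁻¹) * (s * b * s⁻¹) := by group
        _ = b * (a * b) := by rw [hsa, h1]
        _ = a := by rw [← mul_assoc, hba, mul_assoc, hb, mul_one]
    refine ⟨_, Or.inr rfl, ?_, ?_⟩
    · -- `k⁻¹ : b → a`
      have h2 : (s * t * s⁻¹ * t⁻¹) * b * (s * t * s⁻¹ * t⁻¹)⁻¹ = a := by
        calc s * t * s⁻¹ * t⁻¹ * b * (s * t * s⁻¹ * t⁻¹)⁻¹
            = s * (t * (s⁻¹ * (t⁻¹ * b * t) * s) * t⁻¹) * s⁻¹ := by group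
          _ = s * (t * a * t⁻¹) * s⁻¹ := by rw [e2, e1]
          _ = a := by rw [hta, e4]
      calc (s * t * s⁻¹ * t⁻¹)⁻¹ * a * (s * t * s⁻¹ * t⁻¹)⁻¹⁻¹
          = (s * t * s⁻¹ * t⁻¹)⁻¹ * ((s * t * s⁻¹ * t⁻¹) * b * (s * t * s⁻¹ * t⁻¹)⁻¹) *
            (s * t * s⁻¹ * t⁻¹) := by rw [h2, inv_inv]
        _ = b := by group
    · -- `k : a → ab`, `ab → b`
      have e5 : s⁻¹ * (a * b) * s = b := by
        calc s⁻¹ * (a * b) * s = s⁻¹ * (s * b * s⁻¹) * s := by rw [h1]
          _ = b := by group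
      have h2 : (s * t * s⁻¹ * t⁻¹) * a * (s * t * s⁻¹ * t⁻¹)⁻¹ = a * b := by
        calc s * t * s⁻¹ * t⁻¹ * a * (s * t * s⁻¹ * t⁻¹)⁻¹
            = s * (t * (s⁻¹ * (t⁻¹ * a * t) * s) * t⁻¹) * s⁻¹ := by group
          _ = s * (t * b * t⁻¹) * s⁻¹ := by rw [e3, e5]
          _ = a * b := by rw [htb, h1]
      have h3 : (s * t * s⁻¹ * t⁻¹) * b * (s * t * s⁻¹ * t⁻¹)⁻¹ = a := by
        calc s * t * s⁻¹ * t⁻¹ * b * (s * t * s⁻¹ * t⁻¹)⁻¹
            = s * (t * (s⁻¹ * (t⁻¹ * b * t) * s) * t⁻¹) * s⁻¹ := by group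
          _ = s * (t * a * t⁻¹) * s⁻¹ := by rw [e2, e1]
          _ = a := by rw [hta, e4]
      have h4 : (s * t * s⁻¹ * t⁻¹) * (b * a) * (s * t * s⁻¹ * t⁻¹)⁻¹ = b := by
        calc (s * t * s⁻¹ * t⁻¹) * (b * a) * (s * t * s⁻¹ * t⁻¹)⁻¹
            = ((s * t * s⁻¹ * t⁻¹) * b * (s * t * s⁻¹ * t⁻¹)⁻¹) *
              ((s * t * s⁻¹ * t⁻¹) * a * (s * t * s⁻¹ * t⁻¹)⁻¹) := by group
          _ = a * (a * b) := by rw [h3, h2]
          _ = b := by rw [← mul_assoc, ha, one_mul]
      calc (s * t * s⁻¹ * t⁻¹)⁻¹ * b * (s * t * s⁻¹ * t⁻¹)⁻¹⁻¹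
          = (s * t * s⁻¹ * t⁻¹)⁻¹ * ((s * t * s⁻¹ * t⁻¹) * (b * a) * (s * t * s⁻¹ * t⁻¹)⁻¹) *
            (s * t * s⁻¹ * t⁻¹) := by rw [h4, inv_inv]
        _ = b * a := by group
  · exfalso
    apply hne
    have h2 : s * a * s⁻¹ = s * b * s⁻¹ := by rw [hsa, h1]
    simpa using h2
  · exfalso
    apply hb1
    have h2 : s⁻¹ * (s * b * s⁻¹) * s = b := by group
    rw [h1] at h2
    rw [← h2]; group

end quot

theorem fq1 : allb 1024 (fun e => !(sb e kAE) || sb e kA1 || sb (mu e (iv 8)) kA1 ||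
    sb (mu e (iv 64)) kA1 || sb (mu e (iv 72)) kA1) = true := by decide +kernel

/-- an element of `N(A1)` with `x45 ↦ x35` normalising `A1 E` and `U1` gives the 3-cycle. -/
theorem act3_of [Finite G] {S : Subgroup G} (h : Emb S u) {g : G}
    (hA : g ∈ normalizer (CS u kA1 : Set G)) (hAE : g ∈ normalizer (CS u kAE : Set G))
    (hU : g ∈ normalizer (CS u kU1 : Set G)) (hg : g * u x45 * g⁻¹ * (u x35)⁻¹ ∈ CS u kA1) :
    ∃ k, Act3 u k := by
  set A := CS u kA1 with hAdef
  set N : Subgroup G := normalizer (A : Set G) with hNdef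
  have hAN : A ≤ N := Subgroup.le_normalizer
  have hnorm : (A.subgroupOf N).Normal := Subgroup.normal_in_normalizer
  let q : N →* N ⧸ A.subgroupOf N := QuotientGroup.mk' _
  have hq : ∀ x y : N, q x = q y ↔ (x : G) * (y : G)⁻¹ ∈ A := by
    intro x y
    have h1 : q x = q y ↔ q (x * y⁻¹) = 1 := by
      rw [map_mul, map_inv, mul_inv_eq_one]
    rw [h1]
    have h2 : q (x * y⁻¹) = 1 ↔ x * y⁻¹ ∈ A.subgroupOf N := QuotientGroup.eq_one_iff _
    rw [h2, Subgroup.mem_subgroupOf]
    rfl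
  have hSN : S ≤ N := S_le_nA h
  have m : ∀ a, a < 1024 → u a ∈ N := fun a ha => hSN (h.mem ha)
  let s : N := ⟨g, hA⟩
  let x4 : N := ⟨u x34, m _ (by norm_num)⟩
  let x8 : N := ⟨u x45, m _ (by norm_num)⟩
  let x64 : N := ⟨u x35, m _ (by norm_num)⟩
  have key : ∀ a b, a < 1024 → b < 1024 → sb (mu a (iv b)) kA1 = true → u a * (u b)⁻¹ ∈ A := by
    intro a b ha hb hab
    rw [← inv_eq h hb, ← h.mul ha (iv_lt hb), hAdef, u_mem_CS h closed_kA1 (mu_lt ha (iv_lt hb))]
    exact hab
  have hab : q x8 * q x64 = q x64 * q x8 := by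
    rw [← map_mul, ← map_mul, hq]
    show u x45 * u x35 * (u x35 * u x45)⁻¹ ∈ A
    rw [← h.mul (by norm_num) (by norm_num), ← h.mul (by norm_num) (by norm_num)]
    exact key _ _ (by decide) (by decide) (by decide)
  have ha : q x8 * q x8 = 1 := by
    rw [← map_mul, ← map_one q, hq]
    show u x45 * u x45 * (1 : G)⁻¹ ∈ A
    rw [← h.mul (by norm_num) (by norm_num), ← h.zero]
    exact key _ _ (by decide) (by decide) (by decide)
  have hb : q x64 * q x64 = 1 := by
    rw [← map_mul, ← map_one q, hq]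
    show u x35 * u x35 * (1 : G)⁻¹ ∈ A
    rw [← h.mul (by norm_num) (by norm_num), ← h.zero]
    exact key _ _ (by decide) (by decide) (by decide)
  have hne : q x8 ≠ q x64 := by
    rw [Ne, hq]
    show ¬ (u x45 * (u x35)⁻¹ ∈ A)
    rw [← inv_eq h (by norm_num), ← h.mul (by norm_num) (iv_lt (by norm_num)), hAdef,
      u_mem_CS h closed_kA1 (mu_lt (by norm_num) (iv_lt (by norm_num)))]
    decide
  have hb1 : q x64 ≠ 1 := by
    rw [← map_one q, Ne, hq]
    show ¬ (u x35 * (1 : G)⁻¹ ∈ A)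
    rw [inv_one, mul_one, hAdef, u_mem_CS h closed_kA1 (by norm_num)]
    decide
  have hta : q x4 * q x8 * (q x4)⁻¹ = q x8 * q x64 := by
    rw [← map_mul, ← map_inv, ← map_mul, ← map_mul, hq]
    show u x34 * u x45 * (u x34)⁻¹ * (u x45 * u x35)⁻¹ ∈ A
    rw [← cc_u h (by norm_num) (by norm_num), ← h.mul (by norm_num) (by norm_num)]
    exact key _ _ (cc_lt (by norm_num) (by norm_num)) (mu_lt (by norm_num) (by norm_num))
      (by decide)
  have htb : q x4 * q x64 * (q x4)⁻¹ = q x64 := by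
    rw [← map_mul, ← map_inv, ← map_mul, hq]
    show u x34 * u x35 * (u x34)⁻¹ * (u x35)⁻¹ ∈ A
    rw [← cc_u h (by norm_num) (by norm_num)]
    exact key _ _ (cc_lt (by norm_num) (by norm_num)) (by norm_num) (by decide)
  have hsa : q s * q x8 * (q s)⁻¹ = q x64 := by
    rw [← map_mul, ← map_inv, ← map_mul, hq]
    exact hg
  have hsb : q s * q x64 * (q s)⁻¹ = q x8 ∨ q s * q x64 * (q s)⁻¹ = q x8 * q x64 ∨
      q s * q x64 * (q s)⁻¹ = q x64 ∨ q s * q x64 * (q s)⁻¹ = 1 := by
    have h1 : g * u x35 * g⁻¹ ∈ CS u kAE := (Subgroup.mem_normalizer_iff.1 hAE _).1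
      ((u_mem_CS h closed_kAE (by norm_num)).2 (by decide))
    obtain ⟨e, he, heK, heg⟩ := of_mem h closed_kAE h1
    have h2 := of_allb fq1 e he
    rw [heK] at h2
    simp only [Bool.not_true, Bool.false_or, Bool.or_eq_true] at h2
    have h3 : ∀ y : N, (q s * q x64 * (q s)⁻¹ = q y ↔ u e * (y : G)⁻¹ ∈ A) := by
      intro y
      rw [← map_mul, ← map_inv, ← map_mul, hq, heg]
      rfl
    rcases h2 with ((h2 | h2) | h2) | h2
    · right; right; right
      rw [← map_one q, h3]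
      show u e * (1 : G)⁻¹ ∈ A
      rw [inv_one, mul_one, hAdef, u_mem_CS h closed_kA1 he]
      exact h2
    · left
      rw [h3]
      exact key _ _ he (by norm_num) h2
    · right; right; left
      rw [h3]
      exact key _ _ he (by norm_num) h2
    · right; left
      have h4 := (h3 (x8 * x64)).2 (by
        show u e * (u x45 * u x35)⁻¹ ∈ A
        rw [← h.mul (by norm_num) (by norm_num)]
        exact key _ _ he (by decide) h2)
      rwa [map_mul] at h4
  obtain ⟨k, hk, hk1, hk2⟩ := three hab ha hb hne hta htb hsa hsb hb1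
  -- the lift
  have hx4AE : u x34 ∈ normalizer (CS u kAE : Set G) := S_le_nAE h (h.mem (by norm_num))
  let k₀ : N := s * x4 * s⁻¹ * x4⁻¹
  have hcU : ∀ w ∈ CS u kU1, (k₀ : G) * w = w * (k₀ : G) := by
    intro w hw
    have c4 : ∀ w ∈ CS u kU1, u x34 * w = w * u x34 := by
      intro w hw
      obtain ⟨a, ha, haK, rfl⟩ := of_mem h closed_kU1 hw
      have := of_allb (P := fun a => !(sb a kU1) || co 4 a) (N := 1024) (by decide +kernel) a ha
      rw [haK] at this
      simp only [Bool.not_true, Bool.false_or] at this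
      exact (co_iff h (by norm_num) ha).1 this
    have h1 : g⁻¹ * w * g ∈ CS u kU1 := by
      have := (Subgroup.mem_normalizer_iff.1 (Subgroup.inv_mem _ hU) w).1 hw
      rwa [inv_inv] at this
    have h2 := c4 _ h1
    have h3 := c4 _ hw
    have h4 : (u x34)⁻¹ * w = w * (u x34)⁻¹ := by
      rw [inv_mul_eq_iff_eq_mul, ← mul_assoc, h3, mul_inv_cancel_right]
    show g * u x34 * g⁻¹ * (u x34)⁻¹ * w = w * (g * u x34 * g⁻¹ * (u x34)⁻¹)
    calc g * u x34 * g⁻¹ * (u x34)⁻¹ * w = g * u x34 * g⁻¹ * ((u x34)⁻¹ * w) := by group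
      _ = g * (u x34 * (g⁻¹ * w * g)) * g⁻¹ * (u x34)⁻¹ := by rw [h4]; group
      _ = w * (g * u x34 * g⁻¹ * (u x34)⁻¹) := by rw [h2]; group
  have hk0AE : (k₀ : G) ∈ normalizer (CS u kAE : Set G) :=
    Subgroup.mul_mem _ (Subgroup.mul_mem _ (Subgroup.mul_mem _ hAE hx4AE) (Subgroup.inv_mem _ hAE))
      (Subgroup.inv_mem _ hx4AE)
  have hk0 : q k₀ = q s * q x4 * (q s)⁻¹ * (q x4)⁻¹ := by
    simp only [k₀, map_mul, map_inv]
  have m15 : u x15 ∈ CS u kU1 := (u_mem_CS h closed_kU1 (by norm_num)).2 (by decide)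
  have m25 : u x25 ∈ CS u kU1 := (u_mem_CS h closed_kU1 (by norm_num)).2 (by decide)
  have fin : ∀ k' : N, q k' = k → (∀ w ∈ CS u kU1, (k' : G) * w = w * (k' : G)) →
      (k' : G) ∈ normalizer (CS u kAE : Set G) → Act3 u (k' : G) := by
    intro k' hk' h1 h2
    rw [← hk'] at hk1 hk2
    refine ⟨h1 _ m15, h1 _ m25, k'.2, h2, ?_, ?_⟩
    · have h3 : q (k' * x8 * k'⁻¹) = q x64 := by rw [map_mul, map_mul, map_inv]; exact hk1
      exact (hq _ _).1 h3
    · have h3 : q (k' * x64 * k'⁻¹) = q (x64 * x8) := by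
        rw [map_mul, map_mul, map_inv, map_mul]; exact hk2
      exact (hq _ _).1 h3
  rcases hk with hk | hk
  · exact ⟨k₀, fin k₀ (by rw [hk0, hk]) hcU hk0AE⟩
  · refine ⟨(k₀⁻¹ : N), fin k₀⁻¹ (by rw [map_inv, hk0, hk]) ?_ ?_⟩
    · intro w hw
      have h1 := hcU w hw
      show ((k₀ : G))⁻¹ * w = w * ((k₀ : G))⁻¹
      rw [inv_mul_eq_iff_eq_mul, ← mul_assoc, h1, mul_inv_cancel_right]
    · exact Subgroup.inv_mem _ hk0AE

/-! ### Two subgroups centralising `D1` -/

theorem fS3 : allb 1024 (fun c => !(sb c kS3) || sb (cm c 8) kA1) = true := by decide +kernel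

theorem fD : allb 1024 (fun a => !(sb a kA1) || !(co a 8) || sb a kD1) = true := by decide +kernel

theorem fc1 : allb 1024 (fun c => !(sb c kJ) || sb c kA1 || (!(tb c 2) && tb c 6 && sb c 1010) ||
    (tb c 2 && sb c 950) || (tb c 2 && sb (cc 8 c) 950 && tb (cc 8 c) 2)) = true := by
  decide +kernel

theorem fc2 : allb 1024 (fun c => !(sb c 1010) || !(tb c 6) || sb (mu c (iv 64)) kA1) = true := by
  decide +kernel

/-- the elements of `N(A1)` centralising `x45` modulo `A1` -/
def T1 (u : ℕ → G) : Subgroup G where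
  carrier := {g | g ∈ normalizer (CS u kA1 : Set G) ∧ g * u x45 * g⁻¹ * (u x45)⁻¹ ∈ CS u kA1}
  one_mem' := ⟨Subgroup.one_mem _, by simp⟩
  mul_mem' := by
    rintro a b ⟨ha, ha'⟩ ⟨hb, hb'⟩
    refine ⟨Subgroup.mul_mem _ ha hb, ?_⟩
    have h1 : a * b * u x45 * (a * b)⁻¹ * (u x45)⁻¹
        = a * (b * u x45 * b⁻¹ * (u x45)⁻¹) * a⁻¹ * (a * u x45 * a⁻¹ * (u x45)⁻¹) := by group
    rw [h1]
    exact Subgroup.mul_mem _ ((Subgroup.mem_normalizer_iff.1 ha _).1 hb') ha'
  inv_mem' := by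
    rintro a ⟨ha, ha'⟩
    refine ⟨Subgroup.inv_mem _ ha, ?_⟩
    have h1 : a⁻¹ * u x45 * a⁻¹⁻¹ * (u x45)⁻¹
        = (a⁻¹ * (a * u x45 * a⁻¹ * (u x45)⁻¹) * a⁻¹⁻¹)⁻¹ := by group
    rw [h1]
    exact Subgroup.inv_mem _ ((Subgroup.mem_normalizer_iff.1 (Subgroup.inv_mem _ ha) _).1 ha')

theorem lemmaA [Finite G] (S : Sylow 2 G) (h : Emb (S : Subgroup G) u)
    (w1 : WeakCl ⊤ (CS u kA1) S) {P : Subgroup G} (hP : IsPGroup 2 P) (hRP : CS u kR ≤ P)
    (hPD : ∀ p ∈ P, ∀ d ∈ CS u kD1, p * d = d * p) (hc : 128 < Nat.card P) : ∃ k, Act3 u k := by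
  have f2 : Fact (Nat.Prime 2) := ⟨Nat.prime_two⟩
  set A := CS u kA1 with hAdef
  set N : Subgroup G := normalizer (A : Set G) with hNdef
  have hSN : (S : Subgroup G) ≤ N := S_le_nA h
  have hconjA : ∀ {g x : G}, g ∈ N → (x ∈ A ↔ g * x * g⁻¹ ∈ A) := fun hg =>
    Subgroup.mem_normalizer_iff.1 hg _
  have hAP : A ≤ P := A_le_R.trans hRP
  have hPN : P ≤ N := by
    intro r hr
    exact cj_eq_iff.1 (normalizes' (isMaxP_sylow S) w1 hP le_top hAP hr)
  have hSNmax : IsMaxP 2 N (S : Subgroup G) := isMaxP_of_le S hSN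
  have h45R : u x45 ∈ CS u kR := (u_mem_CS h closed_kR (by norm_num)).2 (by decide)
  -- application of `fact_I`
  have app : ∀ g ∈ N, ∀ P' : Subgroup G, cj g P' ≤ (S : Subgroup G) → 128 < Nat.card P' →
      (∀ p ∈ P', ∀ d ∈ CS u kD1, p * d = d * p) → cj g P' ≤ CS u kJ := by
    intro g hg P' hle hc' hPD'
    have h1 := fact_I h (D' := cj g (CS u kD1)) (P := cj g P') (by
      rw [cj_le_iff]
      intro x hx
      exact (hconjA hg).1 (D_le_A hx)) (by rw [card_cj, card_D h]) hle (by rw [card_cj]; exact hc') (by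
      rintro _ ⟨p, hp, rfl⟩ _ ⟨d, hd, rfl⟩
      show g * p * g⁻¹ * (g * d * g⁻¹) = g * d * g⁻¹ * (g * p * g⁻¹)
      calc g * p * g⁻¹ * (g * d * g⁻¹) = g * (p * d) * g⁻¹ := by group
        _ = g * (d * p) * g⁻¹ := by rw [hPD' p hp d hd]
        _ = g * d * g⁻¹ * (g * p * g⁻¹) := by group)
    exact h1.2
  have hPT : P ≤ T1 u := by
    obtain ⟨g, hg, hgS⟩ := hSNmax.exists_conj_le hP hPN
    have hJ := app g hg P hgS hc hPD
    intro p hp
    refine ⟨hPN hp, ?_⟩
    have h1 : g * p * g⁻¹ ∈ CS u kJ := hJ (conj_mem_cj hp)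
    have h2 : g * u x45 * g⁻¹ ∈ CS u kJ := hJ (conj_mem_cj (hRP h45R))
    have h3 := comm_J h h1 h2
    rw [hconjA hg]
    have h4 : g * (p * u x45 * p⁻¹ * (u x45)⁻¹) * g⁻¹ = g * p * g⁻¹ * (g * u x45 * g⁻¹) *
        (g * p * g⁻¹)⁻¹ * (g * u x45 * g⁻¹)⁻¹ := by group
    rw [h4]
    exact h3
  have hR3T : CS u kS3 ≤ T1 u := by
    intro x hx
    refine ⟨hSN (h.CS_le _ hx), ?_⟩
    obtain ⟨c, hc, hcK, rfl⟩ := of_mem h closed_kS3 hx
    have h1 := of_allb fS3 c hc
    rw [hcK] at h1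
    simp only [Bool.not_true, Bool.false_or] at h1
    rw [← cm_u h hc (by norm_num), u_mem_CS h closed_kA1 (cm_lt hc (by norm_num))]
    exact h1
  have hTN : T1 u ≤ N := fun x hx => hx.1
  obtain ⟨P1, hP1, hR3P1⟩ := exists_isMaxP (isP_of_le h (h.CS_le kS3)) hR3T
  obtain ⟨c, hcT, hcP⟩ := hP1.exists_conj_le hP hPT
  obtain ⟨g, hg, hgS⟩ := hSNmax.exists_conj_le hP1.1 (hP1.2.1.trans hTN)
  -- `c` normalises `D1`
  have hcD : cj c (CS u kD1) = CS u kD1 := by
    apply cj_eq_of_le _ le_rfl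
    rw [cj_le_iff]
    intro d hd
    have h1 : c * d * c⁻¹ ∈ A := (hconjA hcT.1).1 (D_le_A hd)
    have h2 : u x45 ∈ CS u kB1 := (u_mem_CS h closed_kB1 (by norm_num)).2 (by decide)
    have h3 := comm_B h _ (D_le_B hd) _ h2
    have h4 := comm_A h _ h1 _ hcT.2
    have h5 : c * d * c⁻¹ * u x45 = u x45 * (c * d * c⁻¹) := by
      have h6 : c * d * c⁻¹ * (c * u x45 * c⁻¹ * (u x45)⁻¹) * u x45
          = (c * u x45 * c⁻¹ * (u x45)⁻¹) * (u x45 * (c * d * c⁻¹)) := by
        calc c * d * c⁻¹ * (c * u x45 * c⁻¹ * (u x45)⁻¹) * u x45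
            = c * (d * u x45) * c⁻¹ := by group
          _ = c * (u x45 * d) * c⁻¹ := by rw [h3]
          _ = (c * u x45 * c⁻¹ * (u x45)⁻¹) * (u x45 * (c * d * c⁻¹)) := by group
      rw [h4, mul_assoc] at h6
      exact mul_left_cancel h6
    obtain ⟨a, ha, haK, hae⟩ := of_mem h closed_kA1 h1
    rw [← hae] at h5 ⊢
    rw [u_mem_CS h closed_kD1 ha]
    have h7 := of_allb fD a ha
    rw [haK, (co_iff h ha (by norm_num)).2 h5] at h7
    simpa using h7
  have hJ : cj g (cj c P) ≤ CS u kJ := by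
    apply app g hg (cj c P) ((cj_mono hcP).trans hgS) (by rw [card_cj]; exact hc)
    rintro _ ⟨p, hp, rfl⟩ d hd
    rw [← hcD] at hd
    obtain ⟨d, hd, rfl⟩ := hd
    show c * p * c⁻¹ * (c * d * c⁻¹) = c * d * c⁻¹ * (c * p * c⁻¹)
    calc c * p * c⁻¹ * (c * d * c⁻¹) = c * (p * d) * c⁻¹ := by group
      _ = c * (d * p) * c⁻¹ := by rw [hPD p hp d hd]
      _ = c * d * c⁻¹ * (c * p * c⁻¹) := by group
  have hAJ : A ≤ CS u kJ := CS_mono (by decide)
  have h45J : g * u x45 * g⁻¹ ∈ CS u kJ := by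
    have h1 : g * (c * u x45 * c⁻¹) * g⁻¹ ∈ CS u kJ := hJ (conj_mem_cj (conj_mem_cj (hRP h45R)))
    have h2 : g * (c * u x45 * c⁻¹ * (u x45)⁻¹) * g⁻¹ ∈ CS u kJ := hAJ ((hconjA hg).1 hcT.2)
    have h3 : g * u x45 * g⁻¹ = (g * (c * u x45 * c⁻¹ * (u x45)⁻¹) * g⁻¹)⁻¹ *
        (g * (c * u x45 * c⁻¹) * g⁻¹) := by group
    rw [h3]
    exact Subgroup.mul_mem _ (Subgroup.inv_mem _ h2) h1
  have h45A : g * u x45 * g⁻¹ ∉ A := by
    rw [← hconjA hg, hAdef, u_mem_CS h closed_kA1 (by norm_num)]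
    decide
  have hX : cj g (CS u kAE) ≤ (S : Subgroup G) := (cj_mono (AE_le_S3.trans hR3P1)).trans hgS
  obtain ⟨e, he, heK, hge⟩ := of_mem h closed_kJ h45J
  have heA : sb e kA1 = false := by
    rw [← hge, hAdef, u_mem_CS h closed_kA1 he] at h45A
    simpa using h45A
  have h1 := of_allb fc1 e he
  rw [heK, heA] at h1
  simp only [Bool.not_true, Bool.false_or, Bool.or_eq_true, Bool.and_eq_true,
    Bool.not_eq_true'] at h1
  rcases h1 with (h1 | h1) | h1
  · obtain ⟨h2, h3⟩ := of_35 h hg hX he h1.2 h1.1.2 hge.symm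
    apply act3_of h hg h2 h3
    have h4 := of_allb fc2 e he
    rw [h1.2, h1.1.2] at h4
    simp only [Bool.not_true, Bool.false_or] at h4
    rw [← hge, ← inv_eq h (by norm_num), ← h.mul he (iv_lt (by norm_num)),
      u_mem_CS h closed_kA1 (mu_lt he (iv_lt (by norm_num)))]
    exact h4
  · exact (no_34 h hg hX he h1.2 h1.1 hge.symm).elim
  · exfalso
    have h8S : u x45 ∈ (S : Subgroup G) := h.mem (by norm_num)
    apply no_34 h (g := u x45 * g) (Subgroup.mul_mem _ (hSN h8S) hg) _ (cc_lt (by norm_num) he)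
      h1.1.2 h1.2 (c := cc 8 e)
    · rw [cc_u h (by norm_num) he, hge]
      group
    · rw [cj_mul, cj_le_iff]
      intro x hx
      exact Subgroup.mul_mem _ (Subgroup.mul_mem _ h8S (hX hx)) (Subgroup.inv_mem _ h8S)

theorem fR1 : allb 1024 (fun a => !(sb a kR) || (sb (cm a 8) kD1 && allb 1024 fun d =>
    !(sb d kD1) || co a d)) = true := by decide +kernel

theorem fR2 : allb 1024 (fun a => !(sb a kR) || allb 1024 fun d =>
    !(sb d kA1) || sb (cm a d) kD1) = true := by decide +kernel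

theorem comm_RD [Finite G] {S : Subgroup G} (h : Emb S u) :
    ∀ r ∈ CS u kR, ∀ d ∈ CS u kD1, r * d = d * r := by
  intro r hr d hd
  obtain ⟨a, ha, haK, rfl⟩ := of_mem h closed_kR hr
  obtain ⟨b, hb, hbK, rfl⟩ := of_mem h closed_kD1 hd
  have h1 := of_allb fR1 a ha
  rw [haK] at h1
  simp only [Bool.not_true, Bool.false_or, Bool.and_eq_true] at h1
  have h2 := of_allb h1.2 b hb
  rw [hbK] at h2
  simp only [Bool.not_true, Bool.false_or] at h2
  exact (co_iff h ha hb).1 h2

/-- a subgroup commuting with `D1` -/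
theorem le_cent {D P : Subgroup G} (h : ∀ r ∈ P, ∀ d ∈ D, r * d = d * r) :
    P ≤ centralizer (D : Set G) := by
  intro r hr
  rw [mem_centralizer_iff]
  intro d hd
  exact (h r hr d hd).symm

theorem cent_comm {D P : Subgroup G} (h : P ≤ centralizer (D : Set G)) :
    ∀ r ∈ P, ∀ d ∈ D, r * d = d * r := by
  intro r hr d hd
  exact (mem_centralizer_iff.1 (h hr) d hd).symm

/-- if `B1^g ≤ X`, `X` abelian, then `X^(g⁻¹)` centralises `D1`. -/
theorem cj_inv_le {X : Subgroup G} (hX : ∀ x ∈ X, ∀ y ∈ X, x * y = y * x) {g : G}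
    (hg : cj g (CS u kB1) ≤ X) : cj g⁻¹ X ≤ centralizer (CS u kD1 : Set G) := by
  apply le_cent
  intro r hr d hd
  rw [mem_cj, inv_inv] at hr
  have h1 : g * d * g⁻¹ ∈ X := hg (conj_mem_cj (D_le_B hd))
  have h2 := hX _ hr _ h1
  have h3 : g * (r * d) * g⁻¹ = g * (d * r) * g⁻¹ := by
    calc g * (r * d) * g⁻¹ = g * r * g⁻¹ * (g * d * g⁻¹) := by group
      _ = g * d * g⁻¹ * (g * r * g⁻¹) := h2
      _ = g * (d * r) * g⁻¹ := by group
  exact mul_left_cancel (mul_right_cancel h3)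

theorem lemmaB1 [Finite G] (S : Sylow 2 G) (h : Emb (S : Subgroup G) u)
    (w1 : WeakCl ⊤ (CS u kA1) S) {g : G} (hg : cj g (CS u kB1) ≤ CS u kA1) : ∃ k, Act3 u k := by
  have f2 : Fact (Nat.Prime 2) := ⟨Nat.prime_two⟩
  have hRM : CS u kR ≤ centralizer (CS u kD1 : Set G) := le_cent (comm_RD h)
  obtain ⟨P, hP, hRP⟩ := exists_isMaxP (isP_of_le h (h.CS_le kR)) hRM
  by_cases hc : 128 < Nat.card P
  · exact lemmaA S h w1 hP.1 hRP (cent_comm hP.2.1) hc
  exfalso
  have hPR : CS u kR = P := Subgroup.eq_of_le_of_card_ge hRP (by rw [card_R h]; omega)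
  rw [← hPR] at hP
  obtain ⟨m, hm, hm2⟩ := exists_conj_in (isMaxP_sylow S) w1 le_top (x := 1) (y := g⁻¹) trivial
    trivial (M := centralizer (CS u kD1 : Set G)) (by rw [cj_one]; exact A_le_R.trans hRM)
    (cj_inv_le (comm_A h) hg)
  rw [cj_one] at hm2
  have h45B : u x45 ∈ CS u kB1 := (u_mem_CS h closed_kB1 (by norm_num)).2 (by decide)
  have h1 : u x45 ∈ cj g⁻¹ (CS u kA1) := by
    rw [mem_cj, inv_inv]
    exact hg (conj_mem_cj h45B)
  rw [← hm2, mem_cj] at h1
  obtain ⟨n, hn, hnR, hnt⟩ := exists_burnside hP (D := CS u kD1) (t := u x45)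
    (t' := m⁻¹ * u x45 * m) (c := m⁻¹) (by
      intro x hx d hd
      have h2 := (mem_centralizer_iff.1 hx d hd)
      rw [← h2, mul_inv_cancel_right]
      exact hd) (by
      intro r hr
      obtain ⟨a, ha, haK, rfl⟩ := of_mem h closed_kR hr
      have h2 := of_allb fR1 a ha
      rw [haK] at h2
      simp only [Bool.not_true, Bool.false_or, Bool.and_eq_true] at h2
      rw [← cm_u h ha (by norm_num), u_mem_CS h closed_kD1 (cm_lt ha (by norm_num))]
      exact h2.1) (by
      intro r hr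
      obtain ⟨a, ha, haK, rfl⟩ := of_mem h closed_kR hr
      obtain ⟨b, hb, hbK, hbe⟩ := of_mem h closed_kA1 h1
      have h2 := of_allb (of_allb fR2 a ha |> fun h => by rw [haK] at h; simpa using h) b hb
      rw [hbK] at h2
      simp only [Bool.not_true, Bool.false_or] at h2
      rw [← hbe, ← cm_u h ha hb, u_mem_CS h closed_kD1 (cm_lt ha hb)]
      exact h2) (Subgroup.inv_mem _ hm) (by group)
  have h2 : n * u x45 * n⁻¹ ∈ CS u kA1 := by
    have h3 : n * u x45 * n⁻¹ = (n * u x45 * n⁻¹ * (m⁻¹ * u x45 * m)⁻¹) * (m⁻¹ * u x45 * m) := by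
      group
    rw [h3]
    exact Subgroup.mul_mem _ (D_le_A hnt) h1
  have h3 : cj n (CS u kA1) = cj 1 (CS u kA1) := by
    apply eq_of_le (isMaxP_sylow S) w1 hP.1 le_top trivial trivial
    · calc cj n (CS u kA1) ≤ cj n (CS u kR) := cj_mono A_le_R
        _ = CS u kR := hnR
    · rw [cj_one]; exact A_le_R
  rw [cj_one] at h3
  rw [← h3, mem_cj] at h2
  have h4 : n⁻¹ * (n * u x45 * n⁻¹) * n = u x45 := by group
  rw [h4, u_mem_CS h closed_kA1 (by norm_num)] at h2
  exact absurd h2 (by decide)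

theorem lemmaB2 [Finite G] (S : Sylow 2 G) (h : Emb (S : Subgroup G) u)
    (w1 : WeakCl ⊤ (CS u kA1) S) (w2 : WeakCl ⊤ (CS u kA2) S) {g : G}
    (hg : cj g (CS u kB1) ≤ CS u kA2) : ∃ k, Act3 u k := by
  have f2 : Fact (Nat.Prime 2) := ⟨Nat.prime_two⟩
  have hRM : CS u kR ≤ centralizer (CS u kD1 : Set G) := le_cent (comm_RD h)
  obtain ⟨P, hP, hRP⟩ := exists_isMaxP (isP_of_le h (h.CS_le kR)) hRM
  by_cases hc : 128 < Nat.card P
  · exact lemmaA S h w1 hP.1 hRP (cent_comm hP.2.1) hc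
  exfalso
  have hPR : CS u kR = P := Subgroup.eq_of_le_of_card_ge hRP (by rw [card_R h]; omega)
  rw [← hPR] at hP
  obtain ⟨c, _, hc2⟩ := hP.exists_conj_le (isPGroup_cj (g := g⁻¹) (isP_of_le h (h.CS_le kA2)))
    (cj_inv_le (comm_A2 h) hg)
  replace hc2 : cj c (cj g⁻¹ (CS u kA2)) ≤ CS u kR := hc2
  rw [← cj_mul] at hc2
  have h1 := w2.2 (c * g⁻¹) trivial (hc2.trans (h.CS_le kR))
  rw [h1] at hc2
  have h2 : u x34 ∈ CS u kA2 := (u_mem_CS h closed_kA2 (by norm_num)).2 (by decide)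
  have h3 := hc2 h2
  rw [u_mem_CS h closed_kR (by norm_num)] at h3
  exact absurd h3 (by decide)

/-! ### The normalizer of `B1` -/

/-- a coordinate subgroup whose root elements normalise another one -/
theorem CS_le_normalizer_CS [Finite G] {S : Subgroup G} (h : Emb S u) {L K : ℕ}
    (hK : closedK K = true)
    (hL : closedK L = true)
    (hred : allb 1024 (fun a => Nat.beq a 0 || !(sb a L) ||
      anyb 10 fun k => force (Nat.pow 2 k) fun g => force (mu a g) fun b =>
        Nat.blt b a && Nat.beq (mu b g) a && sb b L && sb g L) = true)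
    (hf : allb 10 (fun k => force (Nat.pow 2 k) fun g => !(sb g L) || allb 1024 fun a =>
      !(sb a K) || sb (cc g a) K) = true) : CS u L ≤ normalizer (CS u K : Set G) := by
  have h2k : ∀ k, k < 10 → 2 ^ k < 1024 := by
    intro k hk
    calc 2 ^ k < 2 ^ 10 := Nat.pow_lt_pow_right (by norm_num) hk
      _ = 1024 := by norm_num
  have key : ∀ a, a < 1024 → sb a L = true → u a ∈ normalizer (CS u K : Set G) := by
    intro a
    induction a using Nat.strong_induction_on with
    | _ a ih =>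
      intro ha haL
      have h1 := of_allb hred a ha
      rw [haL] at h1
      simp only [Bool.or_eq_true, Nat.beq_eq, Bool.not_true, Bool.false_eq_true, or_false] at h1
      rcases h1 with h1 | h1
      · rw [h1, h.zero]; exact Subgroup.one_mem _
      · obtain ⟨k, hk, h2⟩ := of_anyb h1
        simp only [force_eq, Bool.and_eq_true, Nat.blt_eq, Nat.beq_eq, Nat.pow_eq] at h2
        obtain ⟨⟨⟨h3, h4⟩, h5⟩, h6⟩ := h2
        have hb := mu_lt ha (h2k k hk)
        rw [← h4, h.mul hb (h2k k hk)]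
        apply Subgroup.mul_mem _ (ih _ h3 hb h5)
        apply mem_normalizer_of_le
        intro x hx
        obtain ⟨c, hc, hcK, rfl⟩ := of_mem h hK hx
        show u (2 ^ k) * u c * (u (2 ^ k))⁻¹ ∈ _
        rw [← cc_u h (h2k k hk) hc, u_mem_CS h hK (cc_lt (h2k k hk) hc)]
        have h7 := of_allb hf k hk
        rw [force_eq] at h7
        have h6' : sb (2 ^ k) L = true := h6
        have h7' : (!(sb (2 ^ k) L) || allb 1024 fun a => !(sb a K) || sb (cc (2 ^ k) a) K) = true := h7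
        rw [h6'] at h7'
        simp only [Bool.not_true, Bool.false_or] at h7'
        have h8 := of_allb h7' c hc
        rw [hcK] at h8
        simpa using h8
  intro g hg
  obtain ⟨a, ha, haL, rfl⟩ := of_mem h hL hg
  exact key a ha haL

theorem S3_le_nB [Finite G] {S : Subgroup G} (h : Emb S u) :
    CS u kS3 ≤ normalizer (CS u kB1 : Set G) :=
  CS_le_normalizer_CS h closed_kB1 closed_kS3 (by decide +kernel) (by decide +kernel)

theorem S2_le_nB2 [Finite G] {S : Subgroup G} (h : Emb S u) :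
    CS u kS2 ≤ normalizer (CS u kB2 : Set G) :=
  CS_le_normalizer_CS h closed_kB2 closed_kS2 (by decide +kernel) (by decide +kernel)

theorem fnB : allb 1024 (fun c => !(sb (cc c 8) kB1) || sb c kS3) = true := by decide +kernel

theorem fnB2 : allb 1024 (fun c => !(sb (cc c 4) kB2) || sb c kS2) = true := by decide +kernel

theorem mem_S3_of [Finite G] {S : Subgroup G} (h : Emb S u) {s : G} (hs : s ∈ S)
    (hn : s ∈ normalizer (CS u kB1 : Set G)) : s ∈ CS u kS3 := by
  obtain ⟨c, hc, rfl⟩ := h.surj s hs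
  have h1 : u x45 ∈ CS u kB1 := (u_mem_CS h closed_kB1 (by norm_num)).2 (by decide)
  have h2 := (Subgroup.mem_normalizer_iff.1 hn _).1 h1
  rw [← cc_u h hc (by norm_num), u_mem_CS h closed_kB1 (cc_lt hc (by norm_num))] at h2
  have h3 := of_allb fnB c hc
  rw [h2] at h3
  rw [u_mem_CS h closed_kS3 hc]
  simpa using h3

theorem mem_S2_of [Finite G] {S : Subgroup G} (h : Emb S u) {s : G} (hs : s ∈ S)
    (hn : s ∈ normalizer (CS u kB2 : Set G)) : s ∈ CS u kS2 := by
  obtain ⟨c, hc, rfl⟩ := h.surj s hs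
  have h1 : u x34 ∈ CS u kB2 := (u_mem_CS h closed_kB2 (by norm_num)).2 (by decide)
  have h2 := (Subgroup.mem_normalizer_iff.1 hn _).1 h1
  rw [← cc_u h hc (by norm_num), u_mem_CS h closed_kB2 (cc_lt hc (by norm_num))] at h2
  have h3 := of_allb fnB2 c hc
  rw [h2] at h3
  rw [u_mem_CS h closed_kS2 hc]
  simpa using h3

/-- a conjugate of a normalising subgroup -/
theorem cj_le_normalizer {T B : Subgroup G} (hT : T ≤ normalizer (B : Set G)) (y : G) :
    cj y T ≤ normalizer (cj y B : Set G) := by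
  rw [cj_le_iff]
  intro t ht
  rw [← cj_eq_iff]
  have h1 := cj_eq_iff.2 (hT ht)
  have h2 : cj (y * t * y⁻¹) (cj y B) = cj y (cj t B) := by
    rw [← cj_mul, ← cj_mul]; congr 1; group
  rw [h2, h1]

/-- the four possibilities for a conjugate of `B1` -/
theorem cases_B [Finite G] (S : Sylow 2 G) (h : Emb (S : Subgroup G) u)
    (hno : ∀ y, ¬ cj y (CS u kB1) ≤ CS u kA1 ∧ ¬ cj y (CS u kB1) ≤ CS u kA2) {y : G}
    (hy : cj y (CS u kB1) ≤ (S : Subgroup G)) : ∃ s ∈ (S : Subgroup G),
      cj (s * y) (CS u kB1) = CS u kB1 ∨ cj (s * y) (CS u kB1) = CS u kB2 := by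
  have h34 : u x34 ∈ (S : Subgroup G) := h.mem (by norm_num)
  have h23 : u x23 ∈ (S : Subgroup G) := h.mem (by norm_num)
  rcases eq_of_card_32 h (cj y (CS u kB1)) hy (by
    rintro _ ⟨x, hx, rfl⟩
    show (y * x * y⁻¹) * (y * x * y⁻¹) = 1
    have : (y * x * y⁻¹) * (y * x * y⁻¹) = y * (x * x) * y⁻¹ := by group
    rw [this, sq_B h x hx]; group) (by rw [card_cj, card_B1 h]) with h1 | h1 | h1 | h1 | h1 | h1
  · exact absurd h1 (hno y).1
  · exact absurd h1 (hno y).2
  · exact ⟨1, Subgroup.one_mem _, Or.inl (by rw [one_mul, h1])⟩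
  · refine ⟨(u x34)⁻¹, Subgroup.inv_mem _ h34, Or.inl ?_⟩
    rw [cj_mul, h1, cj_inv_cj]
  · exact ⟨1, Subgroup.one_mem _, Or.inr (by rw [one_mul, h1])⟩
  · refine ⟨(u x23)⁻¹, Subgroup.inv_mem _ h23, Or.inr ?_⟩
    rw [cj_mul, h1, cj_inv_cj]

theorem lemmaC [Finite G] (S : Sylow 2 G) (h : Emb (S : Subgroup G) u)
    (hno : ∀ y, ¬ cj y (CS u kB1) ≤ CS u kA1 ∧ ¬ cj y (CS u kB1) ≤ CS u kA2) :
    IsMaxP 2 (normalizer (CS u kB1 : Set G)) (CS u kS3) := by
  have f2 : Fact (Nat.Prime 2) := ⟨Nat.prime_two⟩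
  obtain ⟨T, hT, hRT⟩ := exists_isMaxP (isP_of_le h (h.CS_le kS3)) (S3_le_nB h)
  obtain ⟨y, _, hy⟩ := (isMaxP_sylow S).exists_conj_le hT.1 le_top
  obtain ⟨s, hs, hsy⟩ := cases_B S h hno (y := y) ((cj_mono (B_le_S3.trans hRT)).trans hy)
  have hsT : cj (s * y) T ≤ (S : Subgroup G) := by
    rw [cj_mul, cj_le_iff]
    intro x hx
    exact Subgroup.mul_mem _ (Subgroup.mul_mem _ hs (hy hx)) (Subgroup.inv_mem _ hs)
  have hn := cj_le_normalizer hT.2.1 (s * y)
  have hcard : Nat.card T ≤ 512 := by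
    rw [← card_cj (s * y) T]
    rcases hsy with h1 | h1
    · rw [h1] at hn
      rw [← card_S3 h]
      exact Nat.card_le_card_of_injective _ (Subgroup.inclusion_injective
        (fun x hx => mem_S3_of h (hsT hx) (hn hx)))
    · rw [h1] at hn
      rw [← card_S2 h]
      exact Nat.card_le_card_of_injective _ (Subgroup.inclusion_injective
        (fun x hx => mem_S2_of h (hsT hx) (hn hx)))
  have hTR : CS u kS3 = T := Subgroup.eq_of_le_of_card_ge hRT (by rw [card_S3 h]; exact hcard)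
  rw [hTR]
  exact hT

/-! ### `N(B1)` normalises `D1` -/

/-- the normalizer acts on the subgroup (additively written) -/
@[reducible] def act (B : Subgroup G) :
    DistribMulAction (normalizer (B : Set G) : Subgroup G) (Additive B) where
  smul x w := Additive.ofMul ⟨(x : G) * (w.toMul : G) * (x : G)⁻¹,
    (Subgroup.mem_normalizer_iff.1 x.2 _).1 w.toMul.2⟩
  one_smul w := by
    apply Additive.toMul.injective
    apply Subtype.ext
    show (1 : G) * (w.toMul : G) * (1 : G)⁻¹ = w.toMul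
    group
  mul_smul x y w := by
    apply Additive.toMul.injective
    apply Subtype.ext
    show ((x : G) * y) * (w.toMul : G) * ((x : G) * y)⁻¹
      = (x : G) * ((y : G) * (w.toMul : G) * (y : G)⁻¹) * (x : G)⁻¹
    group
  smul_zero x := by
    apply Additive.toMul.injective
    apply Subtype.ext
    show (x : G) * (1 : G) * (x : G)⁻¹ = 1
    group
  smul_add x v w := by
    apply Additive.toMul.injective
    apply Subtype.ext
    show (x : G) * ((v.toMul : G) * (w.toMul : G)) * (x : G)⁻¹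
      = ((x : G) * (v.toMul : G) * (x : G)⁻¹) * ((x : G) * (w.toMul : G) * (x : G)⁻¹)
    group

theorem fT1 : allb 1024 (fun a => !(sb a kS3) || (co a 2 && co a 16 && co a 256 && co a 512) ||
    (!(co a 2) && !(co a 256) && !(Nat.beq (cm a 2) (cm a 256))) ||
    (!(co a 2) && !(co a 16) && !(Nat.beq (cm a 2) (cm a 16)))) = true := by decide +kernel

theorem fT2 : allb 1024 (fun a => !(sb a kB1) || sb a kD1 || allb 1024 fun b => !(sb b kB1) ||
    sb b kD1 || sb (mu a b) kD1) = true := by decide +kernel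

theorem fT3 : allb 1024 (fun a => !(sb a kB1) ||
    (cond (sb a kD1) (co 32 a && co 128 a && co 160 a)
      (Nat.beq (cm 32 a) 256 && Nat.beq (cm 128 a) 512 && Nat.beq (cm 160 a) 768))) = true := by
  decide +kernel

theorem fT4 : allb 1024 (fun a => !(sb a kD1) || allb 1024 fun b => !(sb b 786) || co a b) = true := by
  decide +kernel

/-- elements of `R3` with `[a, B1]` of order 2 centralise `D1` -/
theorem lemmaD [Finite G] (S : Sylow 2 G) (h : Emb (S : Subgroup G) u)
    (hmax : IsMaxP 2 (normalizer (CS u kB1 : Set G)) (CS u kS3)) :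
    normalizer (CS u kB1 : Set G) ≤ normalizer (CS u kD1 : Set G) := by
  have f2 : Fact (Nat.Prime 2) := ⟨Nat.prime_two⟩
  set B := CS u kB1 with hBdef
  set D := CS u kD1 with hDdef
  let i1 : AddCommGroup (Additive B) :=
    { (inferInstance : AddGroup (Additive B)) with
      add_comm := fun v w => by
        apply Additive.toMul.injective
        apply Subtype.ext
        exact comm_B h _ v.toMul.2 _ w.toMul.2 }
  let i2 : DistribMulAction (normalizer (B : Set G) : Subgroup G) (Additive B) := act B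
  have hsm : ∀ (x : (normalizer (B : Set G) : Subgroup G)) (w : Additive B),
      (((x • w : Additive B).toMul : B) : G) = (x : G) * (w.toMul : G) * (x : G)⁻¹ := fun _ _ => rfl
  have hsub : ∀ v w : Additive B, ((v - w).toMul : G) = (v.toMul : G) * (w.toMul : G)⁻¹ :=
    fun v w => by rw [toMul_sub, Subgroup.coe_div, div_eq_mul_inv]
  have hbot : ∀ v : Additive B, v ∈ (⊥ : AddSubgroup (Additive B)) ↔ (v.toMul : G) = 1 := by
    intro v
    rw [AddSubgroup.mem_bot]
    constructor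
    · rintro rfl; rfl
    · intro hv
      apply Additive.toMul.injective
      exact Subtype.ext hv
  have hcom : ∀ (x : (normalizer (B : Set G) : Subgroup G)) (w : Additive B),
      ((x • w - w).toMul : G) = (x : G) * (w.toMul : G) * (x : G)⁻¹ * (w.toMul : G)⁻¹ := by
    intro x w
    rw [hsub, hsm]
  -- the elements outside `D`
  have hout : ∀ x ∈ B, ∀ y ∈ B, x ∉ D → y ∉ D → x * y ∈ D := by
    intro x hx y hy hxD hyD
    obtain ⟨a, ha, haK, rfl⟩ := of_mem h closed_kB1 hx
    obtain ⟨b, hb, hbK, rfl⟩ := of_mem h closed_kB1 hy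
    have h1 : sb a kD1 = false := by
      rw [hDdef, u_mem_CS h closed_kD1 ha] at hxD; simpa using hxD
    have h2 : sb b kD1 = false := by
      rw [hDdef, u_mem_CS h closed_kD1 hb] at hyD; simpa using hyD
    have h3 := of_allb (of_allb fT2 a ha |> fun h => by rw [haK, h1] at h; simpa using h) b hb
    rw [hbK, h2] at h3
    simp only [Bool.not_true, Bool.false_or] at h3
    rw [← h.mul ha hb, hDdef, u_mem_CS h closed_kD1 (mu_lt ha hb)]
    exact h3
  have hB2 : ∀ w : Additive B, w + w = 0 := by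
    intro w
    apply Additive.toMul.injective
    apply Subtype.ext
    exact sq_B h _ w.toMul.2
  have key := Transv.axis_invariant (X := (normalizer (B : Set G) : Subgroup G)) (W := Additive B)
    hB2 ⊥ (by
      intro x z hz
      rw [AddSubgroup.mem_bot] at hz ⊢
      rw [hz, smul_zero]) hmax.toSylow {w | (w.toMul : G) ∈ D} (by
      -- transvections of `R3` have axis `D`
      intro s hs c' htr hne v
      have hs' : (s : G) ∈ CS u kS3 := hs
      obtain ⟨a, ha, haK, hae⟩ := of_mem h closed_kS3 hs'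
      have hTr : ∀ b, b < 1024 → sb b kB1 = true → u (cm a b) = 1 ∨ u (cm a b) = (c'.toMul : G) := by
        intro b hb hbK
        have h1 := htr (Additive.ofMul ⟨u b, (u_mem_CS h closed_kB1 hb).2 hbK⟩)
        rw [hbot, hbot, hcom, hsub, hcom] at h1
        rw [cm_u h ha hb, hae]
        rcases h1 with h1 | h1
        · exact Or.inl h1
        · exact Or.inr (mul_inv_eq_one.1 h1)
      have hco : ∀ b, b < 1024 → (co a b = true ↔ u (cm a b) = 1) := by
        intro b hb
        rw [co_iff h ha hb, cm_u h ha hb, mul_inv_eq_one, mul_inv_eq_iff_eq_mul]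
      have hD : ∀ d ∈ D, u a * d = d * u a := by
        have h1 := of_allb fT1 a ha
        rw [haK] at h1
        simp only [Bool.not_true, Bool.false_or, Bool.or_eq_true, Bool.and_eq_true,
          Bool.not_eq_true'] at h1
        have hbad : ∀ b b', b < 1024 → b' < 1024 → sb b kB1 = true → sb b' kB1 = true →
            co a b = false → co a b' = false → Nat.beq (cm a b) (cm a b') = false → False := by
          intro b b' hb hb' hbK hbK' h2 h3 h4
          have h5 : ∀ b, b < 1024 → sb b kB1 = true → co a b = false →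
              u (cm a b) = (c'.toMul : G) := by
            intro b hb hbK h2
            rcases hTr b hb hbK with h6 | h6
            · rw [← hco b hb, h2] at h6
              exact absurd h6 Bool.false_ne_true
            · exact h6
          have h7 := h.inj (cm_lt ha hb) (cm_lt ha hb') ((h5 b hb hbK h2).trans (h5 b' hb' hbK' h3).symm)
          rw [h7] at h4
          rw [Nat.beq_refl] at h4
          exact absurd h4.symm Bool.false_ne_true
        rcases h1 with (h1 | h1) | h1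
        · intro d hd
          -- `D` is generated by 2, 16, 256, 512
          obtain ⟨b, hb, hbK, rfl⟩ := of_mem h closed_kD1 hd
          have hZ : ∀ e, e < 1024 → co a e = true → u e ∈ centralizer {u a} := by
            intro e he h2
            rw [mem_centralizer_singleton_iff]
            exact ((co_iff h ha he).1 h2).symm
          have h2 : u b ∈ centralizer {u a} := by
            have m2 := hZ 2 (by norm_num) h1.1.1.1
            have m16 := hZ 16 (by norm_num) h1.1.1.2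
            have m256 := hZ 256 (by norm_num) h1.1.2
            have m512 := hZ 512 (by norm_num) h1.2
            have h3 := of_allb (P := fun b => !(sb b kD1) ||
              Nat.beq b (mu (mu (cond (tb b 1) 2 0) (cond (tb b 4) 16 0))
                (mu (cond (tb b 8) 256 0) (cond (tb b 9) 512 0)))) (N := 1024)
              (by decide +kernel) b hb
            rw [hbK] at h3
            simp only [Bool.not_true, Bool.false_or, Nat.beq_eq] at h3
            have hz : u 0 ∈ centralizer {u a} := by rw [h.zero]; exact Subgroup.one_mem _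
            have m2' : u (cond (tb b 1) 2 0) ∈ centralizer {u a} := by
              cases tb b 1
              · exact hz
              · exact m2
            have m16' : u (cond (tb b 4) 16 0) ∈ centralizer {u a} := by
              cases tb b 4
              · exact hz
              · exact m16
            have m256' : u (cond (tb b 8) 256 0) ∈ centralizer {u a} := by
              cases tb b 8
              · exact hz
              · exact m256
            have m512' : u (cond (tb b 9) 512 0) ∈ centralizer {u a} := by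
              cases tb b 9
              · exact hz
              · exact m512
            have l1 : cond (tb b 1) 2 0 < 1024 := by cases tb b 1 <;> norm_num
            have l2 : cond (tb b 4) 16 0 < 1024 := by cases tb b 4 <;> norm_num
            have l3 : cond (tb b 8) 256 0 < 1024 := by cases tb b 8 <;> norm_num
            have l4 : cond (tb b 9) 512 0 < 1024 := by cases tb b 9 <;> norm_num
            rw [h3, h.mul (mu_lt l1 l2) (mu_lt l3 l4), h.mul l1 l2, h.mul l3 l4]
            exact Subgroup.mul_mem _ (Subgroup.mul_mem _ m2' m16') (Subgroup.mul_mem _ m256' m512')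
          exact (mem_centralizer_singleton_iff.1 h2).symm
        · exact (hbad 2 256 (by norm_num) (by norm_num) (by decide) (by decide) h1.1.1 h1.1.2 h1.2).elim
        · exact (hbad 2 16 (by norm_num) (by norm_num) (by decide) (by decide) h1.1.1 h1.1.2 h1.2).elim
      rw [hbot, hcom, ← hae, mul_inv_eq_one, mul_inv_eq_iff_eq_mul]
      constructor
      · intro h1
        by_contra h2
        obtain ⟨w, hw⟩ := hne
        apply hw
        rw [hbot, hcom, ← hae, mul_inv_eq_one, mul_inv_eq_iff_eq_mul]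
        by_cases h3 : (w.toMul : G) ∈ D
        · exact hD _ h3
        · have h4 := hout _ w.toMul.2 _ v.toMul.2 h3 h2
          have h5 := hD _ h4
          have h6 : u a * (w.toMul : G) * (v.toMul : G) = (w.toMul : G) * u a * (v.toMul : G) := by
            rw [mul_assoc, h5, mul_assoc, mul_assoc, h1]
          exact mul_right_cancel h6
      · intro h1
        exact hD _ h1) (by
      -- centres
      intro x
      have hth : ∀ a c : ℕ, a < 1024 → c < 1024 → sb a kS3 = true → sb c kB1 = true →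
          cm a 8 = c → c ≠ 0 → (∀ b, b < 1024 → sb b kB1 = true → cm a b = 0 ∨ cm a b = c) →
          (x : G) * u c * (x : G)⁻¹ ∈ D →
          ∃ θ ∈ hmax.toSylow, ∃ c, Transv.Tr (⊥ : AddSubgroup (Additive B)) θ c ∧
            (∃ v : Additive B, θ • v - v ∉ (⊥ : AddSubgroup (Additive B))) ∧
            x • c ∈ {w : Additive B | (w.toMul : G) ∈ D} := by
        intro a c ha hc haK hcK hac hc0 hall hx
        have haS3 : u a ∈ CS u kS3 := (u_mem_CS h closed_kS3 ha).2 haK
        refine ⟨⟨u a, S3_le_nB h haS3⟩, haS3, Additive.ofMul ⟨u c, (u_mem_CS h closed_kB1 hc).2 hcK⟩,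
          ?_, ⟨Additive.ofMul ⟨u 8, (u_mem_CS h closed_kB1 (by norm_num)).2 (by decide)⟩, ?_⟩, hx⟩
        · intro v
          rw [hbot, hbot, hcom, hsub, hcom]
          obtain ⟨b, hb, hbK, hbe⟩ := of_mem h closed_kB1 v.toMul.2
          show u a * (v.toMul : G) * (u a)⁻¹ * (v.toMul : G)⁻¹ = 1 ∨
            u a * (v.toMul : G) * (u a)⁻¹ * (v.toMul : G)⁻¹ * (u c)⁻¹ = 1
          rw [← hbe, ← cm_u h ha hb]
          rcases hall b hb hbK with h1 | h1
          · left; rw [h1, h.zero]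
          · right; rw [h1, mul_inv_cancel]
        · rw [hbot, hcom]
          show ¬ (u a * u 8 * (u a)⁻¹ * (u 8)⁻¹ = 1)
          rw [← cm_u h ha (by norm_num), hac, ← h.zero]
          intro h1
          exact hc0 (h.inj hc (by norm_num) h1)
      have hxB : ∀ c, c < 1024 → sb c kB1 = true → (x : G) * u c * (x : G)⁻¹ ∈ B := fun c hc hcK =>
        (Subgroup.mem_normalizer_iff.1 x.2 _).1 ((u_mem_CS h closed_kB1 hc).2 hcK)
      have hfT3 : ∀ b, b < 1024 → sb b kB1 = true → (cm 32 b = 0 ∨ cm 32 b = 256) ∧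
          (cm 128 b = 0 ∨ cm 128 b = 512) ∧ (cm 160 b = 0 ∨ cm 160 b = 768) := by
        intro b hb hbK
        have h1 := of_allb fT3 b hb
        rw [hbK] at h1
        simp only [Bool.not_true, Bool.false_or] at h1
        have hcz : ∀ a, a < 1024 → co a b = true → cm a b = 0 := by
          intro a ha h2
          apply h.inj (cm_lt ha hb) (by norm_num)
          rw [cm_u h ha hb, h.zero, (co_iff h ha hb).1 h2]; group
        cases h2 : sb b kD1
        · rw [h2] at h1
          simp only [cond_false, Bool.and_eq_true, Nat.beq_eq] at h1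
          exact ⟨Or.inr h1.1.1, Or.inr h1.1.2, Or.inr h1.2⟩
        · rw [h2] at h1
          simp only [cond_true, Bool.and_eq_true] at h1
          exact ⟨Or.inl (hcz _ (by norm_num) h1.1.1), Or.inl (hcz _ (by norm_num) h1.1.2),
            Or.inl (hcz _ (by norm_num) h1.2)⟩
      by_cases h1 : (x : G) * u 256 * (x : G)⁻¹ ∈ D
      · exact hth 32 256 (by norm_num) (by norm_num) (by decide) (by decide) (by decide) (by norm_num)
          (fun b hb hbK => (hfT3 b hb hbK).1) h1
      by_cases h2 : (x : G) * u 512 * (x : G)⁻¹ ∈ D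
      · exact hth 128 512 (by norm_num) (by norm_num) (by decide) (by decide) (by decide)
          (by norm_num) (fun b hb hbK => (hfT3 b hb hbK).2.1) h2
      · refine hth 160 768 (by norm_num) (by norm_num) (by decide) (by decide) (by decide)
          (by norm_num) (fun b hb hbK => (hfT3 b hb hbK).2.2) ?_
        have h3 := hout _ (hxB 256 (by norm_num) (by decide)) _ (hxB 512 (by norm_num) (by decide)) h1 h2
        have h4 : (x : G) * u 768 * (x : G)⁻¹ = (x : G) * u 256 * (x : G)⁻¹ * ((x : G) * u 512 * (x : G)⁻¹) := by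
          have h5 : u 768 = u 256 * u 512 := by
            rw [← h.mul (by norm_num) (by norm_num)]
            congr 1
          rw [h5]; group
        rw [h4]
        exact h3)
  intro x hx
  apply mem_normalizer_of_le
  intro d hd
  exact (key ⟨x, hx⟩ (Additive.ofMul ⟨d, D_le_B hd⟩)).1 hd

theorem fM : allb 1024 (fun b => !(sb b kB1) || !(sb b kS4) || sb b kD1) = true := by decide +kernel

/-- **`R3` is active.** -/
theorem exists_act3 [Finite G] (hG : ∀ H : Subgroup G, H.index ≠ 2) (S : Sylow 2 G)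
    (h : Emb (S : Subgroup G) u) (w1 : WeakCl ⊤ (CS u kA1) S) (w2 : WeakCl ⊤ (CS u kA2) S) :
    ∃ k, Act3 u k := by
  have f2 : Fact (Nat.Prime 2) := ⟨Nat.prime_two⟩
  by_cases hno : ∀ y, ¬ cj y (CS u kB1) ≤ CS u kA1 ∧ ¬ cj y (CS u kB1) ≤ CS u kA2
  · exfalso
    have h45B : u x45 ∈ CS u kB1 := (u_mem_CS h closed_kB1 (by norm_num)).2 (by decide)
    obtain ⟨g, hgB, hgM⟩ := Trans.exists_conj hG S (CS u kS4) (h.CS_le _) (by
      have h1 := Subgroup.relIndex_mul_relIndex ⊥ (CS u kS4) (S : Subgroup G) bot_le (h.CS_le kS4)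
      rw [Subgroup.relIndex_bot_left, Subgroup.relIndex_bot_left, card_S4 h, h.card] at h1
      omega) (u x45) (by rw [pow_two]; exact sq_B h _ h45B) (CS u kB1) (isP_of_le h (h.CS_le _))
      (fun p hp => comm_B h p hp _ h45B)
    obtain ⟨s, hs, hsg⟩ := cases_B S h hno (y := g) (cj_le_iff.2 hgB)
    have hmax := lemmaC S h hno
    rcases hsg with h1 | h1
    · have h2 : s * g ∈ normalizer (CS u kB1 : Set G) := cj_eq_iff.1 h1
      have h3 := lemmaD S h hmax h2
      have h4 : s * g * u x45 * (s * g)⁻¹ ∈ CS u kB1 := (Subgroup.mem_normalizer_iff.1 h2 _).1 h45B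
      have h5 : s * g * u x45 * (s * g)⁻¹ ∈ CS u kS4 := by
        have h6 : s * g * u x45 * (s * g)⁻¹ = s * (g * u x45 * g⁻¹) * s⁻¹ := by group
        rw [h6]
        exact (Subgroup.mem_normalizer_iff.1 (S_le_nS4 h hs) _).1 hgM
      have h6 : s * g * u x45 * (s * g)⁻¹ ∈ CS u kD1 := by
        obtain ⟨b, hb, hbK, hbe⟩ := of_mem h closed_kB1 h4
        rw [← hbe] at h5 ⊢
        rw [u_mem_CS h closed_kS4 hb] at h5
        rw [u_mem_CS h closed_kD1 hb]
        have h7 := of_allb fM b hb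
        rw [hbK, h5] at h7
        simpa using h7
      have h7 := (Subgroup.mem_normalizer_iff.1 h3 _).2 h6
      rw [u_mem_CS h closed_kD1 (by norm_num)] at h7
      exact absurd h7 (by decide)
    · -- `B1` conjugate to `B2`
      have h2 := hmax.map_conj (s * g)
      have h3 : (normalizer (CS u kB1 : Set G)).map (MulAut.conj (s * g)).toMonoidHom
          = normalizer (CS u kB2 : Set G) := by
        apply le_antisymm
        · have := cj_le_normalizer (le_refl (normalizer (CS u kB1 : Set G))) (s * g)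
          rw [h1] at this
          exact this
        · have h4 : cj (s * g)⁻¹ (CS u kB2) = CS u kB1 := by rw [← h1, cj_inv_cj]
          have := cj_le_normalizer (le_refl (normalizer (CS u kB2 : Set G))) (s * g)⁻¹
          rw [h4] at this
          have h5 := cj_mono (g := s * g) this
          rw [cj_cj_inv] at h5
          exact h5
      rw [h3] at h2
      obtain ⟨n, _, hn2⟩ := h2.exists_conj_le (isP_of_le h (h.CS_le kS2)) (S2_le_nB2 h)
      have h4 : cj n (CS u kS2) = cj (s * g) (CS u kS3) := by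
        apply cj_eq_of_le hn2
        rw [card_cj, card_S3 h, card_S2 h]
      have h5 : cj (n⁻¹ * (s * g)) (CS u kS3) = CS u kS2 := by
        rw [cj_mul, ← h4, cj_inv_cj]
      have h6 : cj (n⁻¹ * (s * g)) (CS u kA1) ≤ CS u kS2 := by
        rw [← h5]; exact cj_mono A_le_S3
      have h7 := w1.2 (n⁻¹ * (s * g)) trivial (h6.trans (h.CS_le _))
      rw [h7] at h6
      have h8 := h6 ((u_mem_CS h closed_kA1 (a := 2) (by norm_num)).2 (by decide))
      rw [u_mem_CS h closed_kS2 (by norm_num)] at h8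
      exact absurd h8 (by decide)
  · push Not at hno
    obtain ⟨y, hy⟩ := hno
    by_cases h1 : cj y (CS u kB1) ≤ CS u kA1
    · exact lemmaB1 S h w1 h1
    · exact lemmaB2 S h w1 w2 (hy h1)

end Cfsg.Agent.SylowL5.Active
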