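import Mathlib
import Cfsg.Agent.SylowL5.ActiveB
import Cfsg.Agent.SylowL5.Act1
import Cfsg.Agent.SylowL5.WC

/-!
# `R3` is active: final form

`Act3 u k` (see `ActiveB.lean`): `k` centralises `x15`, `x25`, normalises `A1`, `A1 E` and permutes the three
cosets `x45 A1 → x35 A1 → x35 x45 A1` cyclically.
-/

set_option autoImplicit false

namespace Cfsg.Agent.SylowL5.Active

open Subgroup
open Cfsg.Agent.SylowL5.Setup Cfsg.Agent.SylowL5.Calc Cfsg.Agent.SylowL5.Weak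
open Cfsg.Agent.SylowL5.Elem

variable {G : Type*} [Group G] {u : ℕ → G}

/-- the 3-cycle exists -/
theorem exists_cycle [Finite G] (hG : ∀ H : Subgroup G, H.index ≠ 2) (S : Sylow 2 G)
    (h : Emb (S : Subgroup G) u) : ∃ k, Act3 u k :=
  exists_act3 hG S h (WC.wA1 h) (WC.wA2 h)

theorem exists_active [Finite G] (hG : ∀ H : Subgroup G, H.index ≠ 2) (S : Sylow 2 G)
    (h : Emb (S : Subgroup G) u) :
    ∃ n ∈ Act1.N1 u, ¬ Act.Sim (CS u kA1) (n * u 64 * n⁻¹) (u 64) := by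
  obtain ⟨k, hk⟩ := exists_cycle hG S h
  refine ⟨k, Act1.mem_N1.2 ⟨hk.cz, hk.nA⟩, fun hs => ?_⟩
  have h1 := hk.k35
  set a := k * u x35 * k⁻¹ * (u x35 * u x45)⁻¹ with hadef
  have h2 : k * u 64 * k⁻¹ = a * (u x35 * u x45) := by rw [hadef]; group
  have hv : u 128 ∈ CS u kA1 := (u_mem_CS h closed_kA1 (by norm_num)).2 (by decide)
  have h3 := hs _ hv
  rw [h2] at h3
  have hN : u x35 * u x45 ∈ normalizer (CS u kA1 : Set G) :=
    Subgroup.mul_mem _ (S_le_nA h (h.mem (by norm_num))) (S_le_nA h (h.mem (by norm_num)))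
  have h4 : u x35 * u x45 * u 128 * (u x35 * u x45)⁻¹ ∈ CS u kA1 :=
    (Subgroup.mem_normalizer_iff.1 hN _).1 hv
  have h5 : a * (u x35 * u x45) * u 128 * (a * (u x35 * u x45))⁻¹
      = u x35 * u x45 * u 128 * (u x35 * u x45)⁻¹ := by
    calc a * (u x35 * u x45) * u 128 * (a * (u x35 * u x45))⁻¹
        = a * (u x35 * u x45 * u 128 * (u x35 * u x45)⁻¹) * a⁻¹ := by group
      _ = u x35 * u x45 * u 128 * (u x35 * u x45)⁻¹ := by
        rw [comm_A h _ h1 _ h4, mul_inv_cancel_right]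
  rw [h5] at h3
  have h6 : u x45 * u 128 * (u x45)⁻¹ * (u 128)⁻¹ = 1 := by
    have h7 : u x45 * u 128 * (u x45)⁻¹ * (u 128)⁻¹
        = (u x35)⁻¹ * (u x35 * u x45 * u 128 * (u x35 * u x45)⁻¹) * u x35 * (u 128)⁻¹ := by group
    rw [h7, h3]
    group
  rw [← cm_u h (by norm_num) (by norm_num), ← h.zero] at h6
  have h8 := h.inj (cm_lt (by norm_num) (by norm_num)) (by norm_num) h6
  exact absurd h8 (by decide)

end Cfsg.Agent.SylowL5.Active
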