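import Mathlib
import Cfsg.Agent.SylowL5.Act1

/-!
# The action of `N1 = C_G(z) ∩ N(A1)` on `A1`, continued

`N1` permutes the three classes `x35 K, x45 K, x35 x45 K` (`K = C_G(A1)`), normalises `U1` and `W1`;
an element fixing `x35 K` acts on `A1` as an element of `S`.
-/

set_option autoImplicit false
set_option linter.unusedSectionVars false

namespace Cfsg.Agent.SylowL5.Act2

open Subgroup
open Cfsg.Agent.SignalizersComponents.RelSylow
open Cfsg.Agent.SylowL5.Setup Cfsg.Agent.SylowL5.Calc Cfsg.Agent.SylowL5.Weak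
  Cfsg.Agent.SylowL5.Elem Cfsg.Agent.SylowL5.Tools Cfsg.Agent.SylowL5.WC
  Cfsg.Agent.SylowL5.Act Cfsg.Agent.SylowL5.Act1

/-- centraliser of `V` modulo `U` in `N` -/
def cent {G : Type*} [Group G] (N V U : Subgroup G) (hU : N ≤ normalizer (U : Set G)) :
    Subgroup G where
  carrier := {n | n ∈ N ∧ ∀ v ∈ V, n * v * n⁻¹ * v⁻¹ ∈ U}
  one_mem' := ⟨N.one_mem, fun v _ => by simp⟩
  mul_mem' := by
    rintro a b ⟨ha, ha'⟩ ⟨hb, hb'⟩
    refine ⟨N.mul_mem ha hb, fun v hv => ?_⟩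
    have h1 : a * b * v * (a * b)⁻¹ * v⁻¹ = a * (b * v * b⁻¹ * v⁻¹) * a⁻¹ * (a * v * a⁻¹ * v⁻¹) := by
      group
    rw [h1]
    exact U.mul_mem (nrm (hU ha) (hb' v hv)) (ha' v hv)
  inv_mem' := by
    rintro a ⟨ha, ha'⟩
    refine ⟨N.inv_mem ha, fun v hv => ?_⟩
    have h1 : a⁻¹ * v * a⁻¹⁻¹ * v⁻¹ = a⁻¹ * (a * v * a⁻¹ * v⁻¹)⁻¹ * a⁻¹⁻¹ := by group
    rw [h1]
    exact nrm (inv_mem (hU ha)) (U.inv_mem (ha' v hv))

theorem mem_cent {G : Type*} [Group G] {N V U : Subgroup G} {hU : N ≤ normalizer (U : Set G)}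
    {n : G} : n ∈ cent N V U hU ↔ n ∈ N ∧ ∀ v ∈ V, n * v * n⁻¹ * v⁻¹ ∈ U := Iff.rfl

theorem cent_normal {G : Type*} [Group G] {N V U : Subgroup G} {hU : N ≤ normalizer (U : Set G)}
    (hV : ∀ n ∈ N, ∀ v ∈ V, n * v * n⁻¹ ∈ V) {n x : G} (hn : n ∈ N) (hx : x ∈ cent N V U hU) :
    n * x * n⁻¹ ∈ cent N V U hU := by
  refine ⟨N.mul_mem (N.mul_mem hn hx.1) (N.inv_mem hn), fun v hv => ?_⟩
  have h1 := hV _ (N.inv_mem hn) v hv
  have h2 := nrm (hU hn) (hx.2 _ h1)
  have h3 : n * x * n⁻¹ * v * (n * x * n⁻¹)⁻¹ * v⁻¹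
      = n * (x * (n⁻¹ * v * n⁻¹⁻¹) * x⁻¹ * (n⁻¹ * v * n⁻¹⁻¹)⁻¹) * n⁻¹ := by group
  rw [h3]
  exact h2

/-- the three classes -/
def IE (c : ℕ) : Prop := c = 64 ∨ c = 8 ∨ c = 72

theorem IE.lt {c : ℕ} (hc : IE c) : c < 1024 := by
  rcases hc with rfl | rfl | rfl <;> norm_num

/-! ### Boolean facts -/

theorem fact4 : allb 1024 (fun a => !(allb 10 fun k => !(tb kA1 k) || sb (cm a (Nat.pow 2 k)) 768) ||
    (sb a kA1 || sb (mu 64 a) kA1 || sb (mu 8 a) kA1 || sb (mu 72 a) kA1)) = true := by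
  decide +kernel

theorem fact5 : allb 1024 (fun a => (anyb 10 fun k => tb kA1 k && !(co a (Nat.pow 2 k))) ||
    sb a kA1) = true := by decide +kernel

theorem fact6 : allb 1024 (fun a => !(sb a kA1) ||
    ((!(zz (cm 64 a) && zz (cm 8 a)) || sb a kW1) &&
     (!(sb a kW1) || (zz (cm 64 a) && zz (cm 8 a) && zz (cm 72 a))) &&
     (!(Nat.beq (cm 64 a) 0 && Nat.beq (cm 8 a) 0) || sb a 768))) = true := by decide +kernel

theorem fact7 : allb 1024 (fun a => (!(sb (cm a 8) kA1) || sb a kS3) && (!(sb a kS3) ||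
    (sb (cm a 64) kA1 && sb (cm a 8) kA1 && sb (cm a 72) kA1))) = true := by decide +kernel

section
variable {G : Type*} [Group G] [Finite G] {S : Sylow 2 G} {u : ℕ → G}

/-- an element of `S` centralising `A1` lies in `A1` -/
theorem S_K1 (h : Emb (S : Subgroup G) u) {a : ℕ} (ha : a < 1024) (hK : u a ∈ K1 u) :
    sb a kA1 = true := by
  have h1 := of_allb fact5 a ha
  rw [Bool.or_eq_true] at h1
  rcases h1 with h1 | h1
  · exfalso
    obtain ⟨k, hk, h2⟩ := of_anyb h1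
    simp only [Bool.and_eq_true, Bool.not_eq_true'] at h2
    have h3 := mem_centralizer_iff.1 hK (u (2 ^ k)) (u_mem h closed_kA1 (two_pow_lt hk) (sb_pow h2.1))
    have h4 := (co_iff h ha (two_pow_lt hk)).2 h3.symm
    rw [show co a (2 ^ k) = false from h2.2] at h4
    exact absurd h4 (by decide)
  · exact h1

theorem N1_nA1 {x : G} (hx : x ∈ N1 u) : x ∈ normalizer (CS u kA1 : Set G) := (mem_N1.1 hx).2

/-- `N1` normalises `U1` -/
theorem N1_U1 (h : Emb (S : Subgroup G) u) : N1 u ≤ normalizer (CS u 768 : Set G) := by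
  intro x hx
  apply mem_normalizer_of_gens h closed_768 gen_768
  intro k hk hkK
  have h1 : k = 8 ∨ k = 9 := by
    have := of_allb (P := fun k => !(tb 768 k) || Nat.beq k 8 || Nat.beq k 9) (N := 10) (by decide) k hk
    simpa [hkK] using this
  rcases h1 with rfl | rfl
  · have h2 := c_inv h hx
    have h3 : x * u (2 ^ 8) * x⁻¹ = (x * u 256 * x⁻¹ * (u 256)⁻¹) * u 256 := by
      rw [show (2 : ℕ) ^ 8 = 256 from rfl]; group
    rw [h3]
    exact mul_mem (CS_mono (by decide) h2) (u_mem h closed_768 (by norm_num) (by decide))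
  · rw [show (2 : ℕ) ^ 9 = 512 from rfl, N1_Z h hx (u_mem h closed_512 (by norm_num) (by decide))]
    exact u_mem h closed_768 (by norm_num) (by decide)

/-- `N1` centralises `U1` modulo `Z` -/
theorem N1_U1Z (h : Emb (S : Subgroup G) u) {x : G} (hx : x ∈ N1 u) :
    ∀ w ∈ CS u 768, x * w * x⁻¹ * w⁻¹ ∈ CS u 512 := by
  apply comm_of_gens h closed_768 gen_768
  · exact (h.CS_le _).trans (S_normalizes h closed_512 gen_512 (by decide +kernel))
  · intro k hk hkK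
    have h1 : k = 8 ∨ k = 9 := by
      have := of_allb (P := fun k => !(tb 768 k) || Nat.beq k 8 || Nat.beq k 9) (N := 10) (by decide) k hk
      simpa [hkK] using this
    rcases h1 with rfl | rfl
    · exact c_inv h hx
    · rw [show (2 : ℕ) ^ 9 = 512 from rfl, N1_Z h hx (u_mem h closed_512 (by norm_num) (by decide)),
        mul_inv_cancel]
      exact one_mem _

/-- the elements of `N1` acting trivially on `A1 / U1` -/
def AEU (h : Emb (S : Subgroup G) u) : Subgroup G := cent (N1 u) (CS u kA1) (CS u 768) (N1_U1 h)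

theorem K1_nrm {n k : G} (hn : n ∈ normalizer (CS u kA1 : Set G)) (hk : k ∈ K1 u) :
    n * k * n⁻¹ ∈ K1 u := by
  have h1 : Sim (CS u kA1) k 1 := sim_one_iff.2 hk
  have h2 := h1.conj hn
  rw [mul_one, mul_inv_cancel] at h2
  exact sim_one_iff.1 h2

theorem Sim.mul_right {V : Subgroup G} {a v : G} (hc : ∀ x ∈ V, ∀ y ∈ V, x * y = y * x) (hv : v ∈ V) :
    Sim V (a * v) a := by
  intro w hw
  have h1 : a * v * w * (a * v)⁻¹ = a * (v * w) * v⁻¹ * a⁻¹ := by group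
  rw [h1, hc v hv w hw]; group

/-- classification of the elements of `AEU` modulo `K1` -/
theorem AEU_cases (h : Emb (S : Subgroup G) u) {l : G} (hl : l ∈ AEU h) :
    Sim (CS u kA1) l 1 ∨ ∃ c, IE c ∧ Sim (CS u kA1) l (u c) := by
  have h4 : ∀ l ∈ AEU h, ∃ k : ℕ, l ^ (2 ^ k) ∈ K1 u := by
    intro l hl
    refine ⟨2, pow_four_mem (sqA1 h) (N1_nA1 hl.1) (W := CS u 768) (U := CS u 512) (Z := ⊥)
      (CS_mono (by decide)) (CS_mono (by decide)) hl.2 (N1_U1Z h hl.1) ?_ ?_⟩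
    · intro v hv
      rw [N1_Z h hl.1 hv, mul_inv_cancel]; exact one_mem _
    · intro v hv
      rw [mem_bot.1 hv]; simp
  obtain ⟨s, hs, hsL, hsK⟩ := exists_modG (K := K1 u) (L := AEU h) (maxP_N1 h)
    (fun n hn k hk => K1_nrm (N1_nA1 hn) hk) (fun x hx => hx.1)
    (fun n hn l hl => cent_normal (fun n hn v hv => nrm (N1_nA1 hn) hv) hn hl)
    (by
      intro k hk
      refine ⟨K1_le_N1 h hk, fun v hv => ?_⟩
      have h5 := sim_one_iff.2 hk v hv
      rw [h5]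
      simp) h4 l hl
  obtain ⟨a, ha, rfl⟩ := h.surj s hs
  have h5 : Sim (CS u kA1) l (u a) := sim_iff.2 hsK
  have h6 := of_allb fact4 a ha
  have h7 : (allb 10 fun k => !(tb kA1 k) || sb (cm a (Nat.pow 2 k)) 768) = true := by
    have h8 : ∀ k, k < 10 → (!(tb kA1 k) || sb (cm a (Nat.pow 2 k)) 768) = true := by
      intro k hk
      rcases hkK : tb kA1 k with _ | _
      · rfl
      · have h9 := hsL.2 (u (2 ^ k)) (u_mem h closed_kA1 (two_pow_lt hk) (sb_pow hkK))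
        rw [← cm_u h ha (two_pow_lt hk), u_mem_CS h closed_768 (cm_lt ha (two_pow_lt hk))] at h9
        rw [show Nat.pow 2 k = 2 ^ k from rfl, h9]
        rfl
    have h9 : ∀ N, N ≤ 10 → (allb N fun k => !(tb kA1 k) || sb (cm a (Nat.pow 2 k)) 768) = true := by
      intro N
      induction N with
      | zero => intro _; rfl
      | succ N ih =>
        intro hN
        show cond (!(tb kA1 N) || sb (cm a (Nat.pow 2 N)) 768)
          (allb N fun k => !(tb kA1 k) || sb (cm a (Nat.pow 2 k)) 768) false = true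
        rw [ih (by omega), h8 N (by omega)]; rfl
    exact h9 10 le_rfl
  rw [h7] at h6
  simp only [Bool.not_true, Bool.false_or, Bool.or_eq_true] at h6
  have h8 : ∀ c, c < 1024 → u c * u c = 1 → sb (mu c a) kA1 = true → Sim (CS u kA1) l (u c) := by
    intro c hc hcc h9
    have h10 := u_mem h closed_kA1 (mu_lt hc ha) h9
    rw [h.mul hc ha] at h10
    have h11 : Sim (CS u kA1) (u c * (u c * u a)) (u c) := Sim.mul_right (commA1 h) h10
    rw [← mul_assoc, hcc, one_mul] at h11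
    exact h5.trans h11
  have hsq : ∀ c, c < 1024 → mu c c = 0 → u c * u c = 1 := by
    intro c hc hcc
    rw [← h.mul hc hc, hcc, h.zero]
  rcases h6 with ((h6 | h6) | h6) | h6
  · left
    have h10 := u_mem h closed_kA1 ha h6
    have h11 : Sim (CS u kA1) (1 * u a) 1 := Sim.mul_right (commA1 h) h10
    rw [one_mul] at h11
    exact h5.trans h11
  · right
    exact ⟨64, Or.inl rfl, h8 64 (by norm_num) (hsq 64 (by norm_num) (by decide)) h6⟩
  · right
    exact ⟨8, Or.inr (Or.inl rfl), h8 8 (by norm_num) (hsq 8 (by norm_num) (by decide)) h6⟩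
  · right
    exact ⟨72, Or.inr (Or.inr rfl), h8 72 (by norm_num) (hsq 72 (by norm_num) (by decide)) h6⟩

theorem e_mem_AEU (h : Emb (S : Subgroup G) u) {c : ℕ} (hc : IE c) : u c ∈ AEU h := by
  refine ⟨S_le_N1 h (h.mem hc.lt), fun v hv => ?_⟩
  obtain ⟨b, hb, hbK, rfl⟩ := (h.mem_CS closed_kA1).1 hv
  have h1 := of_allb Act1.fact2 b hb
  rw [sb_iff.2 hbK] at h1
  simp only [Bool.not_true, Bool.false_or, Bool.and_eq_true] at h1
  obtain ⟨⟨⟨_, h2⟩, h3⟩, h4⟩ := h1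
  apply cm_mem h closed_768 hc.lt hb
  rcases hc with rfl | rfl | rfl
  · exact h2
  · exact h3
  · exact h4

theorem e_not_one (h : Emb (S : Subgroup G) u) {c : ℕ} (hc : IE c) : ¬ Sim (CS u kA1) (u c) 1 := by
  intro h1
  have h2 := S_K1 h hc.lt (sim_one_iff.1 h1)
  rcases hc with rfl | rfl | rfl <;> exact absurd h2 (by decide)

theorem e_inj (h : Emb (S : Subgroup G) u) {c d : ℕ} (hc : IE c) (hd : IE d)
    (hcd : Sim (CS u kA1) (u c) (u d)) : c = d := by
  have h1 := sim_iff.1 hcd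
  rw [← inv_eq h hd.lt, ← h.mul (iv_lt hd.lt) hc.lt] at h1
  have h2 := S_K1 h (mu_lt (iv_lt hd.lt) hc.lt) h1
  rcases hc with rfl | rfl | rfl <;> rcases hd with rfl | rfl | rfl <;>
    first | rfl | exact absurd h2 (by decide)

/-- `N1` permutes the three classes -/
theorem perm (h : Emb (S : Subgroup G) u) {x : G} (hx : x ∈ N1 u) {c : ℕ} (hc : IE c) :
    ∃ d, IE d ∧ Sim (CS u kA1) (x * u c * x⁻¹) (u d) := by
  have h1 : x * u c * x⁻¹ ∈ AEU h :=
    cent_normal (fun n hn v hv => nrm (N1_nA1 hn) hv) hx (e_mem_AEU h hc)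
  rcases AEU_cases h h1 with h2 | h2
  · exfalso
    apply e_not_one h hc
    have h3 := h2.conj (inv_mem (N1_nA1 hx))
    have h4 : x⁻¹ * (x * u c * x⁻¹) * x⁻¹⁻¹ = u c := by group
    rw [h4, mul_one, inv_inv, inv_mul_cancel] at h3
    exact h3
  · exact h2

/-- membership in `W1` and `U1` -/
theorem mem_W1_iff (h : Emb (S : Subgroup G) u) {v : G} (hv : v ∈ CS u kA1) :
    v ∈ CS u kW1 ↔ u 64 * v * (u 64)⁻¹ * v⁻¹ ∈ CS u 512 ∧ u 8 * v * (u 8)⁻¹ * v⁻¹ ∈ CS u 512 := by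
  obtain ⟨b, hb, hbK, rfl⟩ := (h.mem_CS closed_kA1).1 hv
  have h1 := of_allb fact6 b hb
  rw [sb_iff.2 hbK] at h1
  simp only [Bool.not_true, Bool.false_or, Bool.and_eq_true, Bool.or_eq_true,
    Bool.not_eq_true'] at h1
  obtain ⟨⟨h2, h3⟩, _⟩ := h1
  rw [← cm_u h (by norm_num) hb, ← cm_u h (by norm_num) hb, ← zz_iff h (cm_lt (by norm_num) hb),
    ← zz_iff h (cm_lt (by norm_num) hb), u_mem_CS h closed_kW1 hb]
  constructor
  · intro h4
    rcases h3 with h3 | h3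
    · rw [h4] at h3; exact absurd h3 (by decide)
    · exact h3.1
  · rintro ⟨h4, h5⟩
    rcases h2 with h2 | h2
    · rw [h4, h5] at h2; exact absurd h2 (by decide)
    · exact h2

theorem W1_comm (h : Emb (S : Subgroup G) u) {v : G} (hv : v ∈ CS u kW1) {c : ℕ} (hc : IE c) :
    u c * v * (u c)⁻¹ * v⁻¹ ∈ CS u 512 := by
  obtain ⟨b, hb, hbK, rfl⟩ := (h.mem_CS closed_kW1).1 hv
  have h0 : sb b kA1 = true := by
    rw [sb_iff]
    intro j hj
    exact (subK_iff kW1 kA1).2 (by decide) j (hbK j hj)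
  have h1 := of_allb fact6 b hb
  rw [h0] at h1
  simp only [Bool.not_true, Bool.false_or, Bool.and_eq_true, Bool.or_eq_true,
    Bool.not_eq_true'] at h1
  obtain ⟨⟨_, h3⟩, _⟩ := h1
  rcases h3 with h3 | h3
  · rw [sb_iff.2 hbK] at h3; exact absurd h3 (by decide)
  · rw [← cm_u h hc.lt hb, ← zz_iff h (cm_lt hc.lt hb)]
    rcases hc with rfl | rfl | rfl
    · exact h3.1.1
    · exact h3.1.2
    · exact h3.2

theorem mem_U1_of (h : Emb (S : Subgroup G) u) {v : G} (hv : v ∈ CS u kA1)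
    (h1 : u 64 * v * (u 64)⁻¹ * v⁻¹ = 1) (h2 : u 8 * v * (u 8)⁻¹ * v⁻¹ = 1) : v ∈ CS u 768 := by
  obtain ⟨b, hb, hbK, rfl⟩ := (h.mem_CS closed_kA1).1 hv
  have h3 := of_allb fact6 b hb
  rw [sb_iff.2 hbK] at h3
  simp only [Bool.not_true, Bool.false_or, Bool.and_eq_true, Bool.or_eq_true,
    Bool.not_eq_true'] at h3
  obtain ⟨_, h3⟩ := h3
  rw [← cm_u h (by norm_num) hb, ← h.zero, eq_iff h (cm_lt (by norm_num) hb) (by norm_num)] at h1 h2
  rw [u_mem_CS h closed_768 hb]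
  rcases h3 with h3 | h3
  · rw [h1, h2] at h3; exact absurd h3 (by decide)
  · exact h3

/-- `N1` normalises `W1` -/
theorem N1_W1 (h : Emb (S : Subgroup G) u) : N1 u ≤ normalizer (CS u kW1 : Set G) := by
  intro x hx
  rw [← cj_eq_iff]
  apply cj_eq_of_le _ le_rfl
  rw [cj_le_iff]
  intro w hw
  have hwA : w ∈ CS u kA1 := CS_mono (by decide) hw
  have hxw := nrm (N1_nA1 hx) hwA
  have key : ∀ d, IE d → u d * (x * w * x⁻¹) * (u d)⁻¹ * (x * w * x⁻¹)⁻¹ ∈ CS u 512 := by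
    intro d hd
    obtain ⟨c, hc, h1⟩ := perm h (inv_mem hx) hd
    have h2 := (h1.conj (N1_nA1 hx)).symm
    have h3 : x * (x⁻¹ * u d * x⁻¹⁻¹) * x⁻¹ = u d := by group
    rw [h3] at h2
    rw [← h2.comm (N1_nA1 hx) hwA, N1_Z h hx (W1_comm h hw hc)]
    exact W1_comm h hw hc
  exact (mem_W1_iff h hxw).2 ⟨key 64 (Or.inl rfl), key 8 (Or.inr (Or.inl rfl))⟩

end

end Cfsg.Agent.SylowL5.Act2
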