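import Mathlib
import Cfsg.Agent.SylowL5.Act2

/-!
# The action of `N1` on the three classes: kernel, stabiliser, action on `A1 / W1` and `W1 / U1`
-/

set_option autoImplicit false
set_option linter.unusedSectionVars false

namespace Cfsg.Agent.SylowL5.Act3

open Subgroup
open Cfsg.Agent.SignalizersComponents.RelSylow
open Cfsg.Agent.SylowL5.Setup Cfsg.Agent.SylowL5.Calc Cfsg.Agent.SylowL5.Weak
  Cfsg.Agent.SylowL5.Elem Cfsg.Agent.SylowL5.Tools Cfsg.Agent.SylowL5.WC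
  Cfsg.Agent.SylowL5.Act Cfsg.Agent.SylowL5.Act1 Cfsg.Agent.SylowL5.Act2

/-- corresponding labels: class, element of `A1 / W1`, element of `W1 / U1` -/
def Lab (c v w : ℕ) : Prop :=
  (c = 64 ∧ v = 32 ∧ w = 128) ∨ (c = 8 ∧ v = 2 ∧ w = 16) ∨ (c = 72 ∧ v = 34 ∧ w = 144)

theorem Lab.ie {c v w : ℕ} (h : Lab c v w) : IE c := by
  rcases h with h | h | h
  · exact Or.inl h.1
  · exact Or.inr (Or.inl h.1)
  · exact Or.inr (Or.inr h.1)

/-! ### Boolean facts -/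

theorem fact8 : allb 1024 (fun a => !(sb a kA1) ||
    ((!(zz (cm 64 a)) || sb a kW1 || sb (mu (iv 32) a) kW1) &&
     (!(zz (cm 8 a)) || sb a kW1 || sb (mu (iv 2) a) kW1) &&
     (!(zz (cm 72 a)) || sb a kW1 || sb (mu (iv 34) a) kW1))) = true := by decide +kernel

theorem fact9 : allb 1024 (fun a => !(sb a kW1) ||
    ((!(Nat.beq (cm 64 a) 0) || sb a 768 || sb (mu (iv 128) a) 768) &&
     (!(Nat.beq (cm 8 a) 0) || sb a 768 || sb (mu (iv 16) a) 768) &&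
     (!(Nat.beq (cm 72 a) 0) || sb a 768 || sb (mu (iv 144) a) 768))) = true := by decide +kernel

section
variable {G : Type*} [Group G] [Finite G] {S : Sylow 2 G} {u : ℕ → G}

theorem N1_nK1 : N1 u ≤ normalizer (K1 u : Set G) := by
  intro n hn
  rw [Subgroup.mem_normalizer_iff]
  intro k
  constructor
  · intro hk; exact K1_nrm (N1_nA1 hn) hk
  · intro hk
    have h1 := K1_nrm (inv_mem (N1_nA1 hn)) hk
    have h2 : n⁻¹ * (n * k * n⁻¹) * n⁻¹⁻¹ = k := by group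
    rwa [h2] at h1

/-- the kernel on the three classes -/
def L1 (h : Emb (S : Subgroup G) u) : Subgroup G := cent (N1 u) (AEU h) (K1 u) N1_nK1

theorem sim_of_mul_inv {a b : G} (hb : b ∈ normalizer (CS u kA1 : Set G))
    (h : a * b⁻¹ ∈ K1 u) : Sim (CS u kA1) a b := by
  have h1 := (sim_one_iff.2 h).mul (Sim.refl b) hb
  rw [one_mul] at h1
  have h2 : a * b⁻¹ * b = a := by group
  rwa [h2] at h1

theorem mul_inv_of_sim {a b : G} (hb : b ∈ normalizer (CS u kA1 : Set G))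
    (h : Sim (CS u kA1) a b) : a * b⁻¹ ∈ K1 u := by
  have h1 := h.mul (Sim.refl b⁻¹) (inv_mem hb)
  rw [mul_inv_cancel] at h1
  exact sim_one_iff.1 h1

theorem e_nA1 (h : Emb (S : Subgroup G) u) {c : ℕ} (hc : IE c) :
    u c ∈ normalizer (CS u kA1 : Set G) := N1_nA1 (S_le_N1 h (h.mem hc.lt))

theorem L1_sim (h : Emb (S : Subgroup G) u) {n : G} (hn : n ∈ L1 h) {c : ℕ} (hc : IE c) :
    Sim (CS u kA1) (n * u c * n⁻¹) (u c) :=
  sim_of_mul_inv (e_nA1 h hc) (hn.2 _ (e_mem_AEU h hc))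

theorem u72 (h : Emb (S : Subgroup G) u) : u 72 = u 64 * u 8 := by
  rw [← h.mul (by norm_num) (by norm_num)]; rfl

theorem mem_L1_of (h : Emb (S : Subgroup G) u) {n : G} (hn : n ∈ N1 u)
    (h64 : Sim (CS u kA1) (n * u 64 * n⁻¹) (u 64)) (h8 : Sim (CS u kA1) (n * u 8 * n⁻¹) (u 8)) :
    n ∈ L1 h := by
  refine ⟨hn, fun x hx => ?_⟩
  have hxA : x ∈ normalizer (CS u kA1 : Set G) := N1_nA1 hx.1
  apply mul_inv_of_sim hxA
  rcases AEU_cases h hx with h1 | ⟨c, hc, h1⟩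
  · have h2 := h1.conj (N1_nA1 hn)
    rw [mul_one, mul_inv_cancel] at h2
    exact h2.trans h1.symm
  · have h2 := h1.conj (N1_nA1 hn)
    refine (h2.trans ?_).trans h1.symm
    rcases hc with rfl | rfl | rfl
    · exact h64
    · exact h8
    · have h3 := h64.mul h8 (e_nA1 h (Or.inr (Or.inl rfl)))
      have h4 : n * u 72 * n⁻¹ = n * u 64 * n⁻¹ * (n * u 8 * n⁻¹) := by rw [u72 h]; group
      rw [h4, u72 h]
      exact h3

theorem L1_norm (h : Emb (S : Subgroup G) u) : ∀ n ∈ N1 u, ∀ l ∈ L1 h, n * l * n⁻¹ ∈ L1 h :=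
  fun _ hn _ hl => cent_normal (fun _ hn _ hx =>
    cent_normal (fun _ hn _ hv => nrm (N1_nA1 hn) hv) hn hx) hn hl

/-- the elements of the kernel act on `A1` as elements of `R3` -/
theorem L1_cases (h : Emb (S : Subgroup G) u) {n : G} (hn : n ∈ L1 h) :
    ∃ s ∈ CS u kS3, Sim (CS u kA1) n s := by
  have hW : ∀ n ∈ L1 h, ∀ v ∈ CS u kA1, n * v * n⁻¹ * v⁻¹ ∈ CS u kA1 := by
    intro n hn v hv
    exact mul_mem (nrm (N1_nA1 hn.1) hv) (inv_mem hv)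
  -- commutators of `e` with `[n, v]`
  have key : ∀ n ∈ L1 h, ∀ v ∈ CS u kA1, ∀ c, IE c →
      u c * (n * v * n⁻¹ * v⁻¹) * (u c)⁻¹ * (n * v * n⁻¹ * v⁻¹)⁻¹ =
      n * (u c * v * (u c)⁻¹ * v⁻¹) * n⁻¹ * (u c * v * (u c)⁻¹ * v⁻¹)⁻¹ := by
    intro n hn v hv c hc
    have h1 := (L1_sim h hn hc).comm (N1_nA1 hn.1) hv
    have h2 : v⁻¹ = v := inv_eq_of_mul_eq_one_right (sqA1 h v hv)
    have h3 := comm_mul' (e := u c) (commA1 h) (nrm (e_nA1 h hc) (inv_mem hv))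
      (nrm (N1_nA1 hn.1) hv) (inv_mem hv)
    have h4 : u c * v * (u c)⁻¹ * v⁻¹ ∈ CS u kA1 := mul_mem (nrm (e_nA1 h hc) hv) (inv_mem hv)
    have h5 : u c * v⁻¹ * (u c)⁻¹ * v⁻¹⁻¹ = (u c * v * (u c)⁻¹ * v⁻¹)⁻¹ := by
      rw [inv_inv, inv_eq_of_mul_eq_one_right (sqA1 h _ h4), h2]
    rw [h3, ← h1, h5]
  have h3 : ∀ n ∈ L1 h, ∀ v ∈ CS u kA1, n * v * n⁻¹ * v⁻¹ ∈ CS u kW1 := by
    intro n hn v hv
    have h4 : ∀ c, IE c → u c * (n * v * n⁻¹ * v⁻¹) * (u c)⁻¹ * (n * v * n⁻¹ * v⁻¹)⁻¹ ∈ CS u 512 := by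
      intro c hc
      rw [key n hn v hv c hc]
      exact N1_U1Z h hn.1 _ ((e_mem_AEU h hc).2 v hv)
    exact (mem_W1_iff h (hW n hn v hv)).2 ⟨h4 64 (Or.inl rfl), h4 8 (Or.inr (Or.inl rfl))⟩
  have h4 : ∀ n ∈ L1 h, ∀ w ∈ CS u kW1, n * w * n⁻¹ * w⁻¹ ∈ CS u 768 := by
    intro n hn w hw
    have hwA : w ∈ CS u kA1 := CS_mono (by decide) hw
    have h5 : ∀ c, IE c → u c * (n * w * n⁻¹ * w⁻¹) * (u c)⁻¹ * (n * w * n⁻¹ * w⁻¹)⁻¹ = 1 := by
      intro c hc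
      rw [key n hn w hwA c hc, N1_Z h hn.1 (W1_comm h hw hc), mul_inv_cancel]
    exact mem_U1_of h (hW n hn w hwA) (h5 64 (Or.inl rfl)) (h5 8 (Or.inr (Or.inl rfl)))
  obtain ⟨s, hs, hsL, hsK⟩ := exists_modG (K := K1 u) (L := L1 h) (maxP_N1 h)
    (fun n hn k hk => K1_nrm (N1_nA1 hn) hk) (fun x hx => hx.1) (L1_norm h)
    (by
      intro k hk
      refine mem_L1_of h (K1_le_N1 h hk) ?_ ?_
      · have h5 : Sim (CS u kA1) k 1 := sim_one_iff.2 hk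
        have hkn := N1_nA1 (K1_le_N1 h hk)
        have h6 := (h5.mul (Sim.refl (u 64)) (e_nA1 h (Or.inl rfl))).mul (h5.inv hkn)
          (inv_mem (one_mem _))
        rwa [one_mul, inv_one, mul_one] at h6
      · have h5 : Sim (CS u kA1) k 1 := sim_one_iff.2 hk
        have hkn := N1_nA1 (K1_le_N1 h hk)
        have h6 := (h5.mul (Sim.refl (u 8)) (e_nA1 h (Or.inr (Or.inl rfl)))).mul (h5.inv hkn)
          (inv_mem (one_mem _))
        rwa [one_mul, inv_one, mul_one] at h6)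
    (by
      intro l hl
      refine ⟨2, pow_four_mem (sqA1 h) (N1_nA1 hl.1) (W := CS u kW1) (U := CS u 768)
        (Z := CS u 512) (CS_mono (by decide)) (CS_mono (by decide)) (h3 l hl) (h4 l hl)
        (N1_U1Z h hl.1) ?_⟩
      intro v hv
      rw [N1_Z h hl.1 hv, mul_inv_cancel]) n hn
  obtain ⟨a, ha, rfl⟩ := h.surj s hs
  refine ⟨u a, ?_, sim_iff.2 hsK⟩
  rw [u_mem_CS h closed_kS3 ha]
  have h5 := mul_inv_of_sim (e_nA1 h (Or.inr (Or.inl rfl))) (L1_sim h hsL (Or.inr (Or.inl rfl)))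
  rw [← cm_u h ha (by norm_num)] at h5
  have h6 := S_K1 h (cm_lt ha (by norm_num)) h5
  have h7 := of_allb fact7 a ha
  simp only [Bool.and_eq_true, Bool.or_eq_true, Bool.not_eq_true'] at h7
  rcases h7.1 with h7 | h7
  · rw [h6] at h7; exact absurd h7 (by decide)
  · exact h7

theorem sim_of_cm (h : Emb (S : Subgroup G) u) {a c : ℕ} (ha : a < 1024) (hc : c < 1024)
    (hs : sb (cm a c) kA1 = true) : Sim (CS u kA1) (u a * u c * (u a)⁻¹) (u c) := by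
  apply sim_of_mul_inv (N1_nA1 (S_le_N1 h (h.mem hc)))
  have h1 := cm_mem h closed_kA1 ha hc hs
  exact mem_centralizer_iff.2 fun v hv => commA1 h v hv _ h1

theorem R3_le_L1 (h : Emb (S : Subgroup G) u) : CS u kS3 ≤ L1 h := by
  intro s hs
  obtain ⟨a, ha, haK, rfl⟩ := (h.mem_CS closed_kS3).1 hs
  have h7 := of_allb fact7 a ha
  simp only [Bool.and_eq_true, Bool.or_eq_true, Bool.not_eq_true'] at h7
  rcases h7.2 with h8 | h8
  · rw [sb_iff.2 haK] at h8; exact absurd h8 (by decide)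
  · exact mem_L1_of h (S_le_N1 h (h.mem ha)) (sim_of_cm h ha (by norm_num) h8.1.1)
      (sim_of_cm h ha (by norm_num) h8.1.2)

theorem S_inf_L1 (h : Emb (S : Subgroup G) u) : (S : Subgroup G) ⊓ L1 h = CS u kS3 := by
  apply le_antisymm
  · rintro s ⟨hs, hsL⟩
    obtain ⟨a, ha, rfl⟩ := h.surj s hs
    rw [u_mem_CS h closed_kS3 ha]
    have h5 := mul_inv_of_sim (e_nA1 h (Or.inr (Or.inl rfl))) (L1_sim h hsL (Or.inr (Or.inl rfl)))
    rw [← cm_u h ha (by norm_num)] at h5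
    have h6 := S_K1 h (cm_lt ha (by norm_num)) h5
    have h7 := of_allb fact7 a ha
    simp only [Bool.and_eq_true, Bool.or_eq_true, Bool.not_eq_true'] at h7
    rcases h7.1 with h7 | h7
    · rw [h6] at h7; exact absurd h7 (by decide)
    · exact h7
  · exact le_inf (h.CS_le _) (R3_le_L1 h)

theorem maxP_L1 (h : Emb (S : Subgroup G) u) : IsMaxP 2 (L1 h) (CS u kS3) := by
  rw [← S_inf_L1 h]
  exact isMaxP_inter (maxP_N1 h) (fun x hx => hx.1) (L1_norm h)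

/-- two elements of `N1` sending two classes to one class -/
theorem perm_inj (h : Emb (S : Subgroup G) u) {n : G} (hn : n ∈ N1 u) {c c' d : ℕ} (hc : IE c)
    (hc' : IE c') (h1 : Sim (CS u kA1) (n * u c * n⁻¹) (u d))
    (h2 : Sim (CS u kA1) (n * u c' * n⁻¹) (u d)) : c = c' := by
  apply e_inj h hc hc'
  have h3 := (h1.trans h2.symm).conj (inv_mem (N1_nA1 hn))
  have h4 : ∀ x : G, n⁻¹ * (n * x * n⁻¹) * n⁻¹⁻¹ = x := fun x => by group
  rwa [h4, h4] at h3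

theorem u4_64 (h : Emb (S : Subgroup G) u) : u 4 * u 64 * (u 4)⁻¹ = u 64 := by
  rw [← cc_u h (by norm_num) (by norm_num)]; rfl

theorem u4_8 (h : Emb (S : Subgroup G) u) : u 4 * u 8 * (u 4)⁻¹ = u 72 := by
  rw [← cc_u h (by norm_num) (by norm_num)]; rfl

theorem u4_72 (h : Emb (S : Subgroup G) u) : u 4 * u 72 * (u 4)⁻¹ = u 8 := by
  rw [← cc_u h (by norm_num) (by norm_num)]; rfl

/-- an element fixing the class of `x35` acts on `A1` as an element of `S` -/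
theorem fix_cases (h : Emb (S : Subgroup G) u) {n : G} (hn : n ∈ N1 u)
    (h64 : Sim (CS u kA1) (n * u 64 * n⁻¹) (u 64)) :
    ∃ s ∈ (S : Subgroup G), Sim (CS u kA1) n s := by
  obtain ⟨d, hd, h1⟩ := perm h hn (c := 8) (Or.inr (Or.inl rfl))
  rcases hd with rfl | rfl | rfl
  · exact absurd (perm_inj h hn (Or.inr (Or.inl rfl)) (Or.inl rfl) h1 h64) (by norm_num)
  · obtain ⟨s, hs, h2⟩ := L1_cases h (mem_L1_of h hn h64 h1)
    exact ⟨s, h.CS_le _ hs, h2⟩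
  · have hu4 : u 4 ∈ (S : Subgroup G) := h.mem (by norm_num)
    have hn' : n * u 4 ∈ N1 u := mul_mem hn (S_le_N1 h hu4)
    have h2 : n * u 4 * u 64 * (n * u 4)⁻¹ = n * u 64 * n⁻¹ := by
      have : n * u 4 * u 64 * (n * u 4)⁻¹ = n * (u 4 * u 64 * (u 4)⁻¹) * n⁻¹ := by group
      rw [this, u4_64 h]
    have h3 : n * u 4 * u 8 * (n * u 4)⁻¹ = n * u 64 * n⁻¹ * (n * u 8 * n⁻¹) := by
      have : n * u 4 * u 8 * (n * u 4)⁻¹ = n * (u 4 * u 8 * (u 4)⁻¹) * n⁻¹ := by group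
      rw [this, u4_8 h, u72 h]; group
    have h4 : Sim (CS u kA1) (n * u 4 * u 8 * (n * u 4)⁻¹) (u 8) := by
      rw [h3]
      have h5 := h64.mul h1 (e_nA1 h (Or.inr (Or.inr rfl)))
      have h6 : u 64 * u 72 = u 8 := by
        rw [← h.mul (by norm_num) (by norm_num)]; rfl
      rwa [h6] at h5
    obtain ⟨s, hs, h5⟩ := L1_cases h (mem_L1_of h hn' (by rw [h2]; exact h64) h4)
    refine ⟨s * (u 4)⁻¹, mul_mem (h.CS_le _ hs) (inv_mem hu4), ?_⟩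
    have h6 := h5.mul (Sim.refl (u 4)⁻¹) (inv_mem (N1_nA1 (S_le_N1 h hu4)))
    have h7 : n * u 4 * (u 4)⁻¹ = n := by group
    rwa [h7] at h6

/-- action on `A1 / W1` -/
theorem perm_v (h : Emb (S : Subgroup G) u) {n : G} (hn : n ∈ N1 u) {c v w c' v' w' : ℕ}
    (hc : Lab c v w) (hc' : Lab c' v' w') (h1 : Sim (CS u kA1) (n * u c * n⁻¹) (u c')) :
    (u v')⁻¹ * (n * u v * n⁻¹) ∈ CS u kW1 := by
  have hvA : v < 1024 ∧ sb v kA1 = true ∧ zz (cm c v) = true ∧ sb v kW1 = false := by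
    rcases hc with ⟨rfl, rfl, rfl⟩ | ⟨rfl, rfl, rfl⟩ | ⟨rfl, rfl, rfl⟩ <;>
      exact ⟨by norm_num, by decide, by decide, by decide⟩
  have hv' : v' < 1024 := by
    rcases hc' with ⟨rfl, rfl, rfl⟩ | ⟨rfl, rfl, rfl⟩ | ⟨rfl, rfl, rfl⟩ <;> norm_num
  have huv : u v ∈ CS u kA1 := u_mem h closed_kA1 hvA.1 hvA.2.1
  have h2 := h1.comm (N1_nA1 hn) huv
  have h3 : u c * u v * (u c)⁻¹ * (u v)⁻¹ ∈ CS u 512 := by
    rw [← cm_u h hc.ie.lt hvA.1]
    exact mem_of_zz h (cm_lt hc.ie.lt hvA.1) hvA.2.2.1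
  rw [N1_Z h hn h3] at h2
  rw [h2] at h3
  have hx := nrm (N1_nA1 hn) huv
  have hnW : ¬ n * u v * n⁻¹ ∈ CS u kW1 := by
    intro h4
    have h5 := nrm (inv_mem (N1_W1 h hn)) h4
    have h6 : n⁻¹ * (n * u v * n⁻¹) * n⁻¹⁻¹ = u v := by group
    rw [h6, u_mem_CS h closed_kW1 hvA.1, hvA.2.2.2] at h5
    exact absurd h5 (by decide)
  obtain ⟨a, ha, haK, ha2⟩ := (h.mem_CS closed_kA1).1 hx
  rw [← ha2] at h3 hnW ⊢
  rw [← cm_u h hc'.ie.lt ha, ← zz_iff h (cm_lt hc'.ie.lt ha)] at h3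
  rw [u_mem_CS h closed_kW1 ha] at hnW
  rw [← inv_eq h hv', ← h.mul (iv_lt hv') ha, u_mem_CS h closed_kW1 (mu_lt (iv_lt hv') ha)]
  have h8 := of_allb fact8 a ha
  rw [sb_iff.2 haK] at h8
  simp only [Bool.not_true, Bool.false_or, Bool.and_eq_true, Bool.or_eq_true,
    Bool.not_eq_true'] at h8
  have hfin : ∀ {p q r : Bool}, (p = false ∨ q = true) ∨ r = true → p = true → ¬ q = true →
      r = true := by
    intro p q r h1 h2 h3
    rcases h1 with (h1 | h1) | h1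
    · rw [h2] at h1; exact absurd h1 (by decide)
    · exact absurd h1 h3
    · exact h1
  rcases hc' with ⟨rfl, rfl, rfl⟩ | ⟨rfl, rfl, rfl⟩ | ⟨rfl, rfl, rfl⟩
  · exact hfin h8.1.1 h3 hnW
  · exact hfin h8.1.2 h3 hnW
  · exact hfin h8.2 h3 hnW

/-- action on `W1 / U1` -/
theorem perm_w (h : Emb (S : Subgroup G) u) {n : G} (hn : n ∈ N1 u) {c v w c' v' w' : ℕ}
    (hc : Lab c v w) (hc' : Lab c' v' w') (h1 : Sim (CS u kA1) (n * u c * n⁻¹) (u c')) :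
    (u w')⁻¹ * (n * u w * n⁻¹) ∈ CS u 768 := by
  have hvA : w < 1024 ∧ sb w kW1 = true ∧ cm c w = 0 ∧ sb w 768 = false := by
    rcases hc with ⟨rfl, rfl, rfl⟩ | ⟨rfl, rfl, rfl⟩ | ⟨rfl, rfl, rfl⟩ <;>
      exact ⟨by norm_num, by decide, by decide, by decide⟩
  have hv' : w' < 1024 := by
    rcases hc' with ⟨rfl, rfl, rfl⟩ | ⟨rfl, rfl, rfl⟩ | ⟨rfl, rfl, rfl⟩ <;> norm_num
  have huw : u w ∈ CS u kW1 := u_mem h closed_kW1 hvA.1 hvA.2.1
  have huv : u w ∈ CS u kA1 := CS_mono (by decide) huw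
  have h2 := h1.comm (N1_nA1 hn) huv
  have h3 : u c * u w * (u c)⁻¹ * (u w)⁻¹ = 1 := by
    rw [← cm_u h hc.ie.lt hvA.1, hvA.2.2.1, h.zero]
  rw [h3, mul_one, mul_inv_cancel] at h2
  have hx := nrm (N1_W1 h hn) huw
  have hnW : ¬ n * u w * n⁻¹ ∈ CS u 768 := by
    intro h4
    have h5 := nrm (inv_mem (N1_U1 h hn)) h4
    have h6 : n⁻¹ * (n * u w * n⁻¹) * n⁻¹⁻¹ = u w := by group
    rw [h6, u_mem_CS h closed_768 hvA.1, hvA.2.2.2] at h5
    exact absurd h5 (by decide)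
  obtain ⟨a, ha, haK, ha2⟩ := (h.mem_CS closed_kW1).1 hx
  rw [← ha2] at h2 hnW ⊢
  rw [← cm_u h hc'.ie.lt ha, ← h.zero, eq_iff h (by norm_num) (cm_lt hc'.ie.lt ha)] at h2
  rw [u_mem_CS h closed_768 ha] at hnW
  rw [← inv_eq h hv', ← h.mul (iv_lt hv') ha, u_mem_CS h closed_768 (mu_lt (iv_lt hv') ha)]
  have h8 := of_allb fact9 a ha
  rw [sb_iff.2 haK] at h8
  simp only [Bool.not_true, Bool.false_or, Bool.and_eq_true, Bool.or_eq_true,
    Bool.not_eq_true'] at h8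
  have hfin : ∀ {p q r : Bool}, (p = false ∨ q = true) ∨ r = true → p = true → ¬ q = true →
      r = true := by
    intro p q r h1 h2 h3
    rcases h1 with (h1 | h1) | h1
    · rw [h2] at h1; exact absurd h1 (by decide)
    · exact absurd h1 h3
    · exact h1
  have h9 : Nat.beq (cm c' a) 0 = true := by rw [← h2]; rfl
  rcases hc' with ⟨rfl, rfl, rfl⟩ | ⟨rfl, rfl, rfl⟩ | ⟨rfl, rfl, rfl⟩
  · exact hfin h8.1.1 h9 hnW
  · exact hfin h8.1.2 h9 hnW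
  · exact hfin h8.2 h9 hnW

/-- an element of `N1` fixing `x14` modulo `U1` acts on `A1` as an element of `S` -/
theorem fix14 (h : Emb (S : Subgroup G) u) {n : G} (hn : n ∈ N1 u)
    (h14 : (u 128)⁻¹ * (n * u 128 * n⁻¹) ∈ CS u 768) :
    Sim (CS u kA1) (n * u 64 * n⁻¹) (u 64) := by
  obtain ⟨d, hd, h1⟩ := perm h hn (c := 64) (Or.inl rfl)
  have key : ∀ v' w', Lab d v' w' → w' < 1024 → (sb (mu (iv 128) w') 768 = true) := by
    intro v' w' hL hw'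
    have h2 := perm_w h hn (Or.inl ⟨rfl, rfl, rfl⟩) hL h1
    have h3 := mul_mem h14 (inv_mem h2)
    have h4 : (u 128)⁻¹ * (n * u 128 * n⁻¹) * ((u w')⁻¹ * (n * u 128 * n⁻¹))⁻¹
        = (u 128)⁻¹ * u w' := by group
    rw [h4, ← inv_eq h (by norm_num), ← h.mul (iv_lt (by norm_num)) hw',
      u_mem_CS h closed_768 (mu_lt (iv_lt (by norm_num)) hw')] at h3
    exact h3
  rcases hd with rfl | rfl | rfl
  · exact h1
  · exact absurd (key 2 16 (Or.inr (Or.inl ⟨rfl, rfl, rfl⟩)) (by norm_num)) (by decide)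
  · exact absurd (key 34 144 (Or.inr (Or.inr ⟨rfl, rfl, rfl⟩)) (by norm_num)) (by decide)

end

end Cfsg.Agent.SylowL5.Act3
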