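import Mathlib
import Cfsg.Agent.SylowL5.Act3

/-!
# The interface between "existence of the odd elements" and "strong closure"
-/

set_option autoImplicit false
set_option linter.unusedSectionVars false

namespace Cfsg.Agent.SylowL5.GoodDef

open Subgroup
open Cfsg.Agent.SignalizersComponents.RelSylow
open Cfsg.Agent.SylowL5.Setup Cfsg.Agent.SylowL5.Calc Cfsg.Agent.SylowL5.Weak
  Cfsg.Agent.SylowL5.Elem Cfsg.Agent.SylowL5.Tools Cfsg.Agent.SylowL5.WC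
  Cfsg.Agent.SylowL5.Act Cfsg.Agent.SylowL5.Act1 Cfsg.Agent.SylowL5.Act2 Cfsg.Agent.SylowL5.Act3

/-- `k` is a good odd element for the labelling `u` : `x35 ↦ x45 ↦ x35 x45` modulo `U1 = <25,15>` -/
structure Good {G : Type*} [Group G] (u : ℕ → G) (k : G) : Prop where
  c : k * u 512 = u 512 * k
  odd : Odd (orderOf k)
  nQ : k ∈ normalizer (CS u kQ : Set G)
  nA1 : k ∈ normalizer (CS u kA1 : Set G)
  nE1 : k ∈ normalizer (CS u kE1 : Set G)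
  nE2 : k ∈ normalizer (CS u kE2 : Set G)
  a35 : (u 8)⁻¹ * (k * u 64 * k⁻¹) ∈ CS u 768
  a45 : (u 72)⁻¹ * (k * u 8 * k⁻¹) ∈ CS u 768

/-- the pair of good elements: `k` for `u`, `k'` for the dual labelling `u ∘ du` -/
structure Pair {G : Type*} [Group G] (u : ℕ → G) : Prop where
  k3 : ∃ k, Good u k
  k2 : ∃ k, Good (fun a => u (du a)) k

/-- `Γ = C(z) ∩ N(Q) ∩ N(E1) ∩ N(E2)` -/
def Gam {G : Type*} [Group G] (u : ℕ → G) : Subgroup G :=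
  centralizer {u 512} ⊓ normalizer (CS u kQ : Set G) ⊓ normalizer (CS u kE1 : Set G) ⊓
    normalizer (CS u kE2 : Set G)

section
variable {G : Type*} [Group G] {u : ℕ → G}

theorem mem_Gam {x : G} : x ∈ Gam u ↔ x * u 512 = u 512 * x ∧ x ∈ normalizer (CS u kQ : Set G) ∧
    x ∈ normalizer (CS u kE1 : Set G) ∧ x ∈ normalizer (CS u kE2 : Set G) := by
  unfold Gam
  rw [mem_inf, mem_inf, mem_inf, mem_centralizer_singleton_iff]
  tauto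

theorem Good.gam {k : G} (hk : Good u k) : k ∈ Gam u := mem_Gam.2 ⟨hk.c, hk.nQ, hk.nE1, hk.nE2⟩

end

section
variable {G : Type*} [Group G] [Finite G] {S : Sylow 2 G} {u : ℕ → G}

theorem Good.N1 {k : G} (hk : Good u k) : k ∈ Act1.N1 u := mem_N1.2 ⟨hk.c, hk.nA1⟩

theorem Good.sim64 (h : Emb (S : Subgroup G) u) {k : G} (hk : Good u k) :
    Sim (CS u kA1) (k * u 64 * k⁻¹) (u 8) := by
  have h1 := Sim.mul_right (a := u 8) (commA1 h) (CS_mono (K' := kA1) (by decide) hk.a35)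
  rwa [mul_inv_cancel_left] at h1

theorem Good.sim8 (h : Emb (S : Subgroup G) u) {k : G} (hk : Good u k) :
    Sim (CS u kA1) (k * u 8 * k⁻¹) (u 72) := by
  have h1 := Sim.mul_right (a := u 72) (commA1 h) (CS_mono (K' := kA1) (by decide) hk.a45)
  rwa [mul_inv_cancel_left] at h1

theorem Good.sim72 (h : Emb (S : Subgroup G) u) {k : G} (hk : Good u k) :
    Sim (CS u kA1) (k * u 72 * k⁻¹) (u 64) := by
  have h1 := (hk.sim64 h).mul (hk.sim8 h) (e_nA1 h (Or.inr (Or.inr rfl)))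
  have h2 : k * u 64 * k⁻¹ * (k * u 8 * k⁻¹) = k * u 72 * k⁻¹ := by rw [u72 h]; group
  have h3 : u 8 * u 72 = u 64 := by
    rw [← h.mul (by norm_num) (by norm_num)]; rfl
  rwa [h2, h3] at h1

/-- `x24 ↦ x23 ↦ x23 x24 ↦ x24` modulo `W1` -/
theorem Good.v32 (h : Emb (S : Subgroup G) u) {k : G} (hk : Good u k) :
    (u 2)⁻¹ * (k * u 32 * k⁻¹) ∈ CS u kW1 :=
  perm_v h hk.N1 (Or.inl ⟨rfl, rfl, rfl⟩) (Or.inr (Or.inl ⟨rfl, rfl, rfl⟩)) (hk.sim64 h)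

theorem Good.v2 (h : Emb (S : Subgroup G) u) {k : G} (hk : Good u k) :
    (u 34)⁻¹ * (k * u 2 * k⁻¹) ∈ CS u kW1 :=
  perm_v h hk.N1 (Or.inr (Or.inl ⟨rfl, rfl, rfl⟩)) (Or.inr (Or.inr ⟨rfl, rfl, rfl⟩)) (hk.sim8 h)

theorem Good.v34 (h : Emb (S : Subgroup G) u) {k : G} (hk : Good u k) :
    (u 32)⁻¹ * (k * u 34 * k⁻¹) ∈ CS u kW1 :=
  perm_v h hk.N1 (Or.inr (Or.inr ⟨rfl, rfl, rfl⟩)) (Or.inl ⟨rfl, rfl, rfl⟩) (hk.sim72 h)

/-- `x14 ↦ x13 ↦ x13 x14 ↦ x14` modulo `U1` -/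
theorem Good.w128 (h : Emb (S : Subgroup G) u) {k : G} (hk : Good u k) :
    (u 16)⁻¹ * (k * u 128 * k⁻¹) ∈ CS u 768 :=
  perm_w h hk.N1 (Or.inl ⟨rfl, rfl, rfl⟩) (Or.inr (Or.inl ⟨rfl, rfl, rfl⟩)) (hk.sim64 h)

theorem Good.w16 (h : Emb (S : Subgroup G) u) {k : G} (hk : Good u k) :
    (u 144)⁻¹ * (k * u 16 * k⁻¹) ∈ CS u 768 :=
  perm_w h hk.N1 (Or.inr (Or.inl ⟨rfl, rfl, rfl⟩)) (Or.inr (Or.inr ⟨rfl, rfl, rfl⟩)) (hk.sim8 h)

theorem Good.w144 (h : Emb (S : Subgroup G) u) {k : G} (hk : Good u k) :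
    (u 128)⁻¹ * (k * u 144 * k⁻¹) ∈ CS u 768 :=
  perm_w h hk.N1 (Or.inr (Or.inr ⟨rfl, rfl, rfl⟩)) (Or.inl ⟨rfl, rfl, rfl⟩) (hk.sim72 h)

theorem Good.nW1 (h : Emb (S : Subgroup G) u) {k : G} (hk : Good u k) :
    k ∈ normalizer (CS u kW1 : Set G) := N1_W1 h hk.N1

theorem Good.nU1 (h : Emb (S : Subgroup G) u) {k : G} (hk : Good u k) :
    k ∈ normalizer (CS u 768 : Set G) := N1_U1 h hk.N1

end

end Cfsg.Agent.SylowL5.GoodDef
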