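import Mathlib
import Cfsg.Agent.SylowL5.GoodDef

/-!
# `N_{C(z)}(Q)` normalises `E1` and `E2`

The inputs `E1c` and `Qc` (fusion of the elements of `E1` resp. of the involutions of `Q` inside `Gam u`)
come from `SylowL5.Closed1`.
-/

set_option autoImplicit false
set_option linter.unusedSectionVars false

namespace Cfsg.Agent.SylowL5.Closed2

open Subgroup
open Cfsg.Agent.SignalizersComponents.RelSylow
open Cfsg.Agent.SylowL5.Setup Cfsg.Agent.SylowL5.Calc Cfsg.Agent.SylowL5.Weak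
  Cfsg.Agent.SylowL5.Elem Cfsg.Agent.SylowL5.Tools Cfsg.Agent.SylowL5.WC
  Cfsg.Agent.SylowL5.Act Cfsg.Agent.SylowL5.Act1 Cfsg.Agent.SylowL5.Act2 Cfsg.Agent.SylowL5.Act3
  Cfsg.Agent.SylowL5.GoodDef

/-- the commutators of the root elements of `K` with those of `L` lie in `M` -/
def commc (K L M : ℕ) : Bool := allb 10 fun j => !(tb K j) || allb 10 fun k => !(tb L k) ||
  sb (cm (Nat.pow 2 j) (Nat.pow 2 k)) M

theorem closed_640 : closedK 640 = true := by decide
theorem closed_kT0 : closedK kT0 = true := by decide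
theorem closed_kE1 : closedK kE1 = true := by decide
theorem closed_kE2 : closedK kE2 = true := by decide
theorem gen_640 : genK 640 = true := by decide +kernel
theorem gen_kT0 : genK kT0 = true := by decide +kernel
theorem gen_kQ : genK kQ = true := by decide +kernel
theorem gen_kE1 : genK kE1 = true := by decide +kernel
theorem gen_kE2 : genK kE2 = true := by decide +kernel

section
variable {G : Type*} [Group G] {S : Subgroup G} {u : ℕ → G}

/-- commutators of two coordinate subgroups -/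
theorem comm_le (h : Emb S u) {K L M : ℕ} (hK : closedK K = true) (hgK : genK K = true)
    (hL : closedK L = true) (hgL : genK L = true) (hM : closedK M = true)
    (hKM : CS u K ≤ normalizer (CS u M : Set G)) (hLM : CS u L ≤ normalizer (CS u M : Set G))
    (hc : commc K L M = true) :
    ∀ x ∈ CS u K, ∀ y ∈ CS u L, x * y * x⁻¹ * y⁻¹ ∈ CS u M := by
  intro x hx
  apply comm_of_gens h hL hgL hLM
  intro k hk hkL
  have h1 : ∀ x ∈ CS u K, u (2 ^ k) * x * (u (2 ^ k))⁻¹ * x⁻¹ ∈ CS u M := by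
    apply comm_of_gens h hK hgK hKM
    intro j hj hjK
    have h2 := of_allb hc j hj
    simp only [hjK, Bool.not_true, Bool.false_or] at h2
    have h3 := of_allb h2 k hk
    simp only [hkL, Bool.not_true, Bool.false_or] at h3
    have h4 := cm_mem h hM (two_pow_lt hj) (two_pow_lt hk) h3
    have h5 : u (2 ^ k) * u (2 ^ j) * (u (2 ^ k))⁻¹ * (u (2 ^ j))⁻¹
        = (u (2 ^ j) * u (2 ^ k) * (u (2 ^ j))⁻¹ * (u (2 ^ k))⁻¹)⁻¹ := by group
    rw [h5]
    exact inv_mem h4
  have h2 := inv_mem (h1 x hx)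
  have h3 : (u (2 ^ k) * x * (u (2 ^ k))⁻¹ * x⁻¹)⁻¹ = x * u (2 ^ k) * x⁻¹ * (u (2 ^ k))⁻¹ := by
    group
  rwa [h3] at h2

theorem bits_768 {k : ℕ} (hk : k < 10) (hkK : tb 768 k = true) : k = 8 ∨ k = 9 := by
  have := of_allb (P := fun k => !(tb 768 k) || Nat.beq k 8 || Nat.beq k 9) (N := 10) (by decide) k hk
  simpa [hkK] using this

theorem bits_640 {k : ℕ} (hk : k < 10) (hkK : tb 640 k = true) : k = 7 ∨ k = 9 := by
  have := of_allb (P := fun k => !(tb 640 k) || Nat.beq k 7 || Nat.beq k 9) (N := 10) (by decide) k hk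
  simpa [hkK] using this

theorem du_512 : du 512 = 512 := by decide +kernel

/-- `W1 = A1 ∩ Q` -/
theorem mem_W1 (h : Emb S u) {x : G} : x ∈ CS u kW1 ↔ x ∈ CS u kA1 ∧ x ∈ CS u kQ := by
  constructor
  · intro hx
    exact ⟨CS_mono (by decide) hx, CS_mono (by decide) hx⟩
  · rintro ⟨h1, h2⟩
    obtain ⟨a, ha, haK, rfl⟩ := (h.mem_CS closed_kA1).1 h1
    rw [u_mem_CS h closed_kQ ha] at h2
    rw [u_mem_CS h closed_kW1 ha]
    have h3 := of_allb (P := fun a => !(sb a kA1) || !(sb a kQ) || sb a kW1) (N := 1024)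
      (by decide +kernel) a ha
    rw [sb_iff.2 haK, h2] at h3
    simpa using h3

theorem CS_du_E1 (h : Emb S u) : CS (fun a => u (du a)) kE1 = CS u kE2 :=
  CS_comp h isAut_du closed_kE1 closed_kE2 (by decide +kernel) (by decide +kernel)

theorem CS_du_E2 (h : Emb S u) : CS (fun a => u (du a)) kE2 = CS u kE1 :=
  CS_comp h isAut_du closed_kE2 closed_kE1 (by decide +kernel) (by decide +kernel)

theorem CS_du_768 (h : Emb S u) : CS (fun a => u (du a)) 768 = CS u 640 :=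
  CS_comp h isAut_du closed_768 closed_640 (by decide +kernel) (by decide +kernel)

theorem CS_du_640 (h : Emb S u) : CS (fun a => u (du a)) 640 = CS u 768 :=
  CS_comp h isAut_du closed_640 closed_768 (by decide +kernel) (by decide +kernel)

theorem CS_du_T0 (h : Emb S u) : CS (fun a => u (du a)) kT0 = CS u kT0 :=
  CS_comp h isAut_du closed_kT0 closed_kT0 (by decide +kernel) (by decide +kernel)

theorem Gam_du [Finite G] (h : Emb S u) : Gam (fun a => u (du a)) = Gam u := by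
  unfold Gam
  rw [CS_du_E1 h, CS_du_E2 h, CS_du_Q h]
  show centralizer {u (du 512)} ⊓ _ ⊓ _ ⊓ _ = _
  rw [du_512, inf_assoc, inf_comm (normalizer (CS u kE2 : Set G)), ← inf_assoc]

end

section
variable {G : Type*} [Group G] [Finite G] {S : Sylow 2 G} {u : ℕ → G}

/-- elements of `C(z)` normalising `S` normalise `U2 = <14,15>` -/
theorem NS_U2 (h : Emb (S : Subgroup G) u) {n : G} (hn : n * u 512 = u 512 * n)
    (hnS : cj n (S : Subgroup G) = S) : n ∈ normalizer (CS u 640 : Set G) := by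
  have hA1 : n ∈ normalizer (CS u kA1 : Set G) := by
    rw [← cj_eq_iff]
    exact (wA1 h).2 n (mem_top _) ((cj_mono (h.CS_le _)).trans hnS.le)
  have hQ : n ∈ normalizer (CS u kQ : Set G) := by
    rw [← cj_eq_iff]
    exact (wQ h).2 n (mem_centralizer_singleton_iff.2 hn) ((cj_mono (h.CS_le _)).trans hnS.le)
  have hW1 : ∀ w ∈ CS u kW1, n * w * n⁻¹ ∈ CS u kW1 := by
    intro w hw
    rw [mem_W1 h] at hw ⊢
    exact ⟨nrm hA1 hw.1, nrm hQ hw.2⟩
  have hS : ∀ s ∈ (S : Subgroup G), n * s * n⁻¹ ∈ (S : Subgroup G) := by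
    intro s hs
    rw [← hnS]
    exact conj_mem_cj hs
  have hSn : (S : Subgroup G) ≤ normalizer (CS u 640 : Set G) :=
    S_normalizes h closed_640 gen_640 (by decide +kernel)
  have hcomm : ∀ x ∈ CS u kW1, ∀ y ∈ (S : Subgroup G), x * y * x⁻¹ * y⁻¹ ∈ CS u 640 := by
    rw [S_eq h]
    exact comm_le h closed_kW1 gen_kW1 closed_1023 gen_1023 closed_640
      ((h.CS_le _).trans hSn) ((h.CS_le _).trans hSn) (by decide +kernel)
  apply mem_normalizer_of_gens h closed_640 gen_640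
  intro k hk hkK
  rcases bits_640 hk hkK with rfl | rfl
  · have h1 : u (2 ^ 7) = u 16 * u 4 * (u 16)⁻¹ * (u 4)⁻¹ := by
      rw [← cm_u h (by norm_num) (by norm_num)]
      congr 1
    have h2 := hcomm _ (hW1 _ (u_mem h closed_kW1 (a := 16) (by norm_num) (by decide))) _
      (hS _ (h.mem (a := 4) (by norm_num)))
    rw [h1]
    have h3 : n * (u 16 * u 4 * (u 16)⁻¹ * (u 4)⁻¹) * n⁻¹
        = n * u 16 * n⁻¹ * (n * u 4 * n⁻¹) * (n * u 16 * n⁻¹)⁻¹ * (n * u 4 * n⁻¹)⁻¹ := by group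
    rw [h3]
    exact h2
  · rw [show (2 : ℕ) ^ 9 = 512 from rfl, hn, mul_inv_cancel_right]
    exact u_mem h closed_640 (by norm_num) (by decide)

/-- elements of `C(z)` normalising `S` normalise `U1 = <25,15>` -/
theorem NS_U1 (h : Emb (S : Subgroup G) u) {n : G} (hn : n * u 512 = u 512 * n)
    (hnS : cj n (S : Subgroup G) = S) : n ∈ normalizer (CS u 768 : Set G) := by
  have h1 := NS_U2 (emb_du h) (n := n) (by
    show n * u (du 512) = u (du 512) * n
    rw [du_512]; exact hn) hnS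
  rwa [CS_du_640 h] at h1

/-- `[S, T0] ≤ Z` -/
theorem comm_T0 (h : Emb (S : Subgroup G) u) :
    ∀ r ∈ (S : Subgroup G), ∀ t ∈ CS u kT0, r * t * r⁻¹ * t⁻¹ ∈ CS u 512 := by
  have hSn : (S : Subgroup G) ≤ normalizer (CS u 512 : Set G) :=
    S_normalizes h closed_512 gen_512 (by decide +kernel)
  rw [S_eq h]
  exact comm_le h closed_1023 gen_1023 closed_kT0 gen_kT0 closed_512
    ((h.CS_le _).trans hSn) ((h.CS_le _).trans hSn) (by decide +kernel)

theorem nE1 (h : Emb (S : Subgroup G) u)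
    (hE : ∀ e ∈ CS u kE1, ∃ g ∈ Gam u, g * e * g⁻¹ ∈ CS u 768)
    (hQ : ∀ q ∈ CS u kQ, q * q = 1 → ∃ g ∈ Gam u, g * q * g⁻¹ ∈ CS u kT0)
    {n : G} (hn : n * u 512 = u 512 * n) (hnQ : n ∈ normalizer (CS u kQ : Set G)) :
    n ∈ normalizer (CS u kE1 : Set G) := by
  let N : Subgroup G := centralizer {u 512} ⊓ normalizer (CS u kQ : Set G)
  have hmemN : ∀ {x : G}, x ∈ N ↔ x * u 512 = u 512 * x ∧ x ∈ normalizer (CS u kQ : Set G) := by
    intro x
    show x ∈ centralizer {u 512} ⊓ normalizer (CS u kQ : Set G) ↔ _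
    rw [mem_inf, mem_centralizer_singleton_iff]
  have hGN : Gam u ≤ N := by
    intro x hx
    rw [mem_Gam] at hx
    exact hmemN.2 ⟨hx.1, hx.2.1⟩
  have hSN : (S : Subgroup G) ≤ N := le_inf (S_le_C h) (S_norm_Q h)
  have hSZ : (S : Subgroup G) ≤ normalizer (CS u 512 : Set G) :=
    S_normalizes h closed_512 gen_512 (by decide +kernel)
  -- step (a)
  have ha : ∀ m ∈ N, m * u 256 * m⁻¹ ∈ CS u kE1 := by
    intro m hm
    have hq : m * u 256 * m⁻¹ ∈ CS u kQ :=
      nrm (hmemN.1 hm).2 (u_mem h closed_kQ (by norm_num) (by decide))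
    have hq2 : m * u 256 * m⁻¹ * (m * u 256 * m⁻¹) = 1 := by
      have h1 : u 256 * u 256 = 1 := by
        rw [← h.mul (by norm_num) (by norm_num), ← h.zero]; rfl
      have h2 : m * u 256 * m⁻¹ * (m * u 256 * m⁻¹) = m * (u 256 * u 256) * m⁻¹ := by group
      rw [h2, h1]; group
    obtain ⟨g, hg, ht⟩ := hQ _ hq hq2
    set t := g * (m * u 256 * m⁻¹) * g⁻¹ with htdef
    obtain ⟨n', hn', hn'S, hn't⟩ := exists_burnside (M := N) (D := CS u 512)
      (R := (S : Subgroup G)) (t := u 256) (t' := t) (c := g * m) (isMaxP_of_le S hSN)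
      (fun m hm d hd => by rw [Z_central h (hmemN.1 hm).1 d hd]; exact hd)
      (fun r hr => comm_T0 h r hr _ (u_mem h closed_kT0 (by norm_num) (by decide)))
      (fun r hr => comm_T0 h r hr _ ht)
      (N.mul_mem (hGN hg) hm) (by rw [htdef]; group)
    have h1 := NS_U1 h (hmemN.1 hn').1 hn'S
    have h2 : n' * u 256 * n'⁻¹ ∈ CS u 768 :=
      nrm h1 (u_mem h closed_768 (by norm_num) (by decide))
    have h3 : t ∈ CS u 768 := by
      have h4 : t = (n' * u 256 * n'⁻¹ * t⁻¹)⁻¹ * (n' * u 256 * n'⁻¹) := by group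
      rw [h4]
      exact mul_mem (inv_mem (CS_mono (K' := 768) (by decide) hn't)) h2
    have h4 : t ∈ CS u kE1 := CS_mono (K' := kE1) (by decide) h3
    have h5 := nrm (inv_mem (mem_Gam.1 hg).2.2.1) h4
    have h6 : g⁻¹ * t * g⁻¹⁻¹ = m * u 256 * m⁻¹ := by rw [htdef]; group
    rwa [h6] at h5
  -- step (b)
  have hb : ∀ m ∈ N, ∀ x ∈ CS u 768, m * x * m⁻¹ ∈ CS u kE1 := by
    intro m hm
    apply conj_of_gens h closed_768 gen_768
    intro k hk hkK
    rcases bits_768 hk hkK with rfl | rfl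
    · exact ha m hm
    · rw [show (2 : ℕ) ^ 9 = 512 from rfl, (hmemN.1 hm).1, mul_inv_cancel_right]
      exact u_mem h closed_kE1 (by norm_num) (by decide)
  have hc : ∀ e ∈ CS u kE1, n * e * n⁻¹ ∈ CS u kE1 := by
    intro e he
    obtain ⟨g, hg, hge⟩ := hE e he
    have h1 := hb (n * g⁻¹) (N.mul_mem (hmemN.2 ⟨hn, hnQ⟩) (N.inv_mem (hGN hg))) _ hge
    have h2 : n * g⁻¹ * (g * e * g⁻¹) * (n * g⁻¹)⁻¹ = n * e * n⁻¹ := by group
    rwa [h2] at h1
  rw [← cj_eq_iff]
  exact cj_eq_of_le (cj_le_iff.2 hc) le_rfl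

theorem nE2 (h : Emb (S : Subgroup G) u)
    (hE : ∀ e ∈ CS u kE2, ∃ g ∈ Gam u, g * e * g⁻¹ ∈ CS u 640)
    (hQ : ∀ q ∈ CS u kQ, q * q = 1 → ∃ g ∈ Gam u, g * q * g⁻¹ ∈ CS u kT0)
    {n : G} (hn : n * u 512 = u 512 * n) (hnQ : n ∈ normalizer (CS u kQ : Set G)) :
    n ∈ normalizer (CS u kE2 : Set G) := by
  have h1 := nE1 (emb_du h) (n := n)
    (by rw [CS_du_E1 h, Gam_du h, CS_du_768 h]; exact hE)
    (by rw [CS_du_Q h, Gam_du h, CS_du_T0 h]; exact hQ)
    (by
      show n * u (du 512) = u (du 512) * n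
      rw [du_512]; exact hn) (by rw [CS_du_Q h]; exact hnQ)
  rwa [CS_du_E1 h] at h1

end

end Cfsg.Agent.SylowL5.Closed2
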