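import Mathlib
import Cfsg.Agent.SylowL5.Closed2

/-!
# Involutions of `S` under `Γ = C(z) ∩ N(Q) ∩ N(E1) ∩ N(E2)`; no involution of `Q` is fused out of `Q`

`inv_Q`, `E1_conj`, `to24`, `inv_A`, `no_fus`.
-/

set_option autoImplicit false
set_option linter.unusedSectionVars false

namespace Cfsg.Agent.SylowL5.Closed1

open Subgroup
open Cfsg.Agent.SignalizersComponents.RelSylow
open Cfsg.Agent.SylowL5.Setup Cfsg.Agent.SylowL5.Calc Cfsg.Agent.SylowL5.Weak
  Cfsg.Agent.SylowL5.Elem Cfsg.Agent.SylowL5.Tools Cfsg.Agent.SylowL5.WC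
  Cfsg.Agent.SylowL5.Act Cfsg.Agent.SylowL5.Act1 Cfsg.Agent.SylowL5.Act2 Cfsg.Agent.SylowL5.Act3
  Cfsg.Agent.SylowL5.GoodDef Cfsg.Agent.SylowL5.Closed2

/-! ### code facts -/

theorem closed_913 : closedK 913 = true := by decide
theorem closed_977 : closedK 977 = true := by decide
theorem closed_984 : closedK 984 = true := by decide
theorem closed_976 : closedK 976 = true := by decide
theorem closed_960 : closedK 960 = true := by decide
theorem closed_832 : closedK 832 = true := by decide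
theorem closed_896 : closedK 896 = true := by decide
theorem gen_913 : genK 913 = true := by decide +kernel

/-- `Q = M ∪ 45 M ∪ 35 M ∪ 35·45 M`, `M = 913` -/
theorem tabQ : allb 1024 (fun a => !(sb a kQ) || sb a 977 || sb (mu (iv 8) a) 913 ||
    sb (mu (iv 72) a) 913) = true := by decide +kernel

theorem tab984 : allb 1024 (fun a => !(sb a 984) || sb a 976 || sb (mu (iv 8) a) 912 ||
    sb (mu (iv 72) a) 912) = true := by decide +kernel

theorem tab976 : allb 1024 (fun a => !(sb a 976) || !(Nat.beq (mu a a) 0) || sb a 912 ||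
    sb a 960) = true := by decide +kernel

theorem tab912 : allb 1024 (fun a => !(sb a 912) || sb a 896 || sb (mu (iv 16) a) 768 ||
    sb (mu (iv 144) a) 768) = true := by decide +kernel

theorem tab840 : allb 1024 (fun a => !(sb a 840) || sb a 832 || sb (mu (iv 8) a) 768 ||
    sb (mu (iv 72) a) 768) = true := by decide +kernel

theorem tabInt : allb 1024 (fun a => !(sb a 840) || !(sb a 896) || sb a 768) = true := by
  decide +kernel

theorem tabS : allb 1024 (fun a => !(zz (mu a a)) || sb a kQ || sb (mu (iv 32) a) kQ ||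
    sb (mu (iv 2) a) kQ || sb (mu (iv 34) a) kQ || sb (mu (iv (du 2)) a) kQ ||
    sb (mu (iv (du 34)) a) kQ) = true := by decide +kernel

theorem tab24 : allb 1024 (fun a => !(sb (mu (iv 32) a) kQ) || !(Nat.beq (mu a a) 0) ||
    sb a kA1 || sb a kA2) = true := by decide +kernel

theorem du_32 : du 32 = 32 := by decide +kernel
theorem du_2_lt : du 2 < 1024 := by decide +kernel
theorem du_34_lt : du 34 < 1024 := by decide +kernel

section
variable {G : Type*} [Group G] {S : Subgroup G} {u : ℕ → G}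

/-- membership in a coset `u c · CS u K` -/
theorem coset_mem (h : Emb S u) {K a c : ℕ} (hK : closedK K = true) (ha : a < 1024) (hc : c < 1024)
    (hs : sb (mu (iv c) a) K = true) : (u c)⁻¹ * u a ∈ CS u K := by
  rw [← inv_eq h hc, ← h.mul (iv_lt hc) ha]
  exact u_mem h hK (mu_lt (iv_lt hc) ha) hs

/-- the action of `k` on cosets -/
theorem step {M : Subgroup G} {k x a b : G} (hk : ∀ m ∈ M, k * m * k⁻¹ ∈ M) (hx : a⁻¹ * x ∈ M)
    (hab : b⁻¹ * (k * a * k⁻¹) ∈ M) : b⁻¹ * (k * x * k⁻¹) ∈ M := by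
  have h1 := mul_mem hab (hk _ hx)
  have h2 : b⁻¹ * (k * a * k⁻¹) * (k * (a⁻¹ * x) * k⁻¹) = b⁻¹ * (k * x * k⁻¹) := by group
  rwa [h2] at h1

/-- `a ↦ b ↦ c ↦ a` modulo `M`: elements of `b M ∪ c M` are brought into `a M`. -/
theorem cycle {M : Subgroup G} {Γ : Subgroup G} {k x a b c : G} (hkΓ : k ∈ Γ)
    (hk : ∀ m ∈ M, k * m * k⁻¹ ∈ M) (hbc : c⁻¹ * (k * b * k⁻¹) ∈ M) (hca : a⁻¹ * (k * c * k⁻¹) ∈ M)
    (hx : b⁻¹ * x ∈ M ∨ c⁻¹ * x ∈ M) : ∃ g ∈ Γ, a⁻¹ * (g * x * g⁻¹) ∈ M := by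
  rcases hx with hx | hx
  · refine ⟨k * k, mul_mem hkΓ hkΓ, ?_⟩
    have h1 := step hk (step hk hx hbc) hca
    have h2 : k * k * x * (k * k)⁻¹ = k * (k * x * k⁻¹) * k⁻¹ := by group
    rwa [h2]
  · exact ⟨k, hkΓ, step hk hx hca⟩

end

section
variable {G : Type*} [Group G] [Finite G] {S : Sylow 2 G} {u : ℕ → G}

theorem gen_kE1' : genK kE1 = true := gen_kE1

theorem S_le_Gam (h : Emb (S : Subgroup G) u) : (S : Subgroup G) ≤ Gam u := by
  intro s hs
  refine mem_Gam.2 ⟨mem_centralizer_singleton_iff.1 (S_le_C h hs), S_norm_Q h hs, ?_, ?_⟩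
  · exact S_normalizes h closed_kE1 gen_kE1 (by decide +kernel) hs
  · exact S_normalizes h closed_kE2 gen_kE2 (by decide +kernel) hs

/-- the third arrow `x35 x45 ↦ x35` modulo `U1` -/
theorem good_a72 (h : Emb (S : Subgroup G) u) {k : G} (hk : Good u k) :
    (u 64)⁻¹ * (k * u 72 * k⁻¹) ∈ CS u 768 := by
  have h1 : u 72 = u 64 * u 8 := u72 h
  have h3 : u 8 * u 72 = u 64 := by
    rw [← h.mul (by norm_num) (by norm_num)]; rfl
  have h4 : k * u 72 * k⁻¹ = (k * u 64 * k⁻¹) * (k * u 8 * k⁻¹) := by rw [h1]; group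
  have hn : (u 72)⁻¹ ∈ normalizer (CS u 768 : Set G) :=
    inv_mem (S_normalizes h closed_768 gen_768 (by decide +kernel) (h.mem (by norm_num)))
  have h5 : (u 64)⁻¹ * (k * u 72 * k⁻¹) =
      ((u 72)⁻¹ * ((u 8)⁻¹ * (k * u 64 * k⁻¹)) * (u 72)⁻¹⁻¹) * ((u 72)⁻¹ * (k * u 8 * k⁻¹)) := by
    rw [h4, ← h3]; group
  rw [h5]
  exact mul_mem ((mem_normalizer_iff.1 hn _).1 hk.a35) hk.a45

/-- `k` normalises `M = 913 = E2 U1` -/
theorem good_913 (h : Emb (S : Subgroup G) u) {k : G} (hk : Good u k) :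
    ∀ m ∈ CS u 913, k * m * k⁻¹ ∈ CS u 913 := by
  apply conj_of_gens h closed_913 gen_913
  intro j hj hjK
  have hcov : allb 10 (fun j => !(tb 913 j) || sb (Nat.pow 2 j) kE2 || sb (Nat.pow 2 j) 768) = true := by
    decide +kernel
  have h1 := of_allb hcov j hj
  simp only [hjK, Bool.not_true, Bool.false_or, Bool.or_eq_true] at h1
  rcases h1 with h1 | h1
  · exact CS_mono (K := kE2) (by decide) (nrm hk.nE2 (u_mem h closed_kE2 (two_pow_lt hj) h1))
  · exact CS_mono (K := 768) (by decide) (nrm (hk.nU1 h) (u_mem h closed_768 (two_pow_lt hj) h1))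

/-- (a) elements of `Q` are brought into `977 = <12,13,35,14,25,15>` -/
theorem to977 (h : Emb (S : Subgroup G) u) (hP : Pair u) {q : G} (hq : q ∈ CS u kQ) :
    ∃ g ∈ Gam u, g * q * g⁻¹ ∈ CS u 977 := by
  obtain ⟨k, hk⟩ := hP.k3
  obtain ⟨a, ha, haK, rfl⟩ := (h.mem_CS closed_kQ).1 hq
  have h1 := of_allb tabQ a ha
  simp only [sb_iff.2 haK, Bool.not_true, Bool.false_or, Bool.or_eq_true] at h1
  rcases h1 with (h1 | h1) | h1
  · exact ⟨1, one_mem _, by simpa using u_mem h closed_977 ha h1⟩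
  all_goals
    have hx : (u 8)⁻¹ * u a ∈ CS u 913 ∨ (u 72)⁻¹ * u a ∈ CS u 913 := by
      first
        | exact Or.inl (coset_mem h closed_913 ha (by norm_num) h1)
        | exact Or.inr (coset_mem h closed_913 ha (by norm_num) h1)
    obtain ⟨g, hg, hga⟩ := cycle (Γ := Gam u) hk.gam (good_913 h hk)
      (CS_mono (K := 768) (by decide) hk.a45) (CS_mono (K := 768) (by decide) (good_a72 h hk)) hx
    refine ⟨g, hg, ?_⟩
    have h2 := mul_mem (u_mem h closed_977 (a := 64) (by norm_num) (by decide))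
      (CS_mono (u := u) (K := 913) (K' := 977) (by decide) hga)
    rwa [mul_inv_cancel_left] at h2

/-- (b) `984 = <45,35,13,14,25,15>` is brought into `976` -/
theorem to976 (h : Emb (S : Subgroup G) u) {k : G} (hk : Good u k) {q : G} (hq : q ∈ CS u 984) :
    ∃ g ∈ Gam u, g * q * g⁻¹ ∈ CS u 976 := by
  obtain ⟨a, ha, haK, rfl⟩ := (h.mem_CS closed_984).1 hq
  have h1 := of_allb tab984 a ha
  simp only [sb_iff.2 haK, Bool.not_true, Bool.false_or, Bool.or_eq_true] at h1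
  rcases h1 with (h1 | h1) | h1
  · exact ⟨1, one_mem _, by simpa using u_mem h closed_976 ha h1⟩
  all_goals
    have hx : (u 8)⁻¹ * u a ∈ CS u 912 ∨ (u 72)⁻¹ * u a ∈ CS u 912 := by
      first
        | exact Or.inl (coset_mem h closed_kW1 ha (by norm_num) h1)
        | exact Or.inr (coset_mem h closed_kW1 ha (by norm_num) h1)
    obtain ⟨g, hg, hga⟩ := cycle (Γ := Gam u) hk.gam (fun m hm => nrm (hk.nW1 h) hm)
      (CS_mono (K := 768) (by decide) hk.a45) (CS_mono (K := 768) (by decide) (good_a72 h hk)) hx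
    refine ⟨g, hg, ?_⟩
    have h2 := mul_mem (u_mem h closed_976 (a := 64) (by norm_num) (by decide))
      (CS_mono (u := u) (K := 912) (K' := 976) (by decide) hga)
    rwa [mul_inv_cancel_left] at h2

/-- (c) `W1` is brought into `T0` -/
theorem W1_to (h : Emb (S : Subgroup G) u) {k : G} (hk : Good u k) {q : G} (hq : q ∈ CS u kW1) :
    ∃ g ∈ Gam u, g * q * g⁻¹ ∈ CS u kT0 := by
  obtain ⟨a, ha, haK, rfl⟩ := (h.mem_CS closed_kW1).1 hq
  have h1 := of_allb tab912 a ha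
  have haK' : sb a 912 = true := sb_iff.2 haK
  simp only [haK', Bool.not_true, Bool.false_or, Bool.or_eq_true] at h1
  rcases h1 with (h1 | h1) | h1
  · exact ⟨1, one_mem _, by simpa using u_mem h closed_896 ha h1⟩
  all_goals
    have hx : (u 16)⁻¹ * u a ∈ CS u 768 ∨ (u 144)⁻¹ * u a ∈ CS u 768 := by
      first
        | exact Or.inl (coset_mem h closed_768 ha (by norm_num) h1)
        | exact Or.inr (coset_mem h closed_768 ha (by norm_num) h1)
    obtain ⟨g, hg, hga⟩ := cycle (Γ := Gam u) hk.gam (fun m hm => nrm (hk.nU1 h) hm)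
      (hk.w16 h) (hk.w144 h) hx
    refine ⟨g, hg, ?_⟩
    have h2 := mul_mem (u_mem h closed_896 (a := 128) (by norm_num) (by decide))
      (CS_mono (u := u) (K := 768) (K' := 896) (by decide) hga)
    rwa [mul_inv_cancel_left] at h2

/-! ### the dual labelling -/

theorem CS_du_984 (h : Emb (S : Subgroup G) u) : CS (fun a => u (du a)) 984 = CS u 977 :=
  CS_comp h isAut_du closed_984 closed_977 (by decide +kernel) (by decide +kernel)

theorem CS_du_976 (h : Emb (S : Subgroup G) u) : CS (fun a => u (du a)) 976 = CS u 976 :=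
  CS_comp h isAut_du closed_976 closed_976 (by decide +kernel) (by decide +kernel)

theorem CS_du_W1 (h : Emb (S : Subgroup G) u) : CS (fun a => u (du a)) kW1 = CS u 960 :=
  CS_comp h isAut_du closed_kW1 closed_960 (by decide +kernel) (by decide +kernel)

theorem W2_to (h : Emb (S : Subgroup G) u) {k : G} (hk : Good (fun a => u (du a)) k) {q : G}
    (hq : q ∈ CS u 960) : ∃ g ∈ Gam u, g * q * g⁻¹ ∈ CS u kT0 := by
  have h1 := W1_to (emb_du h) hk (q := q) (by rw [CS_du_W1 h]; exact hq)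
  rwa [Gam_du h, CS_du_T0 h] at h1

theorem sq_conj {g q : G} (hq : q * q = 1) : g * q * g⁻¹ * (g * q * g⁻¹) = 1 := by
  calc g * q * g⁻¹ * (g * q * g⁻¹) = g * (q * q) * g⁻¹ := by group
    _ = 1 := by rw [hq]; group

/-- (1) every involution of `Q` is conjugate under `Γ` into `T0 = <14,25,15>` -/
theorem inv_Q (h : Emb (S : Subgroup G) u) (hP : Pair u) :
    ∀ q ∈ CS u kQ, q * q = 1 → ∃ g ∈ Gam u, g * q * g⁻¹ ∈ CS u kT0 := by
  intro q hq hq2
  obtain ⟨k, hk⟩ := hP.k3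
  obtain ⟨k', hk'⟩ := hP.k2
  obtain ⟨g₁, hg₁, hq₁⟩ := to977 h hP hq
  obtain ⟨g₂, hg₂, hq₂⟩ := to976 (emb_du h) hk' (q := g₁ * q * g₁⁻¹) (by
    rw [CS_du_984 h]; exact hq₁)
  rw [Gam_du h] at hg₂
  rw [CS_du_976 h] at hq₂
  have hsq := sq_conj (g := g₂) (sq_conj (g := g₁) hq2)
  set r := g₂ * (g₁ * q * g₁⁻¹) * g₂⁻¹ with hr
  have key : ∃ g ∈ Gam u, g * r * g⁻¹ ∈ CS u kT0 := by
    obtain ⟨a, ha, haK, har⟩ := (h.mem_CS closed_976).1 hq₂
    rw [← har] at hsq ⊢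
    rw [← h.mul ha ha, ← h.zero] at hsq
    have h0 := h.inj (mu_lt ha ha) (by norm_num) hsq
    have h1 := of_allb tab976 a ha
    have h0' : Nat.beq (mu a a) 0 = true := by rw [Nat.beq_eq]; exact h0
    simp only [sb_iff.2 haK, h0', Bool.not_true, Bool.false_or, Bool.or_eq_true] at h1
    rcases h1 with h1 | h1
    · exact W1_to h hk (u_mem h closed_kW1 ha h1)
    · exact W2_to h hk' (u_mem h closed_960 ha h1)
  obtain ⟨g, hg, hgr⟩ := key
  refine ⟨g * g₂ * g₁, mul_mem (mul_mem hg hg₂) hg₁, ?_⟩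
  have h2 : g * g₂ * g₁ * q * (g * g₂ * g₁)⁻¹ = g * r * g⁻¹ := by rw [hr]; group
  rwa [h2]

theorem E1_conj_aux (h : Emb (S : Subgroup G) u) {k : G} (hk : Good u k)
    (hW2 : ∀ q ∈ CS u 960, ∃ g ∈ Gam u, g * q * g⁻¹ ∈ CS u kT0) :
    ∀ e ∈ CS u kE1, ∃ g ∈ Gam u, g * e * g⁻¹ ∈ CS u 768 := by
  intro e he
  have h832 : ∃ g ∈ Gam u, g * e * g⁻¹ ∈ CS u 832 := by
    obtain ⟨a, ha, haK, rfl⟩ := (h.mem_CS closed_kE1).1 he
    have h1 := of_allb tab840 a ha
    have haK' : sb a 840 = true := sb_iff.2 haK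
    simp only [haK', Bool.not_true, Bool.false_or, Bool.or_eq_true] at h1
    rcases h1 with (h1 | h1) | h1
    · exact ⟨1, one_mem _, by simpa using u_mem h closed_832 ha h1⟩
    all_goals
      have hx : (u 8)⁻¹ * u a ∈ CS u 768 ∨ (u 72)⁻¹ * u a ∈ CS u 768 := by
        first
          | exact Or.inl (coset_mem h closed_768 ha (by norm_num) h1)
          | exact Or.inr (coset_mem h closed_768 ha (by norm_num) h1)
      obtain ⟨g, hg, hga⟩ := cycle (Γ := Gam u) hk.gam (fun m hm => nrm (hk.nU1 h) hm)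
        hk.a45 (good_a72 h hk) hx
      refine ⟨g, hg, ?_⟩
      have h2 := mul_mem (u_mem h closed_832 (a := 64) (by norm_num) (by decide))
        (CS_mono (u := u) (K := 768) (K' := 832) (by decide) hga)
      rwa [mul_inv_cancel_left] at h2
  obtain ⟨g₁, hg₁, he₁⟩ := h832
  obtain ⟨g₂, hg₂, he₂⟩ := hW2 _ (CS_mono (u := u) (K := 832) (K' := 960) (by decide) he₁)
  refine ⟨g₂ * g₁, mul_mem hg₂ hg₁, ?_⟩
  have hE : g₂ * (g₁ * e * g₁⁻¹) * g₂⁻¹ ∈ CS u kE1 :=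
    nrm (mem_Gam.1 hg₂).2.2.1 (nrm (mem_Gam.1 hg₁).2.2.1 he)
  have h2 : g₂ * g₁ * e * (g₂ * g₁)⁻¹ = g₂ * (g₁ * e * g₁⁻¹) * g₂⁻¹ := by group
  rw [h2]
  obtain ⟨a, ha, haK, har⟩ := (h.mem_CS closed_kE1).1 hE
  rw [← har] at he₂ ⊢
  rw [u_mem_CS h closed_kT0 ha] at he₂
  have h1 := of_allb tabInt a ha
  have haK' : sb a 840 = true := sb_iff.2 haK
  have he₂' : sb a 896 = true := he₂
  simp only [haK', he₂', Bool.not_true, Bool.false_or] at h1
  exact u_mem h closed_768 ha h1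

/-- (1') -/
theorem E1_conj (h : Emb (S : Subgroup G) u) (hP : Pair u) :
    ∀ e ∈ CS u kE1, ∃ g ∈ Gam u, g * e * g⁻¹ ∈ CS u 768 := by
  obtain ⟨k, hk⟩ := hP.k3
  obtain ⟨k', hk'⟩ := hP.k2
  exact E1_conj_aux h hk fun q hq => W2_to h hk' hq

theorem CS_du_W2 (h : Emb (S : Subgroup G) u) : CS (fun a => u (du a)) 960 = CS u kW1 :=
  CS_comp h isAut_du closed_960 closed_kW1 (by decide +kernel) (by decide +kernel)

theorem E2_conj (h : Emb (S : Subgroup G) u) (hP : Pair u) :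
    ∀ e ∈ CS u kE2, ∃ g ∈ Gam u, g * e * g⁻¹ ∈ CS u 640 := by
  obtain ⟨k, hk⟩ := hP.k3
  obtain ⟨k', hk'⟩ := hP.k2
  have h1 := E1_conj_aux (emb_du h) hk' (by
    rw [CS_du_W2 h, Gam_du h, CS_du_T0 h]
    exact fun q hq => W1_to h hk hq)
  rwa [CS_du_E1 h, Gam_du h, CS_du_768 h] at h1

/-- `x23 Q ∪ x23 x24 Q` is brought to `x24 Q` -/
theorem to24_aux (h : Emb (S : Subgroup G) u) {k : G} (hk : Good u k) {y : G}
    (hy : (u 2)⁻¹ * y ∈ CS u kQ ∨ (u 34)⁻¹ * y ∈ CS u kQ) :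
    ∃ g ∈ Gam u, (u 32)⁻¹ * (g * y * g⁻¹) ∈ CS u kQ :=
  cycle (Γ := Gam u) hk.gam (fun m hm => nrm hk.nQ hm)
    (CS_mono (K := kW1) (by decide) (hk.v2 h)) (CS_mono (K := kW1) (by decide) (hk.v34 h)) hy

/-- (2) -/
theorem to24_gam (h : Emb (S : Subgroup G) u) (hP : Pair u) :
    ∀ y ∈ (S : Subgroup G), y ∉ CS u kQ → y * y ∈ CS u 512 →
      ∃ g ∈ Gam u, (u 32)⁻¹ * (g * y * g⁻¹) ∈ CS u kQ := by
  intro y hy hyQ hyy
  obtain ⟨k, hk⟩ := hP.k3
  obtain ⟨k', hk'⟩ := hP.k2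
  obtain ⟨a, ha, rfl⟩ := h.surj y hy
  rw [← h.mul ha ha, ← zz_iff h (mu_lt ha ha)] at hyy
  have haQ : sb a kQ = false := by
    cases hc : sb a kQ
    · rfl
    · exact absurd (u_mem h closed_kQ ha hc) hyQ
  have h1 := of_allb tabS a ha
  simp only [hyy, haQ, Bool.not_true, Bool.false_or, Bool.or_eq_true] at h1
  rcases h1 with (((h1 | h1) | h1) | h1) | h1
  · exact ⟨1, one_mem _, by simpa using coset_mem h closed_kQ ha (by norm_num) h1⟩
  · exact to24_aux h hk (Or.inl (coset_mem h closed_kQ ha (by norm_num) h1))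
  · exact to24_aux h hk (Or.inr (coset_mem h closed_kQ ha (by norm_num) h1))
  all_goals
    have hx : (u (du 2))⁻¹ * u a ∈ CS (fun a => u (du a)) kQ ∨
        (u (du 34))⁻¹ * u a ∈ CS (fun a => u (du a)) kQ := by
      rw [CS_du_Q h]
      first
        | exact Or.inl (coset_mem h closed_kQ ha du_2_lt h1)
        | exact Or.inr (coset_mem h closed_kQ ha du_34_lt h1)
    obtain ⟨g, hg, hga⟩ := to24_aux (emb_du h) hk' hx
    rw [Gam_du h] at hg
    rw [CS_du_Q h] at hga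
    refine ⟨g, hg, ?_⟩
    have hga' : (u (du 32))⁻¹ * (g * u a * g⁻¹) ∈ CS u kQ := hga
    rwa [du_32] at hga'

theorem to24 (h : Emb (S : Subgroup G) u) (hP : Pair u) :
    ∀ y ∈ (S : Subgroup G), y ∉ CS u kQ → y * y ∈ CS u 512 →
      ∃ g, g * u 512 = u 512 * g ∧ g ∈ normalizer (CS u kQ : Set G) ∧
        (u 32)⁻¹ * (g * y * g⁻¹) ∈ CS u kQ := by
  intro y hy hyQ hyy
  obtain ⟨g, hg, hgy⟩ := to24_gam h hP y hy hyQ hyy
  exact ⟨g, (mem_Gam.1 hg).1, (mem_Gam.1 hg).2.1, hgy⟩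

/-- (3) involutions of `x24 Q` lie in `A1` or `A2` -/
theorem mem_A_of (h : Emb (S : Subgroup G) u) {t : G} (ht : (u 32)⁻¹ * t ∈ CS u kQ)
    (ht2 : t * t = 1) : t ∈ CS u kA1 ∨ t ∈ CS u kA2 := by
  have htS : t ∈ (S : Subgroup G) := by
    have h1 := mul_mem (h.mem (a := 32) (by norm_num)) (h.CS_le _ ht)
    rwa [mul_inv_cancel_left] at h1
  obtain ⟨a, ha, rfl⟩ := h.surj t htS
  rw [← h.mul ha ha, ← h.zero] at ht2
  have h0 := h.inj (mu_lt ha ha) (by norm_num) ht2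
  have h0' : Nat.beq (mu a a) 0 = true := by rw [Nat.beq_eq]; exact h0
  rw [← inv_eq h (by norm_num), ← h.mul (iv_lt (by norm_num)) ha,
    u_mem_CS h closed_kQ (mu_lt (iv_lt (by norm_num)) ha)] at ht
  have h1 := of_allb tab24 a ha
  simp only [ht, h0', Bool.not_true, Bool.false_or, Bool.or_eq_true] at h1
  rcases h1 with h1 | h1
  · exact Or.inl (u_mem h closed_kA1 ha h1)
  · exact Or.inr (u_mem h closed_kA2 ha h1)

/-- every involution of `S` is conjugate under `Γ` into `A1` or `A2` -/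
theorem inv_A' (h : Emb (S : Subgroup G) u) (hP : Pair u) :
    ∀ t ∈ (S : Subgroup G), t * t = 1 →
      ∃ g ∈ Gam u, (g * t * g⁻¹ ∈ CS u kA1 ∨ g * t * g⁻¹ ∈ CS u kA2) := by
  intro t ht ht2
  by_cases htQ : t ∈ CS u kQ
  · obtain ⟨g, hg, hgt⟩ := inv_Q h hP t htQ ht2
    exact ⟨g, hg, Or.inl (CS_mono (K := kT0) (by decide) hgt)⟩
  · obtain ⟨g, hg, hgt⟩ := to24_gam h hP t ht htQ (by rw [ht2]; exact one_mem _)
    exact ⟨g, hg, mem_A_of h hgt (sq_conj ht2)⟩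

theorem inv_A (h : Emb (S : Subgroup G) u) (hP : Pair u) :
    ∀ t ∈ (S : Subgroup G), t * t = 1 → ∃ g, g * u 512 = u 512 * g ∧
      (g * t * g⁻¹ ∈ CS u kA1 ∨ g * t * g⁻¹ ∈ CS u kA2) := by
  intro t ht ht2
  obtain ⟨g, hg, hgt⟩ := inv_A' h hP t ht ht2
  exact ⟨g, (mem_Gam.1 hg).1, hgt⟩

/-- fusion from `T0` into `A1 ∖ Q` inside `C(z)` is impossible -/
theorem no_fus_aux (h : Emb (S : Subgroup G) u) {q y c : G} (hq : q ∈ CS u kT0)
    (hc : c * u 512 = u 512 * c) (hcq : c * q * c⁻¹ = y) (hy : y ∈ CS u kA1) : y ∈ CS u kQ := by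
  have hC : (S : Subgroup G) ≤ centralizer {u 512} := S_le_C h
  have hW : WeakCl (centralizer {u 512}) (CS u kA1) (S : Subgroup G) :=
    ⟨(wA1 h).1, fun g _ => (wA1 h).2 g (mem_top _)⟩
  obtain ⟨n, hn, hnA, hnq⟩ := exists_normalizer (isMaxP_of_le S hC) hW (commA1 h)
    ((h.CS_le _).trans hC) (a := q) (g := c) (CS_mono (K := kT0) (by decide) hq)
    (mem_centralizer_singleton_iff.2 hc) (by rw [hcq]; exact hy)
  have hnN : n ∈ N1 u := mem_N1.2 ⟨mem_centralizer_singleton_iff.1 hn, cj_eq_iff.1 hnA⟩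
  have h1 : n * q * n⁻¹ ∈ CS u kW1 := nrm (N1_W1 h hnN) (CS_mono (K := kT0) (by decide) hq)
  rw [hnq, hcq] at h1
  exact CS_mono (K := kW1) (by decide) h1

/-- (4) no involution of `Q` is fused in `C(z)` to an element of `S ∖ Q` -/
theorem no_fus (h : Emb (S : Subgroup G) u) (hP : Pair u) :
    ∀ q ∈ CS u kQ, q * q = 1 → ∀ g ∈ centralizer {u 512}, g * q * g⁻¹ ∈ (S : Subgroup G) →
      g * q * g⁻¹ ∈ CS u kQ := by
  intro q hq hq2 g hg hgS
  by_contra hno
  have hg' : g * u 512 = u 512 * g := mem_centralizer_singleton_iff.1 hg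
  obtain ⟨g₁, hg₁, hq₁⟩ := inv_Q h hP q hq hq2
  have hy2 := sq_conj (g := g) hq2
  obtain ⟨g₂, hg₂, hy₂⟩ := to24_gam h hP _ hgS hno (by rw [hy2]; exact one_mem _)
  have hyA := mem_A_of h hy₂ (sq_conj (g := g₂) hy2)
  set c : G := g₂ * g * g₁⁻¹ with hc
  have hcC : c * u 512 = u 512 * c := by
    have a1 : Commute g₂ (u 512) := (mem_Gam.1 hg₂).1
    have a2 : Commute g (u 512) := hg'
    have a3 : Commute g₁ (u 512) := (mem_Gam.1 hg₁).1
    exact ((a1.mul_left a2).mul_left a3.inv_left).eq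
  have hcq : c * (g₁ * q * g₁⁻¹) * c⁻¹ = g₂ * (g * q * g⁻¹) * g₂⁻¹ := by rw [hc]; group
  have hnQ : g₂ * (g * q * g⁻¹) * g₂⁻¹ ∉ CS u kQ := by
    intro h1
    apply hno
    have h2 := nrm (inv_mem (mem_Gam.1 hg₂).2.1) h1
    have h3 : g₂⁻¹ * (g₂ * (g * q * g⁻¹) * g₂⁻¹) * g₂⁻¹⁻¹ = g * q * g⁻¹ := by group
    rwa [h3] at h2
  apply hnQ
  rcases hyA with hyA | hyA
  · exact no_fus_aux h hq₁ hcC hcq hyA
  · have h1 := no_fus_aux (emb_du h) (q := g₁ * q * g₁⁻¹) (c := c)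
      (y := g₂ * (g * q * g⁻¹) * g₂⁻¹) (by rw [CS_du_T0 h]; exact hq₁) (by
        show c * u (du 512) = u (du 512) * c
        rw [du_512]; exact hcC) hcq (by rw [CS_du_A1 h]; exact hyA)
    rwa [CS_du_Q h] at h1

end

end Cfsg.Agent.SylowL5.Closed1
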