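import Mathlib
import Cfsg.Agent.SylowL5.GoodDef

/-!
# Strong closure of `Q`: the elements of order 4
-/

set_option autoImplicit false
set_option linter.unusedSectionVars false

namespace Cfsg.Agent.SylowL5.Closed3

open Subgroup
open Cfsg.Agent.SignalizersComponents.RelSylow
open Cfsg.Agent.SylowL5.Setup Cfsg.Agent.SylowL5.Calc Cfsg.Agent.SylowL5.Weak
  Cfsg.Agent.SylowL5.Elem Cfsg.Agent.SylowL5.Tools Cfsg.Agent.SylowL5.WC
  Cfsg.Agent.SylowL5.Act Cfsg.Agent.SylowL5.Act1 Cfsg.Agent.SylowL5.Act2 Cfsg.Agent.SylowL5.Act3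
  Cfsg.Agent.SylowL5.GoodDef

/-! ### Boolean facts -/

theorem fA : allb 1024 (fun a => !(sb (mu (iv 32) a) kQ) || !(Nat.beq (mu a a) 512) ||
    sb (mu (iv 112) a) kT0) = true := by decide +kernel

theorem fB : allb 1024 (fun b => !(sb b kQ) || !(co b 128) || !(co b 256) ||
    !(Nat.beq (mu b b) 512) || sb (mu (iv 80) b) kT0) = true := by decide +kernel

theorem fJ : allb 1024 (fun a => (!(sb a kJ) || (co a 128 && co a 256 && co a 512)) &&
    (!(co a 128) || !(co a 256) || sb a kJ)) = true := by decide +kernel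

theorem fD : allb 1024 (fun a => !(sb a kJ) || (sb (cm a 112) kT0 && sb (cm a 80) kT0 &&
    sb (cm a 48) kT0 && sb (cm a 64) kT0)) = true := by decide +kernel

theorem closed_kT0 : closedK kT0 = true := by decide
theorem gen_kT0 : genK kT0 = true := by decide +kernel
theorem gen_kQ : genK kQ = true := by decide +kernel

section
variable {G : Type*} [Group G] [Finite G] {S : Sylow 2 G} {u : ℕ → G}

/-- `J` centralises `T0` -/
theorem J_T0 (h : Emb (S : Subgroup G) u) :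
    ∀ x ∈ CS u kJ, ∀ t ∈ CS u kT0, x * t = t * x := by
  intro x hx t ht
  obtain ⟨a, ha, haK, rfl⟩ := (h.mem_CS closed_kJ).1 hx
  have h1 := of_allb fJ a ha
  rw [sb_iff.2 haK] at h1
  simp only [Bool.not_true, Bool.false_or, Bool.and_eq_true] at h1
  have h2 : CS u kT0 ≤ centralizer {u a} := by
    apply le_of_gens h closed_kT0 gen_kT0
    intro k hk hkK
    have h3 : k = 7 ∨ k = 8 ∨ k = 9 := by
      have := of_allb (P := fun k => !(tb kT0 k) || Nat.beq k 7 || Nat.beq k 8 ||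
        Nat.beq k 9) (N := 10) (by decide) k hk
      simp only [hkK, Bool.not_true, Bool.false_or, Bool.or_eq_true, Nat.beq_eq] at this
      tauto
    rw [mem_centralizer_singleton_iff]
    rcases h3 with rfl | rfl | rfl
    · exact ((co_iff h ha (by norm_num)).1 h1.1.1.1).symm
    · exact ((co_iff h ha (by norm_num)).1 h1.1.1.2).symm
    · exact ((co_iff h ha (by norm_num)).1 h1.1.2).symm
  exact (mem_centralizer_singleton_iff.1 (h2 ht)).symm

theorem mem_J (h : Emb (S : Subgroup G) u) {s : G} (hs : s ∈ (S : Subgroup G))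
    (hst : ∀ t ∈ CS u kT0, s * t = t * s) : s ∈ CS u kJ := by
  obtain ⟨a, ha, rfl⟩ := h.surj s hs
  have h1 := of_allb fJ a ha
  have h2 := (co_iff h ha (by norm_num)).2 (hst (u 128) (u_mem h closed_kT0 (by norm_num) (by decide)))
  have h3 := (co_iff h ha (by norm_num)).2 (hst (u 256) (u_mem h closed_kT0 (by norm_num) (by decide)))
  rw [Bool.and_eq_true] at h1
  have h4 := h1.2
  rw [h2, h3] at h4
  exact u_mem h closed_kJ ha (by simpa using h4)

theorem cent_le_C (h : Emb (S : Subgroup G) u) :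
    centralizer (CS u kT0 : Set G) ≤ centralizer {u 512} := by
  intro n hn
  rw [mem_centralizer_singleton_iff]
  exact (mem_centralizer_iff.1 hn _ (u_mem h closed_kT0 (a := 512) (by norm_num) (by decide))).symm

/-- an element centralising `T0` and normalising `A1` acts on `A1` as an element of `J` -/
theorem act_J (h : Emb (S : Subgroup G) u) {n : G} (hn : n ∈ centralizer (CS u kT0 : Set G))
    (hnA : n ∈ normalizer (CS u kA1 : Set G)) : ∃ s ∈ CS u kJ, Sim (CS u kA1) n s := by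
  have hN : n ∈ N1 u := mem_N1.2 ⟨mem_centralizer_singleton_iff.1 (cent_le_C h hn), hnA⟩
  have hcen : ∀ t ∈ CS u kT0, n * t * n⁻¹ = t := by
    intro t ht
    rw [← mem_centralizer_iff.1 hn t ht, mul_inv_cancel_right]
  have h14 : (u 128)⁻¹ * (n * u 128 * n⁻¹) ∈ CS u 768 := by
    rw [hcen _ (u_mem h closed_kT0 (by norm_num) (by decide)), inv_mul_cancel]
    exact one_mem _
  obtain ⟨s, hs, h1⟩ := fix_cases h hN (fix14 h hN h14)
  refine ⟨s, mem_J h hs ?_, h1⟩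
  intro t ht
  have h2 := h1 t (CS_mono (by decide) ht)
  rw [hcen t ht] at h2
  exact (mul_inv_eq_iff_eq_mul.1 h2.symm)

theorem K1_inf_S (h : Emb (S : Subgroup G) u) : (S : Subgroup G) ⊓ K1 u = CS u kA1 := by
  apply le_antisymm
  · rintro s ⟨hs, hsK⟩
    obtain ⟨a, ha, rfl⟩ := h.surj s hs
    exact u_mem h closed_kA1 ha (S_K1 h ha hsK)
  · refine le_inf (h.CS_le _) ?_
    intro x hx
    exact mem_centralizer_iff.2 fun v hv => commA1 h v hv x hx

theorem maxP_K1 (h : Emb (S : Subgroup G) u) : IsMaxP 2 (K1 u) (CS u kA1) := by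
  rw [← K1_inf_S h]
  exact isMaxP_inter (maxP_N1 h) (K1_le_N1 h) (fun n hn k hk => K1_nrm (N1_nA1 hn) hk)

theorem maxP_C (h : Emb (S : Subgroup G) u) : IsMaxP 2 (centralizer {u 512}) (S : Subgroup G) :=
  isMaxP_of_le S (S_le_C h)

theorem wA1C (h : Emb (S : Subgroup G) u) :
    WeakCl (centralizer {u 512}) (CS u kA1) (S : Subgroup G) :=
  ⟨(wA1 h).1, fun g _ hg => (wA1 h).2 g (mem_top g) hg⟩

/-- `J` is a maximal 2-subgroup of `C_G(T0)` -/
theorem maxP_J (h : Emb (S : Subgroup G) u) :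
    IsMaxP 2 (centralizer (CS u kT0 : Set G)) (CS u kJ) := by
  refine ⟨(maxP_C h).1.to_le (h.CS_le _), ?_, ?_⟩
  · intro x hx
    exact mem_centralizer_iff.2 fun t ht => (J_T0 h x hx t ht).symm
  · intro R hR hRC hJR r hr
    have hAJ : CS u kA1 ≤ CS u kJ := CS_mono (by decide)
    have hRC' : R ≤ centralizer {u 512} := hRC.trans (cent_le_C h)
    have hrA : r ∈ normalizer (CS u kA1 : Set G) :=
      cj_eq_iff.1 (normalizes' (maxP_C h) (wA1C h) hR hRC' (hAJ.trans hJR) hr)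
    obtain ⟨s, hs, h1⟩ := act_J h (hRC hr) hrA
    have h2 : s⁻¹ * r ∈ K1 u := sim_iff.1 h1
    have h3 : CS u kA1 ≤ R ⊓ K1 u := le_inf (hAJ.trans hJR) (maxP_K1 h).2.1
    have h4 : R ⊓ K1 u ≤ CS u kA1 := (maxP_K1 h).2.2 _ (hR.to_le inf_le_left) inf_le_right h3
    have h5 : s⁻¹ * r ∈ CS u kA1 := h4 ⟨R.mul_mem (R.inv_mem (hJR hs)) hr, h2⟩
    have h6 := mul_mem hs (hAJ h5)
    rwa [mul_inv_cancel_left] at h6

theorem Q_comm (h : Emb (S : Subgroup G) u) :
    ∀ x ∈ CS u kQ, ∀ y ∈ CS u kQ, x * y * x⁻¹ * y⁻¹ ∈ CS u 512 := by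
  have hgZ : CS u kQ ≤ normalizer (CS u 512 : Set G) :=
    (h.CS_le _).trans (S_normalizes h closed_512 gen_512 (by decide +kernel))
  intro x hx
  apply comm_of_gens h closed_kQ gen_kQ hgZ
  intro k hk hkQ
  have h1 : (u (2 ^ k)) * x * (u (2 ^ k))⁻¹ * x⁻¹ ∈ CS u 512 := by
    revert x
    apply comm_of_gens h closed_kQ gen_kQ hgZ
    intro j hj hjQ
    have h2 := of_allb (P := fun k => !(tb kQ k) || allb 10 fun j => !(tb kQ j) ||
      sb (cm (Nat.pow 2 k) (Nat.pow 2 j)) 512) (N := 10) (by decide +kernel) k hk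
    simp only [hkQ, Bool.not_true, Bool.false_or] at h2
    have h3 := of_allb h2 j hj
    simp only [hjQ, Bool.not_true, Bool.false_or] at h3
    have h4 := (u_mem_CS h (K := 512) (by decide) (cm_lt (two_pow_lt hk) (two_pow_lt hj))).2 h3
    rwa [cm_u h (two_pow_lt hk) (two_pow_lt hj)] at h4
  have h2 : x * u (2 ^ k) * x⁻¹ * (u (2 ^ k))⁻¹ = (u (2 ^ k) * x * (u (2 ^ k))⁻¹ * x⁻¹)⁻¹ := by
    group
  rw [h2]
  exact inv_mem h1

theorem C_nZ (h : Emb (S : Subgroup G) u) :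
    centralizer {u 512} ≤ normalizer (CS u 512 : Set G) := by
  intro g hg
  rw [← cj_eq_iff]
  apply cj_eq_of_le _ le_rfl
  rw [cj_le_iff]
  intro x hx
  rw [Z_central h (mem_centralizer_singleton_iff.1 hg) x hx]
  exact hx

theorem Z_cases (h : Emb (S : Subgroup G) u) {x : G} (hx : x ∈ CS u 512) : x = 1 ∨ x = u 512 := by
  obtain ⟨a, ha, haK, rfl⟩ := (h.mem_CS closed_512).1 hx
  have h1 := of_allb (P := fun a => !(sb a 512) || Nat.beq a 0 || Nat.beq a 512) (N := 1024)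
    (by decide +kernel) a ha
  rw [sb_iff.2 haK] at h1
  simp only [Bool.not_true, Bool.false_or, Bool.or_eq_true, Nat.beq_eq] at h1
  rcases h1 with rfl | rfl
  · left; exact h.zero
  · right; rfl

/-- elements of `C(z)` centralising `T0` modulo `Z` can be corrected by an element of `Q` -/
theorem correct (h : Emb (S : Subgroup G) u) {m : G} (hm : m ∈ centralizer {u 512})
    (hmT : ∀ t ∈ CS u kT0, m * t * m⁻¹ * t⁻¹ ∈ CS u 512) :
    ∃ w ∈ CS u kQ, w * m ∈ centralizer (CS u kT0 : Set G) := by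
  have h14 := hmT (u 128) (u_mem h closed_kT0 (by norm_num) (by decide))
  have h25 := hmT (u 256) (u_mem h closed_kT0 (by norm_num) (by decide))
  have hZz : m * u 512 * m⁻¹ = u 512 := by
    rw [mem_centralizer_singleton_iff.1 hm, mul_inv_cancel_right]
  -- the criterion
  have crit : ∀ w : ℕ, w < 1024 → sb w kQ = true →
      u w * (m * u 128 * m⁻¹) * (u w)⁻¹ = u 128 → u w * (m * u 256 * m⁻¹) * (u w)⁻¹ = u 256 →
      co w 512 = true → ∃ w ∈ CS u kQ, w * m ∈ centralizer (CS u kT0 : Set G) := by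
    intro w hw hwQ h1 h2 h3
    refine ⟨u w, u_mem h closed_kQ hw hwQ, ?_⟩
    have h4 : CS u kT0 ≤ centralizer {u w * m} := by
      apply le_of_gens h closed_kT0 gen_kT0
      intro k hk hkK
      have h3' : k = 7 ∨ k = 8 ∨ k = 9 := by
        have := of_allb (P := fun k => !(tb kT0 k) || Nat.beq k 7 || Nat.beq k 8 ||
          Nat.beq k 9) (N := 10) (by decide) k hk
        simp only [hkK, Bool.not_true, Bool.false_or, Bool.or_eq_true, Nat.beq_eq] at this
        tauto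
      rw [mem_centralizer_singleton_iff]
      have e : ∀ t : G, u w * (m * t * m⁻¹) * (u w)⁻¹ = t → t * (u w * m) = u w * m * t := by
        intro t ht
        calc t * (u w * m) = u w * (m * t * m⁻¹) * (u w)⁻¹ * (u w * m) := by rw [ht]
          _ = _ := by group
      rcases h3' with rfl | rfl | rfl
      · exact e _ h1
      · exact e _ h2
      · apply e
        show u w * (m * u 512 * m⁻¹) * (u w)⁻¹ = u 512
        rw [hZz, (co_iff h hw (by norm_num)).1 h3, mul_inv_cancel_right]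
    rw [mem_centralizer_iff]
    intro t ht
    exact mem_centralizer_singleton_iff.1 (h4 ht)
  have e1 : ∀ t : G, m * t * m⁻¹ * t⁻¹ = 1 → m * t * m⁻¹ = t := by
    intro t ht; exact mul_inv_eq_one.1 ht
  have e2 : ∀ t : G, m * t * m⁻¹ * t⁻¹ = u 512 → m * t * m⁻¹ = u 512 * t := by
    intro t ht; exact mul_inv_eq_iff_eq_mul.1 ht
  have cmp : ∀ w t r : ℕ, w < 1024 → t < 1024 → r < 1024 → cc w t = r → u w * u t * (u w)⁻¹ = u r := by
    intro w t r hw ht _ hr
    rw [← cc_u h hw ht, hr]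
  have z128 : u 512 * u 128 = u 640 := by
    rw [← h.mul (by norm_num) (by norm_num)]; rfl
  have z256 : u 512 * u 256 = u 768 := by
    rw [← h.mul (by norm_num) (by norm_num)]; rfl
  rcases Z_cases h h14 with h1 | h1 <;> rcases Z_cases h h25 with h2 | h2
  · apply crit 0 (by norm_num) (by decide) _ _ (by decide)
    · rw [e1 _ h1]; exact cmp 0 128 128 (by norm_num) (by norm_num) (by norm_num) (by decide)
    · rw [e1 _ h2]; exact cmp 0 256 256 (by norm_num) (by norm_num) (by norm_num) (by decide)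
  · apply crit 1 (by norm_num) (by decide) _ _ (by decide)
    · rw [e1 _ h1]; exact cmp 1 128 128 (by norm_num) (by norm_num) (by norm_num) (by decide)
    · rw [e2 _ h2, z256]; exact cmp 1 768 256 (by norm_num) (by norm_num) (by norm_num) (by decide)
  · apply crit 8 (by norm_num) (by decide) _ _ (by decide)
    · rw [e2 _ h1, z128]; exact cmp 8 640 128 (by norm_num) (by norm_num) (by norm_num) (by decide)
    · rw [e1 _ h2]; exact cmp 8 256 256 (by norm_num) (by norm_num) (by norm_num) (by decide)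
  · apply crit 9 (by norm_num) (by decide) _ _ (by decide)
    · rw [e2 _ h1, z128]; exact cmp 9 640 128 (by norm_num) (by norm_num) (by norm_num) (by decide)
    · rw [e2 _ h2, z256]; exact cmp 9 768 256 (by norm_num) (by norm_num) (by norm_num) (by decide)

/-- the inverse-conjugation form of "`cj m A ≤ cj n B`" -/
theorem cj_le_cj_move {A B : Subgroup G} {c m n : G} (h : cj (c * m) A ≤ cj (c * n) B) :
    cj m A ≤ cj n B := by
  rw [cj_mul, cj_mul, cj_le_cj_iff] at h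
  exact h

/-- Step B: `T0` lies in a conjugate of `Q` containing `y` -/
theorem stepB (h : Emb (S : Subgroup G) u)
    (hno : ∀ q ∈ CS u kQ, q * q = 1 → ∀ g ∈ centralizer {u 512},
      g * q * g⁻¹ ∈ (S : Subgroup G) → g * q * g⁻¹ ∈ CS u kQ)
    {y q g : G} (hq : q ∈ CS u kQ) (hg : g ∈ centralizer {u 512}) (hy : y = g * q * g⁻¹)
    (hyT : ∀ t ∈ CS u kT0, t * y = y * t) :
    ∃ x ∈ centralizer {u 512}, CS u kT0 ≤ cj x (CS u kQ) ∧ y ∈ cj x (CS u kQ) := by
  have f2 : Fact (Nat.Prime 2) := ⟨Nat.prime_two⟩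
  let M : Subgroup G := cent (centralizer {u 512}) (zpowers y) (CS u 512) (C_nZ h)
  have hQZ := Q_comm h
  have hZC : ∀ c ∈ centralizer {u 512}, ∀ x ∈ CS u 512, c * x * c⁻¹ = x :=
    fun c hc x hx => Z_central h (mem_centralizer_singleton_iff.1 hc) x hx
  -- a criterion for membership in `M`
  have hM : ∀ c ∈ centralizer {u 512}, c * y * c⁻¹ * y⁻¹ ∈ CS u 512 → c ∈ M := by
    intro c hc hcy
    refine ⟨hc, ?_⟩
    have hyC : y ∈ centralizer {u 512} := by
      rw [hy]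
      exact mul_mem (mul_mem hg (S_le_C h (h.CS_le _ hq))) (inv_mem hg)
    have h1 : c * y * c⁻¹ = (c * y * c⁻¹ * y⁻¹) * y := by group
    have hcom : Commute (c * y * c⁻¹ * y⁻¹) y := by
      have := hZC y hyC _ hcy
      show (c * y * c⁻¹ * y⁻¹) * y = y * (c * y * c⁻¹ * y⁻¹)
      exact (mul_inv_eq_iff_eq_mul.1 this).symm
    intro v hv
    obtain ⟨n, rfl⟩ := Subgroup.mem_zpowers_iff.1 hv
    have h2 : c * y ^ n * c⁻¹ = (c * y * c⁻¹) ^ n := by
      rw [conj_zpow]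
    rw [h2, h1, hcom.mul_zpow, mul_inv_cancel_right]
    exact zpow_mem hcy n
  have hQM : cj g (CS u kQ) ≤ M := by
    rw [cj_le_iff]
    intro x hx
    apply hM _ (mul_mem (mul_mem hg (S_le_C h (h.CS_le _ hx))) (inv_mem hg))
    have h1 : g * x * g⁻¹ * y * (g * x * g⁻¹)⁻¹ * y⁻¹ = g * (x * q * x⁻¹ * q⁻¹) * g⁻¹ := by
      rw [hy]; group
    rw [h1, hZC g hg _ (hQZ x hx q hq)]
    exact hQZ x hx q hq
  have hTM : CS u kT0 ≤ M := by
    intro t ht
    apply hM _ (S_le_C h (h.CS_le _ ht))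
    rw [hyT t ht, mul_inv_cancel_right, mul_inv_cancel]
    exact one_mem _
  have hp2 : ∀ K, IsPGroup 2 (CS u K) := fun K => (maxP_C h).1.to_le (h.CS_le K)
  obtain ⟨R, hR, hQR⟩ := exists_isMaxP (isPGroup_cj (g := g) (hp2 kQ)) hQM
  obtain ⟨m, hm, hmR⟩ := hR.exists_conj_le (hp2 kT0) hTM
  have hMC : M ≤ centralizer {u 512} := fun x hx => hx.1
  obtain ⟨c, hc, hcR⟩ := (maxP_C h).exists_conj_le hR.1 (hR.2.1.trans hMC)
  have h1 : cj (c * g) (CS u kQ) = CS u kQ := by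
    apply (wQ h).2 _ (mul_mem hc hg)
    rw [cj_mul]
    exact (cj_mono hQR).trans hcR
  have hmT : cj m (CS u kT0) ≤ R := hmR
  have h2 : cj (c * m) (CS u kT0) ≤ CS u kQ := by
    have h3 : cj (c * m) (CS u kT0) ≤ (S : Subgroup G) := by
      rw [cj_mul]
      exact (cj_mono hmT).trans hcR
    rw [cj_le_iff] at h3 ⊢
    intro t ht
    apply hno t (CS_mono (by decide) ht) _ _ (mul_mem hc (hMC hm)) (h3 t ht)
    exact sqA1 h t (CS_mono (by decide) ht)
  rw [← h1] at h2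
  have h3 := cj_le_cj_move h2
  refine ⟨m⁻¹ * g, mul_mem (inv_mem (hMC hm)) hg, ?_, ?_⟩
  · have h4 := cj_mono (g := m⁻¹) h3
    rw [cj_inv_cj, ← cj_mul] at h4
    exact h4
  · have h5 : m⁻¹ * y * m ∈ cj (m⁻¹ * g) (CS u kQ) := by
      rw [hy]
      have h6 : m⁻¹ * (g * q * g⁻¹) * m = (m⁻¹ * g) * q * (m⁻¹ * g)⁻¹ := by group
      rw [h6]
      exact conj_mem_cj hq
    have h7 := (M.inv_mem hm).2 y (mem_zpowers y)
    rw [inv_inv] at h7
    have hxC : m⁻¹ * g ∈ centralizer {u 512} := mul_mem (inv_mem (hMC hm)) hg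
    have h8 : CS u 512 ≤ cj (m⁻¹ * g) (CS u kQ) := by
      intro z hz
      rw [← hZC _ hxC z hz]
      exact conj_mem_cj (CS_mono (by decide) hz)
    have h9 := mul_mem (inv_mem (h8 h7)) h5
    have h10 : (m⁻¹ * y * m * y⁻¹)⁻¹ * (m⁻¹ * y * m) = y := by group
    rwa [h10] at h9

/-- Step C, D, E, F: a coset argument in `C_G(T0)` -/
theorem no_fus4 (h : Emb (S : Subgroup G) u)
    (hto : ∀ y ∈ (S : Subgroup G), y ∉ CS u kQ → y * y ∈ CS u 512 →
      ∃ g, g * u 512 = u 512 * g ∧ g ∈ normalizer (CS u kQ : Set G) ∧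
        (u 32)⁻¹ * (g * y * g⁻¹) ∈ CS u kQ)
    (hno : ∀ q ∈ CS u kQ, q * q = 1 → ∀ g ∈ centralizer {u 512},
      g * q * g⁻¹ ∈ (S : Subgroup G) → g * q * g⁻¹ ∈ CS u kQ) :
    ∀ q ∈ CS u kQ, ∀ g ∈ centralizer {u 512},
      g * q * g⁻¹ ∈ (S : Subgroup G) → g * q * g⁻¹ ∈ CS u kQ := by
  intro q hq g hg hgS
  by_cases hqq : q * q = 1
  · exact hno q hq hqq g hg hgS
  by_contra hgQ
  have hqZ : q * q ∈ CS u 512 := by
    obtain ⟨a, ha, haK, rfl⟩ := (h.mem_CS closed_kQ).1 hq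
    have h1 := of_allb (P := fun a => !(sb a kQ) || sb (mu a a) 512) (N := 1024)
      (by decide +kernel) a ha
    rw [sb_iff.2 haK] at h1
    rw [← h.mul ha ha, u_mem_CS h (by decide) (mu_lt ha ha)]
    simpa using h1
  have hqz : q * q = u 512 := (Z_cases h hqZ).resolve_left hqq
  have hZC : ∀ c ∈ centralizer {u 512}, ∀ x ∈ CS u 512, c * x * c⁻¹ = x :=
    fun c hc x hx => Z_central h (mem_centralizer_singleton_iff.1 hc) x hx
  have hsq : ∀ c ∈ centralizer {u 512}, ∀ x : G, x * x = u 512 →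
      c * x * c⁻¹ * (c * x * c⁻¹) = u 512 := by
    intro c hc x hx
    have h1 : c * x * c⁻¹ * (c * x * c⁻¹) = c * (x * x) * c⁻¹ := by group
    rw [h1, hx, mem_centralizer_singleton_iff.1 hc, mul_inv_cancel_right]
  obtain ⟨g1, hg1, hg1Q, hg2⟩ := hto _ hgS hgQ (by
    rw [hsq g hg q hqz]
    exact u_mem h closed_512 (by norm_num) (by decide))
  have hg1C : g1 ∈ centralizer {u 512} := mem_centralizer_singleton_iff.2 hg1
  set y := g1 * (g * q * g⁻¹) * g1⁻¹ with hy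
  have hyy : y * y = u 512 := hsq g1 hg1C _ (hsq g hg q hqz)
  have hyg : y = (g1 * g) * q * (g1 * g)⁻¹ := by rw [hy]; group
  have hyS : y ∈ (S : Subgroup G) := by
    have h1 := mul_mem (h.mem (a := 32) (by norm_num)) (h.CS_le _ hg2)
    rwa [mul_inv_cancel_left] at h1
  -- `y ∈ x24 x13 x35 T0`
  obtain ⟨a, ha, ha2⟩ := h.surj y hyS
  have hy1 : (u 112)⁻¹ * y ∈ CS u kT0 := by
    rw [← ha2] at hg2 hyy ⊢
    rw [← inv_eq h (by norm_num), ← h.mul (iv_lt (by norm_num)) ha,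
      u_mem_CS h closed_kQ (mu_lt (iv_lt (by norm_num)) ha)] at hg2
    rw [← h.mul ha ha, eq_iff h (mu_lt ha ha) (by norm_num)] at hyy
    rw [← inv_eq h (by norm_num), ← h.mul (iv_lt (by norm_num)) ha,
      u_mem_CS h closed_kT0 (mu_lt (iv_lt (by norm_num)) ha)]
    have h1 := of_allb fA a ha
    rw [hg2, hyy] at h1
    simpa using h1
  have hJ112 : u 112 ∈ CS u kJ := u_mem h closed_kJ (by norm_num) (by decide)
  have hTJ : CS u kT0 ≤ CS u kJ := CS_mono (by decide)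
  have hyJ : y ∈ CS u kJ := by
    have h1 := mul_mem hJ112 (hTJ hy1)
    rwa [mul_inv_cancel_left] at h1
  have hyT : ∀ t ∈ CS u kT0, t * y = y * t := fun t ht => (J_T0 h y hyJ t ht).symm
  obtain ⟨x, hx, hTx, hyx⟩ := stepB h hno hq (mul_mem hg1C hg) hyg hyT
  -- Step C
  let MT : Subgroup G := cent (centralizer {u 512}) (CS u kT0) (CS u 512) (C_nZ h)
  have hQZ := Q_comm h
  have hQT : cj 1 (CS u kQ) ≤ MT := by
    rw [cj_one]
    intro v hv
    exact ⟨S_le_C h (h.CS_le _ hv), fun t ht => hQZ v hv t (CS_mono (by decide) ht)⟩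
  have hxT : cj x (CS u kQ) ≤ MT := by
    rw [cj_le_iff]
    intro v hv
    refine ⟨mul_mem (mul_mem hx (S_le_C h (h.CS_le _ hv))) (inv_mem hx), ?_⟩
    intro t ht
    obtain ⟨t', ht', rfl⟩ := hTx ht
    show x * v * x⁻¹ * (x * t' * x⁻¹) * (x * v * x⁻¹)⁻¹ * (x * t' * x⁻¹)⁻¹ ∈ _
    have h1 : x * v * x⁻¹ * (x * t' * x⁻¹) * (x * v * x⁻¹)⁻¹ * (x * t' * x⁻¹)⁻¹
        = x * (v * t' * v⁻¹ * t'⁻¹) * x⁻¹ := by group
    rw [h1, hZC x hx _ (hQZ v hv t' ht')]
    exact hQZ v hv t' ht'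
  obtain ⟨m, hm, hmx⟩ := exists_conj_in (maxP_C h) (wQ h) (M := MT) (fun v hv => hv.1) hx
    (one_mem _) hxT hQT
  rw [cj_one] at hmx
  -- Step D
  obtain ⟨w, hw, hwm⟩ := correct h hm.1 hm.2
  have hQw : cj (w * m) (cj x (CS u kQ)) = CS u kQ := by
    rw [cj_mul, hmx]; exact cj_eq_of_mem hw
  set n0 := w * m with hn0
  set y' := n0 * y * n0⁻¹ with hy'
  have hy'Q : y' ∈ CS u kQ := by
    rw [← hQw]
    exact conj_mem_cj hyx
  have hn0C := cent_le_C h hwm
  have hy'y' : y' * y' = u 512 := hsq n0 hn0C y hyy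
  have hy'T : ∀ t ∈ CS u kT0, y' * t = t * y' := by
    intro t ht
    have h1 := mem_centralizer_iff.1 hwm t ht
    have h2 := hyT t ht
    rw [hy']
    calc n0 * y * n0⁻¹ * t = n0 * y * n0⁻¹ * (t * n0) * n0⁻¹ := by group
      _ = n0 * (y * t) * n0⁻¹ := by rw [h1]; group
      _ = n0 * (t * y) * n0⁻¹ := by rw [h2]
      _ = (n0 * t) * y * n0⁻¹ := by group
      _ = t * (n0 * y * n0⁻¹) := by rw [← h1]; group
  have hy'2 : (u 80)⁻¹ * y' ∈ CS u kT0 := by
    obtain ⟨b, hb, hbK, hb2⟩ := (h.mem_CS closed_kQ).1 hy'Q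
    have h1 := hy'T _ (u_mem h closed_kT0 (a := 128) (by norm_num) (by decide))
    have h2 := hy'T _ (u_mem h closed_kT0 (a := 256) (by norm_num) (by decide))
    rw [← hb2] at h1 h2 hy'y' ⊢
    rw [← co_iff h hb (by norm_num)] at h1 h2
    rw [← h.mul hb hb, eq_iff h (mu_lt hb hb) (by norm_num)] at hy'y'
    rw [← inv_eq h (by norm_num), ← h.mul (iv_lt (by norm_num)) hb,
      u_mem_CS h closed_kT0 (mu_lt (iv_lt (by norm_num)) hb)]
    have h3 := of_allb fB b hb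
    rw [sb_iff.2 hbK, h1, h2, hy'y'] at h3
    simpa using h3
  -- commutators with `J`
  have hD : ∀ s ∈ CS u kJ, s * u 112 * s⁻¹ * (u 112)⁻¹ ∈ CS u kT0 ∧
      s * u 80 * s⁻¹ * (u 80)⁻¹ ∈ CS u kT0 ∧ s * u 48 * s⁻¹ * (u 48)⁻¹ ∈ CS u kT0 ∧
      s * u 64 * s⁻¹ * (u 64)⁻¹ ∈ CS u kT0 := by
    intro s hs
    obtain ⟨b, hb, hbK, rfl⟩ := (h.mem_CS closed_kJ).1 hs
    have h1 := of_allb fD b hb
    rw [sb_iff.2 hbK] at h1
    simp only [Bool.not_true, Bool.false_or, Bool.and_eq_true] at h1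
    exact ⟨cm_mem h closed_kT0 hb (by norm_num) h1.1.1.1,
      cm_mem h closed_kT0 hb (by norm_num) h1.1.1.2,
      cm_mem h closed_kT0 hb (by norm_num) h1.1.2,
      cm_mem h closed_kT0 hb (by norm_num) h1.2⟩
  -- multiply by an element of `T0`
  have hDt : ∀ c : ℕ, (∀ s ∈ CS u kJ, s * u c * s⁻¹ * (u c)⁻¹ ∈ CS u kT0) → ∀ v : G,
      (u c)⁻¹ * v ∈ CS u kT0 → ∀ s ∈ CS u kJ, s * v * s⁻¹ * v⁻¹ ∈ CS u kT0 := by
    intro c hc v hv s hs
    have h1 := J_T0 h s hs _ hv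
    have h2 : s * v * s⁻¹ * v⁻¹ = s * u c * (((u c)⁻¹ * v) * s⁻¹) * ((u c)⁻¹ * v)⁻¹ * (u c)⁻¹ := by
      group
    have h3 : ((u c)⁻¹ * v) * s⁻¹ = s⁻¹ * ((u c)⁻¹ * v) := by
      rw [mul_inv_eq_iff_eq_mul, mul_assoc, ← h1]; group
    rw [h2, h3]
    have h4 : s * u c * (s⁻¹ * ((u c)⁻¹ * v)) * ((u c)⁻¹ * v)⁻¹ * (u c)⁻¹
        = s * u c * s⁻¹ * (u c)⁻¹ := by group
    rw [h4]
    exact hc s hs
  have hTn : ∀ m ∈ centralizer (CS u kT0 : Set G), ∀ d ∈ CS u kT0, m * d * m⁻¹ = d := by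
    intro m hm d hd
    rw [← mem_centralizer_iff.1 hm d hd, mul_inv_cancel_right]
  -- Step E
  obtain ⟨n, hn, hnJ, hny⟩ := exists_burnside (M := centralizer (CS u kT0 : Set G))
    (D := CS u kT0) (maxP_J h) (fun m hm d hd => by rw [hTn m hm d hd]; exact hd)
    (hDt 112 (fun s hs => (hD s hs).1) y hy1) (hDt 80 (fun s hs => (hD s hs).2.1) y' hy'2) hwm rfl
  -- Step F
  have hnA1 : n ∈ normalizer (CS u kA1 : Set G) := by
    rw [← cj_eq_iff]
    apply (wA1 h).2 n (mem_top _)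
    calc cj n (CS u kA1) ≤ cj n (CS u kJ) := cj_mono (CS_mono (by decide))
      _ = CS u kJ := hnJ
      _ ≤ _ := h.CS_le _
  have hnA2 : n ∈ normalizer (CS u kA2 : Set G) := by
    rw [← cj_eq_iff]
    apply (wA2 h).2 n (mem_top _)
    calc cj n (CS u kA2) ≤ cj n (CS u kJ) := cj_mono (CS_mono (by decide))
      _ = CS u kJ := hnJ
      _ ≤ _ := h.CS_le _
  obtain ⟨s, hs, hns⟩ := act_J h hn hnA1
  have hd := emb_du h
  have hT0' : CS (fun a => u (du a)) kT0 = CS u kT0 :=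
    CS_comp h isAut_du closed_kT0 closed_kT0 (by decide +kernel) (by decide +kernel)
  have hJ' : CS (fun a => u (du a)) kJ = CS u kJ :=
    CS_comp h isAut_du closed_kJ closed_kJ (by decide +kernel) (by decide +kernel)
  obtain ⟨s', hs', hns'⟩ := act_J hd (n := n) (by rw [hT0']; exact hn)
    (by rw [CS_du_A1 h]; exact hnA2)
  rw [hJ'] at hs'
  rw [CS_du_A1 h] at hns'
  have h48 : n * u 48 * n⁻¹ * (u 48)⁻¹ ∈ CS u kT0 := by
    rw [hns _ (u_mem h closed_kA1 (by norm_num) (by decide))]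
    exact (hD s hs).2.2.1
  have h64 : n * u 64 * n⁻¹ * (u 64)⁻¹ ∈ CS u kT0 := by
    rw [hns' _ (u_mem h closed_kA2 (by norm_num) (by decide))]
    exact (hD s' hs').2.2.2
  -- `n y n⁻¹ ∈ y T0`
  have hT_n : (S : Subgroup G) ≤ normalizer (CS u kT0 : Set G) :=
    S_normalizes h closed_kT0 gen_kT0 (by decide +kernel)
  have h112 : n * u 112 * n⁻¹ * (u 112)⁻¹ ∈ CS u kT0 := by
    have e : ∃ t ∈ CS u kT0, u 112 = u 48 * u 64 * t := by
      refine ⟨(u 48 * u 64)⁻¹ * u 112, ?_, by group⟩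
      rw [← h.mul (by norm_num) (by norm_num), ← inv_eq h (mu_lt (by norm_num) (by norm_num)),
        ← h.mul (iv_lt (mu_lt (by norm_num) (by norm_num))) (by norm_num)]
      exact u_mem h closed_kT0 (mu_lt (iv_lt (mu_lt (by norm_num) (by norm_num))) (by norm_num))
        (by decide)
    obtain ⟨t, ht, e⟩ := e
    have h48S : u 48 ∈ (S : Subgroup G) := h.mem (by norm_num)
    have h1 : n * u 112 * n⁻¹ * (u 112)⁻¹
        = (n * u 48 * n⁻¹ * (u 48)⁻¹) * (u 48 * (n * u 64 * n⁻¹ * (u 64)⁻¹) * (u 48)⁻¹) *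
          (u 48 * u 64 * ((n * t * n⁻¹) * t⁻¹) * (u 48 * u 64)⁻¹) := by
      rw [e]; group
    rw [h1, hTn n hn t ht, mul_inv_cancel, mul_one, mul_inv_cancel, mul_one]
    exact mul_mem h48 (nrm (hT_n h48S) h64)
  have h9 : n * y * n⁻¹ * y⁻¹ ∈ CS u kT0 := by
    have h1 : n * y * n⁻¹ * y⁻¹ = n * u 112 * (n⁻¹ * (n * ((u 112)⁻¹ * y) * n⁻¹)) *
        ((u 112)⁻¹ * y)⁻¹ * (u 112)⁻¹ := by group
    have h2 : n * u 112 * (n⁻¹ * ((u 112)⁻¹ * y)) * ((u 112)⁻¹ * y)⁻¹ * (u 112)⁻¹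
        = n * u 112 * n⁻¹ * (u 112)⁻¹ := by group
    rw [h1, hTn n hn _ hy1, h2]
    exact h112
  have h10 : y * y'⁻¹ ∈ CS u kT0 := by
    have h1 := mul_mem (inv_mem h9) hny
    have h2 : (n * y * n⁻¹ * y⁻¹)⁻¹ * (n * y * n⁻¹ * y'⁻¹) = y * y'⁻¹ := by group
    rwa [h2] at h1
  -- contradiction in `S`
  have hTS : CS u kT0 ≤ CS u kQ := CS_mono (by decide)
  have hyQ : y ∈ CS u kQ := by
    have h1 := mul_mem (hTS h10) hy'Q
    rwa [inv_mul_cancel_right] at h1
  apply hgQ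
  have h11 := nrm (inv_mem hg1Q) hyQ
  have h12 : g1⁻¹ * y * g1⁻¹⁻¹ = g * q * g⁻¹ := by rw [hy]; group
  rwa [h12] at h11

end

end Cfsg.Agent.SylowL5.Closed3
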