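import Mathlib
import Cfsg.Agent.SylowL5.GoodDef

/-!
# Construction of the good odd elements
-/

set_option autoImplicit false
set_option linter.unusedSectionVars false

namespace Cfsg.Agent.SylowL5.K3

open Subgroup
open Cfsg.Agent.SignalizersComponents.RelSylow
open Cfsg.Agent.SylowL5.Setup Cfsg.Agent.SylowL5.Calc Cfsg.Agent.SylowL5.Weak
  Cfsg.Agent.SylowL5.Elem Cfsg.Agent.SylowL5.Tools Cfsg.Agent.SylowL5.WC
  Cfsg.Agent.SylowL5.Act Cfsg.Agent.SylowL5.Act1 Cfsg.Agent.SylowL5.Act2 Cfsg.Agent.SylowL5.Act3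
  Cfsg.Agent.SylowL5.GoodDef

/-- `k` permutes the three classes cyclically -/
structure Cyc {G : Type*} [Group G] (u : ℕ → G) (k : G) : Prop where
  mem : k ∈ N1 u
  s64 : Sim (CS u kA1) (k * u 64 * k⁻¹) (u 8)
  s8 : Sim (CS u kA1) (k * u 8 * k⁻¹) (u 72)

/-! ### Boolean facts -/

theorem factR3 : allb 1024 (fun a => !(sb a kS3) || (zz (cm a 16) && zz (cm a 128) &&
    zz (cm a 256) && zz (cm a 512))) = true := by decide +kernel

theorem factp : allb 1024 (fun a => !(sb (mu (iv 16) a) 768) ||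
    (zz (mu (iv 128) (cm 4 a)) && (zz (mu (iv 16) a) || zz (mu (iv 784) a)))) = true := by
  decide +kernel

theorem factE2 : allb 1024 (fun a => !(sb a kQ) || !(Nat.beq (mu a a) 0) || !(co a 16) ||
    !(co a 128) || sb a kW1 || sb a kE2) = true := by decide +kernel

theorem factE1 : allb 1024 (fun a => !(sb a kQ) || !(Nat.beq (mu a a) 0) || !(co a 256) ||
    sb a kW1 || sb a kE1 || sb (pt a) kE1) = true := by decide +kernel

theorem closed_kE1 : closedK kE1 = true := by decide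
theorem closed_kE2 : closedK kE2 = true := by decide
theorem closed_656 : closedK 656 = true := by decide
theorem gen_kE1 : genK kE1 = true := by decide +kernel
theorem gen_kE2 : genK kE2 = true := by decide +kernel
theorem gen_656 : genK 656 = true := by decide +kernel

section
variable {G : Type*} [Group G] [Finite G] {S : Sylow 2 G} {u : ℕ → G}

theorem nA1 {k : G} (hk : Cyc u k) : k ∈ normalizer (CS u kA1 : Set G) := N1_nA1 hk.mem

theorem Cyc.s72 (h : Emb (S : Subgroup G) u) {k : G} (hk : Cyc u k) :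
    Sim (CS u kA1) (k * u 72 * k⁻¹) (u 64) := by
  have h1 := hk.s64.mul hk.s8 (e_nA1 h (Or.inr (Or.inr rfl)))
  have h2 : k * u 64 * k⁻¹ * (k * u 8 * k⁻¹) = k * u 72 * k⁻¹ := by rw [u72 h]; group
  have h3 : u 8 * u 72 = u 64 := by
    rw [← h.mul (by norm_num) (by norm_num)]; rfl
  rwa [h2, h3] at h1

theorem cyc_of_eight (h : Emb (S : Subgroup G) u) {n : G} (hn : n ∈ N1 u)
    (h64 : Sim (CS u kA1) (n * u 64 * n⁻¹) (u 8)) : ∃ k, Cyc u k := by
  have h8 : IE 8 := Or.inr (Or.inl rfl)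
  obtain ⟨d, hd, h1⟩ := perm h hn h8
  rcases hd with rfl | rfl | rfl
  · have hu4 := S_le_N1 h (h.mem (a := 4) (by norm_num))
    refine ⟨n * u 4, mul_mem hn hu4, ?_, ?_⟩
    · have : n * u 4 * u 64 * (n * u 4)⁻¹ = n * (u 4 * u 64 * (u 4)⁻¹) * n⁻¹ := by group
      rw [this, u4_64 h]
      exact h64
    · have h2 : n * u 4 * u 8 * (n * u 4)⁻¹ = n * u 64 * n⁻¹ * (n * u 8 * n⁻¹) := by
        have : n * u 4 * u 8 * (n * u 4)⁻¹ = n * (u 4 * u 8 * (u 4)⁻¹) * n⁻¹ := by group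
        rw [this, u4_8 h, u72 h]; group
      rw [h2]
      have h3 := h64.mul h1 (e_nA1 h (Or.inl rfl))
      have h4 : u 8 * u 64 = u 72 := by
        rw [← h.mul (by norm_num) (by norm_num)]; rfl
      rwa [h4] at h3
  · exact absurd (perm_inj h hn h8 (Or.inl rfl) h1 h64) (by norm_num)
  · exact ⟨n, hn, h64, h1⟩

theorem exists_cyc (h : Emb (S : Subgroup G) u) {n : G} (hn : n ∈ N1 u)
    (hact : ¬ Sim (CS u kA1) (n * u 64 * n⁻¹) (u 64)) : ∃ k, Cyc u k := by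
  obtain ⟨d, hd, h1⟩ := perm h hn (c := 64) (Or.inl rfl)
  rcases hd with rfl | rfl | rfl
  · exact absurd h1 hact
  · exact cyc_of_eight h hn h1
  · have hu4 := S_le_N1 h (h.mem (a := 4) (by norm_num))
    apply cyc_of_eight h (mul_mem hu4 hn)
    have h2 := h1.conj (N1_nA1 hu4)
    rw [u4_72 h] at h2
    have h3 : u 4 * (n * u 64 * n⁻¹) * (u 4)⁻¹ = u 4 * n * u 64 * (u 4 * n)⁻¹ := by group
    rwa [h3] at h2

theorem Cyc.pow4 (h : Emb (S : Subgroup G) u) {k : G} (hk : Cyc u k) : Cyc u (k ^ 4) := by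
  have hn := nA1 hk
  have h4 : ∀ x : G, k ^ 4 * x * (k ^ 4)⁻¹ = k * (k * (k * (k * x * k⁻¹) * k⁻¹) * k⁻¹) * k⁻¹ := by
    intro x
    have : k ^ 4 = k * k * k * k := by
      rw [pow_succ, pow_succ, pow_succ, pow_one]
    rw [this]; group
  refine ⟨pow_mem hk.mem 4, ?_, ?_⟩
  · rw [h4]
    have h1 := (hk.s64.conj hn).trans hk.s8
    have h2 := (h1.conj hn).trans (hk.s72 h)
    exact (h2.conj hn).trans hk.s64
  · rw [h4]
    have h1 := (hk.s8.conj hn).trans (hk.s72 h)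
    have h2 := (h1.conj hn).trans hk.s64
    exact (h2.conj hn).trans hk.s8

theorem Cyc.pow (h : Emb (S : Subgroup G) u) {k : G} (hk : Cyc u k) (n : ℕ) :
    Cyc u (k ^ (4 ^ n)) := by
  induction n with
  | zero => rw [pow_zero, pow_one]; exact hk
  | succ n ih =>
    rw [pow_succ, pow_mul]
    exact ih.pow4 h

/-- an odd cyclic element normalising `Q` -/
theorem exists_cyc_odd (h : Emb (S : Subgroup G) u) {n : G} (hn : n ∈ N1 u)
    (hact : ¬ Sim (CS u kA1) (n * u 64 * n⁻¹) (u 64)) :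
    ∃ k, Cyc u k ∧ Odd (orderOf k) ∧ k ∈ normalizer (CS u kQ : Set G) := by
  have f2 : Fact (Nat.Prime 2) := ⟨Nat.prime_two⟩
  obtain ⟨k, hk⟩ := exists_cyc h hn hact
  have hR := maxP_L1 h
  have h1 : cj k (CS u kS3) ≤ L1 h := by
    rw [cj_le_iff]
    exact fun x hx => L1_norm h k hk.mem x (hR.2.1 hx)
  obtain ⟨l, hl, hlR⟩ := hR.exists_conj_le (isPGroup_cj (g := k) hR.1) h1
  have h2 : cj (l * k) (CS u kS3) = CS u kS3 := by
    rw [cj_mul]
    exact cj_eq_of_le hlR (by rw [card_cj])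
  have hlA : l ∈ normalizer (CS u kA1 : Set G) := N1_nA1 hl.1
  have hk1 : Cyc u (l * k) := by
    refine ⟨mul_mem hl.1 hk.mem, ?_, ?_⟩
    · have h3 : l * k * u 64 * (l * k)⁻¹ = l * (k * u 64 * k⁻¹) * l⁻¹ := by group
      rw [h3]
      exact (hk.s64.conj hlA).trans (L1_sim h hl (Or.inr (Or.inl rfl)))
    · have h3 : l * k * u 8 * (l * k)⁻¹ = l * (k * u 8 * k⁻¹) * l⁻¹ := by group
      rw [h3]
      exact (hk.s8.conj hlA).trans (L1_sim h hl (Or.inr (Or.inr rfl)))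
  have hQ : l * k ∈ normalizer (CS u kQ : Set G) := by
    rw [← cj_eq_iff]
    apply (wQ h).2 _ (mem_N1.1 hk1.mem |>.1 |> mem_centralizer_singleton_iff.2)
    calc cj (l * k) (CS u kQ) ≤ cj (l * k) (CS u kS3) := cj_mono (CS_mono (by decide))
      _ = CS u kS3 := h2
      _ ≤ _ := h.CS_le _
  obtain ⟨m, b, hm, hb⟩ := exists_odd_pow (l * k)
  refine ⟨(l * k) ^ (4 ^ b), hk1.pow h b, ?_, pow_mem hQ _⟩
  have h3 : ((l * k) ^ (4 ^ b)) ^ m = 1 := by
    have h4 : (4 : ℕ) ^ b = 2 ^ b * 2 ^ b := by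
      rw [← mul_pow]; norm_num
    rw [← pow_mul, mul_comm, h4, ← mul_assoc, pow_mul, pow_mul, hb, one_pow]
  exact hm.of_dvd_nat (orderOf_dvd_of_pow_eq_one h3)

/-- the kernel `L1` acts trivially on `W1 / Z` -/
theorem L1_W1 (h : Emb (S : Subgroup G) u) {n : G} (hn : n ∈ L1 h) :
    ∀ w ∈ CS u kW1, n * w * n⁻¹ * w⁻¹ ∈ CS u 512 := by
  obtain ⟨s, hs, h1⟩ := L1_cases h hn
  obtain ⟨a, ha, haK, rfl⟩ := (h.mem_CS closed_kS3).1 hs
  have h2 := of_allb factR3 a ha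
  rw [sb_iff.2 haK] at h2
  simp only [Bool.not_true, Bool.false_or, Bool.and_eq_true] at h2
  have h3 : ∀ w ∈ CS u kW1, u a * w * (u a)⁻¹ * w⁻¹ ∈ CS u 512 := by
    apply comm_of_gens h closed_kW1 gen_kW1
    · exact (h.CS_le _).trans (S_normalizes h closed_512 gen_512 (by decide +kernel))
    · intro k hk hkK
      have h1 : k = 4 ∨ k = 7 ∨ k = 8 ∨ k = 9 := by
        have := of_allb (P := fun k => !(tb kW1 k) || Nat.beq k 4 || Nat.beq k 7 || Nat.beq k 8 ||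
          Nat.beq k 9) (N := 10) (by decide) k hk
        simp only [hkK, Bool.not_true, Bool.false_or, Bool.or_eq_true, Nat.beq_eq] at this
        tauto
      rw [← cm_u h ha (two_pow_lt hk)]
      apply mem_of_zz h (cm_lt ha (two_pow_lt hk))
      rcases h1 with rfl | rfl | rfl | rfl
      · exact h2.1.1.1
      · exact h2.1.1.2
      · exact h2.1.2
      · exact h2.2
  intro w hw
  rw [h1 w (CS_mono (by decide) hw)]
  exact h3 w hw

/-- with `p = k x14 k⁻¹` we have `k p k⁻¹ ≡ p x14` modulo `Z` -/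
theorem kappa (h : Emb (S : Subgroup G) u) {k : G} (hk : Cyc u k) :
    ∃ z ∈ CS u 512, k * (k * u 128 * k⁻¹) * k⁻¹ = k * u 128 * k⁻¹ * u 128 * z := by
  have hu4 := S_le_N1 h (h.mem (a := 4) (by norm_num))
  have hn := nA1 hk
  have hu4n := N1_nA1 hu4
  set t := k * u 4 * k * (u 4)⁻¹ with ht
  have htL : t ∈ L1 h := by
    apply mem_L1_of h (mul_mem (mul_mem (mul_mem hk.mem hu4) hk.mem) (inv_mem hu4))
    · have h1 : t * u 64 * t⁻¹ = k * (u 4 * (k * ((u 4)⁻¹ * u 64 * u 4) * k⁻¹) * (u 4)⁻¹) * k⁻¹ := by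
        rw [ht]; group
      have h2 : (u 4)⁻¹ * u 64 * u 4 = u 64 := by
        have := u4_64 h
        calc (u 4)⁻¹ * u 64 * u 4 = (u 4)⁻¹ * (u 4 * u 64 * (u 4)⁻¹) * u 4 := by rw [this]
          _ = u 64 := by group
      rw [h1, h2]
      have h3 := hk.s64.conj hu4n
      rw [u4_8 h] at h3
      exact (h3.conj hn).trans (hk.s72 h)
    · have h1 : t * u 8 * t⁻¹ = k * (u 4 * (k * ((u 4)⁻¹ * u 8 * u 4) * k⁻¹) * (u 4)⁻¹) * k⁻¹ := by
        rw [ht]; group
      have h2 : (u 4)⁻¹ * u 8 * u 4 = u 72 := by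
        have := u4_72 h
        calc (u 4)⁻¹ * u 8 * u 4 = (u 4)⁻¹ * (u 4 * u 72 * (u 4)⁻¹) * u 4 := by rw [this]
          _ = u 72 := by group
      rw [h1, h2]
      have h3 := (hk.s72 h).conj hu4n
      rw [u4_64 h] at h3
      exact (h3.conj hn).trans hk.s64
  have h128 : u 128 ∈ CS u kW1 := u_mem h closed_kW1 (by norm_num) (by decide)
  have h1 := L1_W1 h htL _ h128
  set p := k * u 128 * k⁻¹ with hp
  -- `p` is `x13` modulo `U1`
  have hp1 : (u 16)⁻¹ * p ∈ CS u 768 :=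
    perm_w h hk.mem (Or.inl ⟨rfl, rfl, rfl⟩) (Or.inr (Or.inl ⟨rfl, rfl, rfl⟩)) hk.s64
  have hpW : p ∈ CS u kW1 := nrm (N1_W1 h hk.mem) h128
  obtain ⟨a, ha, haK, ha2⟩ := (h.mem_CS closed_kW1).1 hpW
  rw [← ha2, ← inv_eq h (by norm_num), ← h.mul (iv_lt (by norm_num)) ha,
    u_mem_CS h closed_768 (mu_lt (iv_lt (by norm_num)) ha)] at hp1
  have h2 := of_allb factp a ha
  rw [hp1] at h2
  simp only [Bool.not_true, Bool.false_or, Bool.and_eq_true] at h2
  have h3 := mem_of_zz h (mu_lt (iv_lt (by norm_num)) (cm_lt (by norm_num) ha)) h2.1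
  rw [h.mul (iv_lt (by norm_num)) (cm_lt (by norm_num) ha), inv_eq h (by norm_num),
    cm_u h (by norm_num) ha, ha2] at h3
  -- `h3 : x14⁻¹ [x34, p] ∈ Z`
  have h4 : (u 4)⁻¹ * u 128 * u 4 = u 128 := by
    have h5 : u 4 * u 128 = u 128 * u 4 := (co_iff h (by norm_num) (by norm_num)).1 (by decide)
    rw [mul_assoc, ← h5]; group
  set z1 := (u 128)⁻¹ * (u 4 * p * (u 4)⁻¹ * p⁻¹) with hz1
  have h5 : u 4 * p * (u 4)⁻¹ = u 128 * z1 * p := by rw [hz1]; group
  have h6 : t * u 128 * t⁻¹ = p * z1 * (k * p * k⁻¹) := by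
    calc t * u 128 * t⁻¹ = k * (u 4 * (k * ((u 4)⁻¹ * u 128 * u 4) * k⁻¹) * (u 4)⁻¹) * k⁻¹ := by
          rw [ht]; group
      _ = k * (u 4 * p * (u 4)⁻¹) * k⁻¹ := by rw [h4]
      _ = k * (u 128 * z1 * p) * k⁻¹ := by rw [h5]
      _ = p * (k * z1 * k⁻¹) * (k * p * k⁻¹) := by rw [hp]; group
      _ = p * z1 * (k * p * k⁻¹) := by rw [N1_Z h hk.mem h3]
  rw [h6] at h1
  -- everything is in the elementary abelian group `A1`
  have hpA : p ∈ CS u kA1 := CS_mono (by decide) hpW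
  have h128A : u 128 ∈ CS u kA1 := CS_mono (by decide) h128
  have hz1A : z1 ∈ CS u kA1 := CS_mono (by decide) h3
  have hkpA : k * p * k⁻¹ ∈ CS u kA1 := nrm hn hpA
  have hpp := sqA1 h p hpA
  have hcom := commA1 h
  refine ⟨z1 * (p * z1 * (k * p * k⁻¹) * (u 128)⁻¹), mul_mem h3 h1, ?_⟩
  have h128i : (u 128)⁻¹ = u 128 := inv_eq_of_mul_eq_one_right (sqA1 h _ h128A)
  have e1 : u 128 * u 128 = 1 := sqA1 h _ h128A
  have e2 : z1 * z1 = 1 := sqA1 h _ hz1A
  rw [h128i]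
  set q := k * p * k⁻¹ with hq
  have c1 := hcom _ h128A _ hz1A
  have c2 := hcom _ h128A _ hpA
  have c3 := hcom _ h128A _ hkpA
  have c4 := hcom _ hpA _ hz1A
  symm
  calc p * u 128 * (z1 * (p * z1 * q * u 128))
      = p * (u 128 * z1) * p * z1 * q * u 128 := by group
    _ = p * (z1 * u 128) * p * z1 * q * u 128 := by rw [c1]
    _ = (p * z1) * (u 128 * p) * z1 * q * u 128 := by group
    _ = (z1 * p) * (p * u 128) * z1 * q * u 128 := by rw [c4, c2]
    _ = z1 * (p * p) * (u 128 * z1) * q * u 128 := by group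
    _ = z1 * (z1 * u 128) * q * u 128 := by rw [hpp, mul_one, c1]
    _ = (z1 * z1) * (u 128 * q) * u 128 := by group
    _ = q * (u 128 * u 128) := by rw [e2, one_mul, c3]; group
    _ = q := by rw [e1, mul_one]

end

end Cfsg.Agent.SylowL5.K3
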