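import Mathlib
import Cfsg.Agent.SylowL5.K3

/-!
# Construction of the good odd elements, second part: relabelling, `E2`, `E1`
-/

set_option autoImplicit false
set_option linter.unusedSectionVars false

namespace Cfsg.Agent.SylowL5.K3b

open Subgroup
open Cfsg.Agent.SignalizersComponents.RelSylow
open Cfsg.Agent.SylowL5.Setup Cfsg.Agent.SylowL5.Calc Cfsg.Agent.SylowL5.Weak
  Cfsg.Agent.SylowL5.Elem Cfsg.Agent.SylowL5.Tools Cfsg.Agent.SylowL5.WC
  Cfsg.Agent.SylowL5.Act Cfsg.Agent.SylowL5.Act1 Cfsg.Agent.SylowL5.Act2 Cfsg.Agent.SylowL5.Act3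
  Cfsg.Agent.SylowL5.GoodDef Cfsg.Agent.SylowL5.K3

/-- an odd cyclic element normalising `Q` which maps `x14` to `x13` modulo `Z` -/
structure Pre {G : Type*} [Group G] (u : ℕ → G) (k : G) : Prop where
  cyc : Cyc u k
  odd : Odd (orderOf k)
  nQ : k ∈ normalizer (CS u kQ : Set G)
  p128 : (u 16)⁻¹ * (k * u 128 * k⁻¹) ∈ CS u 512

section
variable {G : Type*} [Group G] {S : Subgroup G} {u : ℕ → G}

theorem CS_ps_A1 (h : Emb S u) : CS (fun a => u (ps a)) kA1 = CS u kA1 :=
  CS_comp h isAut_ps closed_kA1 closed_kA1 (by decide +kernel) (by decide +kernel)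
theorem CS_ps_Q (h : Emb S u) : CS (fun a => u (ps a)) kQ = CS u kQ :=
  CS_comp h isAut_ps closed_kQ closed_kQ (by decide +kernel) (by decide +kernel)
theorem CS_ps_Z (h : Emb S u) : CS (fun a => u (ps a)) 512 = CS u 512 :=
  CS_comp h isAut_ps closed_512 closed_512 (by decide +kernel) (by decide +kernel)
theorem CS_pt_A1 (h : Emb S u) : CS (fun a => u (pt a)) kA1 = CS u kA1 :=
  CS_comp h isAut_pt closed_kA1 closed_kA1 (by decide +kernel) (by decide +kernel)
theorem CS_pt_Q (h : Emb S u) : CS (fun a => u (pt a)) kQ = CS u kQ :=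
  CS_comp h isAut_pt closed_kQ closed_kQ (by decide +kernel) (by decide +kernel)
theorem CS_pt_Z (h : Emb S u) : CS (fun a => u (pt a)) 512 = CS u 512 :=
  CS_comp h isAut_pt closed_512 closed_512 (by decide +kernel) (by decide +kernel)

theorem N1_ps (h : Emb S u) : N1 (fun a => u (ps a)) = N1 u := by
  unfold N1
  rw [CS_ps_A1 h]
  rfl

theorem N1_pt (h : Emb S u) : N1 (fun a => u (pt a)) = N1 u := by
  unfold N1
  rw [CS_pt_A1 h]
  rfl

theorem cyc_ps (h : Emb S u) {k : G} (hk : Cyc u k) : Cyc (fun a => u (ps a)) k := by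
  refine ⟨?_, ?_, ?_⟩
  · rw [N1_ps h]; exact hk.mem
  · rw [CS_ps_A1 h]
    have h1 : ps 64 = 64 := by decide
    have h2 : ps 8 = 8 := by decide
    show Sim _ (k * u (ps 64) * k⁻¹) (u (ps 8))
    rw [h1, h2]; exact hk.s64
  · rw [CS_ps_A1 h]
    have h1 : ps 72 = 72 := by decide
    have h2 : ps 8 = 8 := by decide
    show Sim _ (k * u (ps 8) * k⁻¹) (u (ps 72))
    rw [h1, h2]; exact hk.s8

end

section
variable {G : Type*} [Group G] [Finite G] {S : Sylow 2 G} {u : ℕ → G}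

theorem exists_pre (h : Emb (S : Subgroup G) u) {n : G} (hn : n ∈ N1 u)
    (hact : ¬ Sim (CS u kA1) (n * u 64 * n⁻¹) (u 64)) :
    ∃ k, Pre u k ∨ Pre (fun a => u (ps a)) k := by
  obtain ⟨k, hk, hodd, hQ⟩ := exists_cyc_odd h hn hact
  refine ⟨k, ?_⟩
  have h128 : u 128 ∈ CS u kW1 := u_mem h closed_kW1 (by norm_num) (by decide)
  have hp1 : (u 16)⁻¹ * (k * u 128 * k⁻¹) ∈ CS u 768 :=
    perm_w h hk.mem (Or.inl ⟨rfl, rfl, rfl⟩) (Or.inr (Or.inl ⟨rfl, rfl, rfl⟩)) hk.s64
  have hpW : k * u 128 * k⁻¹ ∈ CS u kW1 := nrm (N1_W1 h hk.mem) h128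
  obtain ⟨a, ha, haK, ha2⟩ := (h.mem_CS closed_kW1).1 hpW
  rw [← ha2, ← inv_eq h (by norm_num), ← h.mul (iv_lt (by norm_num)) ha,
    u_mem_CS h closed_768 (mu_lt (iv_lt (by norm_num)) ha)] at hp1
  have h2 := of_allb factp a ha
  rw [hp1] at h2
  simp only [Bool.not_true, Bool.false_or, Bool.and_eq_true, Bool.or_eq_true] at h2
  rcases h2.2 with h3 | h3
  · left
    refine ⟨hk, hodd, hQ, ?_⟩
    rw [← ha2, ← inv_eq h (by norm_num), ← h.mul (iv_lt (by norm_num)) ha]
    exact mem_of_zz h (mu_lt (iv_lt (by norm_num)) ha) h3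
  · right
    refine ⟨cyc_ps h hk, hodd, by rw [CS_ps_Q h]; exact hQ, ?_⟩
    rw [CS_ps_Z h]
    have h4 : ps 16 = 784 := by decide
    have h5 : ps 128 = 128 := by decide
    show (u (ps 16))⁻¹ * (k * u (ps 128) * k⁻¹) ∈ CS u 512
    rw [h4, h5, ← ha2, ← inv_eq h (by norm_num), ← h.mul (iv_lt (by norm_num)) ha]
    exact mem_of_zz h (mu_lt (iv_lt (by norm_num)) ha) h3

/-- `Pre` is stable under the relabelling `pt` -/
theorem pre_pt (h : Emb (S : Subgroup G) u) {k : G} (hk : Pre u k) :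
    Pre (fun a => u (pt a)) k := by
  have e1 : ∀ c c' : ℕ, c < 1024 → c' < 1024 → sb (mu (iv c) c') kA1 = true →
      Sim (CS u kA1) (u c') (u c) := by
    intro c c' hc hc' hs
    have h1 := u_mem h closed_kA1 (mu_lt (iv_lt hc) hc') hs
    rw [h.mul (iv_lt hc) hc', inv_eq h hc] at h1
    have h2 := Sim.mul_right (a := u c) (commA1 h) h1
    rwa [mul_inv_cancel_left] at h2
  have hn := nA1 hk.cyc
  refine ⟨⟨?_, ?_, ?_⟩, hk.odd, by rw [CS_pt_Q h]; exact hk.nQ, ?_⟩
  · rw [N1_pt h]; exact hk.cyc.mem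
  · rw [CS_pt_A1 h]
    have h1 := (e1 64 (pt 64) (by norm_num) (by decide) (by decide)).conj hn
    have h2 := e1 8 (pt 8) (by norm_num) (by decide) (by decide)
    exact (h1.trans hk.cyc.s64).trans h2.symm
  · rw [CS_pt_A1 h]
    have h1 := (e1 8 (pt 8) (by norm_num) (by decide) (by decide)).conj hn
    have h2 := e1 72 (pt 72) (by norm_num) (by decide) (by decide)
    exact (h1.trans hk.cyc.s8).trans h2.symm
  · rw [CS_pt_Z h]
    have h4 : pt 16 = 16 := by decide
    have h5 : pt 128 = 128 := by decide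
    show (u (pt 16))⁻¹ * (k * u (pt 128) * k⁻¹) ∈ CS u 512
    rw [h4, h5]
    exact hk.p128

theorem Pre.p16 (h : Emb (S : Subgroup G) u) {k : G} (hk : Pre u k) :
    (u 144)⁻¹ * (k * u 16 * k⁻¹) ∈ CS u 512 := by
  obtain ⟨z, hz, h1⟩ := kappa h hk.cyc
  set p := k * u 128 * k⁻¹ with hp
  set z2 := (u 16)⁻¹ * p with hz2
  have h2 : z2 ∈ CS u 512 := hk.p128
  have hc := N1_Z h hk.cyc.mem h2
  have h3 : u 16 = p * z2⁻¹ := by rw [hz2]; group
  have h4 : k * u 16 * k⁻¹ = k * p * k⁻¹ * z2⁻¹ := by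
    have h5 : k * z2⁻¹ * k⁻¹ = z2⁻¹ := by
      have := N1_Z h hk.cyc.mem (inv_mem h2)
      exact this
    calc k * u 16 * k⁻¹ = k * (p * z2⁻¹) * k⁻¹ := by rw [← h3]
      _ = k * p * k⁻¹ * (k * z2⁻¹ * k⁻¹) := by group
      _ = _ := by rw [h5]
  have h6 : u 144 = u 16 * u 128 := by
    rw [← h.mul (by norm_num) (by norm_num)]; rfl
  have h128A : u 128 ∈ CS u kA1 := u_mem h closed_kA1 (by norm_num) (by decide)
  have hz2A : z2 ∈ CS u kA1 := CS_mono (by decide) h2
  have h7 : p = u 16 * z2 := by rw [hz2]; group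
  rw [h4, h1, h6]
  have h8 : (u 16 * u 128)⁻¹ * (p * u 128 * z * z2⁻¹) = z2 * z * z2⁻¹ := by
    rw [h7]
    calc (u 16 * u 128)⁻¹ * (u 16 * z2 * u 128 * z * z2⁻¹)
        = (u 128)⁻¹ * (z2 * u 128) * z * z2⁻¹ := by group
      _ = (u 128)⁻¹ * (u 128 * z2) * z * z2⁻¹ := by rw [commA1 h _ hz2A _ h128A]
      _ = _ := by group
  rw [h8]
  exact mul_mem (mul_mem h2 hz) (inv_mem h2)

/-- `k` normalises `<13, 14, 15>` -/
theorem Pre.n656 (h : Emb (S : Subgroup G) u) {k : G} (hk : Pre u k) :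
    k ∈ normalizer (CS u 656 : Set G) := by
  apply mem_normalizer_of_gens h closed_656 gen_656
  intro j hj hjK
  have h1 : j = 4 ∨ j = 7 ∨ j = 9 := by
    have := of_allb (P := fun k => !(tb 656 k) || Nat.beq k 4 || Nat.beq k 7 ||
      Nat.beq k 9) (N := 10) (by decide) j hj
    simp only [hjK, Bool.not_true, Bool.false_or, Bool.or_eq_true, Nat.beq_eq] at this
    tauto
  rcases h1 with rfl | rfl | rfl
  · have h2 := mul_mem (u_mem h closed_656 (a := 144) (by norm_num) (by decide))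
      (CS_mono (K' := 656) (by decide) (hk.p16 h))
    rwa [mul_inv_cancel_left] at h2
  · have h2 := mul_mem (u_mem h closed_656 (a := 16) (by norm_num) (by decide))
      (CS_mono (K' := 656) (by decide) hk.p128)
    rwa [mul_inv_cancel_left] at h2
  · rw [show (2 : ℕ) ^ 9 = 512 from rfl, N1_Z h hk.cyc.mem (u_mem h closed_512 (by norm_num) (by decide))]
    exact u_mem h closed_656 (by norm_num) (by decide)

theorem sq_of (h : Emb (S : Subgroup G) u) {K : ℕ} (hK : closedK K = true)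
    (hf : allb 1024 (fun a => !(sb a K) || Nat.beq (mu a a) 0) = true) :
    ∀ x ∈ CS u K, x * x = 1 := by
  intro x hx
  obtain ⟨a, ha, haK, rfl⟩ := (h.mem_CS hK).1 hx
  have h1 := of_allb hf a ha
  rw [sb_iff.2 haK] at h1
  simp only [Bool.not_true, Bool.false_or, Nat.beq_eq] at h1
  rw [← h.mul ha ha, h1, h.zero]

/-- `k` normalises the first row `E2` -/
theorem Pre.nE2 (h : Emb (S : Subgroup G) u) {k : G} (hk : Pre u k) :
    k ∈ normalizer (CS u kE2 : Set G) := by
  rw [← cj_eq_iff]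
  apply cj_eq_of_le _ le_rfl
  rw [cj_le_iff]
  intro x hx
  have hsq := sq_of h closed_kE2 (by decide +kernel)
  have hcom := comm_of_sq hsq
  have hn := hk.n656 h
  by_cases hxP : x ∈ CS u 656
  · exact CS_mono (by decide) (nrm hn hxP)
  · have hxW : x ∉ CS u kW1 := by
      obtain ⟨a, ha, haK, rfl⟩ := (h.mem_CS closed_kE2).1 hx
      rw [u_mem_CS h closed_656 ha] at hxP
      rw [u_mem_CS h closed_kW1 ha]
      intro h1
      apply hxP
      have h2 := of_allb (P := fun a => !(sb a kE2) || !(sb a kW1) || sb a 656) (N := 1024)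
        (by decide +kernel) a ha
      rw [sb_iff.2 haK, h1] at h2
      simpa using h2
    have hyQ : k * x * k⁻¹ ∈ CS u kQ := nrm hk.nQ (CS_mono (by decide) hx)
    have hyy : k * x * k⁻¹ * (k * x * k⁻¹) = 1 := by
      have : k * x * k⁻¹ * (k * x * k⁻¹) = k * (x * x) * k⁻¹ := by group
      rw [this, hsq x hx]; group
    have hyc : ∀ v ∈ CS u 656, k * x * k⁻¹ * v = v * (k * x * k⁻¹) := by
      intro v hv
      have h1 := nrm (inv_mem hn) hv
      have h2 := hcom x hx _ (CS_mono (K' := kE2) (by decide) h1)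
      calc k * x * k⁻¹ * v = k * (x * (k⁻¹ * v * k⁻¹⁻¹)) * k⁻¹ := by group
        _ = k * ((k⁻¹ * v * k⁻¹⁻¹) * x) * k⁻¹ := by rw [h2]
        _ = _ := by group
    have hyW : k * x * k⁻¹ ∉ CS u kW1 := by
      intro h1
      apply hxW
      have h2 := nrm (inv_mem (N1_W1 h hk.cyc.mem)) h1
      have h3 : k⁻¹ * (k * x * k⁻¹) * k⁻¹⁻¹ = x := by group
      rwa [h3] at h2
    have h16 := hyc _ (u_mem h closed_656 (a := 16) (by norm_num) (by decide))
    have h128 := hyc _ (u_mem h closed_656 (a := 128) (by norm_num) (by decide))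
    obtain ⟨a, ha, haK, ha2⟩ := (h.mem_CS closed_kQ).1 hyQ
    rw [← ha2] at hyy h16 h128 hyW ⊢
    rw [← h.mul ha ha, ← h.zero, eq_iff h (mu_lt ha ha) (by norm_num)] at hyy
    rw [← co_iff h ha (by norm_num)] at h16 h128
    rw [u_mem_CS h closed_kW1 ha] at hyW
    rw [u_mem_CS h closed_kE2 ha]
    have h4 := of_allb factE2 a ha
    rw [sb_iff.2 haK, hyy, h16, h128] at h4
    simp only [Bool.not_eq_true] at hyW
    rw [hyW] at h4
    simpa using h4

/-- the conjugates of `E1` and of `E3` are `E1` or `E3`, where `E3` is the relabelled `E1` -/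
theorem cj_E (h : Emb (S : Subgroup G) u) {k : G} (hk : Pre u k) {F : Subgroup G}
    (hF : F = CS u kE1 ∨ F = CS (fun a => u (pt a)) kE1) :
    cj k F = CS u kE1 ∨ cj k F = CS (fun a => u (pt a)) kE1 := by
  have hpt := emb_of_isAut h isAut_pt
  have hU : CS (fun a => u (pt a)) 768 = CS u 768 :=
    CS_comp h isAut_pt closed_768 closed_768 (by decide +kernel) (by decide +kernel)
  have hW : CS (fun a => u (pt a)) kW1 = CS u kW1 :=
    CS_comp h isAut_pt closed_kW1 closed_kW1 (by decide +kernel) (by decide +kernel)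
  have hFQ : F ≤ CS u kQ := by
    rcases hF with rfl | rfl
    · exact CS_mono (by decide)
    · rw [← CS_pt_Q h]; exact CS_mono (by decide)
  have hFsq : ∀ x ∈ F, x * x = 1 := by
    rcases hF with rfl | rfl
    · exact sq_of h closed_kE1 (by decide +kernel)
    · exact sq_of hpt closed_kE1 (by decide +kernel)
  have hFU : CS u 768 ≤ F := by
    rcases hF with rfl | rfl
    · exact CS_mono (by decide)
    · rw [← hU]; exact CS_mono (by decide)
  have hgen : ∀ v : ℕ → G, Emb (S : Subgroup G) v → ∀ x ∈ CS v kE1, x ∈ CS v kW1 → x ∈ CS v 768 := by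
    intro v hv x hx hxW
    obtain ⟨a, ha, haK, rfl⟩ := (hv.mem_CS closed_kE1).1 hx
    rw [u_mem_CS hv closed_kW1 ha] at hxW
    rw [u_mem_CS hv closed_768 ha]
    have h2 := of_allb (P := fun a => !(sb a kE1) || !(sb a kW1) || sb a 768) (N := 1024)
      (by decide +kernel) a ha
    rw [sb_iff.2 haK, hxW] at h2
    simpa using h2
  have hFW : ∀ x ∈ F, x ∈ CS u kW1 → x ∈ CS u 768 := by
    rcases hF with rfl | rfl
    · exact hgen u h
    · intro x hx hxW
      rw [← hW] at hxW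
      rw [← hU]
      exact hgen _ hpt x hx hxW
  have hcard : ∀ v : ℕ → G, Emb (S : Subgroup G) v → Nat.card (CS v kE1) = 16 := by
    intro v hv
    rw [card_CS hv closed_kE1]; decide +kernel
  have hFcard : Nat.card F = 16 := by
    rcases hF with rfl | rfl
    · exact hcard _ h
    · exact hcard _ hpt
  have hcom := comm_of_sq hFsq
  have hnU := N1_U1 h hk.cyc.mem
  -- every element of the conjugate is in `E1` or `E3`
  have hmem : ∀ y ∈ cj k F, y ∈ CS u kE1 ∨ y ∈ CS (fun a => u (pt a)) kE1 := by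
    rintro _ ⟨x, hx, rfl⟩
    show k * x * k⁻¹ ∈ _ ∨ k * x * k⁻¹ ∈ _
    by_cases hxW : x ∈ CS u kW1
    · left
      exact CS_mono (by decide) (nrm hnU (hFW x hx hxW))
    · have hyQ : k * x * k⁻¹ ∈ CS u kQ := nrm hk.nQ (hFQ hx)
      have hyy : k * x * k⁻¹ * (k * x * k⁻¹) = 1 := by
        have : k * x * k⁻¹ * (k * x * k⁻¹) = k * (x * x) * k⁻¹ := by group
        rw [this, hFsq x hx]; group
      have hyc : ∀ v ∈ CS u 768, k * x * k⁻¹ * v = v * (k * x * k⁻¹) := by
        intro v hv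
        have h1 := nrm (inv_mem hnU) hv
        have h2 := hcom x hx _ (hFU h1)
        calc k * x * k⁻¹ * v = k * (x * (k⁻¹ * v * k⁻¹⁻¹)) * k⁻¹ := by group
          _ = k * ((k⁻¹ * v * k⁻¹⁻¹) * x) * k⁻¹ := by rw [h2]
          _ = _ := by group
      have hyW : k * x * k⁻¹ ∉ CS u kW1 := by
        intro h1
        apply hxW
        have h2 := nrm (inv_mem (N1_W1 h hk.cyc.mem)) h1
        have h3 : k⁻¹ * (k * x * k⁻¹) * k⁻¹⁻¹ = x := by group
        rwa [h3] at h2
      have h256 := hyc _ (u_mem h closed_768 (a := 256) (by norm_num) (by decide))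
      obtain ⟨a, ha, haK, ha2⟩ := (h.mem_CS closed_kQ).1 hyQ
      rw [← ha2] at hyy h256 hyW ⊢
      rw [← h.mul ha ha, ← h.zero, eq_iff h (mu_lt ha ha) (by norm_num)] at hyy
      rw [← co_iff h ha (by norm_num)] at h256
      rw [u_mem_CS h closed_kW1 ha] at hyW
      have h4 := of_allb factE1 a ha
      rw [sb_iff.2 haK, hyy, h256] at h4
      simp only [Bool.not_eq_true] at hyW
      rw [hyW] at h4
      have h5 : sb a kE1 = true ∨ sb (pt a) kE1 = true := by simpa using h4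
      rcases h5 with h5 | h5
      · left; exact u_mem h closed_kE1 ha h5
      · right
        have h6 := of_allb (P := fun a => Nat.blt (pt a) 1024 && Nat.beq (pt (pt a)) a) (N := 1024)
          (by decide +kernel) a ha
        simp only [Bool.and_eq_true, Nat.blt_eq, Nat.beq_eq] at h6
        have h7 := u_mem hpt closed_kE1 h6.1 h5
        simp only [h6.2] at h7
        exact h7
  have hfin : ∀ v : ℕ → G, Emb (S : Subgroup G) v → cj k F ≤ CS v kE1 → cj k F = CS v kE1 := by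
    intro v hv h1
    exact cj_eq_of_le h1 (by rw [hcard v hv, hFcard])
  by_cases h1 : cj k F ≤ CS u kE1
  · exact Or.inl (hfin u h h1)
  · right
    apply hfin _ hpt
    intro y hy
    obtain ⟨x, hx, hx1⟩ := Set.not_subset.1 h1
    by_contra hy1
    have hxE3 := (hmem x hx).resolve_left hx1
    have hyE1 := (hmem y hy).resolve_right hy1
    rcases hmem (x * y) (mul_mem hx hy) with h2 | h2
    · apply hx1
      have := mul_mem h2 (inv_mem hyE1)
      rwa [mul_inv_cancel_right] at this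
    · apply hy1
      have := mul_mem (inv_mem hxE3) h2
      rwa [inv_mul_cancel_left] at this

/-- `k` normalises the last column `E1` -/
theorem Pre.nE1 (h : Emb (S : Subgroup G) u) {k : G} (hk : Pre u k) :
    k ∈ normalizer (CS u kE1 : Set G) := by
  apply mem_of_sq_mem hk.odd
  rw [pow_two, ← cj_eq_iff, cj_mul]
  rcases cj_E h hk (Or.inl rfl) with h1 | h1
  · rw [h1, h1]
  · rcases cj_E h hk (Or.inr rfl) with h2 | h2
    · rw [h1, h2]
    · -- then `E1 = E3`
      have h3 := cj_inj (h1.trans h2.symm)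
      rw [h1, h2, ← h3]

theorem Pre.good (h : Emb (S : Subgroup G) u) {k : G} (hk : Pre u k) : Good u k := by
  have hN := hk.cyc.mem
  have key : ∀ c d : ℕ, c < 1024 → d < 1024 → sb c kE1 = true → sb d kE1 = true →
      Sim (CS u kA1) (k * u c * k⁻¹) (u d) → (u d)⁻¹ * (k * u c * k⁻¹) ∈ CS u 768 := by
    intro c d hc hd hcE hdE hs
    have h1 := nrm (hk.nE1 h) (u_mem h closed_kE1 hc hcE)
    have h2 := mul_mem (inv_mem (u_mem h closed_kE1 hd hdE)) h1
    have h3 := sim_iff.1 hs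
    obtain ⟨a, ha, haK, ha2⟩ := (h.mem_CS closed_kE1).1 h2
    rw [← ha2] at h3 ⊢
    have h4 := S_K1 h ha h3
    rw [u_mem_CS h closed_768 ha]
    have h5 := of_allb (P := fun a => !(sb a kE1) || !(sb a kA1) || sb a 768) (N := 1024)
      (by decide +kernel) a ha
    rw [sb_iff.2 haK, h4] at h5
    simpa using h5
  exact ⟨(mem_N1.1 hN).1, hk.odd, hk.nQ, (mem_N1.1 hN).2, hk.nE1 h, hk.nE2 h,
    key 64 8 (by norm_num) (by norm_num) (by decide) (by decide) hk.cyc.s64,
    key 8 72 (by norm_num) (by norm_num) (by decide) (by decide) hk.cyc.s8⟩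

/-- **The good pair.** -/
theorem exists_pair (h : Emb (S : Subgroup G) u)
    (h1 : ∀ v : ℕ → G, Emb (S : Subgroup G) v →
      ∃ n ∈ N1 v, ¬ Sim (CS v kA1) (n * v 64 * n⁻¹) (v 64)) :
    ∃ v : ℕ → G, Emb (S : Subgroup G) v ∧ Pair v := by
  -- first labelling
  have step1 : ∃ v : ℕ → G, Emb (S : Subgroup G) v ∧ ∃ k, Pre v k := by
    obtain ⟨n, hn, hact⟩ := h1 u h
    obtain ⟨k, hk | hk⟩ := exists_pre h hn hact
    · exact ⟨u, h, k, hk⟩
    · exact ⟨_, emb_of_isAut h isAut_ps, k, hk⟩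
  obtain ⟨v, hv, k, hk⟩ := step1
  have hd := emb_du hv
  obtain ⟨n, hn, hact⟩ := h1 _ hd
  obtain ⟨k', hk' | hk'⟩ := exists_pre hd hn hact
  · exact ⟨v, hv, ⟨k, hk.good hv⟩, ⟨k', hk'.good hd⟩⟩
  · have hv' := emb_of_isAut hv isAut_pt
    refine ⟨_, hv', ⟨k, (pre_pt hv hk).good hv'⟩, ⟨k', ?_⟩⟩
    have h2 := hk'.good (emb_of_isAut hd isAut_ps)
    -- the two labellings agree on codes
    have h3 : ∀ a, a < 1024 → pt (du a) = du (ps a) := by
      intro a ha
      have := of_allb (P := fun a => Nat.beq (pt (du a)) (du (ps a))) (N := 1024)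
        (by decide +kernel) a ha
      rwa [Nat.beq_eq] at this
    have h4 : ∀ K, CS (fun a => v (pt (du a))) K = CS (fun a => v (du (ps a))) K := by
      intro K
      unfold CS
      congr 1
      ext g
      constructor
      · rintro ⟨a, ha, haK, rfl⟩
        exact ⟨a, ha, haK, by show v (du (ps a)) = v (pt (du a)); rw [h3 a ha]⟩
      · rintro ⟨a, ha, haK, rfl⟩
        exact ⟨a, ha, haK, by show v (pt (du a)) = v (du (ps a)); rw [h3 a ha]⟩
    refine ⟨?_, h2.odd, ?_, ?_, ?_, ?_, ?_, ?_⟩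
    · have := h2.c
      show k' * v (pt (du 512)) = v (pt (du 512)) * k'
      rw [h3 512 (by norm_num)]; exact this
    · show k' ∈ normalizer (CS (fun a => v (pt (du a))) kQ : Set G)
      rw [h4]; exact h2.nQ
    · show k' ∈ normalizer (CS (fun a => v (pt (du a))) kA1 : Set G)
      rw [h4]; exact h2.nA1
    · show k' ∈ normalizer (CS (fun a => v (pt (du a))) kE1 : Set G)
      rw [h4]; exact h2.nE1
    · show k' ∈ normalizer (CS (fun a => v (pt (du a))) kE2 : Set G)
      rw [h4]; exact h2.nE2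
    · show (v (pt (du 8)))⁻¹ * (k' * v (pt (du 64)) * k'⁻¹) ∈ CS (fun a => v (pt (du a))) 768
      rw [h4, h3 8 (by norm_num), h3 64 (by norm_num)]; exact h2.a35
    · show (v (pt (du 72)))⁻¹ * (k' * v (pt (du 8)) * k'⁻¹) ∈ CS (fun a => v (pt (du a))) 768
      rw [h4, h3 8 (by norm_num), h3 72 (by norm_num)]; exact h2.a45

end

end Cfsg.Agent.SylowL5.K3b
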