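import Mathlib
import Cfsg.Agent.SylowL5.GoodDef
import Cfsg.Agent.SylowL5.FusData

/-!
# Packaging: `VData` for `Y = C_G(z)`
-/

set_option autoImplicit false
set_option linter.unusedSectionVars false

namespace Cfsg.Agent.SylowL5.Pack

open Subgroup
open Cfsg.Agent.SignalizersComponents.RelSylow
open Cfsg.Agent.SylowL5.Setup Cfsg.Agent.SylowL5.Calc Cfsg.Agent.SylowL5.Weak
  Cfsg.Agent.SylowL5.Elem Cfsg.Agent.SylowL5.Tools Cfsg.Agent.SylowL5.WC
  Cfsg.Agent.SylowL5.Act Cfsg.Agent.SylowL5.Act1 Cfsg.Agent.SylowL5.Act2 Cfsg.Agent.SylowL5.Act3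
  Cfsg.Agent.SylowL5.GoodDef Cfsg.Agent.SylowL5.Data

section
variable {G : Type*} [Group G] {S : Subgroup G} {u : ℕ → G}

/-- the labelling of `S` as a labelling of the subgroup `Y ≥ S` -/
noncomputable def vv (Y : Subgroup G) (u : ℕ → G) (a : ℕ) : Y := by
  classical
  exact if h : u a ∈ Y then ⟨u a, h⟩ else 1

theorem vv_coe {Y : Subgroup G} {a : ℕ} (h : u a ∈ Y) : (vv Y u a : G) = u a := by
  unfold vv
  rw [dif_pos h]

theorem vv_of (h : Emb S u) {Y : Subgroup G} (hSY : S ≤ Y) {a : ℕ} (ha : a < 1024) :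
    (vv Y u a : G) = u a := vv_coe (hSY (h.mem ha))

theorem emb_vv (h : Emb S u) {Y : Subgroup G} (hSY : S ≤ Y) :
    Emb (S.subgroupOf Y) (vv Y u) := by
  refine ⟨?_, ?_, ?_, ?_⟩
  · intro a b ha hb
    apply Subtype.ext
    rw [Subgroup.coe_mul, vv_of h hSY ha, vv_of h hSY hb, vv_of h hSY (mu_lt ha hb), h.mul ha hb]
  · intro a b ha hb hab
    have h1 := congrArg (fun x : Y => (x : G)) hab
    simp only [vv_of h hSY ha, vv_of h hSY hb] at h1
    exact h.inj ha hb h1
  · intro a ha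
    rw [mem_subgroupOf, vv_of h hSY ha]
    exact h.mem ha
  · intro g hg
    rw [mem_subgroupOf] at hg
    obtain ⟨a, ha, ha2⟩ := h.surj _ hg
    exact ⟨a, ha, Subtype.ext (by rw [vv_of h hSY ha, ha2])⟩

theorem CS_vv (h : Emb S u) {Y : Subgroup G} (hSY : S ≤ Y) {K : ℕ} (hK : closedK K = true)
    {g : Y} : g ∈ CS (vv Y u) K ↔ (g : G) ∈ CS u K := by
  rw [(emb_vv h hSY).mem_CS hK, h.mem_CS hK]
  constructor
  · rintro ⟨a, ha, haK, rfl⟩
    exact ⟨a, ha, haK, (vv_of h hSY ha).symm⟩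
  · rintro ⟨a, ha, haK, ha2⟩
    exact ⟨a, ha, haK, Subtype.ext (by rw [vv_of h hSY ha, ha2])⟩

theorem norm_vv (h : Emb S u) {Y : Subgroup G} (hSY : S ≤ Y) {K : ℕ} (hK : closedK K = true)
    {g : Y} : g ∈ normalizer (CS (vv Y u) K : Set Y) ↔ (g : G) ∈ normalizer (CS u K : Set G) := by
  rw [Subgroup.mem_normalizer_iff, Subgroup.mem_normalizer_iff]
  constructor
  · intro h1 x
    constructor
    · intro hx
      have hxY : x ∈ Y := hSY (h.CS_le _ hx)
      have h2 := (h1 ⟨x, hxY⟩).1 ((CS_vv h hSY hK).2 hx)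
      exact (CS_vv h hSY hK).1 h2
    · intro hx
      have hxY : x ∈ Y := by
        have h3 := Y.mul_mem (Y.mul_mem (Y.inv_mem g.2) (hSY (h.CS_le _ hx))) g.2
        have h4 : (g : G)⁻¹ * ((g : G) * x * (g : G)⁻¹) * (g : G) = x := by group
        rwa [h4] at h3
      have h2 := (h1 ⟨x, hxY⟩).2 ((CS_vv h hSY hK).2 hx)
      exact (CS_vv h hSY hK).1 h2
  · intro h1 x
    rw [CS_vv h hSY hK, CS_vv h hSY hK]
    exact h1 x

end

section
variable {G : Type*} [Group G] [Finite G] {S : Sylow 2 G} {u : ℕ → G}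

theorem pack_aux (h : Emb (S : Subgroup G) u) {w x : ℕ} {y : G}
    (hy : (u w)⁻¹ * y ∈ CS u x) (hw : w < 1024) (hxc : closedK x = true) :
    ∃ a, a < 1024 ∧ SubK a x ∧ y = u (mu w a) := by
  obtain ⟨a, ha, haK, ha2⟩ := (h.mem_CS hxc).1 hy
  refine ⟨a, ha, haK, ?_⟩
  rw [h.mul hw ha, ha2]
  group

/-- the packaging theorem -/
theorem pack (h : Emb (S : Subgroup G) u)
    (scQ : ∀ q ∈ CS u kQ, ∀ g : G, g * u 512 = u 512 * g → g * q * g⁻¹ ∈ (S : Subgroup G) →
      g * q * g⁻¹ ∈ CS u kQ)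
    (nE1 : ∀ n : G, n * u 512 = u 512 * n → n ∈ normalizer (CS u kQ : Set G) →
      n ∈ normalizer (CS u kE1 : Set G))
    (nE2 : ∀ n : G, n * u 512 = u 512 * n → n ∈ normalizer (CS u kQ : Set G) →
      n ∈ normalizer (CS u kE2 : Set G))
    (hP : Pair u) :
    ∃ (T : Sylow 2 (centralizer {u x15} : Subgroup G))
    (v : ℕ → (centralizer {u x15} : Subgroup G)),
    (∀ a, a < 1024 → (v a : G) = u a) ∧
    (T : Subgroup (centralizer {u x15} : Subgroup G)).map
      (centralizer {u x15} : Subgroup G).subtype = S ∧ VData T v := by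
  have hSY : (S : Subgroup G) ≤ centralizer {u x15} := S_le_C h
  refine ⟨S.subtype hSY, vv (centralizer {u x15}) u, fun a ha => vv_of h hSY ha, ?_, ?_⟩
  · rw [Sylow.coe_subtype, subgroupOf_map_subtype, inf_eq_left.2 hSY]
  · have hc : ∀ g : (centralizer {u x15} : Subgroup G), (g : G) * u 512 = u 512 * (g : G) :=
      fun g => mem_centralizer_singleton_iff.1 g.2
    refine ⟨?_, ?_, ?_, ?_, ?_, ?_, ?_⟩
    · rw [Sylow.coe_subtype]; exact emb_vv h hSY
    · intro g
      apply Subtype.ext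
      rw [Subgroup.coe_mul, Subgroup.coe_mul, vv_of h hSY (by norm_num)]
      exact hc g
    · intro s hs g hg
      rw [CS_vv h hSY closed_kQ] at hs ⊢
      rw [Sylow.coe_subtype, mem_subgroupOf] at hg
      exact scQ _ hs g (hc g) hg
    · intro g hg
      rw [norm_vv h hSY closed_kQ] at hg
      rw [norm_vv h hSY (by decide)]
      exact nE1 g (hc g) hg
    · intro g hg
      rw [norm_vv h hSY closed_kQ] at hg
      rw [norm_vv h hSY (by decide)]
      exact nE2 g (hc g) hg
    · obtain ⟨k, hk⟩ := hP.k3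
      have hkY : k ∈ (centralizer {u x15} : Subgroup G) := mem_centralizer_singleton_iff.2 hk.c
      refine ⟨⟨k, hkY⟩, ?_, ?_, ?_, ?_⟩
      · rw [norm_vv h hSY closed_kQ]; exact hk.nQ
      · rw [← Subgroup.orderOf_coe]; exact hk.odd
      · rw [norm_vv h hSY closed_kA1]; exact hk.nA1
      · obtain ⟨a, ha, haK, ha2⟩ := pack_aux h (x := 768) (w := 8) hk.a35
          (by norm_num) closed_768
        refine ⟨a, ha, haK, Subtype.ext ?_⟩
        rw [vv_of h hSY (mu_lt (by norm_num) ha), Subgroup.coe_mul, Subgroup.coe_mul,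
          Subgroup.coe_inv, vv_of h hSY (by norm_num)]
        exact ha2
    · obtain ⟨k, hk⟩ := hP.k2
      have h512 : du 512 = 512 := by decide +kernel
      have h8 : du 8 = 1 := by decide +kernel
      have h64 : du 64 = 16 := by decide +kernel
      have hkc : k * u 512 = u 512 * k := by
        have := hk.c
        simp only [h512] at this
        exact this
      have hkY : k ∈ (centralizer {u x15} : Subgroup G) := mem_centralizer_singleton_iff.2 hkc
      have hQ := hk.nQ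
      rw [CS_du_Q h] at hQ
      have hA := hk.nA1
      rw [CS_du_A1 h] at hA
      have h35 := hk.a35
      simp only [h8, h64] at h35
      have h768 : CS (fun a => u (du a)) 768 = CS u 640 :=
        CS_comp h isAut_du closed_768 (by decide) (by decide +kernel) (by decide +kernel)
      rw [h768] at h35
      refine ⟨⟨k, hkY⟩, ?_, ?_, ?_, ?_⟩
      · rw [norm_vv h hSY closed_kQ]; exact hQ
      · rw [← Subgroup.orderOf_coe]; exact hk.odd
      · rw [norm_vv h hSY closed_kA2]; exact hA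
      · obtain ⟨a, ha, haK, ha2⟩ := pack_aux h (x := 640) (w := 1) h35
          (by norm_num) (by decide)
        refine ⟨a, ha, haK, Subtype.ext ?_⟩
        rw [vv_of h hSY (mu_lt (by norm_num) ha), Subgroup.coe_mul, Subgroup.coe_mul,
          Subgroup.coe_inv, vv_of h hSY (by norm_num)]
        exact ha2

end

end Cfsg.Agent.SylowL5.Pack
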