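import Mathlib
import Cfsg.Agent.SylowL5.FusData
import Cfsg.Agent.SylowL5.Active
import Cfsg.Agent.SylowL5.K3b
import Cfsg.Agent.SylowL5.Closed1
import Cfsg.Agent.SylowL5.Closed2
import Cfsg.Agent.SylowL5.Closed3
import Cfsg.Agent.SylowL5.Pack

/-!
# The fusion analysis for a Sylow 2-subgroup of type `L_5(2)`: final statement
-/

set_option autoImplicit false
set_option linter.unusedSectionVars false

namespace Cfsg.Agent.SylowL5.FusMain

open Subgroup
open Cfsg.Agent.SignalizersComponents.RelSylow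
open Cfsg.Agent.SylowL5.Setup Cfsg.Agent.SylowL5.Calc Cfsg.Agent.SylowL5.Weak
  Cfsg.Agent.SylowL5.Elem Cfsg.Agent.SylowL5.Tools Cfsg.Agent.SylowL5.WC
  Cfsg.Agent.SylowL5.Act Cfsg.Agent.SylowL5.Act1 Cfsg.Agent.SylowL5.Act2 Cfsg.Agent.SylowL5.Act3
  Cfsg.Agent.SylowL5.GoodDef Cfsg.Agent.SylowL5.Data Cfsg.Agent.SylowL5.FusData

variable {G : Type*} [Group G] [Finite G] {S : Sylow 2 G} {u : ℕ → G}

theorem CS_du_W1 (h : Emb (S : Subgroup G) u) : CS (fun a => u (du a)) kW1 = CS u kW2 :=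
  CS_comp h isAut_du (by decide) (by decide) (by decide +kernel) (by decide +kernel)

theorem strongly_closed (h : Emb (S : Subgroup G) u) (hP : Pair u) :
    ∀ q ∈ CS u kQ, ∀ g ∈ centralizer {u 512},
      g * q * g⁻¹ ∈ (S : Subgroup G) → g * q * g⁻¹ ∈ CS u kQ :=
  Closed3.no_fus4 h (Closed1.to24 h hP) (Closed1.no_fus h hP)

theorem final (h : Emb (S : Subgroup G) u) (hP : Pair u) : Final (S : Subgroup G) u := by
  have hd := emb_du h
  refine ⟨⟨h, ?_, ?_, ?_, ?_, ?_, ?_, ?_, ?_, ?_⟩, ?_⟩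
  · intro g hg
    rw [← cj_eq_iff]
    exact (wA1 h).2 g (mem_top _) (cj_le_iff.2 hg)
  · intro g hg
    rw [← cj_eq_iff]
    exact (wA2 h).2 g (mem_top _) (cj_le_iff.2 hg)
  · exact Closed1.inv_A h hP
  · intro g hg hgA
    exact N1_W1 h (mem_N1.2 ⟨hg, hgA⟩)
  · intro g hg hgA
    exact N1_U1 h (mem_N1.2 ⟨hg, hgA⟩)
  · intro g hg hgA
    have h1 := N1_W1 hd (x := g) (mem_N1.2 ⟨hg, by rw [CS_du_A1 h]; exact hgA⟩)
    rwa [CS_du_W1 h] at h1
  · intro g hg hgA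
    have h1 := N1_U1 hd (x := g) (mem_N1.2 ⟨hg, by rw [CS_du_A1 h]; exact hgA⟩)
    rwa [Closed2.CS_du_768 h] at h1
  · obtain ⟨k, hk⟩ := hP.k3
    exact ⟨k, hk.c, hk.odd, hk.nQ, hk.nA1,
      Pack.pack_aux h hk.a35 (by norm_num) (by decide)⟩
  · obtain ⟨k, hk⟩ := hP.k2
    have h1 : k ∈ normalizer (CS u kQ : Set G) := by
      have := hk.nQ
      rwa [CS_du_Q h] at this
    have h2 : k ∈ normalizer (CS u kA2 : Set G) := by
      have := hk.nA1
      rwa [CS_du_A1 h] at this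
    have h3 : (u 1)⁻¹ * (k * u 16 * k⁻¹) ∈ CS u 640 := by
      have := hk.a35
      rwa [Closed2.CS_du_768 h] at this
    exact ⟨k, hk.c, hk.odd, h1, h2, Pack.pack_aux h h3 (by norm_num) (by decide)⟩
  · exact Pack.pack h
      (fun q hq g hg hgS => strongly_closed h hP q hq g (mem_centralizer_singleton_iff.2 hg) hgS)
      (fun n hn hnQ => Closed2.nE1 h (Closed1.E1_conj h hP) (Closed1.inv_Q h hP) hn hnQ)
      (fun n hn hnQ => Closed2.nE2 h (Closed1.E2_conj h hP) (Closed1.inv_Q h hP) hn hnQ) hP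

/-- **The fusion analysis.** -/
theorem exists_final (hG : ∀ H : Subgroup G, H.index ≠ 2) (S : Sylow 2 G) {u₀ : ℕ → G}
    (h : Emb (S : Subgroup G) u₀) : ∃ u, Final (S : Subgroup G) u := by
  obtain ⟨v, hv, hP⟩ := K3b.exists_pair h (fun v hv => Active.exists_active hG S hv)
  exact ⟨v, final hv hP⟩

end Cfsg.Agent.SylowL5.FusMain
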