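import Mathlib
import Cfsg.Agent.SylowL5.CentIso
import Cfsg.Agent.SylowL5.FusMain
import Cfsg.Agent.S1716
import Cfsg.Agent.Held.HeldCtl
import Cfsg.Agent.Held.HeldTri

/-!
# Simple groups with Sylow 2-subgroups of type `L_5(2)`

The strong form of S0512.
-/

set_option autoImplicit false

universe u

namespace Cfsg.Agent.SylowL5.Strong

open Cfsg Subgroup Cfsg.Agent.SylowL5.Setup Cfsg.Agent.SylowL5.FusData

variable {G : Type u} [Group G] [Finite G] {u : ℕ → G}

/-- The tetrachotomy from the fusion data. -/
theorem tetra_of_final [IsSimpleGroup G] (S : Sylow 2 G) (h : Final (S : Subgroup G) u) :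
    Held.HeldTri.Tetra G := by
  have hE := h.fus.emb
  let s : Matrix.SpecialLinearGroup (Fin 5) (ZMod 2) :=
    ⟨Matrix.transvection 0 1 1, Matrix.det_transvection_of_ne 0 1 (by decide) 1⟩
  have hs : (s : Matrix (Fin 5) (Fin 5) (ZMod 2)) = Matrix.transvection 0 1 1 := rfl
  obtain ⟨e⟩ := CentIso.centralizer_equiv S h s hs
  have hz : orderOf (u x15) = 2 := by
    apply orderOf_eq_prime
    · rw [pow_two, ← hE.mul (by decide) (by decide), show mu x15 x15 = 0 by decide, hE.zero]
    · rw [← hE.zero]
      intro h4
      exact absurd (hE.inj (by decide) (by decide) h4) (by decide)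
  exact S1716.result s hs (u x15) hz e (Held.HeldCtl.hnwc_of_simple s hs (u x15) hz e)

/-- A simple group with coordinates on a Sylow 2-subgroup has no subgroup of index 2. -/
theorem index_ne_two [IsSimpleGroup G] {S : Subgroup G} (hE : Emb S u) (H : Subgroup G) :
    H.index ≠ 2 := by
  intro h
  have hn : H.Normal := Subgroup.normal_of_index_eq_two h
  rcases hn.eq_bot_or_eq_top with h1 | h1
  · rw [h1, Subgroup.index_bot] at h
    have h2 : Function.Injective (fun a : Fin 3 => u a) := by
      intro a b hab
      exact Fin.ext (hE.inj (by omega) (by omega) hab)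
    have h3 := Nat.card_le_card_of_injective _ h2
    rw [h, Nat.card_eq_fintype_card, Fintype.card_fin] at h3
    omega
  · rw [h1, Subgroup.index_top] at h
    omega

/-- The tetrachotomy from coordinates on a Sylow 2-subgroup. -/
theorem tetra [IsSimpleGroup G] (S : Sylow 2 G) (E : Emb (S : Subgroup G) u) :
    Held.HeldTri.Tetra G := by
  obtain ⟨v, hv⟩ := FusMain.exists_final (index_ne_two E) S E
  exact tetra_of_final S hv

/-- **Simple groups with Sylow 2-subgroups of type `L_5(2)`, strong form.** -/
theorem strong [IsSimpleGroup G] (S : Sylow 2 G) (E : Emb (S : Subgroup G) u) :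
    Nonempty (G ≃* Matrix.SpecialLinearGroup (Fin 5) (ZMod 2)) ∨ Nonempty (G ≃* Cfsg.M24) ∨
      Cfsg.Spor.IsoHe G :=
  Held.HeldTri.tetra_simple (tetra S E)

end Cfsg.Agent.SylowL5.Strong
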