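import Mathlib
import Cfsg.Agent.SylowL5.Setup
import Cfsg.Agent.LieClassical.FieldTransfer

/-!
# Sylow 2-subgroups of `PSL(5, 2)` (S0512)

* `pslEquiv`: `PSL(5, F) ≃* SL(5, ZMod 2)` for `|F| = 2`;
* `exists_emb`: the coordinates on a Sylow 2-subgroup of type `L₅(2)`.
-/

set_option autoImplicit false

namespace Cfsg.Agent.SylowL5.ExistsEmb

open Matrix Cfsg.Agent.SylowL5.Setup

abbrev SL5 := Matrix.SpecialLinearGroup (Fin 5) (ZMod 2)

/-- bits as elements of `ZMod 2` -/
def bz (x : Bool) : ZMod 2 := cond x 1 0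

theorem bz_xor (x y : Bool) : bz (x ^^ y) = bz x + bz y := by
  cases x <;> cases y <;> decide

theorem bz_and (x y : Bool) : bz (x && y) = bz x * bz y := by
  cases x <;> cases y <;> decide

theorem bz_inj {x y : Bool} (h : bz x = bz y) : x = y := by
  revert h
  cases x <;> cases y <;> decide

/-- the matrix with code `a` -/
def cmat (a : ℕ) : Matrix (Fin 5) (Fin 5) (ZMod 2) :=
  !![1, bz (a.testBit 0), bz (a.testBit 4), bz (a.testBit 7), bz (a.testBit 9);
    0, 1, bz (a.testBit 1), bz (a.testBit 5), bz (a.testBit 8);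
    0, 0, 1, bz (a.testBit 2), bz (a.testBit 6);
    0, 0, 0, 1, bz (a.testBit 3);
    0, 0, 0, 0, 1]

theorem cmat_mul (a b : ℕ) : cmat (mu a b) = cmat a * cmat b := by
  unfold cmat
  ext i j
  fin_cases i <;> fin_cases j <;>
    simp [Matrix.mul_apply, Fin.sum_univ_succ, testBit_mu, bz_xor, bz_and, -Nat.testBit_zero] <;>
    ring

theorem cmat_det (a : ℕ) : (cmat a).det = 1 := by
  rw [Matrix.det_of_upperTriangular]
  · simp [cmat, Fin.prod_univ_succ]
  · intro i j hij
    revert hij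
    fin_cases i <;> fin_cases j <;> simp [cmat]

/-- the element with code `a` -/
def csl (a : ℕ) : SL5 := ⟨cmat a, cmat_det a⟩

theorem csl_mul (a b : ℕ) : csl (mu a b) = csl a * csl b :=
  Subtype.ext (cmat_mul a b)

theorem csl_inj {a b : ℕ} (ha : a < 1024) (hb : b < 1024) (h : csl a = csl b) : a = b := by
  have h1 : cmat a = cmat b := congrArg Subtype.val h
  have e : ∀ i j, cmat a i j = cmat b i j := fun i j => congrFun (congrFun h1 i) j
  have h0 : ∀ k, k < 10 → a.testBit k = b.testBit k := by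
    intro k hk
    apply bz_inj
    interval_cases k
    · simpa [cmat] using e 0 1
    · simpa [cmat] using e 1 2
    · simpa [cmat] using e 2 3
    · simpa [cmat] using e 3 4
    · simpa [cmat] using e 0 2
    · simpa [cmat] using e 1 3
    · simpa [cmat] using e 2 4
    · simpa [cmat] using e 0 3
    · simpa [cmat] using e 1 4
    · simpa [cmat] using e 0 4
  apply Nat.eq_of_testBit_eq
  intro k
  by_cases hk : k < 10
  · exact h0 k hk
  · have hk' : (1024 : ℕ) ≤ 2 ^ k := by
      calc (1024 : ℕ) = 2 ^ 10 := by norm_num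
        _ ≤ 2 ^ k := Nat.pow_le_pow_right (by norm_num) (by omega)
    rw [Nat.testBit_lt_two_pow (by omega), Nat.testBit_lt_two_pow (by omega)]

/-- the unitriangular matrices -/
def UT : Subgroup SL5 where
  carrier := {g | ∃ a, a < 1024 ∧ csl a = g}
  one_mem' := by
    refine ⟨0, by norm_num, ?_⟩
    apply Subtype.ext
    change cmat 0 = 1
    ext i j
    fin_cases i <;> fin_cases j <;> simp [cmat, bz]
  mul_mem' := by
    rintro _ _ ⟨a, ha, rfl⟩ ⟨b, hb, rfl⟩
    exact ⟨mu a b, mu_lt ha hb, csl_mul a b⟩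
  inv_mem' := by
    rintro _ ⟨a, ha, rfl⟩
    have hpow : ∀ n : ℕ, ∃ b, b < 1024 ∧ csl b = csl a ^ (n + 1) := by
      intro n
      induction n with
      | zero => exact ⟨a, ha, by rw [zero_add, pow_one]⟩
      | succ n ih =>
        obtain ⟨b, hb, hb2⟩ := ih
        exact ⟨mu b a, mu_lt hb ha, by rw [csl_mul, hb2, ← pow_succ]⟩
    have h1 : 0 < orderOf (csl a) := orderOf_pos _
    obtain ⟨b, hb, hb2⟩ := hpow (2 * orderOf (csl a) - 2)
    refine ⟨b, hb, ?_⟩
    rw [hb2]
    apply eq_inv_of_mul_eq_one_left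
    rw [← pow_succ]
    have h2 : 2 * orderOf (csl a) - 2 + 1 + 1 = orderOf (csl a) * 2 := by omega
    rw [h2, pow_mul, pow_orderOf_eq_one, one_pow]

theorem emb_UT : Emb UT csl where
  mul _ _ := csl_mul _ _
  inj ha hb h := csl_inj ha hb h
  mem ha := ⟨_, ha, rfl⟩
  surj _ hg := hg

theorem card_UT : Nat.card UT = 1024 := emb_UT.card

theorem card_SL5 : Nat.card SL5 = 2 ^ 10 * 9765 := by
  have h1 : Nat.card SL5 = Nat.card (GL (Fin 5) (ZMod 2)) := by
    refine Nat.card_congr (Equiv.ofBijective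
      (Matrix.SpecialLinearGroup.toGL : SL5 → GL (Fin 5) (ZMod 2)) ⟨?_, ?_⟩)
    · intro A B h
      apply Subtype.ext
      exact congrArg Units.val h
    · intro A
      have hA : (A : Matrix (Fin 5) (Fin 5) (ZMod 2)).det = 1 := by
        have h2 : IsUnit (A : Matrix (Fin 5) (Fin 5) (ZMod 2)).det :=
          (Matrix.isUnit_iff_isUnit_det _).1 A.isUnit
        have h3 : ∀ x : ZMod 2, x ≠ 0 → x = 1 := by decide
        exact h3 _ h2.ne_zero
      let B : SL5 := ⟨(A : Matrix (Fin 5) (Fin 5) (ZMod 2)), hA⟩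
      exact ⟨B, Units.ext (Matrix.SpecialLinearGroup.coe_GL_coe_matrix B)⟩
  rw [h1, Matrix.card_GL_field]
  simp [Fin.prod_univ_succ]

theorem center_SL5 : Subgroup.center SL5 = ⊥ := by
  rw [eq_bot_iff]
  intro A hA
  obtain ⟨r, hr, hA'⟩ := Matrix.SpecialLinearGroup.mem_center_iff.1 hA
  have hr1 : r = 1 := by
    have h3 : ∀ x : ZMod 2, x ^ 5 = 1 → x = 1 := by decide
    exact h3 r (by simpa using hr)
  rw [Subgroup.mem_bot]
  apply Subtype.ext
  rw [← hA', hr1]
  simp

/-- `PSL(5, F) ≃* SL(5, ZMod 2)` -/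
theorem nonempty_pslEquiv {F : Type*} [Field F] [Fintype F] (hF : Fintype.card F = 2) :
    Nonempty (Matrix.ProjectiveSpecialLinearGroup (Fin 5) F ≃* SL5) := by
  have e : F ≃+* ZMod 2 := FiniteField.ringEquivOfCardEq (hF.trans (ZMod.card 2).symm)
  refine ⟨(LieClassical.FieldTransfer.pslCongr e).trans ?_⟩
  exact (QuotientGroup.quotientMulEquivOfEq center_SL5).trans QuotientGroup.quotientBot

theorem isPGroup_UT : IsPGroup 2 UT :=
  IsPGroup.of_card (n := 10) (by rw [card_UT]; norm_num)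

theorem factorization : (Nat.card SL5).factorization 2 = 10 := by
  rw [card_SL5, Nat.factorization_mul (by norm_num) (by norm_num)]
  simp only [Nat.factorization_pow, Finsupp.add_apply, Finsupp.smul_apply, smul_eq_mul]
  rw [Nat.Prime.factorization_self Nat.prime_two, Nat.factorization_eq_zero_of_not_dvd (by norm_num)]

theorem card_sylow (Q : Sylow 2 SL5) : Nat.card (Q : Subgroup SL5) = 1024 := by
  rw [Sylow.card_eq_multiplicity, factorization]
  norm_num

/-- a subgroup of order `1024` of `SL(5, 2)` is isomorphic to `UT`. -/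
theorem nonempty_equiv_UT {P : Subgroup SL5} (hP : Nat.card P = 1024) : Nonempty (P ≃* UT) := by
  haveI : Fact (Nat.Prime 2) := ⟨Nat.prime_two⟩
  obtain ⟨Q, hQ⟩ := (IsPGroup.of_card (p := 2) (n := 10) (G := P) (by rw [hP]; norm_num)).exists_le_sylow
  obtain ⟨Q', hQ'⟩ := isPGroup_UT.exists_le_sylow
  have h1 : P = Q := Subgroup.eq_of_le_of_card_ge hQ (by rw [card_sylow, hP])
  have h2 : UT = Q' := Subgroup.eq_of_le_of_card_ge hQ' (by rw [card_sylow, card_UT])
  exact ⟨((MulEquiv.subgroupCongr h1).trans (Sylow.equiv Q Q')).trans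
    (MulEquiv.subgroupCongr h2).symm⟩

/-- **The coordinates on a Sylow 2-subgroup of type `L₅(2)`.** -/
theorem exists_emb {G : Type*} [Group G] [Finite G] {F : Type*} [Field F] [Fintype F]
    (hF : Fintype.card F = 2) (S : Sylow 2 G)
    (P : Sylow 2 (Matrix.ProjectiveSpecialLinearGroup (Fin 5) F))
    (hS : Nonempty ((S : Subgroup G) ≃*
      (P : Subgroup (Matrix.ProjectiveSpecialLinearGroup (Fin 5) F)))) :
    ∃ u : ℕ → G, Emb (S : Subgroup G) u := by
  haveI : Fact (Nat.Prime 2) := ⟨Nat.prime_two⟩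
  obtain ⟨e0⟩ := hS
  obtain ⟨e⟩ := nonempty_pslEquiv hF
  have hfin : Finite (Matrix.ProjectiveSpecialLinearGroup (Fin 5) F) := Finite.of_equiv _ e.symm.toEquiv
  have hP : Nat.card (P : Subgroup (Matrix.ProjectiveSpecialLinearGroup (Fin 5) F)) = 1024 := by
    rw [Sylow.card_eq_multiplicity, Nat.card_congr e.toEquiv, factorization]
    norm_num
  have hP' : Nat.card ((P : Subgroup (Matrix.ProjectiveSpecialLinearGroup (Fin 5) F)).map
      e.toMonoidHom) = 1024 := by
    rw [Subgroup.card_map_of_injective e.injective, hP]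
  obtain ⟨e2⟩ := nonempty_equiv_UT hP'
  have φ : (S : Subgroup G) ≃* UT := (e0.trans (e.subgroupMap _)).trans e2
  refine ⟨fun a => if h : a < 1024 then (φ.symm ⟨csl a, a, h, rfl⟩ : G) else 1, ?_, ?_, ?_, ?_⟩
  · intro a b ha hb
    rw [dif_pos ha, dif_pos hb, dif_pos (mu_lt ha hb), ← Subgroup.coe_mul, ← map_mul]
    congr 2
    exact Subtype.ext (csl_mul a b)
  · intro a b ha hb hab
    rw [dif_pos ha, dif_pos hb] at hab
    have h1 := φ.symm.injective (Subtype.ext hab)
    exact csl_inj ha hb (congrArg Subtype.val h1)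
  · intro a ha
    rw [dif_pos ha]
    exact (φ.symm ⟨csl a, a, ha, rfl⟩).2
  · intro g hg
    obtain ⟨a, ha, h1⟩ := (φ ⟨g, hg⟩).2
    refine ⟨a, ha, ?_⟩
    rw [dif_pos ha]
    have h2 : (⟨csl a, a, ha, rfl⟩ : UT) = φ ⟨g, hg⟩ := Subtype.ext h1
    rw [h2, MulEquiv.symm_apply_apply]

end Cfsg.Agent.SylowL5.ExistsEmb
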