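import Cfsg.Agent.SylowL5.TypeAFinal

/-!
# `VData` gives control of fusion by `N_Y(Q)` and `Y = O(Y) N_Y(Q)` (S0512)
-/

set_option autoImplicit false

namespace Cfsg.Agent.SylowL5.CtrlV

open Cfsg Subgroup
open Cfsg.Agent.SylowL5.Setup Cfsg.Agent.SylowL5.TypeACodes Cfsg.Agent.SylowL5.TypeA
open Cfsg.Agent.SylowL5.Ctrl Cfsg.Agent.Lib.GoldschmidtFusion

variable {Y : Type*} [Group Y] [Finite Y] {S : Sylow 2 Y} {u : ℕ → Y}

omit [Finite Y] in
/-- `Q / ⟨z⟩` is abelian. -/
theorem Q_comm (h : Emb (S : Subgroup Y) u) {x y : Y} (hx : x ∈ CS u kQ) (hy : y ∈ CS u kQ) :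
    x * y * x⁻¹ * y⁻¹ ∈ zpowers (u 512) := by
  obtain ⟨a, ha, haQ, rfl⟩ := (h.mem_CS (by decide)).1 hx
  obtain ⟨b, hb, hbQ, rfl⟩ := (h.mem_CS (by decide)).1 hy
  have a1 := not_of_subK haQ (j := 1) (by decide)
  have a2 := not_of_subK haQ (j := 2) (by decide)
  have a5 := not_of_subK haQ (j := 5) (by decide)
  have b1 := not_of_subK hbQ (j := 1) (by decide)
  have b2 := not_of_subK hbQ (j := 2) (by decide)
  have b5 := not_of_subK hbQ (j := 5) (by decide)
  have h1 : ∀ j, j < 10 → j ≠ 9 → j ≠ 6 → (mu a b).testBit j = (mu b a).testBit j := by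
    intro j hj hj9 hj6
    rw [testBit_mu, testBit_mu, a1, a2, a5, b1, b2, b5]
    interval_cases j <;> first | (exact absurd rfl hj9) | (exact absurd rfl hj6) |
      simp [-Nat.testBit_zero, Bool.xor_comm]
  have h6 : (mu a b).testBit 6 = (mu b a).testBit 6 := by
    rw [testBit_mu, testBit_mu, a1, a2, a5, b1, b2, b5]
    simp [-Nat.testBit_zero, Bool.xor_comm]
  by_cases h9 : (mu a b).testBit 9 = (mu b a).testBit 9
  · have h2 : mu a b = mu b a := by
      apply ext10 (mu_lt ha hb) (mu_lt hb ha)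
      intro j hj
      by_cases hj9 : j = 9
      · rw [hj9]; exact h9
      by_cases hj6 : j = 6
      · rw [hj6]; exact h6
      exact h1 j hj hj9 hj6
    have h3 := (comm_iff h ha hb).2 h2
    rw [h3]
    have : u b * u a * (u a)⁻¹ * (u b)⁻¹ = 1 := by group
    rw [this]; exact one_mem _
  · have hz : SubK 512 kU1 := by rw [subK_iff]; decide
    have h2 : mu a b = mu 512 (mu b a) := by
      apply ext10 (mu_lt ha hb) (mu_lt (by norm_num) (mu_lt hb ha))
      intro j hj
      rw [mu_U1 hz, tb512]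
      by_cases hj9 : j = 9
      · subst hj9
        revert h9
        cases (mu a b).testBit 9 <;> cases (mu b a).testBit 9 <;> decide
      · have : decide (9 = j) = false := by
          simp only [decide_eq_false_iff_not]; omega
        rw [this, Bool.false_xor]
        by_cases hj6 : j = 6
        · rw [hj6]; exact h6
        exact h1 j hj hj9 hj6
    have h3 : u a * u b = u 512 * (u b * u a) := by
      rw [← h.mul ha hb, ← h.mul hb ha, ← h.mul (by norm_num) (mu_lt hb ha), h2]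
    have h4 : u a * u b * (u a)⁻¹ * (u b)⁻¹ = u 512 := by
      rw [h3]; group
    rw [h4]
    exact mem_zpowers _

/-- `N_Y(Q)` controls strong 2-fusion in `Y`. -/
theorem ctrl (h : Data.VData S u) : Data.Ctrl (normalizer (CS u kQ : Set Y)) := by
  have h2 : Fact (Nat.Prime 2) := ⟨Nat.prime_two⟩
  set Z : Subgroup Y := zpowers (u 512) with hZ
  have hZc : ∀ z ∈ Z, ∀ y : Y, z * y = y * z := by
    intro z hz y
    obtain ⟨k, rfl⟩ := mem_zpowers_iff.1 hz
    exact ((show Commute y (u 512) from h.zc y).zpow_right k).symm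
  have hZn : Z.Normal := by
    constructor
    intro z hz g
    rw [← hZc z hz g, mul_inv_cancel_right]
    exact hz
  have hzQ : u 512 ∈ CS u kQ := u_mem u (by norm_num) (by decide)
  have hZQ : Z ≤ CS u kQ := by rw [hZ, zpowers_le]; exact hzQ
  have hQS : CS u kQ ≤ (S : Subgroup Y) := h.emb.CS_le kQ
  have hZN : Z ≤ normalizer (CS u kQ : Set Y) := hZQ.trans le_normalizer
  have hZp : IsPGroup 2 Z := S.isPGroup'.to_le (hZQ.trans hQS)
  apply ctrl_of_quotient hZc hZN hZp
  have hπ : Function.Surjective (QuotientGroup.mk' Z) := QuotientGroup.mk'_surjective Z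
  have hmk : ∀ {A : Subgroup Y} (hA : Z ≤ A) {x : Y},
      QuotientGroup.mk' Z x ∈ A.map (QuotientGroup.mk' Z) ↔ x ∈ A := fun hA =>
    TypeAAbs.mk_mem_map_iff hA
  have hN : normalizer ((CS u kQ).map (QuotientGroup.mk' Z) : Set (Y ⧸ Z)) =
      (normalizer (CS u kQ : Set Y)).map (QuotientGroup.mk' Z) := by
    apply le_antisymm
    · intro g hg
      obtain ⟨y, rfl⟩ := hπ g
      refine mem_map_of_mem _ ?_
      refine J2Sylow.Functor.mem_normalizer_of_conj' ?_
      intro q hq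
      have h3 := (mem_normalizer_iff.1 hg (QuotientGroup.mk' Z q)).1 (mem_map_of_mem _ hq)
      rw [← map_inv, ← map_mul, ← map_mul] at h3
      exact (hmk hZQ).1 h3
    · rintro _ ⟨y, hy, rfl⟩
      refine J2Sylow.Functor.mem_normalizer_of_conj' ?_
      rintro _ ⟨q, hq, rfl⟩
      rw [← map_inv, ← map_mul, ← map_mul]
      exact mem_map_of_mem _ ((mem_normalizer_iff.1 hy q).1 hq)
  rw [← hN]
  refine control_of_stronglyClosed (S.mapSurjective hπ) _ (map_mono hQS) ?_ ?_
  · rintro _ ⟨a, ha, rfl⟩ _ ⟨b, hb, rfl⟩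
    rw [← map_mul, ← map_mul, TypeAAbs.mk_eq_iff]
    have := Q_comm h.emb ha hb
    have e : a * b * (b * a)⁻¹ = a * b * a⁻¹ * b⁻¹ := by group
    rw [e]; exact this
  · rintro _ ⟨a, ha, rfl⟩ g hg
    obtain ⟨y, rfl⟩ := hπ g
    rw [← map_inv, ← map_mul, ← map_mul] at hg ⊢
    have h3 : y * a * y⁻¹ ∈ (S : Subgroup Y) := (hmk (hZQ.trans hQS)).1 hg
    exact mem_map_of_mem _ (h.scQ a ha y h3)

/-- **(V)** `Y = O(Y) N_Y(Q)`. -/
theorem solved (h : Data.VData S u) : Data.Solved (normalizer (CS u kQ : Set Y)) :=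
  TypeAFinal.solved h (ctrl h)

end Cfsg.Agent.SylowL5.CtrlV
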