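import Mathlib
import Cfsg.Prelude.Def_Transfer
import Cfsg.Agent.R15.Lite
import Cfsg.Agent.R15.NormalElem
import Cfsg.Agent.SignalizersComponents.CoprimeGen

/-!
# Piece B4: two commuting strongly closed elementary abelian subgroups

`X` a finite group, `P` a Sylow 2-subgroup, `V₁`, `V₂` two elementary abelian subgroups strongly
closed in `P`. If `M` contains `N(V₁)`, `N(V₂)` and the centralizers of all involutions of `V₁`
and `V₂`, then `M = X` (Lemma LITE). Consequence: if the centralizers of the involutions of `V₁`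
and `V₂` are `O(C(v)) N`, then `X = O(X) N`.
-/

set_option autoImplicit false

namespace Cfsg.Agent.SylowL5.FinalLite

open Cfsg Subgroup Cfsg.Agent.R15

/-- `V` is a nontrivial elementary abelian subgroup strongly closed in `P`. -/
structure SC {X : Type*} [Group X] (P : Sylow 2 X) (V : Subgroup X) : Prop where
  le : V ≤ P
  sc : ∀ v ∈ V, ∀ g : X, g * v * g⁻¹ ∈ (P : Subgroup X) → g * v * g⁻¹ ∈ V
  ab : ∀ a ∈ V, ∀ b ∈ V, a * b = b * a
  sq : ∀ a ∈ V, a * a = 1

section

variable {X : Type*} [Group X] [Finite X] {P : Sylow 2 X} {V : Subgroup X}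

theorem SC.weak (h : SC P V) : IsWeaklyClosed V (P : Subgroup X) := by
  refine ⟨h.le, fun g hg => ?_⟩
  have h1 : V.map (MulAut.conj g).toMonoidHom ≤ V := by
    rintro _ ⟨v, hv, rfl⟩
    exact h.sc v hv g (hg ⟨v, hv, rfl⟩)
  refine Subgroup.eq_of_le_of_card_ge h1 ?_
  rw [Subgroup.card_map_of_injective (MulAut.conj g).injective]

/-- The basic membership statement. -/
theorem SC.mem_of_conj_mem (h : SC P V) {M : Subgroup X} (hPM : (P : Subgroup X) ≤ M)
    (hN : normalizer (V : Set X) ≤ M) (hC : ∀ a ∈ V, a ≠ 1 → centralizer {a} ≤ M)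
    {x : X} (hx : x ∈ V) (hx1 : x ≠ 1) {g : X} (hg : g * x * g⁻¹ ∈ M) : g ∈ M := by
  have hxx := h.sq x hx
  have hpow : (g * x * g⁻¹) ^ 2 ^ 1 = 1 := by
    rw [pow_one, pow_two]
    calc g * x * g⁻¹ * (g * x * g⁻¹) = g * (x * x) * g⁻¹ := by group
      _ = 1 := by rw [hxx]; group
  obtain ⟨m, hm, hmP⟩ := NormalElem.exists_conj_mem P M hPM hg hpow
  have e : m * (g * x * g⁻¹) * m⁻¹ = (m * g) * x * (m * g)⁻¹ := by group
  rw [e] at hmP
  have hV := h.sc x hx _ hmP
  obtain ⟨n, hn, hnx⟩ := NormalElem.exists_normalizer_conj P V h.weak h.ab hx hV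
  have hc : n⁻¹ * (m * g) ∈ centralizer ({x} : Set X) := by
    rw [mem_centralizer_singleton_iff]
    have h1 : (m * g) * x = n * x * n⁻¹ * (m * g) := by rw [hnx]; group
    calc n⁻¹ * (m * g) * x = n⁻¹ * ((m * g) * x) := by group
      _ = n⁻¹ * (n * x * n⁻¹ * (m * g)) := by rw [h1]
      _ = x * (n⁻¹ * (m * g)) := by group
  have h2 := M.mul_mem (M.mul_mem (M.inv_mem hm) (hN hn)) (hC x hx hx1 hc)
  have e2 : m⁻¹ * n * (n⁻¹ * (m * g)) = g := by group
  rwa [e2] at h2

/-- Strong closure passes to any Sylow subgroup containing `V`. -/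
theorem SC.of_le (h : SC P V) (Q : Sylow 2 X) (hQ : V ≤ Q) : SC Q V := by
  obtain ⟨g, hg⟩ := MulAction.exists_smul_eq X Q P
  have hgm : ∀ x : X, x ∈ (Q : Subgroup X) ↔ g * x * g⁻¹ ∈ (P : Subgroup X) := by
    intro x
    rw [← hg, Sylow.coe_subgroup_smul]
    constructor
    · intro hx; exact ⟨x, hx, rfl⟩
    · rintro ⟨y, hy, hyx⟩
      have h1 : g * y * g⁻¹ = g * x * g⁻¹ := hyx
      have h2 : y = x := by simpa using h1
      rwa [← h2]
  -- `g` normalises `V`
  have h1 : V.map (MulAut.conj g).toMonoidHom = V := by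
    refine h.weak.2 g ?_
    rintro _ ⟨v, hv, rfl⟩
    exact (hgm v).1 (hQ hv)
  refine ⟨hQ, fun v hv k hk => ?_, h.ab, h.sq⟩
  have h2 := (hgm _).1 hk
  have h3 : g * (k * v * k⁻¹) * g⁻¹ = (g * k) * v * (g * k)⁻¹ := by group
  rw [h3] at h2
  have h4 := h.sc v hv _ h2
  rw [← h3, ← h1] at h4
  obtain ⟨y, hy, hyx⟩ := h4
  have h5 : g * y * g⁻¹ = g * (k * v * k⁻¹) * g⁻¹ := hyx
  have h6 : y = k * v * k⁻¹ := by simpa using h5
  rwa [← h6]

/-- A conjugate of an element of `V#` which commutes with `v ∈ V#` is carried into `V` by an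
element of `C(v)`. -/
theorem SC.exists_conj (h : SC P V) {v : X} (hv : v ∈ V) {e : X} (he : e ∈ centralizer {v})
    (heV : ∃ g : X, ∃ x ∈ V, g * x * g⁻¹ = e) : ∃ c ∈ centralizer {v}, c * e * c⁻¹ ∈ V := by
  obtain ⟨g, x, hx, hgx⟩ := heV
  set C : Subgroup X := centralizer {v} with hCdef
  have hVC : V ≤ C := fun a ha => mem_centralizer_singleton_iff.2 (h.ab a ha v hv)
  have hVp : IsPGroup 2 V := P.2.to_le h.le
  have hVC' : IsPGroup 2 (V.subgroupOf C) := hVp.comap_of_injective _ C.subtype_injective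
  obtain ⟨P1, hP1⟩ := hVC'.exists_le_sylow
  have hp1 : IsPGroup 2 ((P1 : Subgroup C).map C.subtype) := P1.2.map _
  obtain ⟨Q, hQ⟩ := hp1.exists_le_sylow
  have hVQ : V ≤ Q := by
    intro a ha
    refine hQ ⟨⟨a, hVC ha⟩, hP1 ?_, rfl⟩
    exact ha
  have hSC := h.of_le Q hVQ
  -- move `e` into `P1`
  have hee : e * e = 1 := by
    rw [← hgx]
    calc g * x * g⁻¹ * (g * x * g⁻¹) = g * (x * x) * g⁻¹ := by group
      _ = 1 := by rw [h.sq x hx]; group
  have hz : IsPGroup 2 (zpowers (⟨e, he⟩ : C)) := by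
    rintro ⟨z, hz⟩
    obtain ⟨n, rfl⟩ := mem_zpowers_iff.mp hz
    refine ⟨1, ?_⟩
    apply Subtype.ext
    apply Subtype.ext
    show (e ^ n) ^ 2 ^ 1 = 1
    rw [pow_one, ← zpow_natCast, ← zpow_mul, mul_comm, zpow_mul, zpow_natCast, pow_two, hee,
      one_zpow]
  obtain ⟨R, hR⟩ := hz.exists_le_sylow
  obtain ⟨c, hc⟩ := MulAction.exists_smul_eq C R P1
  refine ⟨c, c.2, ?_⟩
  have h1 : c * ⟨e, he⟩ * c⁻¹ ∈ (P1 : Subgroup C) := by
    rw [← hc, Sylow.coe_subgroup_smul]
    exact ⟨⟨e, he⟩, hR (mem_zpowers _), rfl⟩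
  have h2 : (c : X) * e * (c : X)⁻¹ ∈ (Q : Subgroup X) := hQ ⟨_, h1, rfl⟩
  rw [← hgx] at h2 ⊢
  have e1 : (c : X) * (g * x * g⁻¹) * (c : X)⁻¹ = (c * g) * x * (c * g)⁻¹ := by group
  rw [e1] at h2 ⊢
  exact hSC.sc x hx _ h2

end

/-- **The LITE step.** -/
theorem eq_top {X : Type*} [Group X] [Finite X] {P : Sylow 2 X} {V W : Subgroup X}
    (hV : SC P V) (hW : SC P W) (hV1 : V ≠ ⊥) (hVW : V ⊓ W = ⊥)
    {w : X} (hw : w ∈ W) (hw1 : w ≠ 1)
    (M : Subgroup X) (hPM : (P : Subgroup X) ≤ M)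
    (hNV : normalizer (V : Set X) ≤ M) (hCV : ∀ a ∈ V, a ≠ 1 → centralizer {a} ≤ M)
    (hNW : normalizer (W : Set X) ≤ M) (hCW : ∀ a ∈ W, a ≠ 1 → centralizer {a} ≤ M)
    (hZ : ∀ K : Subgroup X, K.Normal → 2 ∣ Nat.card K →
      ∃ x ∈ K, x ≠ 1 ∧ (x ∈ V ∨ x ∈ W)) : M = ⊤ := by
  classical
  by_contra hM
  have hF1 : ∀ {x : X}, x ∈ V → x ≠ 1 → ∀ {g : X}, g * x * g⁻¹ ∈ M → g ∈ M :=
    fun {x} hx hx1 {g} hg => hV.mem_of_conj_mem hPM hNV hCV hx hx1 hg
  have hF2 : ∀ {x : X}, x ∈ W → x ≠ 1 → ∀ {g : X}, g * x * g⁻¹ ∈ M → g ∈ M :=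
    fun {x} hx hx1 {g} hg => hW.mem_of_conj_mem hPM hNW hCW hx hx1 hg
  have hVM : V ≤ M := hV.le.trans hPM
  -- the class
  let D : Set X := {d | ∃ g : X, ∃ x ∈ V, x ≠ 1 ∧ g * x * g⁻¹ = d}
  let pt : X → X ⧸ M := fun d => if h : ∃ g : X, ∃ x ∈ V, x ≠ 1 ∧ g * x * g⁻¹ = d then
    ((Classical.choose h : X) : X ⧸ M) else ((1 : X) : X ⧸ M)
  have hsmul : ∀ (d h : X), d • ((h : X) : X ⧸ M) = ((h : X) : X ⧸ M) ↔ h⁻¹ * d * h ∈ M := by
    intro d h
    rw [show d • ((h : X) : X ⧸ M) = ((d * h : X) : X ⧸ M) from rfl, QuotientGroup.eq]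
    rw [← inv_mem_iff]
    have : ((d * h)⁻¹ * h)⁻¹ = h⁻¹ * d * h := by group
    rw [this]
  have hfix : ∀ d ∈ D, ∀ a : X ⧸ M, d • a = a ↔ a = pt d := by
    intro d hd a
    obtain ⟨h, rfl⟩ := QuotientGroup.mk_surjective a
    have hpt : pt d = ((Classical.choose hd : X) : X ⧸ M) := dif_pos hd
    obtain ⟨x, hxV, hx1, hg⟩ := Classical.choose_spec hd
    set g := Classical.choose hd
    rw [hpt]
    rw [hsmul, QuotientGroup.eq]
    constructor
    · intro h1
      refine hF1 hxV hx1 ?_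
      rw [← hg] at h1
      have e : h⁻¹ * (g * x * g⁻¹) * h = (h⁻¹ * g) * x * (h⁻¹ * g)⁻¹ := by group
      rwa [e] at h1
    · intro h1
      rw [← hg]
      have e : h⁻¹ * (g * x * g⁻¹) * h = (h⁻¹ * g) * x * (h⁻¹ * g)⁻¹ := by group
      rw [e]
      exact M.mul_mem (M.mul_mem h1 (hVM hxV)) (M.inv_mem h1)
  have hsq : ∀ d ∈ D, d * d = 1 := by
    rintro _ ⟨g, x, hx, -, rfl⟩
    calc g * x * g⁻¹ * (g * x * g⁻¹) = g * (x * x) * g⁻¹ := by group
      _ = 1 := by rw [hV.sq x hx]; group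
  have hconj : ∀ d ∈ D, ∀ g : X, g * d * g⁻¹ ∈ D := by
    rintro _ ⟨h, x, hx, hx1, rfl⟩ g
    exact ⟨g * h, x, hx, hx1, by group⟩
  have hcent : ∀ d ∈ D, ∀ e ∈ D, d ≠ e → d * e = e * d → ∀ g : X, g * (d * e) = (d * e) * g →
      g • pt d = pt d := by
    intro d hd e he hne hde g hg
    obtain ⟨h, x, hx, hx1, hhx⟩ := id hd
    have hptx : pt d = ((h : X) : X ⧸ M) := by
      symm
      rw [← hfix d hd, hsmul, ← hhx]
      have : h⁻¹ * (h * x * h⁻¹) * h = x := by group
      rw [this]; exact hVM hx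
    rw [hptx, hsmul]
    -- translate to `x`
    set e' := h⁻¹ * e * h with he'
    set g' := h⁻¹ * g * h with hg'
    have he'D : e' ∈ D := by
      have := hconj e he h⁻¹
      simpa [he'] using this
    have hz' : x = h⁻¹ * d * h := by rw [← hhx]; group
    have hne' : x ≠ e' := by
      intro h0
      apply hne
      have h1 : h * x * h⁻¹ = h * e' * h⁻¹ := by rw [h0]
      rw [hhx] at h1
      rw [h1, he']; group
    have hcomm : x * e' = e' * x := by
      rw [hz', he']
      calc h⁻¹ * d * h * (h⁻¹ * e * h) = h⁻¹ * (d * e) * h := by group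
        _ = h⁻¹ * (e * d) * h := by rw [hde]
        _ = h⁻¹ * e * h * (h⁻¹ * d * h) := by group
    have hg'c : g' * (x * e') = (x * e') * g' := by
      rw [hz', he', hg']
      calc h⁻¹ * g * h * (h⁻¹ * d * h * (h⁻¹ * e * h)) = h⁻¹ * (g * (d * e)) * h := by group
        _ = h⁻¹ * ((d * e) * g) * h := by rw [hg]
        _ = _ := by group
    have he'C : e' ∈ centralizer ({x} : Set X) := mem_centralizer_singleton_iff.2 hcomm.symm
    obtain ⟨y, y', hy', -, hy⟩ := id he'D
    obtain ⟨c, hc, hcV⟩ := hV.exists_conj hx he'C ⟨y, y', hy', hy⟩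
    have hcz : c * x = x * c := mem_centralizer_singleton_iff.1 hc
    have hprodV : c * (x * e') * c⁻¹ ∈ V := by
      have e1 : c * (x * e') * c⁻¹ = x * (c * e' * c⁻¹) := by
        calc c * (x * e') * c⁻¹ = (c * x) * e' * c⁻¹ := by group
          _ = (x * c) * e' * c⁻¹ := by rw [hcz]
          _ = _ := by group
      rw [e1]
      exact V.mul_mem hx hcV
    have hprod1 : c * (x * e') * c⁻¹ ≠ 1 := by
      intro h0
      have h1 : x * e' = 1 := by
        have := congrArg (fun t => c⁻¹ * t * c) h0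
        simpa [mul_assoc] using this
      apply hne'
      have h2 : e' = x⁻¹ := eq_inv_of_mul_eq_one_right h1
      rw [h2, inv_eq_of_mul_eq_one_left (hV.sq x hx)]
    have hcM : c ∈ M := hCV x hx hx1 hc
    have hmem : c * g' * c⁻¹ ∈ M := by
      apply hCV _ hprodV hprod1
      rw [mem_centralizer_singleton_iff]
      calc c * g' * c⁻¹ * (c * (x * e') * c⁻¹) = c * (g' * (x * e')) * c⁻¹ := by group
        _ = c * ((x * e') * g') * c⁻¹ := by rw [hg'c]
        _ = _ := by group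
    have h3 := M.mul_mem (M.mul_mem (M.inv_mem hcM) hmem) hcM
    have e3 : c⁻¹ * (c * g' * c⁻¹) * c = g' := by group
    rwa [e3] at h3
  have H : Lite.Hyp D pt :=
    { sq := hsq
      ne := by
        rintro _ ⟨g, x, hx, hx1, rfl⟩ h
        apply hx1
        have := congrArg (fun t => g⁻¹ * t * g) h
        simpa [mul_assoc] using this
      conj := hconj
      fix := hfix
      cent := hcent }
  -- oddness
  have hoddM : Odd (Nat.card {d : X // d ∈ D ∧ d ∈ M}) := by
    -- `P` acts by conjugation; the fixed points are `V# ∩ Z(P)`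
    have hfact : Fact (Nat.Prime 2) := ⟨Nat.prime_two⟩
    let α := {d : X // d ∈ D ∧ d ∈ M}
    let act : MulAction P α :=
      { smul := fun g d => ⟨(g : X) * d.1 * (g : X)⁻¹, hconj _ d.2.1 g,
          M.mul_mem (M.mul_mem (hPM g.2) d.2.2) (M.inv_mem (hPM g.2))⟩
        one_smul := fun d => Subtype.ext (by
          show ((1 : P) : X) * d.1 * ((1 : P) : X)⁻¹ = d.1
          simp)
        mul_smul := fun g h d => Subtype.ext (by
          show ((g * h : P) : X) * d.1 * ((g * h : P) : X)⁻¹ =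
            (g : X) * ((h : X) * d.1 * (h : X)⁻¹) * (g : X)⁻¹
          push_cast
          group) }
    have hmod := P.2.card_modEq_card_fixedPoints α
    -- the fixed points
    let Z : Subgroup X := V ⊓ centralizer ((P : Subgroup X) : Set X)
    have hfixpt : ∀ d : α, d ∈ MulAction.fixedPoints P α ↔ d.1 ∈ Z := by
      intro d
      rw [MulAction.mem_fixedPoints]
      constructor
      · intro hd
        have hcomm : ∀ g ∈ (P : Subgroup X), g * d.1 = d.1 * g := by
          intro g hg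
          have h1 : g * d.1 * g⁻¹ = d.1 := congrArg Subtype.val (hd ⟨g, hg⟩)
          calc g * d.1 = (g * d.1 * g⁻¹) * g := by group
            _ = d.1 * g := by rw [h1]
        have hdd := hsq _ d.2.1
        -- `d` lies in `P`
        have hdP : d.1 ∈ (P : Subgroup X) := by
          have hP' : IsPGroup 2 (zpowers d.1) := by
            rintro ⟨z, hz⟩
            obtain ⟨n, rfl⟩ := mem_zpowers_iff.mp hz
            refine ⟨1, ?_⟩
            apply Subtype.ext
            show (d.1 ^ n) ^ 2 ^ 1 = 1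
            rw [pow_one, ← zpow_natCast, ← zpow_mul, mul_comm, zpow_mul, zpow_natCast, pow_two,
              hdd, one_zpow]
          have hle : zpowers d.1 ≤ normalizer ((P : Subgroup X) : Set X) := by
            rw [zpowers_le, mem_normalizer_iff]
            intro y
            constructor
            · intro hy
              rw [← hcomm y hy, mul_inv_cancel_right]
              exact hy
            · intro hy
              have h1 := hcomm _ hy
              have h2 : d.1 * y = d.1 * (d.1 * y * (d.1)⁻¹) := by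
                rw [← h1]; group
              have h3 := mul_left_cancel h2
              rw [h3]; exact hy
          have h1 : IsPGroup 2 (zpowers d.1 ⊔ (P : Subgroup X) : Subgroup X) :=
            hP'.to_sup_of_normal_right' P.2 hle
          have h2 : (P : Subgroup X) = (zpowers d.1 ⊔ (P : Subgroup X) : Subgroup X) :=
            (P.3 h1 le_sup_right).symm
          rw [h2]
          exact (le_sup_left : zpowers d.1 ≤ _) (mem_zpowers _)
        obtain ⟨g, x, hx, hx1, hgx⟩ := id d.2.1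
        refine ⟨?_, ?_⟩
        · rw [← hgx] at hdP ⊢
          exact hV.sc x hx g hdP
        · exact mem_centralizer_iff.2 hcomm
      · rintro ⟨-, hd⟩ g
        apply Subtype.ext
        show (g : X) * d.1 * (g : X)⁻¹ = d.1
        rw [(mem_centralizer_iff.1 hd) g g.2, mul_inv_cancel_right]
    have hcardfix : Nat.card (MulAction.fixedPoints P α) + 1 = Nat.card Z := by
      have e : Option (MulAction.fixedPoints P α) ≃ Z :=
        { toFun := fun o => match o with
            | none => 1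
            | some d => ⟨d.1.1, (hfixpt d.1).1 d.2⟩
          invFun := fun z => if hz : z = 1 then none else
            some ⟨⟨z.1, ⟨1, z.1, z.2.1, fun h => hz (Subtype.ext h), by group⟩, hVM z.2.1⟩,
              (hfixpt _).2 z.2⟩
          left_inv := by
            rintro (_ | d)
            · simp
            · have hne : (⟨d.1.1, (hfixpt d.1).1 d.2⟩ : Z) ≠ 1 := by
                intro h
                exact H.ne _ d.1.2.1 (congrArg Subtype.val h)
              show (if hz : (⟨d.1.1, (hfixpt d.1).1 d.2⟩ : Z) = 1 then none else _) = _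
              rw [dif_neg hne]
          right_inv := by
            intro z
            by_cases hz : z = 1
            · simp [hz]
            · simp only [hz, dif_neg, not_false_eq_true] }
      rw [← Nat.card_congr e, Finite.card_option]
    have hZ1 : 2 ∣ Nat.card Z := by
      -- `V` is normal in `P`
      have hVn : (V.subgroupOf (P : Subgroup X)).Normal := by
        constructor
        intro v hv g
        have hv' : (v : X) ∈ V := hv
        exact hV.sc _ hv' g (P.mul_mem (P.mul_mem g.2 v.2) (P.inv_mem g.2))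
      have hne : V.subgroupOf (P : Subgroup X) ≠ ⊥ := by
        intro h0
        apply hV1
        rw [eq_bot_iff]
        intro v hv
        have h1 : (⟨v, hV.le hv⟩ : P) ∈ V.subgroupOf (P : Subgroup X) := hv
        rw [h0, mem_bot] at h1
        exact mem_bot.2 (congrArg Subtype.val h1)
      obtain ⟨x, hxK, hxc, hxo⟩ :=
        Cfsg.Agent.Transfer.PGroupNormal.exists_mem_inf_center_orderOf P.2 _ hne
      have hxZ : (x : X) ∈ Z := by
        refine ⟨hxK, mem_centralizer_iff.2 ?_⟩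
        intro y hy
        exact (congrArg Subtype.val ((mem_center_iff.1 hxc) ⟨y, hy⟩))
      have h1 : orderOf (⟨(x : X), hxZ⟩ : Z) = 2 := by
        have h0 : orderOf (⟨(x : X), hxZ⟩ : Z) = orderOf x := by
          rw [← Subgroup.orderOf_coe, ← Subgroup.orderOf_coe x]
        rw [h0, hxo]
      rw [← h1]
      exact orderOf_dvd_natCard _
    rw [← Nat.not_even_iff_odd, even_iff_two_dvd]
    intro h2
    have h3 : 2 ∣ Nat.card (MulAction.fixedPoints P α) := by
      rw [Nat.ModEq] at hmod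
      have h4 : Nat.card α % 2 = 0 := Nat.mod_eq_zero_of_dvd h2
      omega
    omega
  have hodd : ∀ a : X ⧸ M, Odd (Nat.card {d : X // d ∈ D ∧ pt d = a}) := by
    intro a
    obtain ⟨h, rfl⟩ := QuotientGroup.mk_surjective a
    rw [← Nat.card_congr ?_]
    · exact hoddM
    refine ⟨fun d => ⟨h * d.1 * h⁻¹, hconj _ d.2.1 h, ?_⟩,
      fun d => ⟨h⁻¹ * d.1 * h, ?_, ?_⟩, ?_, ?_⟩
    · symm
      rw [← hfix _ (hconj _ d.2.1 h), hsmul]
      have e : h⁻¹ * (h * d.1 * h⁻¹) * h = d.1 := by group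
      rw [e]; exact d.2.2
    · have := hconj _ d.2.1 h⁻¹
      rwa [inv_inv] at this
    · have h1 := (hfix _ d.2.1 _).2 d.2.2.symm
      rwa [hsmul] at h1
    · intro d
      apply Subtype.ext
      show h⁻¹ * (h * d.1 * h⁻¹) * h = d.1
      group
    · intro d
      apply Subtype.ext
      show h * (h⁻¹ * d.1 * h) * h⁻¹ = d.1
      group
  -- the kernel
  have hker : ∀ u : X, u * u = 1 → (∀ a : X ⧸ M, u • a = a) → u = 1 := by
    intro u huu hu
    by_contra hu1
    let N : Subgroup X := M.normalCore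
    have huN : u ∈ N := by
      intro g
      have h := hu ((g⁻¹ : X) : X ⧸ M)
      rw [hsmul, inv_inv] at h
      exact h
    have hNn : N.Normal := M.normalCore_normal
    have h2 : 2 ∣ Nat.card N := by
      have h1 : orderOf (⟨u, huN⟩ : N) = 2 := by
        rw [orderOf_eq_prime_iff]
        refine ⟨?_, ?_⟩
        · rw [pow_two]; exact Subtype.ext huu
        · intro h; exact hu1 (congrArg Subtype.val h)
      rw [← h1]
      exact orderOf_dvd_natCard _
    obtain ⟨x, hxN, hx1, hx⟩ := hZ N hNn h2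
    apply hM
    rw [eq_top_iff]
    intro g _
    have h1 : g * x * g⁻¹ ∈ M := M.normalCore_le (hNn.conj_mem _ hxN g)
    rcases hx with hx | hx
    · exact hF1 hx hx1 h1
    · exact hF2 hx hx1 h1
  -- the involution `w`
  have hww : w * w = 1 := hW.sq w hw
  have hwfix : ∀ b : X ⧸ M, w • b = b ↔ b = ((1 : X) : X ⧸ M) := by
    intro b
    obtain ⟨h, rfl⟩ := QuotientGroup.mk_surjective b
    rw [hsmul]
    constructor
    · intro h1
      have h2 : h⁻¹ * w * h⁻¹⁻¹ ∈ M := by rwa [inv_inv]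
      have h3 := hF2 hw hw1 h2
      rw [QuotientGroup.eq, mul_one]
      exact h3
    · intro h1
      rw [QuotientGroup.eq, mul_one] at h1
      have h2 := M.mul_mem (M.mul_mem h1 (hPM (hW.le hw))) (M.inv_mem h1)
      rwa [inv_inv] at h2
  obtain ⟨g, hg⟩ : ∃ g : X, g ∉ M := by
    by_contra h
    push Not at h
    exact hM (eq_top_iff.2 fun g _ => h g)
  have hne : ((g : X) : X ⧸ M) ≠ ((1 : X) : X ⧸ M) := by
    intro h
    apply hg
    rw [QuotientGroup.eq] at h
    simpa using M.inv_mem h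
  obtain ⟨k, x, hx, hx1, hkx⟩ := Lite.mem_of_unique_fixed H hodd hker hww _ hwfix hne
  -- `w` is conjugate to `x ∈ V`
  have h1 : k * x * k⁻¹ ∈ V := hV.sc x hx k (by rw [hkx]; exact hW.le hw)
  rw [hkx] at h1
  have h2 : w ∈ V ⊓ W := ⟨h1, hw⟩
  rw [hVW, mem_bot] at h2
  exact hw1 h2

/-- generation by centralizers of the involutions of a commuting elementary abelian group -/
theorem core_le_of_centralizers {X : Type*} [Group X] [Finite X] {V : Subgroup X}
    (hVab : ∀ a ∈ V, ∀ b ∈ V, a * b = b * a) (hVsq : ∀ a ∈ V, a * a = 1) (hV4 : 4 ≤ Nat.card V)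
    {M : Subgroup X} (hCV : ∀ a ∈ V, a ≠ 1 → centralizer {a} ≤ M)
    {w : X} (hw : ∀ v ∈ V, v * w = w * v) : centralizerPPrimeCore 2 w ≤ M := by
  have h2 : Fact (Nat.Prime 2) := ⟨Nat.prime_two⟩
  have hE : Cfsg.IsElementaryAbelian 2 V := by
    refine ⟨⟨⟨fun x y => ?_⟩⟩, fun a ha => ?_⟩
    · exact Subtype.ext (hVab x x.2 y y.2)
    · rw [pow_two]; exact hVsq a ha
  have hnorm : V ≤ normalizer (centralizerPPrimeCore 2 w : Set X) := fun v hv =>
    Cfsg.Agent.ThreePrime.CoreConj.core_normalized 2 w (mem_centralizer_singleton_iff.2 (hw v hv))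
  refine (Cfsg.Agent.SignalizersComponents.CoprimeGen.le_iSup_centralizer_ne_one hE
    (by norm_num; exact hV4) (Cfsg.Agent.ThreePrime.CoreConj.core_card 2 w) hnorm).trans (iSup_le ?_)
  rintro ⟨a, ha, ha1⟩
  exact inf_le_right.trans (hCV a ha ha1)

/-- **Piece B4, abstract form.** -/
theorem sup_eq_top {X : Type*} [Group X] [Finite X] {P : Sylow 2 X} {V W N : Subgroup X}
    (hV : SC P V) (hW : SC P W) (hVW : V ⊓ W = ⊥) (hcomm : ∀ v ∈ V, ∀ w ∈ W, v * w = w * v)
    (hV8 : 8 ≤ Nat.card V) (hW1 : W ≠ ⊥)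
    (hPN : (P : Subgroup X) ≤ N) (hNV : N ≤ normalizer (V : Set X))
    (htV : ∀ a ∈ V, a ≠ 1 → ∀ b ∈ V, b ≠ 1 → ∃ n ∈ N, n * a * n⁻¹ = b)
    (htW : ∀ a ∈ W, a ≠ 1 → ∀ b ∈ W, b ≠ 1 → ∃ n ∈ N, n * a * n⁻¹ = b)
    (hsolv : ∀ a ∈ V, a ≠ 1 → Group.IsSolvable ↥(centralizer ({a} : Set X)))
    (hCV : ∀ a ∈ V, a ≠ 1 → centralizer {a} ≤ centralizerPPrimeCore 2 a ⊔ N)
    (hCW : ∀ a ∈ W, a ≠ 1 → centralizer {a} ≤ centralizerPPrimeCore 2 a ⊔ N)
    (hZ : ∀ K : Subgroup X, K.Normal → 2 ∣ Nat.card K →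
      ∃ x ∈ K, x ≠ 1 ∧ (x ∈ V ∨ x ∈ W)) : pPrimeCore 2 X ⊔ N = ⊤ := by
  have hV1 : V ≠ ⊥ := by
    rintro rfl
    rw [Subgroup.card_bot] at hV8
    omega
  obtain ⟨w, hw, hw1⟩ : ∃ w ∈ W, w ≠ 1 := by
    by_contra h
    push Not at h
    exact hW1 ((Subgroup.eq_bot_iff_forall W).2 h)
  obtain ⟨v, hv, hv1⟩ : ∃ v ∈ V, v ≠ 1 := by
    by_contra h
    push Not at h
    exact hV1 ((Subgroup.eq_bot_iff_forall V).2 h)
  -- the general step
  have step : ∀ M : Subgroup X, N ≤ M → (∀ a ∈ V, a ≠ 1 → centralizerPPrimeCore 2 a ≤ M) →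
      M = ⊤ := by
    intro M hNM hM
    have h1 : ∀ a ∈ V, a ≠ 1 → centralizer {a} ≤ M := fun a ha ha1 =>
      (hCV a ha ha1).trans (sup_le (hM a ha ha1) hNM)
    have h2 : ∀ a ∈ W, a ≠ 1 → centralizer {a} ≤ M := fun a ha ha1 =>
      (hCW a ha ha1).trans (sup_le (core_le_of_centralizers hV.ab hV.sq (by omega) h1
        fun v hv => hcomm v hv a ha) hNM)
    have norm : ∀ (U : Subgroup X), (∀ a ∈ U, a ≠ 1 → centralizer {a} ≤ M) →
        (∀ a ∈ U, a ≠ 1 → ∀ b ∈ U, b ≠ 1 → ∃ n ∈ N, n * a * n⁻¹ = b) →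
        (∃ u ∈ U, u ≠ 1) → normalizer (U : Set X) ≤ M := by
      rintro U hU ht ⟨u, hu, hu1⟩ g hg
      have hgu : g * u * g⁻¹ ∈ U := (mem_normalizer_iff.1 hg u).1 hu
      have hgu1 : g * u * g⁻¹ ≠ 1 := by
        intro h
        apply hu1
        have := congrArg (fun t => g⁻¹ * t * g) h
        simpa [mul_assoc] using this
      obtain ⟨n, hn, hnu⟩ := ht u hu hu1 _ hgu hgu1
      have hc : n⁻¹ * g ∈ centralizer ({u} : Set X) := by
        rw [mem_centralizer_singleton_iff]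
        have h1 : g * u = n * u * n⁻¹ * g := by rw [hnu]; group
        calc n⁻¹ * g * u = n⁻¹ * (g * u) := by group
          _ = n⁻¹ * (n * u * n⁻¹ * g) := by rw [h1]
          _ = u * (n⁻¹ * g) := by group
      have h2 := M.mul_mem (hNM hn) (hU u hu hu1 hc)
      rwa [mul_inv_cancel_left] at h2
    exact eq_top hV hW hV1 hVW hw hw1 M (hPN.trans hNM)
      (norm V h1 htV ⟨v, hv, hv1⟩) h1 (norm W h2 htW ⟨w, hw, hw1⟩) h2 hZ
  obtain ⟨O, hOodd, hOc, hON⟩ := NormalElem.exists_closure V hV.ab hV.sq hV8 hsolv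
  have hle : ∀ a ∈ V, a ≠ 1 → centralizerPPrimeCore 2 a ≤ O := fun a ha ha1 => by
    rw [← hOc a ha ha1]; exact inf_le_left
  have h1 : normalizer (O : Set X) = ⊤ :=
    step _ (hNV.trans hON) fun a ha ha1 => (hle a ha ha1).trans le_normalizer
  have hOn : O.Normal := normalizer_eq_top_iff.1 h1
  have hOle : O ≤ pPrimeCore 2 X := Cfsg.Agent.Lib.Cores.le_pPrimeCore hOn hOodd
  exact step _ le_sup_right fun a ha ha1 => (hle a ha ha1).trans (hOle.trans le_sup_left)

end Cfsg.Agent.SylowL5.FinalLite
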