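import Mathlib
import Cfsg.Agent.SylowL5.Setup

/-!
# Some facts on the codes of `UT_5(2)` used for the LITE end
-/

set_option autoImplicit false

namespace Cfsg.Agent.SylowL5.LiteCodes

open Cfsg.Agent.SylowL5.Setup

/-- `a` has only bits in `K`, kernel friendly -/
def sub (a K : ℕ) : Bool := Nat.beq (Nat.land a K) a

theorem sub_of_subK {a K : ℕ} (h : SubK a K) : sub a K = true := by
  unfold sub
  rw [(subK_iff a K).1 h]
  exact Nat.beq_refl a

theorem subK_of_sub {a K : ℕ} (h : sub a K = true) : SubK a K := by
  exact (subK_iff a K).2 (Nat.eq_of_beq_eq_true h)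

/-- quantifier over the codes of a coordinate subgroup -/
def allK (K : ℕ) (P : ℕ → Bool) : Bool := allb 1024 fun a => cond (sub a K) (P a) true

theorem of_allK {K : ℕ} {P : ℕ → Bool} (h : allK K P = true) {a : ℕ} (ha : a < 1024)
    (hK : SubK a K) : P a = true := by
  have h1 := of_allb h a ha
  rw [sub_of_subK hK] at h1
  exact h1

theorem comm1 : allK kE1 (fun a => allK kE1 fun b => Nat.beq (mu a b) (mu b a)) = true := by
  decide +kernel

theorem comm2 : allK kE2 (fun a => allK kE2 fun b => Nat.beq (mu a b) (mu b a)) = true := by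
  decide +kernel

theorem sq1 : allK kE1 (fun a => Nat.beq (mu a a) 0) = true := by decide +kernel

theorem sq2 : allK kE2 (fun a => Nat.beq (mu a a) 0) = true := by decide +kernel

theorem commQ : allK kQ (fun a => allK kQ fun b => or (Nat.beq (mu a b) (mu b a))
    (Nat.beq (mu a b) (mu (mu b a) 512))) = true := by decide +kernel

theorem inter : allK kE1 (fun a => or (not (sub a kE2)) (or (Nat.beq a 0) (Nat.beq a 512))) =
    true := by decide +kernel

/-- a code of `Q` not commuting with `a`, if possible -/
def partner (a : ℕ) : ℕ :=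
  cond (a.testBit 3) 128 (cond (a.testBit 6) 16 (cond (a.testBit 8) 1
    (cond (a.testBit 0) 256 (cond (a.testBit 4) 64 (cond (a.testBit 7) 8 0)))))

theorem part : allK kQ (fun a => or (or (Nat.beq a 0) (Nat.beq a 512))
    (and (and (sub (partner a) kQ) (Nat.blt (partner a) 1024))
      (Nat.beq (mu (partner a) a) (mu (mu a 512) (partner a))))) = true := by
  decide +kernel

/-- `a` and `b` commute modulo `z` -/
def cz (a b : ℕ) : Bool := or (Nat.beq (mu a b) (mu b a)) (Nat.beq (mu a b) (mu (mu b a) 512))

theorem cent : allb 1024 (fun a => or (not (and (and (cz a 1) (cz a 2)) (and (cz a 4) (cz a 8))))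
    (sub a 896)) = true := by decide +kernel

end Cfsg.Agent.SylowL5.LiteCodes
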