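import Mathlib
import Cfsg.Agent.R15.Lite
import Cfsg.Agent.R15.NormalElem
import Cfsg.Agent.SignalizersComponents.CentralizerCore
import Cfsg.Agent.SignalizersComponents.CoprimeGen
import Cfsg.Agent.Transfer.PGroupNormal

/-!
# The LITE end for two commuting strongly closed elementary abelian subgroups

`X` finite, `P` a Sylow 2-subgroup, `V`, `U ≤ P` elementary abelian, `V` strongly closed, no involution of
`U` is fused into `V`, `V` and `U` commute, every normal subgroup of even order meets `V` or `U`. If the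
centralizers of the involutions of `V` are solvable and the centralizers `C(a)` of the involutions `a` of
`V` and `U` are contained in `O(C(a)) N(V)`, then `X = O(X) N_X(V)`.
-/

set_option autoImplicit false
open Cfsg

namespace Cfsg.Agent.SylowL5.LiteEnd

open Subgroup Cfsg.Agent.R15 Cfsg.Agent.R15.NormalElem

/-- A strongly closed subgroup is weakly closed. -/
theorem isWeaklyClosed {X : Type*} [Group X] [Finite X] (P V : Subgroup X) (hVP : V ≤ P)
    (hsc : ∀ v ∈ V, ∀ g : X, g * v * g⁻¹ ∈ P → g * v * g⁻¹ ∈ V) : IsWeaklyClosed V P := by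
  refine ⟨hVP, ?_⟩
  intro g hg
  have h1 : V.map (MulAut.conj g).toMonoidHom ≤ V := by
    rintro _ ⟨v, hv, rfl⟩
    exact hsc v hv g (hg ⟨v, hv, rfl⟩)
  refine Subgroup.eq_of_le_of_card_ge h1 ?_
  rw [Subgroup.card_map_of_injective (MulAut.conj g).injective]

/-- Membership criterion for involutions of the strongly closed abelian subgroup `V`. -/
theorem mem_of_conj_mem {X : Type*} [Group X] [Finite X] (P : Sylow 2 X) (V : Subgroup X)
    (hVP : V ≤ P) (hsc : ∀ v ∈ V, ∀ g : X, g * v * g⁻¹ ∈ P → g * v * g⁻¹ ∈ V)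
    (hVc : ∀ a ∈ V, ∀ b ∈ V, a * b = b * a)
    (M : Subgroup X) (hPM : (P : Subgroup X) ≤ M) (hN : normalizer (V : Set X) ≤ M) {x : X}
    (hxx : x * x = 1) (hxV : x ∈ V) (hC : centralizer {x} ≤ M) {g : X}
    (hg : g * x * g⁻¹ ∈ M) : g ∈ M := by
  have hpow : (g * x * g⁻¹) ^ 2 ^ 1 = 1 := by
    rw [pow_one, pow_two]
    calc g * x * g⁻¹ * (g * x * g⁻¹) = g * (x * x) * g⁻¹ := by group
      _ = 1 := by rw [hxx]; group
  obtain ⟨m, hm, hmP⟩ := exists_conj_mem P M hPM hg hpow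
  have e : m * (g * x * g⁻¹) * m⁻¹ = (m * g) * x * (m * g)⁻¹ := by group
  rw [e] at hmP
  have hV := hsc x hxV _ hmP
  obtain ⟨n, hn, hnx⟩ := exists_normalizer_conj P V (isWeaklyClosed P V hVP hsc) hVc hxV hV
  have hc : n⁻¹ * (m * g) ∈ centralizer ({x} : Set X) := by
    rw [mem_centralizer_singleton_iff]
    have h1 : (m * g) * x = n * x * n⁻¹ * (m * g) := by rw [hnx]; group
    calc n⁻¹ * (m * g) * x = n⁻¹ * ((m * g) * x) := by group
      _ = n⁻¹ * (n * x * n⁻¹ * (m * g)) := by rw [h1]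
      _ = x * (n⁻¹ * (m * g)) := by group
  have h2 := M.mul_mem (M.mul_mem (M.inv_mem hm) (hN hn)) (hC hc)
  have e2 : m⁻¹ * n * (n⁻¹ * (m * g)) = g := by group
  rwa [e2] at h2

/-- A subgroup containing `N(V)`, all `C(v)`, `v ∈ V#`, and all `C(u)`, `u ∈ U#`, is the whole group. -/
theorem eq_top_of_contains {X : Type*} [Group X] [Finite X] (P : Sylow 2 X) (V U : Subgroup X)
    (hVP : V ≤ P) (hUP : U ≤ P)
    (hsc : ∀ v ∈ V, ∀ g : X, g * v * g⁻¹ ∈ P → g * v * g⁻¹ ∈ V)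
    (hVc : ∀ a ∈ V, ∀ b ∈ V, a * b = b * a) (hV2 : ∀ a ∈ V, a * a = 1) (hV1 : V ≠ ⊥)
    (hU2 : ∀ a ∈ U, a * a = 1) (hU1 : U ≠ ⊥)
    (hdis : ∀ u ∈ U, u ≠ 1 → ∀ g : X, g * u * g⁻¹ ∉ V)
    (hnor : ∀ K : Subgroup X, K.Normal → K ⊓ P ≠ ⊥ → K ⊓ V ≠ ⊥ ∨ K ⊓ U ≠ ⊥)
    (M : Subgroup X) (hN : normalizer (V : Set X) ≤ M)
    (hC : ∀ a ∈ V, a ≠ 1 → centralizer {a} ≤ M) (hCU : ∀ a ∈ U, a ≠ 1 → centralizer {a} ≤ M) :
    M = ⊤ := by
  classical
  by_contra hM
  have h2 : Fact (Nat.Prime 2) := ⟨Nat.prime_two⟩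
  have hWc := isWeaklyClosed (P : Subgroup X) V hVP hsc
  -- `V` is normal in `P`
  have hPN : (P : Subgroup X) ≤ normalizer (V : Set X) := by
    intro g hg
    rw [mem_normalizer_iff]
    intro x
    constructor
    · intro hx
      exact hsc x hx g ((P : Subgroup X).mul_mem ((P : Subgroup X).mul_mem hg (hVP hx))
        ((P : Subgroup X).inv_mem hg))
    · intro hx
      have h := hsc _ hx g⁻¹ ((P : Subgroup X).mul_mem ((P : Subgroup X).mul_mem
        ((P : Subgroup X).inv_mem hg) (hVP hx)) ((P : Subgroup X).inv_mem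
          ((P : Subgroup X).inv_mem hg)))
      have e : g⁻¹ * (g * x * g⁻¹) * g⁻¹⁻¹ = x := by group
      rwa [e] at h
  have hPM : (P : Subgroup X) ≤ M := hPN.trans hN
  -- a central involution of `P` in `V`
  obtain ⟨z, hzV, hzc, hz1⟩ : ∃ z ∈ V, (P : Subgroup X) ≤ centralizer {z} ∧ z ≠ 1 := by
    let K : Subgroup (P : Subgroup X) := V.subgroupOf P
    have hK : K ≠ ⊥ := by
      intro h
      apply hV1
      rw [eq_bot_iff]
      intro v hv
      have h1 : (⟨v, hVP hv⟩ : (P : Subgroup X)) ∈ K := hv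
      rw [h, mem_bot] at h1
      exact congrArg Subtype.val h1
    have hKn : K.Normal := (normal_subgroupOf_iff_le_normalizer hVP).2 hPN
    obtain ⟨x, hxK, hxc, hxo⟩ :=
      Cfsg.Agent.Transfer.PGroupNormal.exists_mem_inf_center_orderOf P.2 K hK
    refine ⟨x, hxK, ?_, ?_⟩
    · intro y hy
      rw [mem_centralizer_singleton_iff]
      exact congrArg Subtype.val ((mem_center_iff.1 hxc) ⟨y, hy⟩)
    · intro h
      have : x = 1 := Subtype.ext h
      rw [this, orderOf_one] at hxo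
      norm_num at hxo
  have hzz : z * z = 1 := hV2 z hzV
  have hzP : z ∈ P := hVP hzV
  have hCz : centralizer {z} ≤ M := hC z hzV hz1
  have hzM : z ∈ M := hPM hzP
  have hfus : ∀ g : X, g * z * g⁻¹ ∈ P → g * z * g⁻¹ ∈ V := hsc z hzV
  have hF1 : ∀ g : X, g * z * g⁻¹ ∈ M → g ∈ M := fun g hg =>
    mem_of_conj_mem P V hVP hsc hVc M hPM hN hzz hzV hCz hg
  -- the class
  let D : Set X := {d | ∃ g : X, g * z * g⁻¹ = d}
  have hDc : ∀ d ∈ D, ∃ g : X, g * z * g⁻¹ = d := fun d hd => hd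
  let pt : X → X ⧸ M := fun d => if h : ∃ g : X, g * z * g⁻¹ = d then
    ((Classical.choose h : X) : X ⧸ M) else ((1 : X) : X ⧸ M)
  have hsmul : ∀ (d h : X), d • ((h : X) : X ⧸ M) = ((h : X) : X ⧸ M) ↔ h⁻¹ * d * h ∈ M := by
    intro d h
    rw [show d • ((h : X) : X ⧸ M) = ((d * h : X) : X ⧸ M) from rfl, QuotientGroup.eq]
    rw [← inv_mem_iff]
    have : ((d * h)⁻¹ * h)⁻¹ = h⁻¹ * d * h := by group
    rw [this]
  have hfix : ∀ d ∈ D, ∀ a : X ⧸ M, d • a = a ↔ a = pt d := by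
    intro d hd a
    obtain ⟨h, rfl⟩ := QuotientGroup.mk_surjective a
    have hpt : pt d = ((Classical.choose (hDc d hd) : X) : X ⧸ M) := dif_pos (hDc d hd)
    have hg := Classical.choose_spec (hDc d hd)
    set g := Classical.choose (hDc d hd)
    rw [hpt]
    rw [hsmul, QuotientGroup.eq]
    constructor
    · intro h1
      apply hF1
      rw [← hg] at h1
      have e : h⁻¹ * (g * z * g⁻¹) * h = (h⁻¹ * g) * z * (h⁻¹ * g)⁻¹ := by group
      rwa [e] at h1
    · intro h1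
      rw [← hg]
      have e : h⁻¹ * (g * z * g⁻¹) * h = (h⁻¹ * g) * z * (h⁻¹ * g)⁻¹ := by group
      rw [e]
      exact M.mul_mem (M.mul_mem h1 hzM) (M.inv_mem h1)
  have hsq : ∀ d ∈ D, d * d = 1 := by
    rintro _ ⟨g, rfl⟩
    calc g * z * g⁻¹ * (g * z * g⁻¹) = g * (z * z) * g⁻¹ := by group
      _ = 1 := by rw [hzz]; group
  have hconj : ∀ d ∈ D, ∀ g : X, g * d * g⁻¹ ∈ D := by
    rintro _ ⟨h, rfl⟩ g
    exact ⟨g * h, by group⟩
  have hcent : ∀ d ∈ D, ∀ e ∈ D, d ≠ e → d * e = e * d → ∀ g : X, g * (d * e) = (d * e) * g →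
      g • pt d = pt d := by
    intro d hd e he hne hde g hg
    obtain ⟨x, hx⟩ := hd
    have hptx : pt d = ((x : X) : X ⧸ M) := by
      symm
      rw [← hfix d ⟨x, hx⟩, hsmul, ← hx]
      have : x⁻¹ * (x * z * x⁻¹) * x = z := by group
      rw [this]; exact hzM
    rw [hptx, hsmul]
    -- translate to `z`
    set e' := x⁻¹ * e * x with he'
    set g' := x⁻¹ * g * x with hg'
    have he'D : e' ∈ D := by
      have := hconj e he x⁻¹
      simpa [he'] using this
    have hz' : z = x⁻¹ * d * x := by rw [← hx]; group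
    have hne' : z ≠ e' := by
      intro h
      apply hne
      have h1 : x * z * x⁻¹ = x * e' * x⁻¹ := by rw [h]
      rw [hx] at h1
      rw [h1, he']; group
    have hcomm : z * e' = e' * z := by
      rw [hz', he']
      calc x⁻¹ * d * x * (x⁻¹ * e * x) = x⁻¹ * (d * e) * x := by group
        _ = x⁻¹ * (e * d) * x := by rw [hde]
        _ = x⁻¹ * e * x * (x⁻¹ * d * x) := by group
    have hg'c : g' * (z * e') = (z * e') * g' := by
      rw [hz', he', hg']
      calc x⁻¹ * g * x * (x⁻¹ * d * x * (x⁻¹ * e * x)) = x⁻¹ * (g * (d * e)) * x := by group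
        _ = x⁻¹ * ((d * e) * g) * x := by rw [hg]
        _ = _ := by group
    have he'C : e' ∈ centralizer ({z} : Set X) := mem_centralizer_singleton_iff.2 hcomm.symm
    have hpow : e' ^ 2 ^ 1 = 1 := by rw [pow_one, pow_two]; exact hsq e' he'D
    obtain ⟨c, hc, hcP⟩ := exists_conj_mem P (centralizer {z}) hzc he'C hpow
    obtain ⟨y, hy⟩ := he'D
    have hcV : c * e' * c⁻¹ ∈ V := by
      rw [← hy] at hcP ⊢
      have e1 : c * (y * z * y⁻¹) * c⁻¹ = (c * y) * z * (c * y)⁻¹ := by group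
      rw [e1] at hcP ⊢
      exact hfus _ hcP
    have hcz : c * z = z * c := mem_centralizer_singleton_iff.1 hc
    have hprodV : c * (z * e') * c⁻¹ ∈ V := by
      have e1 : c * (z * e') * c⁻¹ = z * (c * e' * c⁻¹) := by
        calc c * (z * e') * c⁻¹ = (c * z) * e' * c⁻¹ := by group
          _ = (z * c) * e' * c⁻¹ := by rw [hcz]
          _ = _ := by group
      rw [e1]
      exact V.mul_mem hzV hcV
    have hprod1 : c * (z * e') * c⁻¹ ≠ 1 := by
      intro h
      have h1 : z * e' = 1 := by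
        have := congrArg (fun t => c⁻¹ * t * c) h
        simpa [mul_assoc] using this
      apply hne'
      have h2 : e' = z⁻¹ := eq_inv_of_mul_eq_one_right h1
      rw [h2, inv_eq_of_mul_eq_one_left hzz]
    have hcM : c ∈ M := hCz hc
    have hmem : c * g' * c⁻¹ ∈ M := by
      apply hC _ hprodV hprod1
      rw [mem_centralizer_singleton_iff]
      calc c * g' * c⁻¹ * (c * (z * e') * c⁻¹) = c * (g' * (z * e')) * c⁻¹ := by group
        _ = c * ((z * e') * g') * c⁻¹ := by rw [hg'c]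
        _ = _ := by group
    have h3 := M.mul_mem (M.mul_mem (M.inv_mem hcM) hmem) hcM
    have e3 : c⁻¹ * (c * g' * c⁻¹) * c = g' := by group
    rwa [e3] at h3
  have H : Lite.Hyp D pt :=
    { sq := hsq
      ne := by
        rintro _ ⟨g, rfl⟩ h
        apply hz1
        have := congrArg (fun t => g⁻¹ * t * g) h
        simpa [mul_assoc] using this
      conj := hconj
      fix := hfix
      cent := hcent }
  -- oddness
  have hoddM : Odd (Nat.card {d : X // d ∈ D ∧ d ∈ M}) := by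
    -- `M` acts transitively by conjugation
    let f : M → {d : X // d ∈ D ∧ d ∈ M} := fun m =>
      ⟨(m : X) * z * (m : X)⁻¹, ⟨m, rfl⟩, M.mul_mem (M.mul_mem m.2 hzM) (M.inv_mem m.2)⟩
    let K : Subgroup M := (centralizer ({z} : Set X)).subgroupOf M
    have hf : ∀ a b : M, f a = f b ↔ a⁻¹ * b ∈ K := by
      intro a b
      rw [Subtype.ext_iff]
      show (a : X) * z * (a : X)⁻¹ = b * z * (b : X)⁻¹ ↔ _
      rw [mem_subgroupOf, mem_centralizer_singleton_iff]
      push_cast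
      constructor
      · intro h
        calc (a : X)⁻¹ * b * z = (a : X)⁻¹ * (b * z * (b : X)⁻¹) * b := by group
          _ = (a : X)⁻¹ * (a * z * (a : X)⁻¹) * b := by rw [h]
          _ = z * ((a : X)⁻¹ * b) := by group
      · intro h
        calc (a : X) * z * (a : X)⁻¹ = a * (z * ((a : X)⁻¹ * b)) * (b : X)⁻¹ := by group
          _ = a * ((a : X)⁻¹ * b * z) * (b : X)⁻¹ := by rw [h]
          _ = b * z * (b : X)⁻¹ := by group
    have hsurj : Function.Surjective f := by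
      rintro ⟨_, ⟨g, rfl⟩, hgM⟩
      exact ⟨⟨g, hF1 g hgM⟩, rfl⟩
    have hcard : Nat.card {d : X // d ∈ D ∧ d ∈ M} = K.index := by
      rw [Subgroup.index]
      refine (Nat.card_congr (Equiv.ofBijective (Quotient.lift f ?_) ⟨?_, ?_⟩)).symm
      · intro a b hab
        exact (hf a b).2 (QuotientGroup.leftRel_apply.1 hab)
      · rintro ⟨a⟩ ⟨b⟩ hab
        exact Quotient.sound (QuotientGroup.leftRel_apply.2 ((hf a b).1 hab))
      · intro d
        obtain ⟨a, rfl⟩ := hsurj d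
        exact ⟨Quotient.mk _ a, rfl⟩
    rw [hcard]
    have h1 : ((P : Subgroup X).subgroupOf M) ≤ K := by
      intro a ha
      exact hzc ha
    have h2 := Subgroup.index_dvd_of_le h1
    have h3 : ¬ 2 ∣ ((P : Subgroup X).subgroupOf M).index := by
      have h4 := (P.subtype hPM).not_dvd_index
      exact h4
    rw [← Nat.not_even_iff_odd, even_iff_two_dvd]
    exact fun h5 => h3 (h5.trans h2)
  have hodd : ∀ a : X ⧸ M, Odd (Nat.card {d : X // d ∈ D ∧ pt d = a}) := by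
    intro a
    obtain ⟨h, rfl⟩ := QuotientGroup.mk_surjective a
    rw [← Nat.card_congr ?_]
    · exact hoddM
    refine ⟨fun d => ⟨h * d.1 * h⁻¹, hconj _ d.2.1 h, ?_⟩,
      fun d => ⟨h⁻¹ * d.1 * h, ?_, ?_⟩, ?_, ?_⟩
    · symm
      rw [← hfix _ (hconj _ d.2.1 h), hsmul]
      have e : h⁻¹ * (h * d.1 * h⁻¹) * h = d.1 := by group
      rw [e]; exact d.2.2
    · have := hconj _ d.2.1 h⁻¹
      rwa [inv_inv] at this
    · have h1 := (hfix _ d.2.1 _).2 d.2.2.symm
      rwa [hsmul] at h1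
    · intro d
      apply Subtype.ext
      show h⁻¹ * (h * d.1 * h⁻¹) * h = d.1
      group
    · intro d
      apply Subtype.ext
      show h * (h⁻¹ * d.1 * h) * h⁻¹ = d.1
      group
  obtain ⟨g0, hg0⟩ : ∃ g : X, g ∉ M := by
    by_contra h
    push Not at h
    exact hM (eq_top_iff.2 fun g _ => h g)
  have hne : ((g0 : X) : X ⧸ M) ≠ ((1 : X) : X ⧸ M) := by
    intro h
    apply hg0
    rw [QuotientGroup.eq] at h
    simpa using M.inv_mem h
  have hbase : pt z = ((1 : X) : X ⧸ M) := by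
    symm
    rw [← hfix z ⟨1, by group⟩, hsmul]
    simpa using hzM
  -- an involution of `U` fixes exactly one point
  have hUfix : ∀ v ∈ U, v ≠ 1 → ∀ b : X ⧸ M, v • b = b ↔ b = ((1 : X) : X ⧸ M) := by
    intro v hv hv1 b
    constructor
    · intro hb
      obtain ⟨d, hd, hdb, hdv⟩ := Lite.exists_commuting H (hodd b) (hU2 v hv) hb
      have hdM : d ∈ M := hCU v hv hv1 (mem_centralizer_singleton_iff.2 hdv)
      have h1 : d • ((1 : X) : X ⧸ M) = ((1 : X) : X ⧸ M) := by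
        rw [hsmul]; simpa using hdM
      rw [hfix d hd] at h1
      rw [h1, hdb]
    · rintro rfl
      rw [hsmul]
      have : v ∈ M := hPM (hUP hv)
      simpa using this
  -- the kernel
  have hker : ∀ u : X, u * u = 1 → (∀ a : X ⧸ M, u • a = a) → u = 1 := by
    intro u huu hu
    by_contra hu1
    -- the normal core of `M` has even order
    let N : Subgroup X := M.normalCore
    have huN : u ∈ N := by
      intro g
      have h := hu ((g⁻¹ : X) : X ⧸ M)
      rw [hsmul, inv_inv] at h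
      exact h
    have hpow : u ^ 2 ^ 1 = 1 := by rw [pow_one, pow_two]; exact huu
    obtain ⟨m, hm, hmP⟩ := exists_conj_mem P ⊤ le_top (mem_top u) hpow
    have hNn : N.Normal := M.normalCore_normal
    have hNP : N ⊓ (P : Subgroup X) ≠ ⊥ := by
      intro h
      have h1 : m * u * m⁻¹ ∈ N ⊓ (P : Subgroup X) := ⟨hNn.conj_mem u huN m, hmP⟩
      rw [h, mem_bot] at h1
      apply hu1
      have := congrArg (fun t => m⁻¹ * t * m) h1
      simpa [mul_assoc] using this
    rcases hnor N hNn hNP with h | h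
    · obtain ⟨x, hx1⟩ := (Subgroup.ne_bot_iff_exists_ne_one.1 h)
      obtain ⟨x, hx⟩ := x
      have hx1' : x ≠ 1 := fun h0 => hx1 (Subtype.ext h0)
      apply hM
      rw [eq_top_iff]
      intro g _
      refine mem_of_conj_mem P V hVP hsc hVc M hPM hN (hV2 x hx.2) hx.2 (hC x hx.2 hx1')
        (g := g) ?_
      exact M.normalCore_le (hNn.conj_mem _ hx.1 g)
    · obtain ⟨x, hx1⟩ := (Subgroup.ne_bot_iff_exists_ne_one.1 h)
      obtain ⟨x, hx⟩ := x
      have hx1' : x ≠ 1 := fun h0 => hx1 (Subtype.ext h0)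
      apply hne
      rw [← hUfix x hx.2 hx1', hsmul]
      have h3 := hNn.conj_mem _ hx.1 g0⁻¹
      rw [inv_inv] at h3
      exact M.normalCore_le h3
  obtain ⟨v, hv1⟩ := (Subgroup.ne_bot_iff_exists_ne_one.1 hU1)
  obtain ⟨v, hv⟩ := v
  have hv1' : v ≠ 1 := fun h0 => hv1 (Subtype.ext h0)
  obtain ⟨x, hx⟩ := Lite.mem_of_unique_fixed H hodd hker (hU2 v hv) _ (hUfix v hv hv1') hne
  refine hdis v hv hv1' x⁻¹ ?_
  rw [← hx]
  have e : x⁻¹ * (x * z * x⁻¹) * x⁻¹⁻¹ = z := by group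
  rw [e]; exact hzV

/-- **The LITE end.** -/
theorem sup_normalizer_eq_top {X : Type*} [Group X] [Finite X] (P : Sylow 2 X) (V U : Subgroup X)
    (hVP : V ≤ P) (hUP : U ≤ P)
    (hsc : ∀ v ∈ V, ∀ g : X, g * v * g⁻¹ ∈ P → g * v * g⁻¹ ∈ V)
    (hVc : ∀ a ∈ V, ∀ b ∈ V, a * b = b * a) (hV2 : ∀ a ∈ V, a * a = 1) (hVr : 8 ≤ Nat.card V)
    (hU2 : ∀ a ∈ U, a * a = 1) (hU1 : U ≠ ⊥) (hVU : ∀ a ∈ V, ∀ b ∈ U, a * b = b * a)
    (hdis : ∀ u ∈ U, u ≠ 1 → ∀ g : X, g * u * g⁻¹ ∉ V)
    (hnor : ∀ K : Subgroup X, K.Normal → K ⊓ P ≠ ⊥ → K ⊓ V ≠ ⊥ ∨ K ⊓ U ≠ ⊥)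
    (hsolv : ∀ a ∈ V, a ≠ 1 → Group.IsSolvable ↥(centralizer ({a} : Set X)))
    (hnorm : ∀ a ∈ V, a ≠ 1 →
      centralizer {a} ≤ centralizerPPrimeCore 2 a ⊔ normalizer (V : Set X))
    (hnormU : ∀ a ∈ U, a ≠ 1 →
      centralizer {a} ≤ centralizerPPrimeCore 2 a ⊔ normalizer (V : Set X)) :
    pPrimeCore 2 X ⊔ normalizer (V : Set X) = ⊤ := by
  have h2 : Fact (Nat.Prime 2) := ⟨Nat.prime_two⟩
  have hV1 : V ≠ ⊥ := by
    rintro rfl
    rw [Subgroup.card_bot] at hVr
    omega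
  obtain ⟨W, hWodd, hWc, hWN⟩ := exists_closure V hVc hV2 hVr hsolv
  have hle : ∀ a ∈ V, a ≠ 1 → centralizerPPrimeCore 2 a ≤ W := fun a ha ha1 => by
    rw [← hWc a ha ha1]; exact inf_le_left
  -- cores of centralizers of involutions of `U`
  have hcoreU : ∀ M : Subgroup X, (∀ a ∈ V, a ≠ 1 → centralizer {a} ≤ M) →
      ∀ u ∈ U, centralizerPPrimeCore 2 u ≤ M := by
    intro M hM u hu
    have hVe : Cfsg.IsElementaryAbelian 2 V := by
      refine ⟨⟨⟨fun x y => Subtype.ext (hVc x x.2 y y.2)⟩⟩, fun a ha => ?_⟩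
      rw [pow_two]; exact hV2 a ha
    have hVn : V ≤ normalizer (centralizerPPrimeCore 2 u : Set X) := by
      refine le_trans ?_ (Cfsg.Agent.SignalizersComponents.CentralizerCore.core_normalized 2 u)
      intro v hv
      exact mem_centralizer_singleton_iff.2 (hVU v hv u hu)
    refine (Cfsg.Agent.SignalizersComponents.CoprimeGen.le_iSup_centralizer_ne_one (p := 2) hVe
      (by norm_num; omega) (Cfsg.Agent.SignalizersComponents.CentralizerCore.core_card 2 u) hVn).trans ?_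
    refine iSup_le fun a => ?_
    exact inf_le_right.trans (hM a a.2.1 a.2.2)
  have h1 : normalizer (W : Set X) = ⊤ := by
    have hCV : ∀ a ∈ V, a ≠ 1 → centralizer {a} ≤ normalizer (W : Set X) := fun a ha ha1 =>
      (hnorm a ha ha1).trans (sup_le ((hle a ha ha1).trans le_normalizer) hWN)
    refine eq_top_of_contains P V U hVP hUP hsc hVc hV2 hV1 hU2 hU1 hdis hnor _ hWN hCV ?_
    intro a ha ha1
    exact (hnormU a ha ha1).trans (sup_le (hcoreU _ hCV a ha) hWN)
  have hWn : W.Normal := normalizer_eq_top_iff.1 h1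
  have hWle : W ≤ pPrimeCore 2 X := Cfsg.Agent.Lib.Cores.le_pPrimeCore hWn hWodd
  have hCV : ∀ a ∈ V, a ≠ 1 → centralizer {a} ≤ pPrimeCore 2 X ⊔ normalizer (V : Set X) :=
    fun a ha ha1 => (hnorm a ha ha1).trans (sup_le_sup_right ((hle a ha ha1).trans hWle) _)
  refine eq_top_of_contains P V U hVP hUP hsc hVc hV2 hV1 hU2 hU1 hdis hnor _ le_sup_right hCV ?_
  intro a ha ha1
  exact (hnormU a ha ha1).trans (sup_le (hcoreU _ hCV a ha) le_sup_right)

end Cfsg.Agent.SylowL5.LiteEnd
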