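import Mathlib
import Cfsg.Agent.SylowL5.Data
import Cfsg.Agent.SylowL5.LiteCodes
import Cfsg.Agent.SylowL5.LiteEnd
import Cfsg.Agent.PLocal.ZJReduction

/-!
# S0512, piece (B4): `Y = O(Y) N_Y(Q)`

`Y = C_G(z)` with the data `VData S u`. If all centralizers of involutions of `E1`, `E2` outside `⟨z⟩` are
solvable and contained in `O(C(v)) N_Y(Q)`, then `Y = O(Y) N_Y(Q)`.
-/

set_option autoImplicit false
set_option linter.unusedSectionVars false
set_option linter.unusedVariables false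
open Cfsg

namespace Cfsg.Agent.SylowL5.LiteY

open Subgroup Cfsg.Agent.SylowL5.Setup Cfsg.Agent.SylowL5.Data Cfsg.Agent.SylowL5.LiteCodes

/-- The core of a central quotient by a `2`-group. -/
theorem comap_core_le {Y : Type*} [Group Y] [Finite Y] (Z : Subgroup Y) [hZn : Z.Normal]
    (hZc : ∀ z ∈ Z, ∀ g : Y, g * z = z * g) (hZ : IsPGroup 2 Z) :
    (pPrimeCore 2 (Y ⧸ Z)).comap (QuotientGroup.mk' Z) ≤ Z ⊔ pPrimeCore 2 Y := by
  have h2 : Fact (Nat.Prime 2) := ⟨Nat.prime_two⟩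
  set R : Subgroup Y := (pPrimeCore 2 (Y ⧸ Z)).comap (QuotientGroup.mk' Z) with hR
  have hRn : R.Normal := by
    have := Cfsg.Agent.Lib.Cores.pPrimeCore_normal (G := Y ⧸ Z) 2
    exact this.comap _
  have hZR : Z ≤ R := by
    intro z hz
    rw [hR, mem_comap]
    have : QuotientGroup.mk' Z z = 1 := (QuotientGroup.eq_one_iff z).2 hz
    rw [this]
    exact one_mem _
  let ZR : Subgroup R := Z.subgroupOf R
  have hZRn : ZR.Normal := hZn.subgroupOf R
  have hcardZR : Nat.card ZR = Nat.card Z := Nat.card_congr (subgroupOfEquivOfLe hZR).toEquiv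
  have hcardR : Nat.card R = Nat.card Z * Nat.card (pPrimeCore 2 (Y ⧸ Z)) :=
    QuotientGroup.card_preimage_mk Z (pPrimeCore 2 (Y ⧸ Z) : Set (Y ⧸ Z))
  have hidx : ZR.index = Nat.card (pPrimeCore 2 (Y ⧸ Z)) := by
    have h1 := ZR.card_mul_index
    rw [hcardZR, hcardR] at h1
    exact Nat.eq_of_mul_eq_mul_left Nat.card_pos h1
  obtain ⟨n, hn⟩ := IsPGroup.iff_card.mp hZ
  have hcop : (Nat.card ZR).Coprime ZR.index := by
    rw [hcardZR, hn, hidx]
    exact Nat.Coprime.pow_left n (Cfsg.Agent.Lib.Cores.pPrimeCore_coprime 2).symm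
  obtain ⟨C, hC⟩ := exists_right_complement'_of_coprime hcop
  have hsup : ZR ⊔ C = ⊤ := hC.sup_eq_top
  have hCcard : (Nat.card C).Coprime 2 := by
    have h1 : Nat.card C = ZR.index := hC.symm.index_eq_card.symm
    rw [h1, hidx]
    exact Cfsg.Agent.Lib.Cores.pPrimeCore_coprime 2
  have hCn : C.Normal := by
    have h1 : normalizer (C : Set R) = ⊤ := by
      rw [← top_le_iff, ← hsup]
      refine sup_le ?_ le_normalizer
      intro z hz
      rw [mem_normalizer_iff]
      intro x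
      have h3 : z * x * z⁻¹ = x := by
        have h4 : x * z = z * x := Subtype.ext (hZc z hz x)
        rw [← h4, mul_inv_cancel_right]
      rw [h3]
    exact normalizer_eq_top_iff.1 h1
  have hCle := Cfsg.Agent.Lib.Cores.le_pPrimeCore hCn hCcard
  have h5 := Cfsg.Agent.Lib.Cores.map_subtype_pPrimeCore 2 hRn
  intro r hr
  have h6 : (⟨r, hr⟩ : R) ∈ ZR ⊔ C := by rw [hsup]; trivial
  rw [← SetLike.mem_coe, Subgroup.normal_mul] at h6
  obtain ⟨a, ha, c, hc, hac⟩ := Set.mem_mul.1 h6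
  have h7 : r = (a : Y) * (c : Y) := congrArg Subtype.val hac.symm
  rw [h7]
  refine mul_mem_sup ha ?_
  have h8 : (c : Y) ∈ (pPrimeCore 2 R).map R.subtype := ⟨c, hCle hc, rfl⟩
  rw [h5] at h8
  exact h8.2

section

variable {Y : Type*} [Group Y] {S : Subgroup Y} {u : ℕ → Y}

theorem z_sq (h : Emb S u) : u x15 * u x15 = 1 := by
  rw [← h.mul (by norm_num) (by norm_num), show mu x15 x15 = 0 by decide, h.zero]

theorem z_ne (h : Emb S u) : u x15 ≠ 1 := by
  intro h0
  rw [← h.zero] at h0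
  have := h.inj (by norm_num) (by norm_num) h0
  norm_num at this

theorem mem_zp (h : Emb S u) {g : Y} (hg : g ∈ zpowers (u x15)) : g = 1 ∨ g = u x15 := by
  obtain ⟨k, rfl⟩ := mem_zpowers_iff.1 hg
  rcases Int.even_or_odd' k with ⟨l, rfl | rfl⟩
  · left
    rw [zpow_mul, show (2 : ℤ) = ((2 : ℕ) : ℤ) by rfl, zpow_natCast, pow_two, z_sq h, one_zpow]
  · right
    rw [zpow_add, zpow_mul, show (2 : ℤ) = ((2 : ℕ) : ℤ) by rfl, zpow_natCast, pow_two, z_sq h,
      one_zpow, one_mul, zpow_one]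

theorem closed1 : closedK kE1 = true := by decide
theorem closed2 : closedK kE2 = true := by decide
theorem closedQ : closedK kQ = true := by decide

theorem subK_trans {a K L : ℕ} (h : SubK a K) (hKL : ∀ j, K.testBit j = true → L.testBit j = true) :
    SubK a L := fun j hj => hKL j (h j hj)

theorem CS_mono (u : ℕ → Y) {K L : ℕ} (hKL : Nat.land K L = K) : CS u K ≤ CS u L := by
  have h1 : ∀ j, K.testBit j = true → L.testBit j = true := by
    have : SubK K L := (subK_iff K L).2 hKL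
    exact this
  unfold CS
  apply Subgroup.closure_mono
  rintro g ⟨a, ha, hs, rfl⟩
  exact ⟨a, ha, subK_trans hs h1, rfl⟩

theorem E1_le_Q : CS u kE1 ≤ CS u kQ := CS_mono u (by decide)
theorem E2_le_Q : CS u kE2 ≤ CS u kQ := CS_mono u (by decide)

theorem z_mem (u : ℕ → Y) {K : ℕ} (hK : Nat.land 512 K = 512) : u x15 ∈ CS u K :=
  subset_closure ⟨512, by norm_num, (subK_iff 512 K).2 hK, rfl⟩

theorem comm_E1 (h : Emb S u) : ∀ a ∈ CS u kE1, ∀ b ∈ CS u kE1, a * b = b * a := by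
  intro a hma b hmb
  obtain ⟨a, ha, hs, rfl⟩ := (h.mem_CS closed1).1 hma
  obtain ⟨b, hb, hs', rfl⟩ := (h.mem_CS closed1).1 hmb
  rw [← h.mul ha hb, ← h.mul hb ha, Nat.eq_of_beq_eq_true (of_allK (of_allK comm1 ha hs) hb hs')]

theorem comm_E2 (h : Emb S u) : ∀ a ∈ CS u kE2, ∀ b ∈ CS u kE2, a * b = b * a := by
  intro a hma b hmb
  obtain ⟨a, ha, hs, rfl⟩ := (h.mem_CS closed2).1 hma
  obtain ⟨b, hb, hs', rfl⟩ := (h.mem_CS closed2).1 hmb
  rw [← h.mul ha hb, ← h.mul hb ha, Nat.eq_of_beq_eq_true (of_allK (of_allK comm2 ha hs) hb hs')]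

theorem sq_E1 (h : Emb S u) : ∀ a ∈ CS u kE1, a * a = 1 := by
  intro a hma
  obtain ⟨a, ha, hs, rfl⟩ := (h.mem_CS closed1).1 hma
  rw [← h.mul ha ha, Nat.eq_of_beq_eq_true (of_allK sq1 ha hs), h.zero]

theorem sq_E2 (h : Emb S u) : ∀ a ∈ CS u kE2, a * a = 1 := by
  intro a hma
  obtain ⟨a, ha, hs, rfl⟩ := (h.mem_CS closed2).1 hma
  rw [← h.mul ha ha, Nat.eq_of_beq_eq_true (of_allK sq2 ha hs), h.zero]

theorem comm_Q (h : Emb S u) : ∀ a ∈ CS u kQ, ∀ b ∈ CS u kQ,
    a * b = b * a ∨ a * b = b * a * u x15 := by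
  intro a hma b hmb
  obtain ⟨a, ha, hs, rfl⟩ := (h.mem_CS closedQ).1 hma
  obtain ⟨b, hb, hs', rfl⟩ := (h.mem_CS closedQ).1 hmb
  have h1 := of_allK (of_allK commQ ha hs) hb hs'
  rcases (Bool.or_eq_true _ _).mp h1 with h2 | h2
  · left
    rw [← h.mul ha hb, ← h.mul hb ha, Nat.eq_of_beq_eq_true h2]
  · right
    rw [← h.mul ha hb, ← h.mul hb ha, ← h.mul (mu_lt hb ha) (by norm_num),
      Nat.eq_of_beq_eq_true h2]

theorem E1_inf_E2 (h : Emb S u) {g : Y} (h1 : g ∈ CS u kE1) (h2 : g ∈ CS u kE2) :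
    g ∈ zpowers (u x15) := by
  obtain ⟨a, ha, hs, rfl⟩ := (h.mem_CS closed1).1 h1
  obtain ⟨b, hb, hs', hba⟩ := (h.mem_CS closed2).1 h2
  have hab := h.inj hb ha hba
  subst hab
  have h3 := of_allK inter ha hs
  rw [sub_of_subK hs'] at h3
  rcases (Bool.or_eq_true _ _).mp h3 with h4 | h4
  · exact absurd h4 (by decide)
  · rcases (Bool.or_eq_true _ _).mp h4 with h5 | h5
    · rw [Nat.eq_of_beq_eq_true h5, h.zero]; exact one_mem _
    · rw [Nat.eq_of_beq_eq_true h5]; exact mem_zpowers _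

/-- `Q` is extraspecial: an element of `Q` outside `⟨z⟩` is moved to `v z` by some element of `Q`. -/
theorem exists_partner (h : Emb S u) {v : Y} (hv : v ∈ CS u kQ) (h1 : v ≠ 1) (hz : v ≠ u x15) :
    ∃ s ∈ CS u kQ, s * v = v * u x15 * s := by
  obtain ⟨a, ha, hs, rfl⟩ := (h.mem_CS closedQ).1 hv
  have h3 := of_allK part ha hs
  rcases (Bool.or_eq_true _ _).mp h3 with h4 | h4
  · exfalso
    rcases (Bool.or_eq_true _ _).mp h4 with h5 | h5
    · rw [Nat.eq_of_beq_eq_true h5] at h1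
      exact h1 h.zero
    · rw [Nat.eq_of_beq_eq_true h5] at hz
      exact hz rfl
  · obtain ⟨h5, h6⟩ := (Bool.and_eq_true _ _).mp h4
    obtain ⟨h7, h8⟩ := (Bool.and_eq_true _ _).mp h5
    have h8' : partner a < 1024 := Nat.le_of_ble_eq_true h8
    refine ⟨u (partner a), (h.mem_CS closedQ).2 ⟨_, h8', subK_of_sub h7, rfl⟩, ?_⟩
    rw [← h.mul h8' ha, Nat.eq_of_beq_eq_true h6, h.mul (mu_lt ha (by norm_num)) h8',
      h.mul ha (by norm_num)]

/-- The centre of `S / ⟨z⟩`. -/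
theorem cent_S (h : Emb S u) {g : Y} (hg : g ∈ S)
    (hc : ∀ s ∈ S, g * s = s * g ∨ g * s = s * g * u x15) : g ∈ CS u kT0 := by
  obtain ⟨a, ha, rfl⟩ := h.surj g hg
  have key : ∀ b, b < 1024 → cz a b = true := by
    intro b hb
    rcases hc (u b) (h.mem hb) with h1 | h1
    · rw [← h.mul ha hb, ← h.mul hb ha] at h1
      have := h.inj (mu_lt ha hb) (mu_lt hb ha) h1
      unfold cz
      rw [this, Nat.beq_refl]; rfl
    · rw [← h.mul ha hb, ← h.mul hb ha, ← h.mul (mu_lt hb ha) (by norm_num)] at h1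
      have := h.inj (mu_lt ha hb) (mu_lt (mu_lt hb ha) (by norm_num)) h1
      unfold cz
      rw [this, Nat.beq_refl, Bool.or_true]
  have h1 := of_allb cent a ha
  rw [key 1 (by norm_num), key 2 (by norm_num), key 4 (by norm_num), key 8 (by norm_num)] at h1
  have h2 : sub a 896 = true := h1
  exact (h.mem_CS (by decide)).2 ⟨a, ha, subK_of_sub h2, rfl⟩

end

section main

variable {Y : Type*} [Group Y] [Finite Y] {S : Sylow 2 Y} {u : ℕ → Y}

theorem zn (h : VData S u) : (zpowers (u x15)).Normal := by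
  constructor
  intro n hn g
  have h1 : g * n = n * g := by
    rcases mem_zp h.emb hn with rfl | rfl
    · simp
    · exact h.zc g
  rw [h1, mul_inv_cancel_right]
  exact hn

theorem zpow_central (h : VData S u) : ∀ z ∈ zpowers (u x15), ∀ g : Y, g * z = z * g := by
  intro z hz g
  rcases mem_zp h.emb hz with rfl | rfl
  · simp
  · exact h.zc g

theorem zpow_isPGroup (h : VData S u) : IsPGroup 2 (zpowers (u x15)) := by
  rintro ⟨z, hz⟩
  refine ⟨1, Subtype.ext ?_⟩
  show z ^ 2 ^ 1 = 1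
  rcases mem_zp h.emb hz with rfl | rfl
  · simp
  · rw [pow_one, pow_two]; exact z_sq h.emb

theorem zpow_le (u : ℕ → Y) {K : ℕ} (hK : Nat.land 512 K = 512) : zpowers (u x15) ≤ CS u K := by
  rw [zpowers_le]
  exact z_mem u hK

variable [hZn : (zpowers (u x15)).Normal]

local notation "π" => QuotientGroup.mk' (zpowers (u x15))

/-- Equality in the quotient. -/
theorem pi_eq (h : VData S u) {a b : Y} (hab : π a = π b) : b = a ∨ b = a * u x15 := by
  have h1 : a⁻¹ * b ∈ zpowers (u x15) := QuotientGroup.eq.1 hab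
  rcases mem_zp h.emb h1 with h2 | h2
  · left
    exact (inv_mul_eq_one.1 h2).symm
  · right
    rw [← h2, mul_inv_cancel_left]

theorem pi_z (h : VData S u) (a : Y) : π (a * u x15) = π a := by
  have h1 : π (u x15) = 1 := (QuotientGroup.eq_one_iff _).2 (mem_zpowers _)
  rw [map_mul, h1, mul_one]

/-- The Sylow subgroup of the quotient. -/
noncomputable def P (S : Sylow 2 Y) (u : ℕ → Y) [(zpowers (u x15)).Normal] :
    Sylow 2 (Y ⧸ zpowers (u x15)) :=
  S.mapSurjective (QuotientGroup.mk'_surjective (zpowers (u x15)))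

theorem mem_of_pi_mem {H : Subgroup Y} (hH : zpowers (u x15) ≤ H) {a : Y} (ha : π a ∈ H.map π) :
    a ∈ H := by
  have h1 : a ∈ (H.map π).comap π := ha
  rwa [comap_map_eq_self (by rw [QuotientGroup.ker_mk']; exact hH)] at h1

theorem z_le_S (h : VData S u) : zpowers (u x15) ≤ (S : Subgroup Y) := by
  rw [zpowers_le]
  exact h.emb.mem (by norm_num)

theorem mem_S_of_pi (h : VData S u) {a : Y} (ha : π a ∈ (P S u : Subgroup (Y ⧸ zpowers (u x15)))) :
    a ∈ (S : Subgroup Y) :=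
  mem_of_pi_mem (z_le_S h) ha

/-- Fusion of elements of `Q`. -/
theorem fus (h : VData S u) {v g : Y} (hv : v ∈ CS u kQ) (hg : g * v * g⁻¹ ∈ (S : Subgroup Y)) :
    ∃ n ∈ normalizer (CS u kQ : Set Y), n * v * n⁻¹ = g * v * g⁻¹ ∨
      n * v * n⁻¹ = g * v * g⁻¹ * u x15 := by
  have h2 : Fact (Nat.Prime 2) := ⟨Nat.prime_two⟩
  let Qb : Subgroup (Y ⧸ zpowers (u x15)) := (CS u kQ).map π
  have hzQ : zpowers (u x15) ≤ CS u kQ := zpow_le u (by decide)
  have hQP : Qb ≤ (P S u : Subgroup (Y ⧸ zpowers (u x15))) := map_mono (h.emb.CS_le kQ)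
  have hsc : ∀ x ∈ Qb, ∀ y : Y ⧸ zpowers (u x15),
      y * x * y⁻¹ ∈ (P S u : Subgroup (Y ⧸ zpowers (u x15))) → y * x * y⁻¹ ∈ Qb := by
    rintro _ ⟨x, hx, rfl⟩ y hy
    obtain ⟨y, rfl⟩ := QuotientGroup.mk'_surjective _ y
    have e : π y * π x * (π y)⁻¹ = π (y * x * y⁻¹) := by simp
    rw [e] at hy ⊢
    exact ⟨_, h.scQ x hx y (mem_S_of_pi h hy), rfl⟩
  have hQc : ∀ a ∈ Qb, ∀ b ∈ Qb, a * b = b * a := by
    rintro _ ⟨a, ha, rfl⟩ _ ⟨b, hb, rfl⟩
    rw [← map_mul, ← map_mul]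
    rcases comm_Q h.emb a ha b hb with h3 | h3
    · rw [h3]
    · rw [h3, pi_z h]
  have hW := LiteEnd.isWeaklyClosed (P S u : Subgroup (Y ⧸ zpowers (u x15))) Qb hQP hsc
  have hgQ : g * v * g⁻¹ ∈ CS u kQ := h.scQ v hv g hg
  have e : π g * π v * (π g)⁻¹ = π (g * v * g⁻¹) := by simp
  obtain ⟨n, hn, hnv⟩ := Cfsg.Agent.R15.NormalElem.exists_normalizer_conj (P S u) Qb hW hQc
    (x := π v) (g := π g) ⟨v, hv, rfl⟩ (by rw [e]; exact ⟨_, hgQ, rfl⟩)
  obtain ⟨n, rfl⟩ := QuotientGroup.mk'_surjective _ n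
  refine ⟨n, ?_, ?_⟩
  · have h3 : n ∈ (normalizer (Qb : Set (Y ⧸ zpowers (u x15)))).comap π := hn
    rw [comap_normalizer_eq_of_surjective _ (QuotientGroup.mk'_surjective _)] at h3
    rwa [comap_map_eq_self (by rw [QuotientGroup.ker_mk']; exact hzQ)] at h3
  · have h4 : π (g * v * g⁻¹) = π (n * v * n⁻¹) := by
      rw [← e, ← hnv]; simp
    exact pi_eq h h4

/-- `E1`, `E2` are strongly closed. -/
theorem strong (h : VData S u) {K : ℕ} (hKQ : CS u K ≤ CS u kQ) (hzK : u x15 ∈ CS u K)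
    (nK : normalizer (CS u kQ : Set Y) ≤ normalizer (CS u K : Set Y)) :
    ∀ v ∈ CS u K, ∀ g : Y, g * v * g⁻¹ ∈ (S : Subgroup Y) → g * v * g⁻¹ ∈ CS u K := by
  intro v hv g hg
  obtain ⟨n, hn, h1⟩ := fus h (hKQ hv) hg
  have h2 : n * v * n⁻¹ ∈ CS u K := (mem_normalizer_iff.1 (nK hn) v).1 hv
  rcases h1 with h1 | h1
  · rwa [← h1]
  · have h3 : g * v * g⁻¹ = n * v * n⁻¹ * (u x15)⁻¹ := by rw [h1, mul_inv_cancel_right]
    rw [h3]
    exact mul_mem h2 (inv_mem hzK)

theorem strongX (h : VData S u) {K : ℕ} (hKQ : CS u K ≤ CS u kQ) (hzK : u x15 ∈ CS u K)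
    (nK : normalizer (CS u kQ : Set Y) ≤ normalizer (CS u K : Set Y)) :
    ∀ v ∈ (CS u K).map π, ∀ g : Y ⧸ zpowers (u x15),
      g * v * g⁻¹ ∈ (P S u : Subgroup (Y ⧸ zpowers (u x15))) → g * v * g⁻¹ ∈ (CS u K).map π := by
  rintro _ ⟨v, hv, rfl⟩ g hg
  obtain ⟨g, rfl⟩ := QuotientGroup.mk'_surjective _ g
  have e : π g * π v * (π g)⁻¹ = π (g * v * g⁻¹) := by simp
  rw [e] at hg ⊢
  exact ⟨_, strong h hKQ hzK nK v hv g (mem_S_of_pi h hg), rfl⟩

/-- The centralizer modulo `z`. -/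
theorem mem_cent (h : VData S u) {v : Y} (hv : v ∈ CS u kQ) (hv1 : v ≠ 1) (hvz : v ≠ u x15)
    {g : Y} (hg : π g ∈ centralizer {π v}) : ∃ s ∈ CS u kQ, ∃ c ∈ centralizer ({v} : Set Y),
      g = s * c := by
  rw [mem_centralizer_singleton_iff, ← map_mul, ← map_mul] at hg
  rcases pi_eq h hg with h1 | h1
  · exact ⟨1, one_mem _, g, mem_centralizer_singleton_iff.2 h1.symm, (one_mul g).symm⟩
  · obtain ⟨s, hs, hsv⟩ := exists_partner h.emb hv hv1 hvz
    refine ⟨s⁻¹, inv_mem hs, s * g, ?_, by group⟩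
    rw [mem_centralizer_singleton_iff]
    -- `v g = g v z`, `s v = v z s`
    have hz := h.zc
    have h2 : g * v = v * g * u x15 := by
      rw [h1, mul_assoc (g * v), z_sq h.emb, mul_one]
    calc s * g * v = s * (v * g * u x15) := by rw [mul_assoc, h2]
      _ = (s * v) * g * u x15 := by simp only [mul_assoc]
      _ = v * u x15 * s * g * u x15 := by rw [hsv]
      _ = v * (s * g) * (u x15 * u x15) := by
          have h3 : u x15 * (s * g) = (s * g) * u x15 := (hz (s * g)).symm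
          calc v * u x15 * s * g * u x15 = v * (u x15 * (s * g)) * u x15 := by
                simp only [mul_assoc]
            _ = v * ((s * g) * u x15) * u x15 := by rw [h3]
            _ = _ := by simp only [mul_assoc]
      _ = v * (s * g) := by rw [z_sq h.emb, mul_one]

theorem core_map_le (h : VData S u) {v : Y} (hv : v ∈ CS u kQ) (hv1 : v ≠ 1) (hvz : v ≠ u x15) :
    (centralizerPPrimeCore 2 v).map π ≤ centralizerPPrimeCore 2 (π v) := by
  have h2 : Fact (Nat.Prime 2) := ⟨Nat.prime_two⟩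
  refine Cfsg.Agent.SignalizersComponents.CentralizerCore.le_core 2 _ ?_ ?_ ?_
  · rintro _ ⟨a, ha, rfl⟩
    have h3 := Cfsg.Agent.SignalizersComponents.CentralizerCore.core_le 2 v ha
    rw [mem_centralizer_singleton_iff] at h3 ⊢
    rw [← map_mul, ← map_mul, h3]
  · intro g hg
    obtain ⟨g, rfl⟩ := QuotientGroup.mk'_surjective _ g
    -- `g` normalises the core
    have key : ∀ g : Y, π g ∈ centralizer {π v} → ∀ a ∈ centralizerPPrimeCore 2 v,
        g * a * g⁻¹ ∈ centralizerPPrimeCore 2 v := by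
      intro g hg a ha
      have h4 : centralizerPPrimeCore 2 (g * v * g⁻¹) =
          (centralizerPPrimeCore 2 v).map (MulAut.conj g).toMonoidHom :=
        Cfsg.Agent.SignalizersComponents.CentralizerCore.core_conj 2 v g
      have h5 : g * a * g⁻¹ ∈ centralizerPPrimeCore 2 (g * v * g⁻¹) := by
        rw [h4]; exact ⟨a, ha, rfl⟩
      rw [mem_centralizer_singleton_iff, ← map_mul, ← map_mul] at hg
      rcases pi_eq h hg with h6 | h6
      · rw [← h6, mul_inv_cancel_right] at h5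
        exact h5
      · have h7 : g * v * g⁻¹ = v * u x15 := by
          have h8 : g * v = v * g * u x15 := by
            rw [h6, mul_assoc (g * v), z_sq h.emb, mul_one]
          rw [h8, mul_assoc, mul_assoc, ← mul_assoc g, h.zc g, mul_assoc, mul_inv_cancel, mul_one]
        have h9 : centralizer ({v * u x15} : Set Y) = centralizer ({v} : Set Y) := by
          ext y
          rw [mem_centralizer_singleton_iff, mem_centralizer_singleton_iff]
          have h10 : y * (v * u x15) = (y * v) * u x15 := by rw [mul_assoc]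
          have h11 : v * u x15 * y = (v * y) * u x15 := by
            rw [mul_assoc, ← h.zc y, mul_assoc]
          rw [h10, h11]
          exact ⟨fun h12 => mul_right_cancel h12, fun h12 => by rw [h12]⟩
        have h12 : centralizerPPrimeCore 2 (v * u x15) = centralizerPPrimeCore 2 v := by
          unfold centralizerPPrimeCore
          rw [h9]
        rw [h7, h12] at h5
        exact h5
    have hg' : π g⁻¹ ∈ centralizer {π v} := by
      rw [map_inv]; exact inv_mem hg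
    rw [mem_normalizer_iff]
    intro x
    constructor
    · rintro ⟨a, ha, rfl⟩
      exact ⟨g * a * g⁻¹, key g hg a ha, by simp⟩
    · rintro ⟨a, ha, hax⟩
      refine ⟨g⁻¹ * a * g⁻¹⁻¹, key _ hg' a ha, ?_⟩
      rw [map_mul, map_mul, hax]
      simp [mul_assoc]
  · intro h3
    have h4 := Subgroup.card_map_dvd (centralizerPPrimeCore 2 v) π
    exact Cfsg.Agent.SignalizersComponents.CentralizerCore.core_card 2 v (h3.trans h4)

theorem cent_le (h : VData S u) {v : Y} (hv : v ∈ CS u kQ) (hv1 : v ≠ 1) (hvz : v ≠ u x15)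
    (hB : centralizer {v} ≤ centralizerPPrimeCore 2 v ⊔ normalizer (CS u kQ : Set Y)) {K : ℕ}
    (nK : normalizer (CS u kQ : Set Y) ≤ normalizer (CS u K : Set Y)) :
    centralizer {π v} ≤ centralizerPPrimeCore 2 (π v) ⊔
      normalizer ((CS u K).map π : Set (Y ⧸ zpowers (u x15))) := by
  intro g hg
  obtain ⟨g, rfl⟩ := QuotientGroup.mk'_surjective _ g
  obtain ⟨s, hs, c, hc, rfl⟩ := mem_cent h hv hv1 hvz hg
  have h1 : (normalizer (CS u kQ : Set Y)).map π ≤
      normalizer ((CS u K).map π : Set (Y ⧸ zpowers (u x15))) :=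
    (map_mono nK).trans (le_normalizer_map π)
  rw [map_mul]
  refine mul_mem ?_ ?_
  · exact mem_sup_right (h1 ⟨s, le_normalizer hs, rfl⟩)
  · have h2 : π c ∈ (centralizerPPrimeCore 2 v ⊔ normalizer (CS u kQ : Set Y)).map π :=
      ⟨c, hB hc, rfl⟩
    rw [Subgroup.map_sup] at h2
    exact sup_le_sup (core_map_le h hv hv1 hvz) h1 h2

theorem cent_solvable (h : VData S u) {v : Y} (hv : v ∈ CS u kQ) (hv1 : v ≠ 1)
    (hvz : v ≠ u x15) (hs : Group.IsSolvable (centralizer ({v} : Set Y))) :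
    Group.IsSolvable (centralizer ({π v} : Set (Y ⧸ zpowers (u x15)))) := by
  let C' : Subgroup Y := (centralizer ({π v} : Set (Y ⧸ zpowers (u x15)))).comap π
  have hφ : ∀ g ∈ C', g * v * g⁻¹ * v⁻¹ ∈ zpowers (u x15) := by
    intro g hg
    have hg' : π g ∈ centralizer ({π v} : Set (Y ⧸ zpowers (u x15))) := hg
    rw [mem_centralizer_singleton_iff] at hg'
    rw [← QuotientGroup.eq_one_iff]
    show π (g * v * g⁻¹ * v⁻¹) = 1
    rw [map_mul, map_mul, map_mul, map_inv, map_inv, hg', mul_inv_cancel_right, mul_inv_cancel]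
  let φ : C' →* zpowers (u x15) := MonoidHom.mk' (fun g => ⟨(g : Y) * v * (g : Y)⁻¹ * v⁻¹, hφ g g.2⟩) (by
    intro a b
    apply Subtype.ext
    show (a * b : Y) * v * (a * b : Y)⁻¹ * v⁻¹ =
      ((a : Y) * v * (a : Y)⁻¹ * v⁻¹) * ((b : Y) * v * (b : Y)⁻¹ * v⁻¹)
    have hc := zpow_central h _ (hφ b b.2)
    calc (a * b : Y) * v * (a * b : Y)⁻¹ * v⁻¹
        = (a : Y) * ((b : Y) * v * (b : Y)⁻¹ * v⁻¹) * (v * (a : Y)⁻¹ * v⁻¹) := by group
      _ = ((b : Y) * v * (b : Y)⁻¹ * v⁻¹) * (a : Y) * (v * (a : Y)⁻¹ * v⁻¹) := by rw [hc a]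
      _ = ((b : Y) * v * (b : Y)⁻¹ * v⁻¹) * ((a : Y) * v * (a : Y)⁻¹ * v⁻¹) := by group
      _ = _ := (hc _).symm)
  have hCC : centralizer ({v} : Set Y) ≤ C' := by
    intro g hg
    show π g ∈ centralizer ({π v} : Set (Y ⧸ zpowers (u x15)))
    rw [mem_centralizer_singleton_iff] at hg ⊢
    rw [← map_mul, ← map_mul, hg]
  have hZs : Group.IsSolvable (zpowers (u x15)) := Group.isSolvable_of_comm fun a b =>
    Subtype.ext ((zpow_central h b b.2 a))
  have hC's : Group.IsSolvable C' := by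
    refine Group.isSolvable_of_ker_le_range (Subgroup.inclusion hCC) φ ?_
    intro g hg
    have h1 : (g : Y) * v * (g : Y)⁻¹ * v⁻¹ = 1 := congrArg Subtype.val (MonoidHom.mem_ker.1 hg)
    refine ⟨⟨g, ?_⟩, rfl⟩
    rw [mem_centralizer_singleton_iff]
    have h2 : (g : Y) * v * (g : Y)⁻¹ = v := by rwa [mul_inv_eq_one] at h1
    calc (g : Y) * v = (g : Y) * v * (g : Y)⁻¹ * g := by group
      _ = v * g := by rw [h2]
  let ψ : C' →* centralizer ({π v} : Set (Y ⧸ zpowers (u x15))) :=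
    ((QuotientGroup.mk' (zpowers (u x15))).comp C'.subtype).codRestrict _ (fun g => g.2)
  refine Group.isSolvable_of_surjective (f := ψ) ?_
  rintro ⟨x, hx⟩
  obtain ⟨x, rfl⟩ := QuotientGroup.mk'_surjective _ x
  exact ⟨⟨x, hx⟩, rfl⟩

/-- `E1 / z` and `E2 / z` commute. -/
theorem comm_V_U (h : VData S u) : ∀ a ∈ (CS u kE1).map π, ∀ b ∈ (CS u kE2).map π,
    a * b = b * a := by
  rintro _ ⟨a, ha, rfl⟩ _ ⟨b, hb, rfl⟩
  rw [← map_mul, ← map_mul]
  rcases comm_Q h.emb a (E1_le_Q ha) b (E2_le_Q hb) with h3 | h3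
  · rw [h3]
  · rw [h3, pi_z h]

theorem card_ge (h : VData S u) {K : ℕ} (c : Fin 8 → ℕ) (hc : ∀ i, c i < 512)
    (hcK : ∀ i, sub (c i) K = true) (hinj : Function.Injective c) :
    8 ≤ Nat.card ((CS u K).map π) := by
  let f : Fin 8 → (CS u K).map π := fun i =>
    ⟨π (u (c i)), _, subset_closure ⟨c i, by have := hc i; omega, subK_of_sub (hcK i), rfl⟩, rfl⟩
  have hf : Function.Injective f := by
    intro i j hij
    have h1 : π (u (c i)) = π (u (c j)) := congrArg Subtype.val hij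
    have hi : c i < 1024 := by have := hc i; omega
    have hj : c j < 1024 := by have := hc j; omega
    rcases pi_eq h h1 with h2 | h2
    · exact (hinj (h.emb.inj hj hi h2)).symm
    · exfalso
      rw [← h.emb.mul hi (by norm_num)] at h2
      have h3 := h.emb.inj hj (mu_lt hi (by norm_num)) h2
      have h4 := congrArg (fun t => Nat.testBit t 9) h3
      simp only [testBit_mu] at h4
      have h5 : (c i).testBit 9 = false := Nat.testBit_lt_two_pow (hc i)
      have h6 : (c j).testBit 9 = false := Nat.testBit_lt_two_pow (hc j)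
      rw [h5, h6, show x15.testBit 9 = true by decide, show x15.testBit 8 = false by decide,
        show x15.testBit 6 = false by decide, show x15.testBit 3 = false by decide,
        show x15.testBit 1 = false by decide, show x15.testBit 2 = false by decide,
        show x15.testBit 5 = false by decide] at h4
      revert h4
      simp
  have := Nat.card_le_card_of_injective f hf
  rwa [Nat.card_eq_fintype_card, Fintype.card_fin] at this

/-- Normal subgroups of even order of `Y / z` meet `E1 / z` or `E2 / z`. -/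
theorem normal_meets (h : VData S u) (K : Subgroup (Y ⧸ zpowers (u x15))) (hK : K.Normal)
    (hKP : K ⊓ (P S u : Subgroup (Y ⧸ zpowers (u x15))) ≠ ⊥) :
    K ⊓ (CS u kE1).map π ≠ ⊥ ∨ K ⊓ (CS u kE2).map π ≠ ⊥ := by
  have h2 : Fact (Nat.Prime 2) := ⟨Nat.prime_two⟩
  let Pb : Subgroup (Y ⧸ zpowers (u x15)) := (P S u : Subgroup (Y ⧸ zpowers (u x15)))
  let KP : Subgroup Pb := K.subgroupOf Pb
  have hKP1 : KP ≠ ⊥ := by
    intro h0
    apply hKP
    rw [eq_bot_iff]
    rintro x ⟨hx, hxP⟩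
    have h1 : (⟨x, hxP⟩ : Pb) ∈ KP := hx
    rw [h0, mem_bot] at h1
    exact congrArg Subtype.val h1
  have hKPn : KP.Normal := hK.subgroupOf _
  obtain ⟨x, hxK, hxc, hxo⟩ :=
    Cfsg.Agent.Transfer.PGroupNormal.exists_mem_inf_center_orderOf (P S u).2 KP hKP1
  obtain ⟨s, hs, hsx⟩ := x.2
  have hx1 : (x : Y ⧸ zpowers (u x15)) ≠ 1 := by
    intro h0
    have : x = 1 := Subtype.ext h0
    rw [this, orderOf_one] at hxo
    norm_num at hxo
  have hsK : π s ∈ K := by rw [hsx]; exact hxK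
  have hs1 : π s ≠ 1 := by rw [hsx]; exact hx1
  have hsT : s ∈ CS u kT0 := by
    refine cent_S h.emb hs ?_
    intro t ht
    have h3 : π s * π t = π t * π s := by
      rw [hsx]
      have h4 := (mem_center_iff.1 hxc) ⟨π t, t, ht, rfl⟩
      exact (congrArg Subtype.val h4).symm
    rw [← map_mul, ← map_mul] at h3
    exact (pi_eq h h3.symm).imp id id
  -- the codes
  obtain ⟨a, ha, hsa, rfl⟩ := (h.emb.mem_CS (by decide)).1 hsT
  have hcases : ∀ a, a < 1024 → SubK a kT0 →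
      (sub a kE1 = true ∨ sub a kE2 = true ∨ a = 384 ∨ a = 896) := by
    intro a ha hs
    have key : allK kT0 (fun a => or (or (sub a kE1) (sub a kE2)) (or (Nat.beq a 384)
      (Nat.beq a 896))) = true := by decide +kernel
    have h3 := of_allK key ha hs
    rcases (Bool.or_eq_true _ _).mp h3 with h4 | h4
    · rcases (Bool.or_eq_true _ _).mp h4 with h5 | h5
      · exact Or.inl h5
      · exact Or.inr (Or.inl h5)
    · rcases (Bool.or_eq_true _ _).mp h4 with h5 | h5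
      · exact Or.inr (Or.inr (Or.inl (Nat.eq_of_beq_eq_true h5)))
      · exact Or.inr (Or.inr (Or.inr (Nat.eq_of_beq_eq_true h5)))
  rcases hcases a ha hsa with h3 | h3 | h3
  · left
    intro h0
    apply hs1
    rw [← mem_bot, ← h0]
    exact ⟨hsK, _, (h.emb.mem_CS closed1).2 ⟨a, ha, subK_of_sub h3, rfl⟩, rfl⟩
  · right
    intro h0
    apply hs1
    rw [← mem_bot, ← h0]
    exact ⟨hsK, _, (h.emb.mem_CS closed2).2 ⟨a, ha, subK_of_sub h3, rfl⟩, rfl⟩
  · -- `x14 x25`
    right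
    have hK' : π (u x14 * u x25) ∈ K := by
      rw [← h.emb.mul (by norm_num) (by norm_num), show mu x14 x25 = 384 by decide]
      rcases h3 with rfl | rfl
      · exact hsK
      · have h4 : u 896 = u 384 * u x15 := by
          rw [← h.emb.mul (by norm_num) (by norm_num)]
          congr 1
        rw [h4, pi_z h] at hsK
        exact hsK
    obtain ⟨k, hkQ, -, hkA, b, hb, hbU, hk⟩ := h.k3
    have hk1 := h.nE1 hkQ
    have hk2 := h.nE2 hkQ
    -- `k` fixes `x25` modulo `z`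
    have hU1 : CS u kU1 = CS u kE1 ⊓ CS u kA1 := by
      ext g
      rw [mem_inf, h.emb.mem_CS (by decide), h.emb.mem_CS closed1, h.emb.mem_CS (by decide)]
      constructor
      · rintro ⟨c, hc, hcs, rfl⟩
        exact ⟨⟨c, hc, subK_trans hcs ((subK_iff kU1 kE1).2 (by decide)), rfl⟩,
          ⟨c, hc, subK_trans hcs ((subK_iff kU1 kA1).2 (by decide)), rfl⟩⟩
      · rintro ⟨⟨c, hc, hcs, rfl⟩, ⟨d, hd, hds, hdc⟩⟩
        have := h.emb.inj hd hc hdc
        subst this
        refine ⟨d, hc, ?_, rfl⟩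
        have key : allK kE1 (fun a => or (not (sub a kA1)) (sub a kU1)) = true := by
          decide +kernel
        have h5 := of_allK key hc hcs
        rw [sub_of_subK hds] at h5
        exact subK_of_sub h5
    have hk25 : k * u x25 * k⁻¹ = u x25 ∨ k * u x25 * k⁻¹ = u x25 * u x15 := by
      have h5 : u x25 ∈ CS u kU1 := (h.emb.mem_CS (by decide)).2 ⟨x25, by norm_num,
        (subK_iff x25 kU1).2 (by decide), rfl⟩
      have h6 : k * u x25 * k⁻¹ ∈ CS u kU1 := by
        rw [hU1] at h5 ⊢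
        exact ⟨(mem_normalizer_iff.1 hk1 _).1 h5.1, (mem_normalizer_iff.1 hkA _).1 h5.2⟩
      obtain ⟨c, hc, hcs, hcu⟩ := (h.emb.mem_CS (by decide)).1 h6
      have key : allK kU1 (fun a => or (or (Nat.beq a 0) (Nat.beq a 512)) (or (Nat.beq a 256)
        (Nat.beq a 768))) = true := by decide +kernel
      have h7 := of_allK key hc hcs
      rcases (Bool.or_eq_true _ _).mp h7 with h8 | h8
      · exfalso
        -- then `x25` is in `⟨z⟩`
        have h9 : u x25 = k⁻¹ * u c * k := by rw [hcu]; group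
        rcases (Bool.or_eq_true _ _).mp h8 with h10 | h10
        · rw [Nat.eq_of_beq_eq_true h10, h.emb.zero] at h9
          have h11 : u x25 = u 0 := by rw [h9, h.emb.zero]; group
          have := h.emb.inj (by norm_num) (by norm_num) h11
          norm_num at this
        · rw [Nat.eq_of_beq_eq_true h10] at h9
          have h11 : u x25 = u x15 := by
            rw [h9]
            show k⁻¹ * u x15 * k = u x15
            rw [mul_assoc, ← h.zc k]; group
          have := h.emb.inj (by norm_num) (by norm_num) h11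
          norm_num at this
      · rcases (Bool.or_eq_true _ _).mp h8 with h9 | h9
        · left
          rw [← hcu, Nat.eq_of_beq_eq_true h9]
        · right
          rw [← hcu, Nat.eq_of_beq_eq_true h9, ← h.emb.mul (by norm_num) (by norm_num)]
          congr 1
    -- the conjugate of `x14`
    have h14 : u x14 ∈ CS u kE2 := (h.emb.mem_CS closed2).2 ⟨x14, by norm_num,
      (subK_iff x14 kE2).2 (by decide), rfl⟩
    have h14' : k * u x14 * k⁻¹ ∈ CS u kE2 := (mem_normalizer_iff.1 hk2 _).1 h14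
    have hne : ¬ (π (k * u x14 * k⁻¹) = π (u x14)) := by
      intro h5
      -- `x14` commutes with `x35`
      have h6 : u x14 * u x35 = u x35 * u x14 := by
        rw [← h.emb.mul (by norm_num) (by norm_num), ← h.emb.mul (by norm_num) (by norm_num)]
        congr 1
      -- so its conjugate commutes with the conjugate of `x35`
      have h7 : (k * u x14 * k⁻¹) * (k * u x35 * k⁻¹) = (k * u x35 * k⁻¹) * (k * u x14 * k⁻¹) := by
        calc (k * u x14 * k⁻¹) * (k * u x35 * k⁻¹) = k * (u x14 * u x35) * k⁻¹ := by group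
          _ = k * (u x35 * u x14) * k⁻¹ := by rw [h6]
          _ = _ := by group
      rw [hk] at h7
      have h8 : u x14 * u (mu x45 b) = u (mu x45 b) * u x14 := by
        rcases pi_eq h h5.symm with h9 | h9
        · rwa [h9] at h7
        · rw [h9] at h7
          have hz := h.zc (u (mu x45 b))
          have h10 : u x14 * u x15 * u (mu x45 b) = (u x14 * u (mu x45 b)) * u x15 := by
            rw [mul_assoc, ← hz, mul_assoc]
          have h11 : u (mu x45 b) * (u x14 * u x15) = (u (mu x45 b) * u x14) * u x15 := by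
            rw [mul_assoc]
          rw [h10, h11] at h7
          exact mul_right_cancel h7
      have hb' : mu x45 b < 1024 := mu_lt (by norm_num) hb
      rw [← h.emb.mul (by norm_num) hb', ← h.emb.mul hb' (by norm_num)] at h8
      have h9 := h.emb.inj (mu_lt (by norm_num) hb') (mu_lt hb' (by norm_num)) h8
      have key : allK kU1 (fun b => not (Nat.beq (mu x14 (mu x45 b)) (mu (mu x45 b) x14))) =
        true := by decide +kernel
      have h10 := of_allK key hb hbU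
      rw [h9, Nat.beq_refl] at h10
      exact absurd h10 (by decide)
    -- the quotient
    have hKk : π (k * (u x14 * u x25) * k⁻¹) ∈ K := by
      rw [map_mul, map_mul, map_inv]
      exact hK.conj_mem _ hK' (π k)
    have h5 : π (k * (u x14 * u x25) * k⁻¹) = π (k * u x14 * k⁻¹) * π (u x25) := by
      have h6 : k * (u x14 * u x25) * k⁻¹ = (k * u x14 * k⁻¹) * (k * u x25 * k⁻¹) := by group
      rw [h6, map_mul]
      rcases hk25 with h7 | h7
      · rw [h7]
      · rw [h7, pi_z h]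
    have h6 : π (k * u x14 * k⁻¹) * (π (u x14))⁻¹ ∈ K := by
      have h7 := mul_mem hKk (inv_mem hK')
      rw [h5, map_mul (QuotientGroup.mk' (zpowers (u x15))) (u x14) (u x25)] at h7
      have e : π (k * u x14 * k⁻¹) * π (u x25) * (π (u x14) * π (u x25))⁻¹ =
          π (k * u x14 * k⁻¹) * (π (u x14))⁻¹ := by
        rw [mul_inv_rev]; group
      rwa [e] at h7
    intro h0
    have h7 : π (k * u x14 * k⁻¹) * (π (u x14))⁻¹ ∈ K ⊓ (CS u kE2).map π :=
      ⟨h6, ((CS u kE2).map π).mul_mem ⟨_, h14', rfl⟩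
        (((CS u kE2).map π).inv_mem ⟨_, h14, rfl⟩)⟩
    rw [h0, mem_bot, mul_inv_eq_one] at h7
    exact hne h7

/-- One half of the end. -/
theorem sup_eq_top_one (h : VData S u)
    (hsol : ∀ v ∈ CS u kE1, v ≠ 1 → v ≠ u x15 → Group.IsSolvable (centralizer ({v} : Set Y)))
    (hB1 : ∀ v ∈ CS u kE1, v ≠ 1 → v ≠ u x15 →
      centralizer {v} ≤ centralizerPPrimeCore 2 v ⊔ normalizer (CS u kQ : Set Y))
    (hB2 : ∀ v ∈ CS u kE2, v ≠ 1 → v ≠ u x15 →
      centralizer {v} ≤ centralizerPPrimeCore 2 v ⊔ normalizer (CS u kQ : Set Y)) :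
    pPrimeCore 2 (Y ⧸ zpowers (u x15)) ⊔
      normalizer ((CS u kE1).map π : Set (Y ⧸ zpowers (u x15))) = ⊤ := by
  have hz1 : u x15 ∈ CS u kE1 := z_mem u (by decide)
  have hz2 : u x15 ∈ CS u kE2 := z_mem u (by decide)
  have hne : ∀ v : Y, π v ≠ 1 → v ≠ 1 ∧ v ≠ u x15 := by
    intro v hv
    constructor
    · rintro rfl
      exact hv (map_one _)
    · rintro rfl
      exact hv ((QuotientGroup.eq_one_iff _).2 (mem_zpowers _))
  refine LiteEnd.sup_normalizer_eq_top (P S u) ((CS u kE1).map π) ((CS u kE2).map π)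
    (map_mono (h.emb.CS_le kE1)) (map_mono (h.emb.CS_le kE2))
    (strongX h E1_le_Q hz1 h.nE1) ?_ ?_ ?_ ?_ ?_ (comm_V_U h) ?_
    (normal_meets h) ?_ ?_ ?_
  · rintro _ ⟨a, ha, rfl⟩ _ ⟨b, hb, rfl⟩
    rw [← map_mul, ← map_mul, comm_E1 h.emb a ha b hb]
  · rintro _ ⟨a, ha, rfl⟩
    rw [← map_mul, sq_E1 h.emb a ha, map_one]
  · exact card_ge h ![0, 8, 64, 72, 256, 264, 320, 328] (by decide) (by decide) (by decide)
  · rintro _ ⟨a, ha, rfl⟩
    rw [← map_mul, sq_E2 h.emb a ha, map_one]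
  · have h1 := card_ge h (K := kE2) ![0, 1, 16, 17, 128, 129, 144, 145] (by decide) (by decide)
      (by decide)
    intro h0
    rw [h0, Subgroup.card_bot] at h1
    omega
  · rintro _ ⟨a, ha, rfl⟩ ha1 g hg
    have h1 : g⁻¹ * (g * π a * g⁻¹) * g⁻¹⁻¹ = π a := by group
    have h2 := strongX h E1_le_Q hz1 h.nE1 _ hg g⁻¹ (by
      rw [h1]; exact ⟨a, h.emb.CS_le kE2 ha, rfl⟩)
    rw [h1] at h2
    have h3 : a ∈ CS u kE1 := mem_of_pi_mem (zpow_le u (by decide)) h2
    have h4 := E1_inf_E2 h.emb h3 ha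
    exact ha1 ((QuotientGroup.eq_one_iff _).2 h4)
  · rintro _ ⟨a, ha, rfl⟩ ha1
    obtain ⟨h1, h2⟩ := hne a ha1
    exact cent_solvable h (E1_le_Q ha) h1 h2 (hsol a ha h1 h2)
  · rintro _ ⟨a, ha, rfl⟩ ha1
    obtain ⟨h1, h2⟩ := hne a ha1
    exact cent_le h (E1_le_Q ha) h1 h2 (hB1 a ha h1 h2) h.nE1
  · rintro _ ⟨a, ha, rfl⟩ ha1
    obtain ⟨h1, h2⟩ := hne a ha1
    exact cent_le h (E2_le_Q ha) h1 h2 (hB2 a ha h1 h2) h.nE1

/-- The other half of the end. -/
theorem sup_eq_top_two (h : VData S u)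
    (hsol : ∀ v ∈ CS u kE2, v ≠ 1 → v ≠ u x15 → Group.IsSolvable (centralizer ({v} : Set Y)))
    (hB1 : ∀ v ∈ CS u kE1, v ≠ 1 → v ≠ u x15 →
      centralizer {v} ≤ centralizerPPrimeCore 2 v ⊔ normalizer (CS u kQ : Set Y))
    (hB2 : ∀ v ∈ CS u kE2, v ≠ 1 → v ≠ u x15 →
      centralizer {v} ≤ centralizerPPrimeCore 2 v ⊔ normalizer (CS u kQ : Set Y)) :
    pPrimeCore 2 (Y ⧸ zpowers (u x15)) ⊔
      normalizer ((CS u kE2).map π : Set (Y ⧸ zpowers (u x15))) = ⊤ := by
  have hz1 : u x15 ∈ CS u kE1 := z_mem u (by decide)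
  have hz2 : u x15 ∈ CS u kE2 := z_mem u (by decide)
  have hne : ∀ v : Y, π v ≠ 1 → v ≠ 1 ∧ v ≠ u x15 := by
    intro v hv
    constructor
    · rintro rfl
      exact hv (map_one _)
    · rintro rfl
      exact hv ((QuotientGroup.eq_one_iff _).2 (mem_zpowers _))
  refine LiteEnd.sup_normalizer_eq_top (P S u) ((CS u kE2).map π) ((CS u kE1).map π)
    (map_mono (h.emb.CS_le kE2)) (map_mono (h.emb.CS_le kE1))
    (strongX h E2_le_Q hz2 h.nE2) ?_ ?_ ?_ ?_ ?_
    (fun a ha b hb => (comm_V_U h b hb a ha).symm) ?_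
    (fun K hK hKP => (normal_meets h K hK hKP).symm) ?_ ?_ ?_
  · rintro _ ⟨a, ha, rfl⟩ _ ⟨b, hb, rfl⟩
    rw [← map_mul, ← map_mul, comm_E2 h.emb a ha b hb]
  · rintro _ ⟨a, ha, rfl⟩
    rw [← map_mul, sq_E2 h.emb a ha, map_one]
  · exact card_ge h ![0, 1, 16, 17, 128, 129, 144, 145] (by decide) (by decide) (by decide)
  · rintro _ ⟨a, ha, rfl⟩
    rw [← map_mul, sq_E1 h.emb a ha, map_one]
  · have h1 := card_ge h (K := kE1) ![0, 8, 64, 72, 256, 264, 320, 328] (by decide) (by decide)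
      (by decide)
    intro h0
    rw [h0, Subgroup.card_bot] at h1
    omega
  · rintro _ ⟨a, ha, rfl⟩ ha1 g hg
    have h1 : g⁻¹ * (g * π a * g⁻¹) * g⁻¹⁻¹ = π a := by group
    have h2 := strongX h E2_le_Q hz2 h.nE2 _ hg g⁻¹ (by
      rw [h1]; exact ⟨a, h.emb.CS_le kE1 ha, rfl⟩)
    rw [h1] at h2
    have h3 : a ∈ CS u kE2 := mem_of_pi_mem (zpow_le u (by decide)) h2
    have h4 := E1_inf_E2 h.emb ha h3
    exact ha1 ((QuotientGroup.eq_one_iff _).2 h4)
  · rintro _ ⟨a, ha, rfl⟩ ha1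
    obtain ⟨h1, h2⟩ := hne a ha1
    exact cent_solvable h (E2_le_Q ha) h1 h2 (hsol a ha h1 h2)
  · rintro _ ⟨a, ha, rfl⟩ ha1
    obtain ⟨h1, h2⟩ := hne a ha1
    exact cent_le h (E2_le_Q ha) h1 h2 (hB2 a ha h1 h2) h.nE2
  · rintro _ ⟨a, ha, rfl⟩ ha1
    obtain ⟨h1, h2⟩ := hne a ha1
    exact cent_le h (E1_le_Q ha) h1 h2 (hB1 a ha h1 h2) h.nE2

/-- Pulling back: `O(Y) E` is normal. -/
theorem sup_normal (h : VData S u) {K : ℕ} (hK : Nat.land 512 K = 512)
    (htop : pPrimeCore 2 (Y ⧸ zpowers (u x15)) ⊔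
      normalizer ((CS u K).map π : Set (Y ⧸ zpowers (u x15))) = ⊤) :
    (pPrimeCore 2 Y ⊔ CS u K).Normal := by
  have hOn : (pPrimeCore 2 (Y ⧸ zpowers (u x15))).Normal :=
    Cfsg.Agent.Lib.Cores.pPrimeCore_normal 2
  have hKn : (pPrimeCore 2 Y).Normal := Cfsg.Agent.Lib.Cores.pPrimeCore_normal 2
  have hN : (pPrimeCore 2 (Y ⧸ zpowers (u x15)) ⊔ (CS u K).map π).Normal := by
    rw [← normalizer_eq_top_iff, ← top_le_iff, ← htop]
    refine sup_le (le_sup_left.trans le_normalizer) ?_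
    intro n hn
    have key : ∀ n ∈ normalizer ((CS u K).map π : Set (Y ⧸ zpowers (u x15))),
        ∀ x ∈ pPrimeCore 2 (Y ⧸ zpowers (u x15)) ⊔ (CS u K).map π,
        n * x * n⁻¹ ∈ pPrimeCore 2 (Y ⧸ zpowers (u x15)) ⊔ (CS u K).map π := by
      intro n hn x hx
      rw [mem_sup_of_normal_left] at hx
      obtain ⟨a, ha, b, hb, rfl⟩ := hx
      have e : n * (a * b) * n⁻¹ = (n * a * n⁻¹) * (n * b * n⁻¹) := by group
      rw [e]
      exact mul_mem (mem_sup_left (hOn.conj_mem a ha n))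
        (mem_sup_right ((mem_normalizer_iff.1 hn b).1 hb))
    rw [mem_normalizer_iff]
    intro x
    refine ⟨key n hn x, fun hx => ?_⟩
    have h1 := key n⁻¹ (inv_mem hn) _ hx
    have e : n⁻¹ * (n * x * n⁻¹) * n⁻¹⁻¹ = x := by group
    rwa [e] at h1
  have he : pPrimeCore 2 Y ⊔ CS u K =
      (pPrimeCore 2 (Y ⧸ zpowers (u x15)) ⊔ (CS u K).map π).comap π := by
    apply le_antisymm
    · rw [← map_le_iff_le_comap, Subgroup.map_sup]
      refine sup_le_sup_right ?_ _
      refine Cfsg.Agent.Lib.Cores.le_pPrimeCore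
        (hKn.map _ (QuotientGroup.mk'_surjective _)) ?_
      exact Nat.Coprime.coprime_dvd_left (Subgroup.card_map_dvd (pPrimeCore 2 Y) π)
        (Cfsg.Agent.Lib.Cores.pPrimeCore_coprime 2)
    · intro g hg
      have hg' : π g ∈ pPrimeCore 2 (Y ⧸ zpowers (u x15)) ⊔ (CS u K).map π := hg
      rw [mem_sup_of_normal_left] at hg'
      obtain ⟨a, ha, b, ⟨b, hb, rfl⟩, hab⟩ := hg'
      have h1 : g * b⁻¹ ∈ (pPrimeCore 2 (Y ⧸ zpowers (u x15))).comap π := by
        show π (g * b⁻¹) ∈ pPrimeCore 2 (Y ⧸ zpowers (u x15))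
        rw [map_mul, map_inv, ← hab, mul_inv_cancel_right]
        exact ha
      have h2 := comap_core_le (zpowers (u x15)) (zpow_central h) (zpow_isPGroup h) h1
      have h3 : zpowers (u x15) ⊔ pPrimeCore 2 Y ≤ pPrimeCore 2 Y ⊔ CS u K :=
        sup_le ((zpow_le u hK).trans le_sup_right) le_sup_left
      have h4 := mul_mem (h3 h2) (mem_sup_right hb : b ∈ pPrimeCore 2 Y ⊔ CS u K)
      rwa [inv_mul_cancel_right] at h4
  rw [he]
  exact hN.comap _

omit [Finite Y] hZn in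
theorem Q_le (h : VData S u) : CS u kQ ≤ CS u kE1 ⊔ CS u kE2 := by
  intro g hg
  obtain ⟨a, ha, hs, rfl⟩ := (h.emb.mem_CS closedQ).1 hg
  have key : allK kQ (fun a => or (Nat.beq (mu (Nat.land a kE1) (Nat.land a kE2)) a)
      (Nat.beq (mu (mu (Nat.land a kE1) (Nat.land a kE2)) 512) a)) = true := by decide +kernel
  have hl : ∀ K, Nat.land a K < 1024 := fun K => lt_of_le_of_lt Nat.and_le_left ha
  have hm : ∀ K, u (Nat.land a K) ∈ CS u K := by
    intro K
    refine subset_closure ⟨_, hl K, ?_, rfl⟩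
    rw [subK_iff]
    show (a &&& K) &&& K = a &&& K
    rw [Nat.and_assoc, Nat.and_self]
  have h1 := of_allK key ha hs
  rcases (Bool.or_eq_true _ _).mp h1 with h2 | h2
  · rw [← Nat.eq_of_beq_eq_true h2, h.emb.mul (hl _) (hl _)]
    exact mul_mem_sup (hm _) (hm _)
  · rw [← Nat.eq_of_beq_eq_true h2, h.emb.mul (mu_lt (hl _) (hl _)) (by norm_num),
      h.emb.mul (hl _) (hl _)]
    exact mul_mem (mul_mem_sup (hm _) (hm _)) (mem_sup_left (z_mem u (by decide)))

omit hZn in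
/-- **(B4)** `Y = O(Y) N_Y(Q)`. -/
theorem solved (h : VData S u)
    (hsol : ∀ v, (v ∈ CS u kE1 ∨ v ∈ CS u kE2) → v ≠ 1 → v ≠ u x15 →
      Group.IsSolvable (centralizer ({v} : Set Y)))
    (hB3 : ∀ v, (v ∈ CS u kE1 ∨ v ∈ CS u kE2) → v ≠ 1 → v ≠ u x15 →
      centralizer {v} ≤ centralizerPPrimeCore 2 v ⊔ normalizer (CS u kQ : Set Y)) :
    Solved (normalizer (CS u kQ : Set Y)) := by
  have h2 : Fact (Nat.Prime 2) := ⟨Nat.prime_two⟩
  have hZn := zn h
  have hKn : (pPrimeCore 2 Y).Normal := Cfsg.Agent.Lib.Cores.pPrimeCore_normal 2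
  have hE1 := sup_normal h (K := kE1) (by decide) (sup_eq_top_one h
    (fun v hv => hsol v (Or.inl hv)) (fun v hv => hB3 v (Or.inl hv))
    (fun v hv => hB3 v (Or.inr hv)))
  have hE2 := sup_normal h (K := kE2) (by decide) (sup_eq_top_two h
    (fun v hv => hsol v (Or.inr hv)) (fun v hv => hB3 v (Or.inl hv))
    (fun v hv => hB3 v (Or.inr hv)))
  have hQe : pPrimeCore 2 Y ⊔ CS u kQ =
      (pPrimeCore 2 Y ⊔ CS u kE1) ⊔ (pPrimeCore 2 Y ⊔ CS u kE2) := by
    apply le_antisymm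
    · refine sup_le (le_sup_left.trans le_sup_left) ((Q_le h).trans ?_)
      exact sup_le_sup le_sup_right le_sup_right
    · exact sup_le (sup_le_sup_left E1_le_Q _) (sup_le_sup_left E2_le_Q _)
  have hQn : (pPrimeCore 2 Y ⊔ CS u kQ).Normal := by
    rw [hQe]
    exact Subgroup.sup_normal _ _
  have htop := PLocal.ZJReduction.sup_normalizer_eq_top hKn
    (Cfsg.Agent.Lib.Cores.pPrimeCore_coprime 2) (S.isPGroup'.to_le (h.emb.CS_le kQ)) hQn
  intro g
  have hg : g ∈ pPrimeCore 2 Y ⊔ normalizer (CS u kQ : Set Y) := by rw [htop]; trivial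
  rw [mem_sup_of_normal_left] at hg
  obtain ⟨a, ha, n, hn, e⟩ := hg
  exact ⟨a, ha, n, hn, e.symm⟩

end main

end Cfsg.Agent.SylowL5.LiteY
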