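import Cfsg.Agent.SylowL5.TypeAGen

/-!
# Piece B3 of S0512: abstract form

`H` is the centralizer of the four-group `F = ⟨z, t⟩` in `Y = C_G(z)`, `P` its Sylow 2-subgroup,
`E` the elementary group of order 16, `R = A₁ E`, `N = N_H(Q)`, `K` the odd order elements of
`C_N(Q)`. Conclusion: `H = O(H) N` and `H` is solvable.
-/

set_option autoImplicit false

namespace Cfsg.Agent.SylowL5.TypeAAbs

open Cfsg Subgroup
open Cfsg.Agent.SylowL5.Ctrl Cfsg.Agent.SylowL5.TypeAGen
open Cfsg.Agent.Lib.GoldschmidtFusion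

/-- The configuration in the centralizer of a four-group. -/
structure TData {H : Type*} [Group H] (P : Sylow 2 H) (F E R N K : Subgroup H) : Prop where
  FE : F ≤ E
  ER : E ≤ R
  RP : R ≤ P
  PN : (P : Subgroup H) ≤ N
  Fc : ∀ f ∈ F, ∀ h : H, f * h = h * f
  E2 : ∀ e ∈ E, e * e = 1
  EN : ∀ n ∈ N, ∀ e ∈ E, n * e * n⁻¹ ∈ E
  mem_R : ∀ r ∈ P, (∀ e ∈ E, r * e * r⁻¹ * e⁻¹ ∈ F) → r ∈ R
  R_comm : ∀ r ∈ R, ∀ s ∈ R, r * s * r⁻¹ * s⁻¹ ∈ F
  R_sq : ∀ r ∈ R, r * r ∈ F
  E_cent : ∀ r ∈ R, (∀ e ∈ E, r * e = e * r) → r ∈ E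
  E_rel : F.relIndex E = 4
  R_rel : 8 ≤ F.relIndex R
  P_rel : R.relIndex P = 2
  ctrl : Data.Ctrl N
  KN : K ≤ N
  Kodd : Odd (Nat.card K)
  Kn : ∀ n ∈ N, ∀ x ∈ K, n * x * n⁻¹ ∈ K
  mem_K : ∀ x ∈ N, Odd (orderOf x) → (∀ e ∈ E, x * e = e * x) → x ∈ K
  z : ∃ z ∈ E, z ∉ F ∧ ∀ s ∈ P, s * z * s⁻¹ * z⁻¹ ∈ F
  v : ∃ v ∈ R, v ∉ E

variable {H : Type*} [Group H] {P : Sylow 2 H} {F E R N K : Subgroup H}

theorem TData.F2 (h : TData P F E R N K) : ∀ f ∈ F, f * f = 1 := fun f hf => h.E2 f (h.FE hf)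

theorem TData.F_normal (h : TData P F E R N K) : F.Normal := by
  constructor
  intro f hf g
  rw [← h.Fc f hf g, mul_inv_cancel_right]
  exact hf

theorem TData.E_comm (h : TData P F E R N K) {x y : H} (hx : x ∈ E) (hy : y ∈ E) :
    x * y = y * x := by
  have h3 := h.E2 _ (E.mul_mem hx hy)
  have h4 : x⁻¹ = x := inv_eq_of_mul_eq_one_right (h.E2 x hx)
  have h5 : y⁻¹ = y := inv_eq_of_mul_eq_one_right (h.E2 y hy)
  have h6 : x * y = (x * y)⁻¹ := (inv_eq_of_mul_eq_one_right h3).symm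
  rw [h6, _root_.mul_inv_rev, h4, h5]

/-- The chain argument. -/
theorem TData.chain (h : TData P F E R N K) {a k : H} (ha : a ∈ R) (haF : a ∉ F) (hk : k ∈ N)
    (hko : Odd (orderOf k)) (hka : k * a = a * k) : ∀ e ∈ E, k * e = e * k := by
  have hkE : ∀ e ∈ E, k * e * k⁻¹ ∈ E := h.EN k hk
  have hFk : ∀ f ∈ F, k * f = f * k := fun f hf => (h.Fc f hf k).symm
  by_cases haE : a ∈ E
  · -- `W = F ⟨a⟩`
    set W : Subgroup H := F ⊔ zpowers a with hW
    have hWE : W ≤ E := sup_le h.FE (by rw [zpowers_le]; exact haE)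
    have hFW : F ≤ W := le_sup_left
    have haW : a ∈ W := mem_sup_right (mem_zpowers a)
    have hWk : ∀ w ∈ W, k * w = w * k := by
      intro w hw
      have h1 : W ≤ centralizer {k} := by
        rw [hW]
        refine sup_le ?_ ?_
        · intro f hf
          rw [mem_centralizer_singleton_iff]
          exact h.Fc f hf k
        · rw [zpowers_le, mem_centralizer_singleton_iff]
          exact hka.symm
      exact (mem_centralizer_singleton_iff.1 (h1 hw)).symm
    have h1 : F.relIndex W * W.relIndex E = 4 := by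
      rw [relIndex_mul_relIndex _ _ _ hFW hWE]; exact h.E_rel
    have h2 : F.relIndex W ≠ 1 := by
      rw [Ne, relIndex_eq_one]
      intro h3
      exact haF (h3 haW)
    have h3 : W.relIndex E ≠ 0 ∧ W.relIndex E ≤ 2 := by
      constructor
      · intro h3; rw [h3, mul_zero] at h1; omega
      · by_contra h4
        push Not at h4
        have h5 : F.relIndex W ≠ 0 := by
          intro h5; rw [h5, zero_mul] at h1; omega
        have h6 : 2 ≤ F.relIndex W := by omega
        nlinarith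
    have h4 := conj_mem_of_relIndex_le hWE h3.1 h3.2 hWk hkE
    intro e he
    refine comm_of_conj hko (h.E2 _ (hWE (h4 e he))) (hWk _ (h4 e he)) ?_
    group
  · -- `W = C_E(a)`
    set W : Subgroup H := E ⊓ centralizer {a} with hW
    have hWE : W ≤ E := inf_le_left
    have hFW : F ≤ W := by
      intro f hf
      exact ⟨h.FE hf, mem_centralizer_singleton_iff.2 (h.Fc f hf a)⟩
    have hkW : ∀ w ∈ W, k * w * k⁻¹ ∈ W := by
      intro w hw
      refine mem_inf.2 ⟨hkE w hw.1, ?_⟩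
      have h1 := mem_centralizer_singleton_iff.1 hw.2
      rw [mem_centralizer_singleton_iff]
      have h2 : k⁻¹ * a = a * k⁻¹ := by
        rw [inv_mul_eq_iff_eq_mul, ← mul_assoc, hka, mul_inv_cancel_right]
      calc k * w * k⁻¹ * a = k * w * (k⁻¹ * a) := by group
        _ = k * (w * a) * k⁻¹ := by rw [h2]; group
        _ = (k * a) * w * k⁻¹ := by rw [h1]; group
        _ = a * (k * w * k⁻¹) := by rw [hka]; group
    have hne : W.relIndex E ≠ 1 := by
      rw [Ne, relIndex_eq_one]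
      intro h1
      apply haE
      refine h.E_cent a ha ?_
      intro e he
      exact (mem_centralizer_singleton_iff.1 (h1 he).2).symm
    have h1 : F.relIndex W * W.relIndex E = 4 := by
      rw [relIndex_mul_relIndex _ _ _ hFW hWE]; exact h.E_rel
    have h3 : F.relIndex W ≠ 0 ∧ F.relIndex W ≤ 2 := by
      constructor
      · intro h3; rw [h3, zero_mul] at h1; omega
      · by_contra h4
        push Not at h4
        have h5 : W.relIndex E ≠ 0 := by
          intro h5; rw [h5, mul_zero] at h1; omega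
        have h6 : 2 ≤ W.relIndex E := by omega
        nlinarith
    have h4 := conj_mem_of_relIndex_le hFW h3.1 h3.2 hFk hkW
    have hWk : ∀ w ∈ W, k * w = w * k := by
      intro w hw
      refine comm_of_conj hko (h.F2 _ (h4 w hw)) (hFk _ (h4 w hw)) ?_
      group
    have h5 : ∀ e ∈ E, k * e * k⁻¹ * e⁻¹ ∈ W := by
      intro e he
      refine mem_inf.2 ⟨E.mul_mem (hkE e he) (E.inv_mem he), ?_⟩
      rw [mem_centralizer_singleton_iff]
      have hc := h.R_comm e (h.ER he) a ha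
      obtain ⟨c, hc'⟩ : ∃ c, c = e * a * e⁻¹ * a⁻¹ := ⟨_, rfl⟩
      rw [← hc'] at hc
      have h6 : e * a * e⁻¹ = c * a := by rw [hc']; group
      have hck := h.Fc c hc k
      have hce := h.Fc c hc e⁻¹
      have h2 : k⁻¹ * a = a * k⁻¹ := by
        rw [inv_mul_eq_iff_eq_mul, ← mul_assoc, hka, mul_inv_cancel_right]
      -- `e' = k e k⁻¹`
      have h7 : (k * e * k⁻¹) * a * (k * e * k⁻¹)⁻¹ = c * a := by
        calc (k * e * k⁻¹) * a * (k * e * k⁻¹)⁻¹ = k * e * (k⁻¹ * a) * k * e⁻¹ * k⁻¹ := by group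
          _ = k * (e * a * e⁻¹) * k⁻¹ := by rw [h2]; group
          _ = (k * c) * a * k⁻¹ := by rw [h6]; group
          _ = c * (k * a) * k⁻¹ := by rw [← hck]; group
          _ = c * a := by rw [hka]; group
      have h8 : e⁻¹ * a * e = c⁻¹ * a := by
        have h9 : a = e⁻¹ * (c * a) * e := by rw [← h6]; group
        calc e⁻¹ * a * e = c⁻¹ * (c * e⁻¹) * a * e := by group
          _ = c⁻¹ * (e⁻¹ * (c * a) * e) := by rw [hce]; group
          _ = c⁻¹ * a := by rw [← h9]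
      have hcc : c * (k * e * k⁻¹) = (k * e * k⁻¹) * c := h.Fc c hc _
      have h7' : (k * e * k⁻¹) * a = c * a * (k * e * k⁻¹) := by
        calc (k * e * k⁻¹) * a = (k * e * k⁻¹) * a * (k * e * k⁻¹)⁻¹ * (k * e * k⁻¹) := by group
          _ = _ := by rw [h7]
      have h8' : e⁻¹ * a = c⁻¹ * a * e⁻¹ := by
        calc e⁻¹ * a = e⁻¹ * a * e * e⁻¹ := by group
          _ = _ := by rw [h8]
      have hcc' : c⁻¹ * (k * e * k⁻¹) = (k * e * k⁻¹) * c⁻¹ := h.Fc _ (inv_mem hc) _
      calc k * e * k⁻¹ * e⁻¹ * a = (k * e * k⁻¹) * (e⁻¹ * a) := by group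
        _ = ((k * e * k⁻¹) * c⁻¹) * a * e⁻¹ := by rw [h8']; group
        _ = c⁻¹ * ((k * e * k⁻¹) * a) * e⁻¹ := by rw [← hcc']; group
        _ = c⁻¹ * (c * a * (k * e * k⁻¹)) * e⁻¹ := by rw [h7']
        _ = a * (k * e * k⁻¹ * e⁻¹) := by group
    intro e he
    refine comm_of_conj hko (h.E2 _ (hWE (h5 e he))) (hWk _ (h5 e he)) ?_
    group

variable [Finite H]

/-- Centralizers of the elements of `R - F` are 2-nilpotent. -/
theorem TData.oddClosed_centralizer (h : TData P F E R N K) {a : H} (ha : a ∈ R) (haF : a ∉ F) :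
    OddClosed (centralizer ({a} : Set H)) := by
  have h2 : Fact (Nat.Prime 2) := ⟨Nat.prime_two⟩
  have e : centralizer (zpowers a : Set H) = centralizer ({a} : Set H) := by
    rw [zpowers_eq_closure, centralizer_closure]
  rw [← e]
  apply oddClosed_of_hasNormalPComplement
  have haN : a ∈ N := h.PN (h.RP ha)
  have hc := ctrl_centralizer h.ctrl (F := zpowers a) (zpowers_le.2 haN)
    (P.isPGroup'.to_le (zpowers_le.2 (h.RP ha)))
  refine two_nilpotent (O := K.subgroupOf (centralizer (zpowers a : Set H))) hc ?_ ?_ ?_ ?_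
  · intro x hx
    exact h.KN hx
  · apply odd_card_of_forall
    intro x hx
    rw [← Subgroup.orderOf_coe]
    exact h.Kodd.of_dvd_nat (K.orderOf_dvd_natCard (mem_subgroupOf.1 hx))
  · intro n hn x hx
    exact h.Kn n hn x hx
  · intro x hx hxo
    rw [← Subgroup.orderOf_coe] at hxo
    refine h.mem_K x hx hxo (h.chain ha haF hx hxo ?_)
    exact (mem_centralizer_iff.1 x.2 a (mem_zpowers a)).symm

/-- The same in `H / F`. -/
theorem TData.oddClosed_quotient (h : TData P F E R N K) [F.Normal] {a : H} (ha : a ∈ R)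
    (haF : a ∉ F) : OddClosed (centralizer ({QuotientGroup.mk' F a} : Set (H ⧸ F))) := by
  have hlift : ∀ x ∈ centralizer ({QuotientGroup.mk' F a} : Set (H ⧸ F)), Odd (orderOf x) →
      ∃ y ∈ centralizer ({a} : Set H), QuotientGroup.mk' F y = x ∧ Odd (orderOf y) := by
    intro x hx hxo
    obtain ⟨y, rfl, hy⟩ := lift_odd h.F2 hxo
    refine ⟨y, ?_, rfl, hy⟩
    rw [mem_centralizer_singleton_iff] at hx ⊢
    have h1 : y * a * y⁻¹ * a⁻¹ ∈ F := by
      rw [← QuotientGroup.ker_mk' F, MonoidHom.mem_ker, map_mul, map_mul, map_mul, map_inv,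
        map_inv, hx]
      group
    exact comm_of_conj hy (h.F2 _ h1) (h.Fc _ h1 y).symm (by group)
  intro x hx y hy hxo hyo
  obtain ⟨x', hx', rfl, hxo'⟩ := hlift x hx hxo
  obtain ⟨y', hy', rfl, hyo'⟩ := hlift y hy hyo
  have h1 := h.oddClosed_centralizer ha haF x' hx' y' hy' hxo' hyo'
  rw [← map_mul]
  exact h1.of_dvd_nat (orderOf_map_dvd _ _)

theorem mk_mem_map_iff {F : Subgroup H} [F.Normal] {A : Subgroup H} (hFA : F ≤ A) {x : H} :
    QuotientGroup.mk' F x ∈ A.map (QuotientGroup.mk' F) ↔ x ∈ A := by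
  constructor
  · intro hx
    have h1 : x ∈ (A.map (QuotientGroup.mk' F)).comap (QuotientGroup.mk' F) := hx
    rwa [comap_map_eq_self (by rw [QuotientGroup.ker_mk']; exact hFA)] at h1
  · exact fun hx => mem_map_of_mem _ hx

theorem mk_eq_iff {F : Subgroup H} [F.Normal] {x y : H} :
    QuotientGroup.mk' F x = QuotientGroup.mk' F y ↔ x * y⁻¹ ∈ F := by
  constructor
  · intro h
    rw [← QuotientGroup.ker_mk' F, MonoidHom.mem_ker, map_mul, map_inv, h, mul_inv_cancel]
  · intro h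
    rw [← QuotientGroup.ker_mk' F, MonoidHom.mem_ker, map_mul, map_inv, mul_inv_eq_one] at h
    exact h

/-- fusion in `H / F` is controlled by `N`. -/
theorem TData.fuse (h : TData P F E R N K) [F.Normal] {r : H} (hr : r ∈ P) {g : H ⧸ F}
    (hg : g * QuotientGroup.mk' F r * g⁻¹ ∈ (P : Subgroup H).map (QuotientGroup.mk' F)) :
    ∃ n ∈ N, n * r * n⁻¹ ∈ P ∧
      g * QuotientGroup.mk' F r * g⁻¹ = QuotientGroup.mk' F (n * r * n⁻¹) := by
  have hFN : F ≤ N := h.FE.trans (h.ER.trans (h.RP.trans h.PN))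
  have hFP : F ≤ (P : Subgroup H) := h.FE.trans (h.ER.trans h.RP)
  have hPp : IsPGroup 2 ((P : Subgroup H).map (QuotientGroup.mk' F)) := P.isPGroup'.map _
  have hc := ctrl_quotient h.ctrl hFN (P.isPGroup'.to_le hFP)
  have hrP : QuotientGroup.mk' F r ∈ (P : Subgroup H).map (QuotientGroup.mk' F) :=
    mem_map_of_mem _ hr
  obtain ⟨_, ⟨n, hn, rfl⟩, hn'⟩ := hc.fus (zpowers (QuotientGroup.mk' F r))
    (hPp.to_le (zpowers_le.2 hrP)) (zpowers_le.2 (map_mono h.PN hrP)) g (by
      intro a ha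
      obtain ⟨j, rfl⟩ := mem_zpowers_iff.mp ha
      rw [← conj_zpow]
      exact zpow_mem (map_mono h.PN hg) j)
  have h1 := hn' _ (mem_zpowers _)
  have h2 : g * QuotientGroup.mk' F r * g⁻¹ = QuotientGroup.mk' F (n * r * n⁻¹) := by
    rw [← h1, map_mul, map_mul, map_inv]
  refine ⟨n, hn, ?_, h2⟩
  rw [h2] at hg
  exact (mk_mem_map_iff hFP).1 hg

/-- `R / F` is strongly closed. -/
theorem TData.sc (h : TData P F E R N K) [F.Normal] {x : H ⧸ F}
    (hx : x ∈ R.map (QuotientGroup.mk' F)) {g : H ⧸ F}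
    (hg : g * x * g⁻¹ ∈ (P : Subgroup H).map (QuotientGroup.mk' F)) :
    g * x * g⁻¹ ∈ R.map (QuotientGroup.mk' F) := by
  obtain ⟨r, hr, rfl⟩ := hx
  obtain ⟨n, hn, hnP, he⟩ := h.fuse (h.RP hr) hg
  rw [he]
  apply mem_map_of_mem
  apply h.mem_R _ hnP
  intro e he
  have h1 : n⁻¹ * e * n ∈ E := by
    have := h.EN n⁻¹ (inv_mem hn) e he
    rwa [inv_inv] at this
  have h2 := h.R_comm r hr _ (h.ER h1)
  have h3 : n * r * n⁻¹ * e * (n * r * n⁻¹)⁻¹ * e⁻¹ =
      n * (r * (n⁻¹ * e * n) * r⁻¹ * (n⁻¹ * e * n)⁻¹) * n⁻¹ := by group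
  rw [h3, ← h.Fc _ h2 n, mul_inv_cancel_right]
  exact h2

theorem card_map_mk (F A : Subgroup H) [F.Normal] :
    Nat.card (A.map (QuotientGroup.mk' F)) = F.relIndex A := by
  have h5 := Subgroup.relIndex_comap ⊥ (QuotientGroup.mk' F) A
  rw [MonoidHom.comap_bot, QuotientGroup.ker_mk', Subgroup.relIndex_bot_left] at h5
  exact h5.symm

theorem TData.centralizer_P (h : TData P F E R N K) [F.Normal] {p : H} (hp : p ∈ P)
    (hc : ∀ e ∈ E, QuotientGroup.mk' F p * QuotientGroup.mk' F e =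
      QuotientGroup.mk' F e * QuotientGroup.mk' F p) : p ∈ R := by
  apply h.mem_R p hp
  intro e he
  have h1 := hc e he
  rw [← map_mul, ← map_mul, mk_eq_iff] at h1
  have h2 : p * e * p⁻¹ * e⁻¹ = p * e * (e * p)⁻¹ := by group
  rw [h2]
  exact h1

/-- **Type A, abstract form.** -/
theorem TData.main (h : TData P F E R N K) : Data.Solved N ∧ Group.IsSolvable H := by
  have h2 : Fact (Nat.Prime 2) := ⟨Nat.prime_two⟩
  have hFn := h.F_normal
  have hπ : Function.Surjective (QuotientGroup.mk' F) := QuotientGroup.mk'_surjective F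
  have hFN : F ≤ N := h.FE.trans (h.ER.trans (h.RP.trans h.PN))
  have hFP : F ≤ (P : Subgroup H) := h.FE.trans (h.ER.trans h.RP)
  have hFR : F ≤ R := h.FE.trans h.ER
  let P' : Sylow 2 (H ⧸ F) := P.mapSurjective hπ
  have hP' : (P' : Subgroup (H ⧸ F)) = (P : Subgroup H).map (QuotientGroup.mk' F) := rfl
  set V : Subgroup (H ⧸ F) := R.map (QuotientGroup.mk' F) with hV
  have hVP : V ≤ (P' : Subgroup (H ⧸ F)) := map_mono h.RP
  have hVc : ∀ a ∈ V, ∀ b ∈ V, a * b = b * a := by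
    rintro _ ⟨a, ha, rfl⟩ _ ⟨b, hb, rfl⟩
    rw [← map_mul, ← map_mul, mk_eq_iff]
    have := h.R_comm a ha b hb
    have e : a * b * (b * a)⁻¹ = a * b * a⁻¹ * b⁻¹ := by group
    rw [e]; exact this
  have hV2 : ∀ a ∈ V, a * a = 1 := by
    rintro _ ⟨a, ha, rfl⟩
    rw [← map_mul, ← MonoidHom.mem_ker, QuotientGroup.ker_mk']
    exact h.R_sq a ha
  have hVr : 8 ≤ Nat.card V := by rw [hV, card_map_mk]; exact h.R_rel
  have hsc : ∀ x ∈ V, ∀ g : H ⧸ F, g * x * g⁻¹ ∈ (P' : Subgroup (H ⧸ F)) → g * x * g⁻¹ ∈ V :=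
    fun x hx g hg => h.sc hx hg
  have hw : ∀ g : H ⧸ F, (∀ v ∈ V, g * v * g⁻¹ ∈ (P' : Subgroup (H ⧸ F))) →
      g ∈ normalizer (V : Set (H ⧸ F)) := by
    intro g hg
    refine J2Sylow.Functor.mem_normalizer_of_conj' ?_
    intro x hx
    exact hsc x hx g (hg x hx)
  have hW : IsWeaklyClosed V (P' : Subgroup (H ⧸ F)) := by
    refine ⟨hVP, fun g hg => ?_⟩
    exact mem_normalizer_iff_map_conj.1 (hw g fun v hv => hg ⟨v, hv, rfl⟩)
  have hPV : (P' : Subgroup (H ⧸ F)) ≤ normalizer (V : Set (H ⧸ F)) := fun p hp =>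
    hw p fun v hv => mul_mem (mul_mem hp (hVP hv)) (inv_mem hp)
  have hcent : ∀ p ∈ (P' : Subgroup (H ⧸ F)), (∀ v ∈ V, p * v = v * p) → p ∈ V := by
    rintro _ ⟨p, hp, rfl⟩ hpc
    refine mem_map_of_mem _ (h.centralizer_P hp ?_)
    intro e he
    exact hpc _ (mem_map_of_mem _ (h.ER he))
  -- centralizers of elements of `V#`
  have hodd : ∀ a ∈ V, a ≠ 1 → OddClosed (centralizer ({a} : Set (H ⧸ F))) := by
    rintro _ ⟨a, ha, rfl⟩ ha1
    refine h.oddClosed_quotient ha ?_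
    intro haF
    apply ha1
    rwa [← MonoidHom.mem_ker, QuotientGroup.ker_mk']
  obtain ⟨z, hzE, hzF, hz⟩ := h.z
  obtain ⟨v, hvR, hvE⟩ := h.v
  have hz1 : QuotientGroup.mk' F z ≠ 1 := by
    intro h1
    rw [← MonoidHom.mem_ker, QuotientGroup.ker_mk'] at h1
    exact hzF h1
  have hzV : QuotientGroup.mk' F z ∈ V := mem_map_of_mem _ (h.ER hzE)
  have hT := Cfsg.Agent.R15.NormalElem.sup_normalizer_eq_top P' V hW hVc hV2 hVr
    (by
      intro x _ hxc hxP g hg
      have hxV : x ∈ V := by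
        apply hcent x hxP
        intro v hv
        exact (mem_centralizer_singleton_iff.1 (hxc (hVP hv))).symm
      exact hsc x hxV g hg)
    (z := QuotientGroup.mk' F z) (v := QuotientGroup.mk' F v) (hVP hzV)
    (by
      rintro _ ⟨p, hp, rfl⟩
      rw [mem_centralizer_singleton_iff, ← map_mul, ← map_mul, mk_eq_iff]
      have h1 := hz p hp
      have e : p * z * (z * p)⁻¹ = p * z * p⁻¹ * z⁻¹ := by group
      rw [e]; exact h1)
    (hV2 _ hzV) hz1 (mem_map_of_mem _ hvR)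
    (by
      intro h1
      rw [← MonoidHom.mem_ker, QuotientGroup.ker_mk'] at h1
      exact hvE (h.FE h1))
    (by
      intro g hg
      have h1 : g * QuotientGroup.mk' F z * g⁻¹ ∈ (P : Subgroup H).map (QuotientGroup.mk' F) := by
        rw [hg]; exact mem_map_of_mem _ (h.RP hvR)
      obtain ⟨n, hn, -, he⟩ := h.fuse (h.RP (h.ER hzE)) h1
      rw [hg, mk_eq_iff] at he
      apply hvE
      have h3 : v = (v * (n * z * n⁻¹)⁻¹) * (n * z * n⁻¹) := by group
      rw [h3]
      exact mul_mem (h.FE he) (h.EN n hn z hzE))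
    (fun a ha ha1 => isSolvable_of_oddClosed _ (hodd a ha ha1))
    (by
      intro a ha ha1
      exact le_core_sup_normalizer P' V hVP hw _
        (fun b hb => mem_centralizer_singleton_iff.2 (hVc b hb a ha)) (hodd a ha ha1))
  have hVz : centralizer (V : Set (H ⧸ F)) ≤ centralizer ({QuotientGroup.mk' F z} : Set (H ⧸ F)) := by
    intro c hc
    rw [mem_centralizer_singleton_iff]
    exact (mem_centralizer_iff.1 hc _ hzV).symm
  constructor
  · refine solved_of_quotient F h.Fc h.F2 N hFN ?_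
    exact solved_of_normalizer P' V (N.map (QuotientGroup.mk' F)) hVP (map_mono h.PN) hPV hcent
      ((hodd _ hzV hz1).mono hVz) hVc (ctrl_quotient h.ctrl hFN (P.isPGroup'.to_le hFP)) hT
  · have hX : Group.IsSolvable (H ⧸ F) := by
      refine isSolvable_of_sup_normalizer V hVc ?_ hT
      intro h4
      have h5 : V.relIndex (P' : Subgroup (H ⧸ F)) = 2 := by
        rw [hV, hP', relIndex_map_map, QuotientGroup.ker_mk', sup_of_le_left hFR,
          sup_of_le_left hFP]
        exact h.P_rel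
      rw [← relIndex_mul_index hVP, h5] at h4
      have h6 : (P' : Subgroup (H ⧸ F)).index % 2 = 1 := by
        have := P'.not_dvd_index
        omega
      omega
    have hFs : Group.IsSolvable F := Group.isSolvable_of_comm fun a b =>
      Subtype.ext (h.Fc a a.2 b)
    exact (Group.isSolvable_iff_subgroup_quotient F).2 ⟨hFs, hX⟩

end Cfsg.Agent.SylowL5.TypeAAbs
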