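import Cfsg.Agent.SylowL5.TypeACodes
import Cfsg.Agent.SylowL5.TypeAAbs

/-!
# Piece B3 of S0512: centralizers of four-groups

`main`: for `t = x25`: `H = C_Y(⟨z, t⟩)` is solvable and `H = O(H) N_H(Q)`.
`dual`: the same for `t = x14`.
-/

set_option autoImplicit false

namespace Cfsg.Agent.SylowL5.TypeA

open Cfsg Subgroup
open Cfsg.Agent.SylowL5.Setup Cfsg.Agent.SylowL5.Ctrl Cfsg.Agent.SylowL5.TypeAGen
open Cfsg.Agent.SylowL5.TypeAAbs Cfsg.Agent.SylowL5.TypeACodes
open Cfsg.Agent.Lib.GoldschmidtFusion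

section codes

variable {G : Type*} [Group G] {S : Subgroup G} {u : ℕ → G}

theorem bx3 (a b : Bool) : ((a ^^ b) = b) = (a = false) := by revert a b; decide

theorem u_mem (u : ℕ → G) {a K : ℕ} (ha : a < 1024) (haK : Nat.land a K = a) : u a ∈ CS u K :=
  Subgroup.subset_closure ⟨a, ha, (subK_iff _ _).2 haK, rfl⟩

theorem S1_U1_comm (h : Emb S u) {a c : ℕ} (ha : a < 1024) (hc : c < 1024) (haS : SubK a kS1)
    (hcU : SubK c kU1) : u a * u c = u c * u a := by
  rw [comm_iff h ha hc]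
  apply ext10 (mu_lt ha hc) (mu_lt hc ha)
  intro j _
  rw [mu_U1 hcU, testBit_mu, not_of_subK haS (j := 0) (by decide),
    not_of_subK hcU (j := 2) (by decide), not_of_subK hcU (j := 3) (by decide),
    not_of_subK hcU (j := 6) (by decide)]
  simp [-Nat.testBit_zero, Bool.xor_comm]

theorem Q_normal (h : Emb S u) : S ≤ normalizer (CS u kQ : Set G) := by
  have hfin := h.finite
  have key : ∀ s ∈ S, ∀ q ∈ CS u kQ, s * q * s⁻¹ ∈ CS u kQ := by
    intro s hs q hq
    obtain ⟨a, ha, rfl⟩ := h.surj s hs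
    obtain ⟨b, hb, hbQ, rfl⟩ := (h.mem_CS (by decide)).1 hq
    obtain ⟨d, hd, hd'⟩ := h.surj _ (S.mul_mem (S.mul_mem hs (h.mem hb)) (S.inv_mem hs))
    have h1 : mu d a = mu a b := by
      apply h.inj (mu_lt hd ha) (mu_lt ha hb)
      rw [h.mul hd ha, h.mul ha hb, hd']; group
    have b1 := not_of_subK hbQ (j := 1) (by decide)
    have b2 := not_of_subK hbQ (j := 2) (by decide)
    have b5 := not_of_subK hbQ (j := 5) (by decide)
    have e1 := congrArg (fun x => x.testBit 1) h1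
    have e2 := congrArg (fun x => x.testBit 2) h1
    have e5 := congrArg (fun x => x.testBit 5) h1
    simp only [testBit_mu, b1, b2, b5] at e1 e2 e5
    have d1 : d.testBit 1 = false := by
      simpa [-Nat.testBit_zero, bx3] using e1
    have d2 : d.testBit 2 = false := by
      simpa [-Nat.testBit_zero, bx3] using e2
    have d5 : d.testBit 5 = false := by
      rw [d1] at e5
      simpa [-Nat.testBit_zero, bx3] using e5
    rw [← hd', h.mem_CS (by decide)]
    refine ⟨d, hd, subK_of_bits hd ?_, rfl⟩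
    intro j hj
    interval_cases j <;> first | (intro _; assumption) | (intro h'; exact absurd h' (by decide))
  intro s hs
  rw [mem_normalizer_iff]
  intro q
  refine ⟨key s hs q, fun hq => ?_⟩
  have h1 := key s⁻¹ (S.inv_mem hs) _ hq
  have e : s⁻¹ * (s * q * s⁻¹) * s⁻¹⁻¹ = q := by group
  rwa [e] at h1

end codes

variable {Y : Type*} [Group Y] [Finite Y] {S : Sylow 2 Y} {u : ℕ → Y}

theorem S1_le (h : Emb (S : Subgroup Y) u) : CS u kS1 ≤ centralizer (CS u kU1 : Set Y) := by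
  intro g hg
  obtain ⟨a, ha, haS, rfl⟩ := (h.mem_CS (by decide)).1 hg
  rw [mem_centralizer_iff]
  intro f hf
  obtain ⟨c, hc, hcU, rfl⟩ := (h.mem_CS (by decide)).1 hf
  exact (S1_U1_comm h ha hc haS hcU).symm

theorem card_subgroupOf_eq {A H : Subgroup Y} (hAH : A ≤ H) :
    Nat.card (A.subgroupOf H) = Nat.card A :=
  Nat.card_congr (Subgroup.subgroupOfEquivOfLe hAH).toEquiv

theorem exists_sylow (h : Emb (S : Subgroup Y) u) (zc : ∀ g : Y, g * u x15 = u x15 * g) :
    ∃ P : Sylow 2 (centralizer (CS u kU1 : Set Y)),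
      (P : Subgroup (centralizer (CS u kU1 : Set Y))) =
        (CS u kS1).subgroupOf (centralizer (CS u kU1 : Set Y)) := by
  have h2 : Fact (Nat.Prime 2) := ⟨Nat.prime_two⟩
  set H := centralizer (CS u kU1 : Set Y) with hH
  have hp : IsPGroup 2 ((CS u kS1).subgroupOf H) :=
    (S.isPGroup'.to_le (h.CS_le kS1)).comap_of_injective H.subtype H.subtype_injective
  have hcard : Nat.card ((CS u kS1).subgroupOf H) = 512 := by
    rw [card_subgroupOf_eq (S1_le h), card_S1 h]
  obtain ⟨T, hT⟩ := hp.exists_le_sylow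
  refine ⟨T, ?_⟩
  symm
  apply Subgroup.eq_of_le_of_card_ge hT
  rw [hcard]
  by_contra hcon
  push Not at hcon
  obtain ⟨k, hk⟩ := IsPGroup.iff_card.1 T.2
  have hk' : 1024 ≤ Nat.card (T : Subgroup H) := by
    change 512 < Nat.card (T : Subgroup H) at hcon
    have hk2 : Nat.card (T : Subgroup H) = 2 ^ k := hk
    rw [hk2] at hcon ⊢
    have h3 : 9 < k := by
      by_contra h4
      have h5 : 2 ^ k ≤ 2 ^ 9 := Nat.pow_le_pow_right (by norm_num) (by omega)
      omega
    calc 1024 = 2 ^ 10 := by norm_num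
      _ ≤ 2 ^ k := Nat.pow_le_pow_right (by norm_num) h3
  set T' : Subgroup Y := (T : Subgroup H).map H.subtype with hT'
  have hT'card : Nat.card T' = Nat.card (T : Subgroup H) :=
    (Nat.card_congr ((T : Subgroup H).equivMapOfInjective H.subtype H.subtype_injective).toEquiv).symm
  obtain ⟨g, -, hg⟩ := exists_conj_le_in (p := 2) (N := ⊤) (D := T')
    S.isPGroup' (by rw [relIndex_top_right]; exact S.not_dvd_index) le_top (T.isPGroup'.map _)
  have hgS : T'.map (MulAut.conj g).toMonoidHom = S := by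
    apply Subgroup.eq_of_le_of_card_ge hg
    rw [card_map_conj, hT'card, h.card]
    exact hk'
  have ht : u x25 ∈ T' := by
    refine ⟨⟨u x25, S1_le h (u_mem u (by norm_num) (by decide))⟩, hT ?_, rfl⟩
    exact mem_subgroupOf.2 (u_mem u (by norm_num) (by decide))
  have hx : g * u x25 * g⁻¹ ∈ (S : Subgroup Y) := hg ⟨_, ht, rfl⟩
  obtain ⟨c, hc, hc'⟩ := h.surj _ hx
  have hcomm : ∀ s ∈ (S : Subgroup Y), u c * s = s * u c := by
    intro s hs
    rw [← hgS] at hs
    obtain ⟨t, ht', rfl⟩ := hs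
    obtain ⟨⟨t, htH⟩, -, rfl⟩ := ht'
    have h3 : u x25 * t = t * u x25 :=
      mem_centralizer_iff.1 htH _ (u_mem u (by norm_num) (by decide))
    rw [hc']
    show g * u x25 * g⁻¹ * (g * t * g⁻¹) = g * t * g⁻¹ * (g * u x25 * g⁻¹)
    calc g * u x25 * g⁻¹ * (g * t * g⁻¹) = g * (u x25 * t) * g⁻¹ := by group
      _ = g * (t * u x25) * g⁻¹ := by rw [h3]
      _ = _ := by group
  have h4 := center_S h hc (hcomm _ (h.mem (by norm_num))) (hcomm _ (h.mem (by norm_num)))
    (hcomm _ (h.mem (by norm_num))) (hcomm _ (h.mem (by norm_num)))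
  have h5 : u x25 = g⁻¹ * u c * g := by rw [hc']; group
  rcases h4 with rfl | rfl
  · rw [h.zero] at h5
    have h6 : u x25 = u 0 := by rw [h5, h.zero]; group
    exact absurd (h.inj (by norm_num) (by norm_num) h6) (by norm_num)
  · have h6 : u x25 = u x15 := by
      rw [h5]
      have := zc g⁻¹
      change g⁻¹ * u 512 = u 512 * g⁻¹ at this
      show g⁻¹ * u 512 * g = u 512
      rw [this]; group
    exact absurd (h.inj (by norm_num) (by norm_num) h6) (by norm_num)

/-- `C_Y(Q)` is 2-nilpotent. -/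
theorem oddClosed_Q (h : Emb (S : Subgroup Y) u) (zc : ∀ g : Y, g * u x15 = u x15 * g) :
    OddClosed (centralizer (CS u kQ : Set Y)) := by
  have h2 : Fact (Nat.Prime 2) := ⟨Nat.prime_two⟩
  apply oddClosed_of_central
  rintro x hx ⟨n, hn⟩ g _
  have hxN : x ∈ normalizer (CS u kQ : Set Y) := centralizer_le_normalizer _ hx
  obtain ⟨m, hm, hmS⟩ := Cfsg.Agent.R15.NormalElem.exists_conj_mem S _ (Q_normal h) hxN hn
  obtain ⟨c, hc, hc'⟩ := h.surj _ hmS
  have h4 := cent_Q h hc (by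
    intro q hq
    have h5 : m⁻¹ * q * m ∈ CS u kQ := by
      have := (mem_normalizer_iff.1 (inv_mem hm) q).1 hq
      rwa [inv_inv] at this
    have h6 := mem_centralizer_iff.1 hx _ h5
    rw [hc']
    calc m * x * m⁻¹ * q = m * (x * (m⁻¹ * q * m)) * m⁻¹ := by group
      _ = m * ((m⁻¹ * q * m) * x) * m⁻¹ := by rw [h6]
      _ = q * (m * x * m⁻¹) := by group)
  have h5 : x = m⁻¹ * u c * m := by rw [hc']; group
  rcases h4 with rfl | rfl
  · have h6 : x = 1 := by rw [h5, h.zero]; group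
    rw [h6]; group
  · have h6 : x = u 512 := by
      rw [h5]
      have := zc m⁻¹
      change m⁻¹ * u 512 = u 512 * m⁻¹ at this
      rw [this]; group
    rw [h6]
    exact (zc g).symm

theorem tdata (h : Emb (S : Subgroup Y) u) (zc : ∀ g : Y, g * u x15 = u x15 * g)
    (nE1 : normalizer (CS u kQ : Set Y) ≤ normalizer (CS u kE1 : Set Y))
    (hc : Data.Ctrl (normalizer (CS u kQ : Set Y))) :
    ∃ (P : Sylow 2 (centralizer (CS u kU1 : Set Y)))
      (K : Subgroup (centralizer (CS u kU1 : Set Y))),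
      TData P ((CS u kU1).subgroupOf _) ((CS u kE1).subgroupOf _) ((CS u kR).subgroupOf _)
        ((normalizer (CS u kQ : Set Y)).subgroupOf _) K := by
  have h2 : Fact (Nat.Prime 2) := ⟨Nat.prime_two⟩
  have hex := exists_sylow h zc
  set H := centralizer (CS u kU1 : Set Y) with hH
  obtain ⟨P, hP⟩ := hex
  have hUE : CS u kU1 ≤ CS u kE1 := CS_mono (mono_of10 (by norm_num) (by decide))
  have hER : CS u kE1 ≤ CS u kR := CS_mono (mono_of10 (by norm_num) (by decide))
  have hRS : CS u kR ≤ CS u kS1 := CS_mono (mono_of10 (by norm_num) (by decide))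
  have hSH : CS u kS1 ≤ H := S1_le h
  have hEQ : CS u kE1 ≤ CS u kQ := CS_mono (mono_of10 (by norm_num) (by decide))
  have memU : ∀ {g : Y}, g ∈ CS u kU1 ↔ ∃ a, a < 1024 ∧ SubK a kU1 ∧ u a = g :=
    h.mem_CS (by decide)
  have memE : ∀ {g : Y}, g ∈ CS u kE1 ↔ ∃ a, a < 1024 ∧ SubK a kE1 ∧ u a = g :=
    h.mem_CS (by decide)
  have memR : ∀ {g : Y}, g ∈ CS u kR ↔ ∃ a, a < 1024 ∧ SubK a kR ∧ u a = g :=
    h.mem_CS (by decide)
  have memS : ∀ {g : Y}, g ∈ CS u kS1 ↔ ∃ a, a < 1024 ∧ SubK a kS1 ∧ u a = g :=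
    h.mem_CS (by decide)
  have hodd := oddClosed_Q h zc
  refine ⟨P, (oddPart (centralizer (CS u kQ : Set Y)) hodd).subgroupOf H, ?_⟩
  refine
    { FE := fun x hx => hUE hx
      ER := fun x hx => hER hx
      RP := by rw [hP]; exact fun x hx => hRS hx
      PN := by
        rw [hP]
        exact fun x hx => Q_normal h (h.CS_le kS1 hx)
      Fc := ?_
      E2 := ?_
      EN := ?_
      mem_R := ?_
      R_comm := ?_
      R_sq := ?_
      E_cent := ?_
      E_rel := ?_
      R_rel := ?_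
      P_rel := ?_
      ctrl := ctrl_centralizer hc
        ((hUE.trans hEQ).trans le_normalizer)
        (S.isPGroup'.to_le (h.CS_le kU1))
      KN := ?_
      Kodd := ?_
      Kn := ?_
      mem_K := ?_
      z := ?_
      v := ?_ }
  · intro f hf g
    exact Subtype.ext (mem_centralizer_iff.1 g.2 _ hf)
  · rintro e he
    obtain ⟨a, ha, ha', hae⟩ := memE.1 (mem_subgroupOf.1 he)
    apply Subtype.ext
    show (e : Y) * e = 1
    rw [← hae]
    exact E_sq h ha ha'
  · intro n hn e he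
    exact (mem_normalizer_iff.1 (nE1 (mem_subgroupOf.1 hn)) _).1 he
  · intro r hr hre
    change r ∈ (P : Subgroup H) at hr
    rw [hP] at hr
    obtain ⟨a, ha, ha', hae⟩ := memS.1 (mem_subgroupOf.1 hr)
    have h3 := hre ⟨u x45, hSH (u_mem u (by norm_num) (by decide))⟩
      (mem_subgroupOf.2 (u_mem u (by norm_num) (by decide)))
    have h4 : u a * u x45 * (u a)⁻¹ * (u x45)⁻¹ ∈ CS u kU1 := by
      rw [hae]; exact h3
    exact mem_subgroupOf.2 (memR.2 ⟨a, ha, mem_R h ha ha' h4, hae⟩)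
  · intro r hr s hs
    obtain ⟨a, ha, ha', hae⟩ := memR.1 (mem_subgroupOf.1 hr)
    obtain ⟨b, hb, hb', hbe⟩ := memR.1 (mem_subgroupOf.1 hs)
    rw [mem_subgroupOf]
    show (r : Y) * s * (r : Y)⁻¹ * (s : Y)⁻¹ ∈ CS u kU1
    rw [← hae, ← hbe]
    exact TypeACodes.R_comm h ha hb ha' hb'
  · intro r hr
    obtain ⟨a, ha, ha', hae⟩ := memR.1 (mem_subgroupOf.1 hr)
    rw [mem_subgroupOf]
    show (r : Y) * r ∈ CS u kU1
    rw [← hae]
    exact TypeACodes.R_sq h ha ha'
  · intro r hr hre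
    obtain ⟨a, ha, ha', hae⟩ := memR.1 (mem_subgroupOf.1 hr)
    have h3 := congrArg Subtype.val (hre ⟨u x45, hSH (u_mem u (by norm_num) (by decide))⟩
      (mem_subgroupOf.2 (u_mem u (by norm_num) (by decide))))
    have h4 := congrArg Subtype.val (hre ⟨u x35, hSH (u_mem u (by norm_num) (by decide))⟩
      (mem_subgroupOf.2 (u_mem u (by norm_num) (by decide))))
    change (r : Y) * u x45 = u x45 * r at h3
    change (r : Y) * u x35 = u x35 * r at h4
    rw [← hae] at h3 h4
    exact mem_subgroupOf.2 (memE.2 ⟨a, ha, TypeACodes.E_cent h ha ha' h3 h4, hae⟩)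
  · rw [relIndex_subgroupOf (hER.trans (hRS.trans hSH))]
    have h3 := relIndex_CS h (K := kU1) (L := kE1) (by decide) (by decide)
      (mono_of10 (by norm_num) (by decide))
    rw [card_U1 h, card_E1 h] at h3
    omega
  · rw [relIndex_subgroupOf (hRS.trans hSH)]
    have h3 := relIndex_CS h (K := kU1) (L := kR) (by decide) (by decide)
      (mono_of10 (by norm_num) (by decide))
    rw [card_U1 h, card_R h] at h3
    omega
  · rw [hP, relIndex_subgroupOf hSH]
    have h3 := relIndex_CS h (K := kR) (L := kS1) (by decide) (by decide)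
      (mono_of10 (by norm_num) (by decide))
    rw [card_R h, card_S1 h] at h3
    omega
  · intro x hx
    exact centralizer_le_normalizer _ ((mem_subgroupOf.1 hx).1)
  · apply odd_card_of_forall
    intro x hx
    rw [← Subgroup.orderOf_coe]
    exact (mem_subgroupOf.1 hx).2
  · intro n hn x hx
    rw [mem_subgroupOf] at hx hn ⊢
    refine conj_mem_oddPart (n := (n : Y)) ?_ hx
    intro c hc
    rw [mem_centralizer_iff] at hc ⊢
    intro v hv
    have h3 : (n : Y)⁻¹ * v * n ∈ CS u kQ := by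
      have := (mem_normalizer_iff.1 (inv_mem hn) v).1 hv
      rwa [inv_inv] at this
    have h4 := hc _ h3
    calc v * (n * c * (n : Y)⁻¹) = n * (((n : Y)⁻¹ * v * n) * c) * (n : Y)⁻¹ := by group
      _ = n * (c * ((n : Y)⁻¹ * v * n)) * (n : Y)⁻¹ := by rw [h4]
      _ = n * c * (n : Y)⁻¹ * v := by group
  · intro x hx hxo hxE
    rw [mem_subgroupOf]
    rw [← Subgroup.orderOf_coe] at hxo
    refine ⟨?_, hxo⟩
    have hxE' : ∀ e ∈ CS u kE1, (x : Y) * e = e * x := by
      intro e he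
      exact congrArg Subtype.val (hxE ⟨e, hSH (hRS (hER he))⟩ (mem_subgroupOf.2 he))
    have hxN : (x : Y) ∈ normalizer (CS u kQ : Set Y) := mem_subgroupOf.1 hx
    rw [mem_centralizer_iff]
    intro q hq
    have hqN : q ∈ normalizer (CS u kE1 : Set Y) := nE1 (le_normalizer hq)
    set q' : Y := x * q * (x : Y)⁻¹ with hq'
    have hq'Q : q' ∈ CS u kQ := (mem_normalizer_iff.1 hxN q).1 hq
    have h3 : ∀ e ∈ CS u kE1, q' * e * q'⁻¹ = q * e * q⁻¹ := by
      intro e he
      have h4 : q * e * q⁻¹ ∈ CS u kE1 := (mem_normalizer_iff.1 hqN e).1 he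
      have h5 := hxE' _ h4
      have h6 : (x : Y)⁻¹ * e = e * (x : Y)⁻¹ := by
        rw [inv_mul_eq_iff_eq_mul, ← mul_assoc, hxE' e he, mul_inv_cancel_right]
      calc q' * e * q'⁻¹ = x * q * ((x : Y)⁻¹ * e) * x * q⁻¹ * (x : Y)⁻¹ := by rw [hq']; group
        _ = x * (q * e * q⁻¹) * (x : Y)⁻¹ := by rw [h6]; group
        _ = q * e * q⁻¹ := by rw [h5]; group
    have h4 : ∀ e ∈ CS u kE1, (q' * q⁻¹) * e = e * (q' * q⁻¹) := by
      intro e he
      have h5 : q⁻¹ * e * q ∈ CS u kE1 := by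
        have := (mem_normalizer_iff.1 (inv_mem hqN) e).1 he
        rwa [inv_inv] at this
      have h6 := h3 _ h5
      calc (q' * q⁻¹) * e = (q' * (q⁻¹ * e * q) * q'⁻¹) * (q' * q⁻¹) := by group
        _ = (q * (q⁻¹ * e * q) * q⁻¹) * (q' * q⁻¹) := by rw [h6]
        _ = e * (q' * q⁻¹) := by group
    have h5 : q' * q⁻¹ ∈ CS u kE1 := by
      have h6 : q' * q⁻¹ ∈ CS u kQ := mul_mem hq'Q (inv_mem hq)
      obtain ⟨a, ha, haQ, hae⟩ := (h.mem_CS (by decide)).1 h6
      rw [← hae] at h4 ⊢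
      refine memE.2 ⟨a, ha, cent_E1_Q h ha haQ (h4 _ (u_mem u (by norm_num) (by decide)))
        (h4 _ (u_mem u (by norm_num) (by decide))) (h4 _ (u_mem u (by norm_num) (by decide))), rfl⟩
    have h6 : (q' * q⁻¹) * (q' * q⁻¹) = 1 := by
      obtain ⟨a, ha, haE, hae⟩ := memE.1 h5
      rw [← hae]
      exact E_sq h ha haE
    exact (comm_of_conj hxo h6 (hxE' _ h5) (by rw [hq']; group)).symm
  · refine ⟨⟨u x35, hSH (u_mem u (by norm_num) (by decide))⟩,
      mem_subgroupOf.2 (u_mem u (by norm_num) (by decide)), ?_, ?_⟩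
    · intro h3
      obtain ⟨c, hc, hcU, hce⟩ := memU.1 (mem_subgroupOf.1 h3)
      have h4 := h.inj hc (by norm_num) hce
      rw [h4] at hcU
      have := hcU 6 (by decide)
      exact absurd this (by decide)
    · intro s hs
      change s ∈ (P : Subgroup H) at hs
      rw [hP] at hs
      obtain ⟨a, ha, ha', hae⟩ := memS.1 (mem_subgroupOf.1 hs)
      rw [mem_subgroupOf]
      show (s : Y) * u x35 * (s : Y)⁻¹ * (u x35)⁻¹ ∈ CS u kU1
      rw [← hae]
      exact z_comm h ha ha'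
  · refine ⟨⟨u x14, hSH (u_mem u (by norm_num) (by decide))⟩,
      mem_subgroupOf.2 (u_mem u (by norm_num) (by decide)), ?_⟩
    intro h3
    obtain ⟨c, hc, hcU, hce⟩ := memE.1 (mem_subgroupOf.1 h3)
    have h4 := h.inj hc (by norm_num) hce
    rw [h4] at hcU
    have := hcU 7 (by decide)
    exact absurd this (by decide)

/-- **B3** for `x25`. -/
theorem main (h : Emb (S : Subgroup Y) u) (zc : ∀ g : Y, g * u x15 = u x15 * g)
    (nE1 : normalizer (CS u kQ : Set Y) ≤ normalizer (CS u kE1 : Set Y))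
    (hc : Data.Ctrl (normalizer (CS u kQ : Set Y))) :
    Data.Solved ((normalizer (CS u kQ : Set Y)).subgroupOf (centralizer (CS u kU1 : Set Y))) ∧
      Group.IsSolvable ↥(centralizer (CS u kU1 : Set Y)) := by
  obtain ⟨P, K, hT⟩ := tdata h zc nE1 hc
  exact hT.main

end Cfsg.Agent.SylowL5.TypeA
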