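import Cfsg.Agent.SylowL5.Data

/-!
# Piece B3 of S0512: facts about codes
-/

set_option autoImplicit false

namespace Cfsg.Agent.SylowL5.TypeACodes

open Subgroup Cfsg.Agent.SylowL5.Setup

theorem ext10 {a b : ℕ} (ha : a < 1024) (hb : b < 1024)
    (h : ∀ j, j < 10 → a.testBit j = b.testBit j) : a = b := by
  apply Nat.eq_of_testBit_eq
  intro j
  by_cases hj : j < 10
  · exact h j hj
  · push Not at hj
    have h1 : (2 : ℕ) ^ 10 ≤ 2 ^ j := Nat.pow_le_pow_right (by norm_num) hj
    rw [Nat.testBit_lt_two_pow (lt_of_lt_of_le (by norm_num; exact ha) h1),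
      Nat.testBit_lt_two_pow (lt_of_lt_of_le (by norm_num; exact hb) h1)]

theorem subK_of10 {a K : ℕ} (ha : a < 1024)
    (h : ∀ j, j < 10 → a.testBit j = true → K.testBit j = true) : SubK a K := by
  intro j hj
  by_cases hj' : j < 10
  · exact h j hj' hj
  · push Not at hj'
    have h1 : (2 : ℕ) ^ 10 ≤ 2 ^ j := Nat.pow_le_pow_right (by norm_num) hj'
    rw [Nat.testBit_lt_two_pow (lt_of_lt_of_le (by norm_num; exact ha) h1)] at hj
    exact absurd hj (by decide)

theorem subK_of_bits {a K : ℕ} (ha : a < 1024)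
    (h : ∀ j, j < 10 → K.testBit j = false → a.testBit j = false) : SubK a K := by
  apply subK_of10 ha
  intro j hj hj2
  cases h1 : K.testBit j
  · rw [h j hj h1] at hj2; exact absurd hj2 (by decide)
  · rfl

theorem bx1 (a b : Bool) : ((a ^^ b) = a) = (b = false) := by revert a b; decide
theorem bx2 (a b : Bool) : (a = (a ^^ b)) = (b = false) := by revert a b; decide

theorem tb (i j : ℕ) : Nat.testBit (2 ^ i) j = decide (i = j) := Nat.testBit_two_pow
theorem tb1 (j : ℕ) : Nat.testBit 1 j = decide (0 = j) := tb 0 j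
theorem tb2 (j : ℕ) : Nat.testBit 2 j = decide (1 = j) := tb 1 j
theorem tb4 (j : ℕ) : Nat.testBit 4 j = decide (2 = j) := tb 2 j
theorem tb8 (j : ℕ) : Nat.testBit 8 j = decide (3 = j) := tb 3 j
theorem tb16 (j : ℕ) : Nat.testBit 16 j = decide (4 = j) := tb 4 j
theorem tb32 (j : ℕ) : Nat.testBit 32 j = decide (5 = j) := tb 5 j
theorem tb64 (j : ℕ) : Nat.testBit 64 j = decide (6 = j) := tb 6 j
theorem tb128 (j : ℕ) : Nat.testBit 128 j = decide (7 = j) := tb 7 j
theorem tb256 (j : ℕ) : Nat.testBit 256 j = decide (8 = j) := tb 8 j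
theorem tb512 (j : ℕ) : Nat.testBit 512 j = decide (9 = j) := tb 9 j

theorem not_of_subK {a K j : ℕ} (h : SubK a K) (hj : K.testBit j = false) :
    a.testBit j = false := by
  cases h1 : a.testBit j
  · rfl
  · rw [h j h1] at hj; exact absurd hj (by decide)

variable {G : Type*} [Group G] {S : Subgroup G} {u : ℕ → G}

theorem comm_iff (h : Emb S u) {a b : ℕ} (ha : a < 1024) (hb : b < 1024) :
    u a * u b = u b * u a ↔ mu a b = mu b a := by
  rw [← h.mul ha hb, ← h.mul hb ha]
  exact ⟨fun h1 => h.inj (mu_lt ha hb) (mu_lt hb ha) h1, fun h1 => by rw [h1]⟩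

theorem mu_U1 {c x : ℕ} (hc : SubK c kU1) (j : ℕ) :
    (mu c x).testBit j = (c.testBit j ^^ x.testBit j) := by
  rw [testBit_mu, not_of_subK hc (j := 0) (by decide), not_of_subK hc (j := 1) (by decide),
    not_of_subK hc (j := 2) (by decide), not_of_subK hc (j := 4) (by decide),
    not_of_subK hc (j := 5) (by decide), not_of_subK hc (j := 7) (by decide)]
  simp

theorem comm_mem (h : Emb S u) {a b : ℕ} (ha : a < 1024) (hb : b < 1024)
    (hab : ∀ j, j < 8 → (mu a b).testBit j = (mu b a).testBit j) :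
    u a * u b * (u a)⁻¹ * (u b)⁻¹ ∈ CS u kU1 := by
  set c := Nat.xor (mu a b) (mu b a) with hc
  have hx : ∀ j, c.testBit j = ((mu a b).testBit j ^^ (mu b a).testBit j) := fun j =>
    Nat.testBit_xor _ _ j
  have hclt : c < 1024 := Nat.xor_lt_two_pow (n := 10) (mu_lt ha hb) (mu_lt hb ha)
  have hcK : SubK c kU1 := by
    apply subK_of10 hclt
    intro j hj hj2
    by_cases hj3 : j < 8
    · rw [hx, hab j hj3, Bool.xor_self] at hj2
      exact absurd hj2 (by decide)
    · have : j = 8 ∨ j = 9 := by omega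
      rcases this with rfl | rfl <;> decide
  have h1 : mu c (mu b a) = mu a b := by
    apply ext10 (mu_lt hclt (mu_lt hb ha)) (mu_lt ha hb)
    intro j _
    rw [mu_U1 hcK, hx, Bool.xor_assoc, Bool.xor_self, Bool.xor_false]
  have h2 : u a * u b * (u a)⁻¹ * (u b)⁻¹ = u c := by
    have h3 : u a * u b = u c * (u b * u a) := by
      rw [← h.mul ha hb, ← h.mul hb ha, ← h.mul hclt (mu_lt hb ha), h1]
    rw [h3]; group
  rw [h2, h.mem_CS (by decide)]
  exact ⟨c, hclt, hcK, rfl⟩

theorem bits_of_comm_mem (h : Emb S u) {a b : ℕ} (ha : a < 1024) (hb : b < 1024)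
    (hF : u a * u b * (u a)⁻¹ * (u b)⁻¹ ∈ CS u kU1) :
    ∀ j, j < 8 → (mu a b).testBit j = (mu b a).testBit j := by
  obtain ⟨c, hclt, hcK, hc⟩ := (h.mem_CS (by decide)).1 hF
  have h3 : u a * u b = u c * (u b * u a) := by
    rw [hc]; group
  rw [← h.mul ha hb, ← h.mul hb ha, ← h.mul hclt (mu_lt hb ha)] at h3
  have h4 := h.inj (mu_lt ha hb) (mu_lt hclt (mu_lt hb ha)) h3
  intro j hj
  rw [h4, mu_U1 hcK]
  have h5 : c.testBit j = false := by
    apply not_of_subK hcK
    interval_cases j <;> decide
  rw [h5, Bool.false_xor]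

/-- masks -/
abbrev kR : ℕ := 1018

/-- `|CS u K|` -/
theorem card_CS (h : Emb S u) {K : ℕ} (hK : closedK K = true) :
    Nat.card (CS u K) = ((Finset.range 1024).filter (fun a => Nat.land a K = a)).card := by
  symm
  rw [← Nat.card_eq_finsetCard]
  refine Nat.card_congr (Equiv.ofBijective (fun a => ⟨u a.1, ?_⟩) ⟨?_, ?_⟩)
  · have ha := a.2
    rw [Finset.mem_filter, Finset.mem_range] at ha
    exact (h.mem_CS hK).2 ⟨a.1, ha.1, (subK_iff _ _).2 ha.2, rfl⟩
  · intro a b hab
    have ha := a.2
    have hb := b.2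
    rw [Finset.mem_filter, Finset.mem_range] at ha hb
    exact Subtype.ext (h.inj ha.1 hb.1 (congrArg Subtype.val hab))
  · rintro ⟨g, hg⟩
    obtain ⟨a, ha, ha', rfl⟩ := (h.mem_CS hK).1 hg
    exact ⟨⟨a, by rw [Finset.mem_filter, Finset.mem_range]; exact ⟨ha, (subK_iff _ _).1 ha'⟩⟩, rfl⟩

theorem card_S1 (h : Emb S u) : Nat.card (CS u kS1) = 512 := by
  rw [card_CS h (by decide)]; decide +kernel

theorem card_R (h : Emb S u) : Nat.card (CS u kR) = 256 := by
  rw [card_CS h (by decide)]; decide +kernel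

theorem card_E1 (h : Emb S u) : Nat.card (CS u kE1) = 16 := by
  rw [card_CS h (by decide)]; decide +kernel

theorem card_U1 (h : Emb S u) : Nat.card (CS u kU1) = 4 := by
  rw [card_CS h (by decide)]; decide +kernel

theorem CS_mono {K L : ℕ} (hKL : ∀ j, K.testBit j = true → L.testBit j = true) :
    CS u K ≤ CS u L := by
  unfold CS
  apply Subgroup.closure_mono
  rintro g ⟨a, ha, ha', rfl⟩
  exact ⟨a, ha, fun j hj => hKL j (ha' j hj), rfl⟩

theorem mono_of10 {K L : ℕ} (hK : K < 1024)
    (h : allb 10 (fun j => !K.testBit j || L.testBit j) = true) :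
    ∀ j, K.testBit j = true → L.testBit j = true := by
  refine subK_of10 hK ?_
  intro j hj hj2
  have h1 := of_allb h j hj
  rw [hj2] at h1
  simpa using h1

theorem relIndex_CS (h : Emb S u) {K L : ℕ} (hK : closedK K = true) (hL : closedK L = true)
    (hKL : ∀ j, K.testBit j = true → L.testBit j = true) :
    Nat.card (CS u K) * (CS u K).relIndex (CS u L) = Nat.card (CS u L) := by
  have h6 := Subgroup.relIndex_mul_relIndex ⊥ (CS u K) (CS u L) bot_le (CS_mono hKL)
  rw [Subgroup.relIndex_bot_left, Subgroup.relIndex_bot_left] at h6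
  exact h6

/-! ### facts on `R`, `E1`, `F` -/

theorem R_comm (h : Emb S u) {a b : ℕ} (ha : a < 1024) (hb : b < 1024) (haR : SubK a kR)
    (hbR : SubK b kR) : u a * u b * (u a)⁻¹ * (u b)⁻¹ ∈ CS u kU1 := by
  have a0 := not_of_subK haR (j := 0) (by decide)
  have a2 := not_of_subK haR (j := 2) (by decide)
  have b0 := not_of_subK hbR (j := 0) (by decide)
  have b2 := not_of_subK hbR (j := 2) (by decide)
  apply comm_mem h ha hb
  intro j hj
  rw [testBit_mu, testBit_mu, a0, a2, b0, b2]
  interval_cases j <;> simp [-Nat.testBit_zero, Bool.xor_comm]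

theorem R_sq (h : Emb S u) {a : ℕ} (ha : a < 1024) (haR : SubK a kR) : u a * u a ∈ CS u kU1 := by
  have a0 := not_of_subK haR (j := 0) (by decide)
  have a2 := not_of_subK haR (j := 2) (by decide)
  rw [← h.mul ha ha, h.mem_CS (by decide)]
  refine ⟨mu a a, mu_lt ha ha, subK_of10 (mu_lt ha ha) ?_, rfl⟩
  intro j hj
  rw [testBit_mu, a0, a2]
  interval_cases j <;> first | (intro _; decide) | simp

theorem mem_R (h : Emb S u) {a : ℕ} (ha : a < 1024) (haS : SubK a kS1)
    (hc : u a * u x45 * (u a)⁻¹ * (u x45)⁻¹ ∈ CS u kU1) : SubK a kR := by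
  have a0 := not_of_subK haS (j := 0) (by decide)
  have h1 := bits_of_comm_mem h ha (b := x45) (by norm_num) hc 6 (by norm_num)
  rw [testBit_mu, testBit_mu] at h1
  have a2 : a.testBit 2 = false := by
    simpa (config := {decide := true}) [-Nat.testBit_zero, tb1, tb8, tb16, tb64, tb128, tb256, bx1, bx2] using h1
  apply subK_of_bits ha
  intro j hj
  interval_cases j <;> first | (intro _; assumption) | (intro h'; exact absurd h' (by decide))

theorem E_cent (h : Emb S u) {a : ℕ} (ha : a < 1024) (haR : SubK a kR)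
    (h1 : u a * u x45 = u x45 * u a) (h2 : u a * u x35 = u x35 * u a) : SubK a kE1 := by
  have a0 := not_of_subK haR (j := 0) (by decide)
  have a2 := not_of_subK haR (j := 2) (by decide)
  rw [comm_iff h ha (by norm_num)] at h1 h2
  have e1 := congrArg (fun x => x.testBit 8) h1
  have e2 := congrArg (fun x => x.testBit 9) h1
  have e3 := congrArg (fun x => x.testBit 8) h2
  have e4 := congrArg (fun x => x.testBit 9) h2
  simp only [testBit_mu] at e1 e2 e3 e4
  have a5 : a.testBit 5 = false := by simpa (config := {decide := true}) [-Nat.testBit_zero, tb1, tb8, tb16, tb64, tb128, tb256, bx1, bx2] using e1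
  have a7 : a.testBit 7 = false := by simpa (config := {decide := true}) [-Nat.testBit_zero, tb1, tb8, tb16, tb64, tb128, tb256, bx1, bx2] using e2
  have a1 : a.testBit 1 = false := by simpa (config := {decide := true}) [-Nat.testBit_zero, tb1, tb8, tb16, tb64, tb128, tb256, bx1, bx2] using e3
  have a4 : a.testBit 4 = false := by simpa (config := {decide := true}) [-Nat.testBit_zero, tb1, tb8, tb16, tb64, tb128, tb256, bx1, bx2] using e4
  apply subK_of_bits ha
  intro j hj
  interval_cases j <;> first | (intro _; assumption) | (intro h'; exact absurd h' (by decide))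

theorem z_comm (h : Emb S u) {a : ℕ} (ha : a < 1024) (haS : SubK a kS1) :
    u a * u x35 * (u a)⁻¹ * (u x35)⁻¹ ∈ CS u kU1 := by
  have a0 := not_of_subK haS (j := 0) (by decide)
  apply comm_mem h ha (by norm_num)
  intro j hj
  rw [testBit_mu, testBit_mu, a0]
  interval_cases j <;> simp (config := {decide := true}) [-Nat.testBit_zero, tb1, tb8, tb16, tb64, tb128, tb256]

theorem E_sq (h : Emb S u) {a : ℕ} (ha : a < 1024) (haE : SubK a kE1) : u a * u a = 1 := by
  have a0 := not_of_subK haE (j := 0) (by decide)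
  have a1 := not_of_subK haE (j := 1) (by decide)
  have a2 := not_of_subK haE (j := 2) (by decide)
  have a4 := not_of_subK haE (j := 4) (by decide)
  have a5 := not_of_subK haE (j := 5) (by decide)
  have a7 := not_of_subK haE (j := 7) (by decide)
  rw [← h.mul ha ha, ← h.zero]
  congr 1
  apply ext10 (mu_lt ha ha) (by norm_num)
  intro j hj
  rw [testBit_mu, a0, a1, a2, a4, a5, a7, Nat.zero_testBit]
  simp

/-- the centralizer of `x25` -/
theorem S1_comm (h : Emb S u) {a : ℕ} (ha : a < 1024) :
    u a * u x25 = u x25 * u a ↔ SubK a kS1 := by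
  rw [comm_iff h ha (by norm_num)]
  constructor
  · intro h1
    have e1 := congrArg (fun x => x.testBit 9) h1
    simp only [testBit_mu] at e1
    have a0 : a.testBit 0 = false := by simpa (config := {decide := true}) [-Nat.testBit_zero, tb1, tb8, tb16, tb64, tb128, tb256, bx1, bx2] using e1
    apply subK_of_bits ha
    intro j hj
    interval_cases j <;> first | (intro _; assumption) | (intro h'; exact absurd h' (by decide))
  · intro h1
    have a0 := not_of_subK h1 (j := 0) (by decide)
    apply ext10 (mu_lt ha (by norm_num)) (mu_lt (by norm_num) ha)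
    intro j hj
    rw [testBit_mu, testBit_mu, a0]
    interval_cases j <;> simp (config := {decide := true}) [-Nat.testBit_zero, tb1, tb8, tb16, tb64, tb128, tb256]

/-- the centre of `S` -/
theorem center_S (h : Emb S u) {a : ℕ} (ha : a < 1024)
    (h1 : u a * u x12 = u x12 * u a) (h2 : u a * u x23 = u x23 * u a)
    (h3 : u a * u x34 = u x34 * u a) (h4 : u a * u x45 = u x45 * u a) : a = 0 ∨ a = 512 := by
  rw [comm_iff h ha (by norm_num)] at h1 h2 h3 h4
  have key : allb 1024 (fun a => !(Nat.beq (mu a 1) (mu 1 a)) || (!(Nat.beq (mu a 2) (mu 2 a)) ||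
    (!(Nat.beq (mu a 4) (mu 4 a)) || (!(Nat.beq (mu a 8) (mu 8 a)) ||
      (Nat.beq a 0 || Nat.beq a 512))))) = true := by decide +kernel
  have h5 := of_allb key a ha
  have e1 : Nat.beq (mu a 1) (mu 1 a) = true := by rw [Nat.beq_eq]; exact h1
  have e2 : Nat.beq (mu a 2) (mu 2 a) = true := by rw [Nat.beq_eq]; exact h2
  have e3 : Nat.beq (mu a 4) (mu 4 a) = true := by rw [Nat.beq_eq]; exact h3
  have e4 : Nat.beq (mu a 8) (mu 8 a) = true := by rw [Nat.beq_eq]; exact h4
  rw [e1, e2, e3, e4] at h5
  simp only [Bool.not_true, Bool.false_or, Bool.or_eq_true] at h5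
  rcases h5 with h5 | h5
  · left; exact Nat.eq_of_beq_eq_true h5
  · right; exact Nat.eq_of_beq_eq_true h5

/-- the centralizer of `Q` -/
theorem cent_Q (h : Emb S u) {a : ℕ} (ha : a < 1024)
    (hc : ∀ q ∈ CS u kQ, u a * q = q * u a) : a = 0 ∨ a = 512 := by
  have hm : ∀ b, b < 1024 → SubK b kQ → mu a b = mu b a := by
    intro b hb hbQ
    rw [← comm_iff h ha hb]
    exact hc _ ((h.mem_CS (by decide)).2 ⟨b, hb, hbQ, rfl⟩)
  have h1 := hm 1 (by norm_num) (by rw [subK_iff]; decide)
  have h2 := hm 16 (by norm_num) (by rw [subK_iff]; decide)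
  have h3 := hm 8 (by norm_num) (by rw [subK_iff]; decide)
  have h4 := hm 64 (by norm_num) (by rw [subK_iff]; decide)
  have h5 := hm 128 (by norm_num) (by rw [subK_iff]; decide)
  have h6 := hm 256 (by norm_num) (by rw [subK_iff]; decide)
  have e1 := congrArg (fun x => x.testBit 4) h1
  have e2 := congrArg (fun x => x.testBit 7) h1
  have e3 := congrArg (fun x => x.testBit 9) h1
  have e4 := congrArg (fun x => x.testBit 7) h2
  have e5 := congrArg (fun x => x.testBit 9) h2
  have e6 := congrArg (fun x => x.testBit 9) h3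
  have e7 := congrArg (fun x => x.testBit 9) h4
  have e8 := congrArg (fun x => x.testBit 9) h5
  have e9 := congrArg (fun x => x.testBit 9) h6
  simp only [testBit_mu] at e1 e2 e3 e4 e5 e6 e7 e8 e9
  have a1 : a.testBit 1 = false := by simpa (config := {decide := true}) [-Nat.testBit_zero, tb1, tb8, tb16, tb64, tb128, tb256, bx1, bx2] using e1
  have a5 : a.testBit 5 = false := by simpa (config := {decide := true}) [-Nat.testBit_zero, tb1, tb8, tb16, tb64, tb128, tb256, bx1, bx2] using e2
  have a8 : a.testBit 8 = false := by simpa (config := {decide := true}) [-Nat.testBit_zero, tb1, tb8, tb16, tb64, tb128, tb256, bx1, bx2] using e3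
  have a2 : a.testBit 2 = false := by simpa (config := {decide := true}) [-Nat.testBit_zero, tb1, tb8, tb16, tb64, tb128, tb256, bx1, bx2] using e4
  have a6 : a.testBit 6 = false := by simpa (config := {decide := true}) [-Nat.testBit_zero, tb1, tb8, tb16, tb64, tb128, tb256, bx1, bx2] using e5
  have a7 : a.testBit 7 = false := by simpa (config := {decide := true}) [-Nat.testBit_zero, tb1, tb8, tb16, tb64, tb128, tb256, bx1, bx2] using e6
  have a4 : a.testBit 4 = false := by simpa (config := {decide := true}) [-Nat.testBit_zero, tb1, tb8, tb16, tb64, tb128, tb256, bx1, bx2] using e7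
  have a3 : a.testBit 3 = false := by simpa (config := {decide := true}) [-Nat.testBit_zero, tb1, tb8, tb16, tb64, tb128, tb256, bx1, bx2] using e8
  have a0 : a.testBit 0 = false := by simpa (config := {decide := true}) [-Nat.testBit_zero, tb1, tb8, tb16, tb64, tb128, tb256, bx1, bx2] using e9
  cases a9 : a.testBit 9
  · left
    apply ext10 ha (by norm_num)
    intro j hj
    rw [Nat.zero_testBit]
    interval_cases j <;> assumption
  · right
    apply ext10 ha (by norm_num)
    intro j hj
    rw [tb512]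
    interval_cases j <;> assumption

/-- `C_Q(E1) = E1` -/
theorem cent_E1_Q (h : Emb S u) {a : ℕ} (ha : a < 1024) (haQ : SubK a kQ)
    (h1 : u a * u x45 = u x45 * u a) (h2 : u a * u x35 = u x35 * u a)
    (h3 : u a * u x25 = u x25 * u a) : SubK a kE1 := by
  refine E_cent h ha ?_ h1 h2
  have a0 := not_of_subK ((S1_comm h ha).1 h3) (j := 0) (by decide)
  have a2 := not_of_subK haQ (j := 2) (by decide)
  apply subK_of_bits ha
  intro j hj
  interval_cases j <;> first | (intro _; assumption) | (intro h'; exact absurd h' (by decide))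

end Cfsg.Agent.SylowL5.TypeACodes
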