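import Cfsg.Agent.SylowL5.TypeA

/-!
# The duality of the codes (S0512)

`pm` reverses the Dynkin diagram; `Emb.dual` and `VData.dual` are the data with `E1`, `E2`
(and `A1`, `A2`) exchanged.
-/

set_option autoImplicit false

namespace Cfsg.Agent.SylowL5.TypeADual

open Cfsg Subgroup
open Cfsg.Agent.SylowL5.Setup Cfsg.Agent.SylowL5.TypeACodes

/-- the reversal of the codes: `12 ↔ 45`, `23 ↔ 34`, `13 ↔ 35`, `14 ↔ 25` -/
def pm (a : ℕ) : ℕ :=
  Nat.xor (Nat.shiftLeft (bt a 3) 0) (Nat.xor (Nat.shiftLeft (bt a 2) 1)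
    (Nat.xor (Nat.shiftLeft (bt a 1) 2) (Nat.xor (Nat.shiftLeft (bt a 0) 3)
      (Nat.xor (Nat.shiftLeft (bt a 6) 4) (Nat.xor (Nat.shiftLeft (bt a 5) 5)
        (Nat.xor (Nat.shiftLeft (bt a 4) 6) (Nat.xor (Nat.shiftLeft (bt a 8) 7)
          (Nat.xor (Nat.shiftLeft (bt a 7) 8) (Nat.shiftLeft (bt a 9) 9)))))))))

theorem testBit_pm (a j : ℕ) : (pm a).testBit j =
    ((decide (j = 0) && a.testBit 3) ^^ ((decide (j = 1) && a.testBit 2) ^^
      ((decide (j = 2) && a.testBit 1) ^^ ((decide (j = 3) && a.testBit 0) ^^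
        ((decide (j = 4) && a.testBit 6) ^^ ((decide (j = 5) && a.testBit 5) ^^
          ((decide (j = 6) && a.testBit 4) ^^ ((decide (j = 7) && a.testBit 8) ^^
            ((decide (j = 8) && a.testBit 7) ^^ (decide (j = 9) && a.testBit 9)))))))))) := by
  have hx : ∀ p q : ℕ, (Nat.xor p q).testBit j = (p.testBit j ^^ q.testBit j) := fun p q =>
    Nat.testBit_xor p q j
  unfold pm
  simp only [hx, testBit_shl]

theorem pm_lt (a : ℕ) : pm a < 1024 := by
  apply Nat.lt_pow_two_of_testBit (n := 10)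
  intro j hj
  rw [testBit_pm]
  have h : ∀ k, k < 10 → decide (j = k) = false := by
    intro k hk
    simp only [decide_eq_false_iff_not]
    omega
  rw [h 0 (by norm_num), h 1 (by norm_num), h 2 (by norm_num), h 3 (by norm_num),
    h 4 (by norm_num), h 5 (by norm_num), h 6 (by norm_num), h 7 (by norm_num),
    h 8 (by norm_num), h 9 (by norm_num)]
  rfl

theorem pm_mu {a b : ℕ} : pm (mu a b) = mu (pm b) (pm a) := by
  apply ext10 (pm_lt _) (mu_lt (pm_lt _) (pm_lt _))
  intro j hj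
  simp only [testBit_mu, testBit_pm]
  interval_cases j <;> simp [-Nat.testBit_zero, Bool.xor_comm, Bool.and_comm, Bool.xor_left_comm]

theorem pm_pm {a : ℕ} (ha : a < 1024) : pm (pm a) = a := by
  apply ext10 (pm_lt _) ha
  intro j hj
  simp only [testBit_pm]
  interval_cases j <;> simp [-Nat.testBit_zero]

theorem pm_subK {a K : ℕ} (h : SubK a K) : SubK (pm a) (pm K) := by
  apply subK_of_bits (pm_lt _)
  intro j hj
  simp only [testBit_pm]
  have h0 := fun i => not_of_subK (j := i) h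
  interval_cases j <;> simp [-Nat.testBit_zero] <;> exact h0 _

section

variable {G : Type*} [Group G] {S : Subgroup G} {u : ℕ → G}

/-- the dual coordinates -/
def du (u : ℕ → G) (a : ℕ) : G := (u (pm a))⁻¹

theorem Emb.dual (h : Emb S u) : Emb S (du u) where
  mul := by
    intro a b ha hb
    show (u (pm (mu a b)))⁻¹ = (u (pm a))⁻¹ * (u (pm b))⁻¹
    rw [pm_mu, h.mul (pm_lt _) (pm_lt _), _root_.mul_inv_rev]
  inj := by
    intro a b ha hb hab
    have h1 : u (pm a) = u (pm b) := inv_injective hab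
    have h2 := h.inj (pm_lt _) (pm_lt _) h1
    rw [← pm_pm ha, ← pm_pm hb, h2]
  mem := fun _ => S.inv_mem (h.mem (pm_lt _))
  surj := by
    intro g hg
    obtain ⟨a, ha, hg'⟩ := h.surj g⁻¹ (S.inv_mem hg)
    refine ⟨pm a, pm_lt _, ?_⟩
    show (u (pm (pm a)))⁻¹ = g
    rw [pm_pm ha, hg', inv_inv]

theorem CS_dual (u : ℕ → G) {K L : ℕ} (hK : K < 1024) (hKL : pm K = L) :
    CS (du u) L = CS u K := by
  subst hKL
  apply le_antisymm
  · unfold CS
    rw [closure_le]
    rintro g ⟨a, ha, haK, rfl⟩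
    apply inv_mem
    apply Subgroup.subset_closure
    refine ⟨pm a, pm_lt _, ?_, rfl⟩
    have := pm_subK haK
    rwa [pm_pm hK] at this
  · unfold CS
    rw [closure_le]
    rintro g ⟨a, ha, haK, rfl⟩
    have h1 : u a = (du u (pm a))⁻¹ := by
      show u a = ((u (pm (pm a)))⁻¹)⁻¹
      rw [pm_pm ha, inv_inv]
    rw [h1]
    apply inv_mem
    apply Subgroup.subset_closure
    exact ⟨pm a, pm_lt _, pm_subK haK, rfl⟩

theorem CS_dual_Q (u : ℕ → G) : CS (du u) kQ = CS u kQ := CS_dual u (by norm_num) (by decide)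
theorem CS_dual_E1 (u : ℕ → G) : CS (du u) kE1 = CS u kE2 := CS_dual u (by norm_num) (by decide)
theorem CS_dual_E2 (u : ℕ → G) : CS (du u) kE2 = CS u kE1 := CS_dual u (by norm_num) (by decide)
theorem CS_dual_A1 (u : ℕ → G) : CS (du u) kA1 = CS u kA2 := CS_dual u (by norm_num) (by decide)
theorem CS_dual_A2 (u : ℕ → G) : CS (du u) kA2 = CS u kA1 := CS_dual u (by norm_num) (by decide)
theorem CS_dual_U1 (u : ℕ → G) : CS (du u) kU1 = CS u kU2 := CS_dual u (by norm_num) (by decide)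
theorem CS_dual_U2 (u : ℕ → G) : CS (du u) kU2 = CS u kU1 := CS_dual u (by norm_num) (by decide)

end

variable {Y : Type*} [Group Y] {S : Sylow 2 Y} {u : ℕ → Y}

theorem zc_dual (zc : ∀ g : Y, g * u x15 = u x15 * g) : ∀ g : Y, g * du u x15 = du u x15 * g := by
  intro g
  have e : du u x15 = (u x15)⁻¹ := by
    show (u (pm x15))⁻¹ = _
    rw [show pm x15 = x15 by decide]
  rw [e]
  have := zc g
  calc g * (u x15)⁻¹ = (u x15)⁻¹ * (u x15 * g) * (u x15)⁻¹ := by group
    _ = (u x15)⁻¹ * (g * u x15) * (u x15)⁻¹ := by rw [this]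
    _ = _ := by group

theorem VData.dual (h : Data.VData S u) : Data.VData S (du u) where
  emb := Emb.dual h.emb
  zc := zc_dual h.zc
  scQ := by rw [CS_dual_Q]; exact h.scQ
  nE1 := by rw [CS_dual_Q, CS_dual_E1]; exact h.nE2
  nE2 := by rw [CS_dual_Q, CS_dual_E2]; exact h.nE1
  k3 := by
    obtain ⟨k, hk, hko, hkA, a, ha, haU, he⟩ := h.k2
    refine ⟨k, by rw [CS_dual_Q]; exact hk, hko, by rw [CS_dual_A1]; exact hkA, pm a, pm_lt _, ?_, ?_⟩
    · have := pm_subK haU
      rwa [show pm kU2 = kU1 by decide] at this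
    · show k * (u (pm x35))⁻¹ * k⁻¹ = (u (pm (mu x45 (pm a))))⁻¹
      rw [pm_mu, pm_pm ha, show pm x35 = x13 by decide, show pm x45 = x12 by decide]
      have e1 : k * (u x13)⁻¹ * k⁻¹ = (k * u x13 * k⁻¹)⁻¹ := by group
      rw [e1, he]
      congr 2
      apply ext10 (mu_lt (by norm_num) ha) (mu_lt ha (by norm_num))
      intro j hj
      rw [testBit_mu, testBit_mu, not_of_subK haU (j := 1) (by decide),
        not_of_subK haU (j := 5) (by decide), not_of_subK haU (j := 8) (by decide)]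
      interval_cases j <;> simp [-Nat.testBit_zero, tb1, Bool.xor_comm]
  k2 := by
    obtain ⟨k, hk, hko, hkA, a, ha, haU, he⟩ := h.k3
    refine ⟨k, by rw [CS_dual_Q]; exact hk, hko, by rw [CS_dual_A2]; exact hkA, pm a, pm_lt _, ?_, ?_⟩
    · have := pm_subK haU
      rwa [show pm kU1 = kU2 by decide] at this
    · show k * (u (pm x13))⁻¹ * k⁻¹ = (u (pm (mu x12 (pm a))))⁻¹
      rw [pm_mu, pm_pm ha, show pm x13 = x35 by decide, show pm x12 = x45 by decide]
      have e1 : k * (u x35)⁻¹ * k⁻¹ = (k * u x35 * k⁻¹)⁻¹ := by group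
      rw [e1, he]
      congr 2
      apply ext10 (mu_lt (by norm_num) ha) (mu_lt ha (by norm_num))
      intro j hj
      rw [testBit_mu, testBit_mu, not_of_subK haU (j := 2) (by decide),
        not_of_subK haU (j := 5) (by decide), not_of_subK haU (j := 7) (by decide)]
      interval_cases j <;> simp [-Nat.testBit_zero, tb8, Bool.xor_comm]

/-- **B3** for `x14`. -/
theorem main_dual [Finite Y] (h : Emb (S : Subgroup Y) u) (zc : ∀ g : Y, g * u x15 = u x15 * g)
    (nE2 : normalizer (CS u kQ : Set Y) ≤ normalizer (CS u kE2 : Set Y))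
    (hc : Data.Ctrl (normalizer (CS u kQ : Set Y))) :
    Data.Solved ((normalizer (CS u kQ : Set Y)).subgroupOf (centralizer (CS u kU2 : Set Y))) ∧
      Group.IsSolvable ↥(centralizer (CS u kU2 : Set Y)) := by
  have h1 := TypeA.main (Emb.dual h) (zc_dual zc) (by rw [CS_dual_Q, CS_dual_E1]; exact nE2)
    (by rw [CS_dual_Q]; exact hc)
  rw [CS_dual_Q, CS_dual_U1] at h1
  exact h1

end Cfsg.Agent.SylowL5.TypeADual
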