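import Cfsg.Agent.SylowL5.TypeADual
import Cfsg.Agent.SylowL5.LiteY
import Cfsg.Agent.Lib.CoreCent

/-!
# Piece B3 of S0512, final form

All elements of `E1 - ⟨z⟩` are conjugate to `x25` under `N = N_Y(Q)`; hence
`C_Y(v) = O(C_Y(v)) C_N(v)` and `C_Y(v)` is solvable for `v ∈ E1 - ⟨z⟩` and `v ∈ E2 - ⟨z⟩`.
`solved`: `Y = O(Y) N`.
-/

set_option autoImplicit false

namespace Cfsg.Agent.SylowL5.TypeAFinal

open Cfsg Subgroup
open Cfsg.Agent.SylowL5.Setup Cfsg.Agent.SylowL5.TypeACodes Cfsg.Agent.SylowL5.TypeA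

section codes

/-- conjugators inside `S` -/
def sc (c : ℕ) : ℕ := Nat.xor (Nat.shiftLeft (bt c 6) 2) (Nat.shiftLeft (bt c 8) 5)

theorem sc_lt (c : ℕ) : sc c < 1024 := by
  unfold sc
  rcases bt_cases c 6 with h | h <;> rcases bt_cases c 8 with h' | h' <;> rw [h, h'] <;> decide

theorem key3 : ∀ c, c < 1024 → SubK c kE1 → c.testBit 3 = true →
    mu (sc c) 8 = mu c (sc c) ∨ mu (sc c) 8 = mu (mu c 512) (sc c) := by
  intro c hc hcE h3
  have key : allb 1024 (fun c => !(Nat.beq (Nat.land c kE1) c) || (!(c.testBit 3) ||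
    (Nat.beq (mu (sc c) 8) (mu c (sc c)) || Nat.beq (mu (sc c) 8) (mu (mu c 512) (sc c))))) = true := by
    decide +kernel
  have h5 := of_allb key c hc
  have e1 : Nat.beq (Nat.land c kE1) c = true := by rw [Nat.beq_eq]; exact (subK_iff _ _).1 hcE
  rw [e1, h3] at h5
  simp only [Bool.not_true, Bool.false_or, Bool.or_eq_true, Nat.beq_eq] at h5
  exact h5

theorem key6 : ∀ c, c < 1024 → SubK c kE1 → c.testBit 3 = false → c.testBit 6 = true →
    mu (Nat.shiftLeft (bt c 8) 1) 64 = mu c (Nat.shiftLeft (bt c 8) 1) ∨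
      mu (Nat.shiftLeft (bt c 8) 1) 64 = mu (mu c 512) (Nat.shiftLeft (bt c 8) 1) := by
  intro c hc hcE h3 h6
  have key : allb 1024 (fun c => !(Nat.beq (Nat.land c kE1) c) || (c.testBit 3 || (!(c.testBit 6) ||
    (Nat.beq (mu (Nat.shiftLeft (bt c 8) 1) 64) (mu c (Nat.shiftLeft (bt c 8) 1)) ||
      Nat.beq (mu (Nat.shiftLeft (bt c 8) 1) 64) (mu (mu c 512) (Nat.shiftLeft (bt c 8) 1)))))) =
        true := by
    decide +kernel
  have h5 := of_allb key c hc
  have e1 : Nat.beq (Nat.land c kE1) c = true := by rw [Nat.beq_eq]; exact (subK_iff _ _).1 hcE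
  rw [e1, h3, h6] at h5
  simp only [Bool.not_true, Bool.false_or, Bool.or_eq_true, Nat.beq_eq] at h5
  exact h5

theorem key0 : ∀ c, c < 1024 → SubK c kE1 → c.testBit 3 = false → c.testBit 6 = false →
    c = 0 ∨ c = 512 ∨ c = 256 ∨ c = 768 := by
  intro c hc hcE h3 h6
  have key : allb 1024 (fun c => !(Nat.beq (Nat.land c kE1) c) || (c.testBit 3 || (c.testBit 6 ||
    (Nat.beq c 0 || (Nat.beq c 512 || (Nat.beq c 256 || Nat.beq c 768)))))) = true := by
    decide +kernel
  have h5 := of_allb key c hc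
  have e1 : Nat.beq (Nat.land c kE1) c = true := by rw [Nat.beq_eq]; exact (subK_iff _ _).1 hcE
  rw [e1, h3, h6] at h5
  simp only [Bool.not_true, Bool.false_or, Bool.or_eq_true, Nat.beq_eq] at h5
  exact h5

end codes

variable {Y : Type*} [Group Y] {S : Sylow 2 Y} {u : ℕ → Y}

/-- `N`-conjugacy modulo `z` -/
def Rel (u : ℕ → Y) (v w : Y) : Prop :=
  ∃ n ∈ normalizer (CS u kQ : Set Y), n * v * n⁻¹ = w ∨ n * v * n⁻¹ = w * u 512

theorem zz (h : Data.VData S u) : u 512 * u 512 = 1 := by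
  rw [← h.emb.mul (by norm_num) (by norm_num), ← h.emb.zero]
  congr 1

theorem zc' (h : Data.VData S u) (g : Y) : g * u 512 = u 512 * g := h.zc g

theorem Rel.symm (h : Data.VData S u) {v w : Y} (hr : Rel u v w) : Rel u w v := by
  obtain ⟨n, hn, h1 | h1⟩ := hr
  · exact ⟨n⁻¹, inv_mem hn, Or.inl (by rw [← h1]; group)⟩
  · refine ⟨n⁻¹, inv_mem hn, Or.inr ?_⟩
    have h2 : w = n * v * n⁻¹ * u 512 := by rw [h1, mul_assoc, zz h, mul_one]
    rw [h2]
    calc n⁻¹ * (n * v * n⁻¹ * u 512) * n⁻¹⁻¹ = v * (n⁻¹ * u 512) * n := by group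
      _ = v * (u 512 * n⁻¹) * n := by rw [zc' h]
      _ = v * u 512 := by group

theorem Rel.trans (h : Data.VData S u) {v w x : Y} (hr : Rel u v w) (hs : Rel u w x) :
    Rel u v x := by
  obtain ⟨n, hn, h1⟩ := hr
  obtain ⟨m, hm, h2⟩ := hs
  refine ⟨m * n, mul_mem hm hn, ?_⟩
  have e : m * n * v * (m * n)⁻¹ = m * (n * v * n⁻¹) * m⁻¹ := by group
  rw [e]
  rcases h1 with h1 | h1 <;> rcases h2 with h2 | h2 <;> rw [h1]
  · left; exact h2
  · right; exact h2
  · right
    rw [← h2]
    calc m * (w * u 512) * m⁻¹ = m * w * (u 512 * m⁻¹) := by group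
      _ = m * w * (m⁻¹ * u 512) := by rw [zc' h]
      _ = m * w * m⁻¹ * u 512 := by group
  · left
    have h3 : m * (w * u 512) * m⁻¹ = (m * w * m⁻¹) * u 512 := by
      calc m * (w * u 512) * m⁻¹ = m * w * (u 512 * m⁻¹) := by group
        _ = m * w * (m⁻¹ * u 512) := by rw [zc' h]
        _ = m * w * m⁻¹ * u 512 := by group
    rw [h3, h2, mul_assoc, zz h, mul_one]

theorem rel_of_mu (h : Data.VData S u) {s a c : ℕ} (hs : s < 1024) (ha : a < 1024) (hc : c < 1024)
    (hm : mu s a = mu c s ∨ mu s a = mu (mu c 512) s) : Rel u (u a) (u c) := by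
  refine ⟨u s, Q_normal h.emb (h.emb.mem hs), ?_⟩
  rcases hm with hm | hm
  · left
    rw [← h.emb.mul hs ha, hm, h.emb.mul hc hs]; group
  · right
    rw [← h.emb.mul hs ha, hm, h.emb.mul (mu_lt hc (by norm_num)) hs,
      h.emb.mul hc (by norm_num)]
    group

theorem rel_x45 (h : Data.VData S u) {v : Y} (hv : v ∈ CS u kE1) (hv1 : v ≠ 1)
    (hvz : v ≠ u x15) (hv2 : v ≠ u x25) (hv3 : v ≠ u 768) : Rel u (u x45) v := by
  obtain ⟨c, hc, hcE, rfl⟩ := (h.emb.mem_CS (by decide)).1 hv
  cases h3 : c.testBit 3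
  · cases h6 : c.testBit 6
    · exfalso
      rcases key0 c hc hcE h3 h6 with rfl | rfl | rfl | rfl
      · exact hv1 h.emb.zero
      · exact hvz rfl
      · exact hv2 rfl
      · exact hv3 rfl
    · -- conjugate to `x35`
      have h1 : Rel u (u 64) (u c) := rel_of_mu h (s := Nat.shiftLeft (bt c 8) 1) (by
        rcases bt_cases c 8 with h | h <;> rw [h] <;> decide) (by norm_num) hc
        (key6 c hc hcE h3 h6)
      obtain ⟨k, hk, -, -, a, ha, haU, hke⟩ := h.k3
      have hlt : mu x45 a < 1024 := mu_lt (by norm_num) ha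
      have hE : SubK (mu x45 a) kE1 := by
        apply SubK.mu (by decide)
        · rw [subK_iff]; decide
        · intro j hj
          have := haU j hj
          revert this
          exact mono_of10 (K := kU1) (L := kE1) (by norm_num) (by decide) j
      have hb3 : (mu x45 a).testBit 3 = true := by
        rw [testBit_mu, not_of_subK haU (j := 3) (by decide)]
        simp [-Nat.testBit_zero, tb8]
      have h2 : Rel u (u 64) (u (mu x45 a)) := ⟨k, hk, Or.inl hke⟩
      have h4 : Rel u (u 8) (u (mu x45 a)) :=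
        rel_of_mu h (sc_lt _) (by norm_num) hlt (key3 _ hlt hE hb3)
      exact (h4.trans h (h2.symm h)).trans h h1
  · exact rel_of_mu h (sc_lt _) (by norm_num) hc (key3 c hc hcE h3)

theorem rel_x25_x45 (h : Data.VData S u) : Rel u (u x45) (u x25) := by
  obtain ⟨k, hk, -, -, a, ha, haU, hke⟩ := h.k2
  have hx : u x25 ∈ CS u kE1 := u_mem u (by norm_num) (by decide)
  have hkE : k * u x25 * k⁻¹ ∈ CS u kE1 := (mem_normalizer_iff.1 (h.nE1 hk) _).1 hx
  have hcomm : u x13 * u x25 = u x25 * u x13 := by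
    rw [comm_iff h.emb (by norm_num) (by norm_num)]; decide
  have hcomm2 : u (mu x12 a) * (k * u x25 * k⁻¹) = (k * u x25 * k⁻¹) * u (mu x12 a) := by
    rw [← hke]
    calc k * u x13 * k⁻¹ * (k * u x25 * k⁻¹) = k * (u x13 * u x25) * k⁻¹ := by group
      _ = k * (u x25 * u x13) * k⁻¹ := by rw [hcomm]
      _ = _ := by group
  have hinj : ∀ b, b < 1024 → b ≠ 256 → (∀ g : Y, g * u b = u b * g) → k * u x25 * k⁻¹ ≠ u b := by
    intro b hb hb2 hbc h1
    have h2 : u x25 = u b := by
      have : u x25 = k⁻¹ * (k * u x25 * k⁻¹) * k := by group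
      rw [this, h1, hbc]; group
    exact hb2 (h.emb.inj (by norm_num) hb h2).symm
  have h7 : ∀ b, b < 1024 → SubK b kU1 → b.testBit 8 = true → k * u x25 * k⁻¹ ≠ u b := by
    intro b hb hbU hb8 h1
    rw [h1] at hcomm2
    rw [comm_iff h.emb (mu_lt (by norm_num) ha) hb] at hcomm2
    have e := congrArg (fun x => x.testBit 9) hcomm2
    simp only [mu_U1 hbU] at e
    rw [testBit_mu, testBit_mu, testBit_mu, not_of_subK hbU (j := 3) (by decide),
      not_of_subK hbU (j := 6) (by decide), hb8, not_of_subK haU (j := 0) (by decide)] at e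
    revert e
    cases a.testBit 9 <;> cases b.testBit 9 <;> cases a.testBit 8 <;> cases a.testBit 6 <;>
      cases a.testBit 3 <;> simp [-Nat.testBit_zero, tb1]
  have h1 : Rel u (u x45) (k * u x25 * k⁻¹) := by
    apply rel_x45 h hkE
    · rw [← h.emb.zero]
      exact hinj 0 (by norm_num) (by norm_num) (fun g => by rw [h.emb.zero]; group)
    · exact hinj 512 (by norm_num) (by norm_num) (zc' h)
    · exact h7 256 (by norm_num) (by rw [subK_iff]; decide) (by decide)
    · exact h7 768 (by norm_num) (by rw [subK_iff]; decide) (by decide)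
  exact h1.trans h ⟨k⁻¹, inv_mem hk, Or.inl (by group)⟩

/-- transitivity -/
theorem exists_conj (h : Data.VData S u) {v : Y} (hv : v ∈ CS u kE1) (hv1 : v ≠ 1)
    (hvz : v ≠ u x15) : ∃ n ∈ normalizer (CS u kQ : Set Y), n * u x25 * n⁻¹ = v := by
  have h1 : Rel u (u x25) v := by
    by_cases h2 : v = u x25
    · rw [h2]
      exact ⟨1, one_mem _, Or.inl (by group)⟩
    by_cases h3 : v = u 768
    · rw [h3]
      exact ⟨1, one_mem _, Or.inr (by
        rw [← h.emb.mul (by norm_num) (by norm_num), show mu 768 512 = 256 by decide]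
        group)⟩
    exact (rel_x25_x45 h).symm h |>.trans h (rel_x45 h hv hv1 hvz h2 h3)
  obtain ⟨n, hn, h2 | h2⟩ := h1
  · exact ⟨n, hn, h2⟩
  · refine ⟨n * u x12, mul_mem hn (Q_normal h.emb (h.emb.mem (by norm_num))), ?_⟩
    have h3 : u x12 * u x25 = u x25 * u 512 * u x12 := by
      rw [← h.emb.mul (by norm_num) (by norm_num), ← h.emb.mul (by norm_num) (by norm_num),
        ← h.emb.mul (by decide) (by norm_num)]
      congr 1
    calc n * u x12 * u x25 * (n * u x12)⁻¹ = n * (u x12 * u x25) * (u x12)⁻¹ * n⁻¹ := by group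
      _ = n * u x25 * (u 512 * n⁻¹) := by rw [h3]; group
      _ = n * u x25 * (n⁻¹ * u 512) := by rw [← zc' h]
      _ = (n * u x25 * n⁻¹) * u 512 := by group
      _ = v := by rw [h2, mul_assoc, zz h, mul_one]

theorem centralizer_U1 (h : Data.VData S u) :
    centralizer (CS u kU1 : Set Y) = centralizer ({u x25} : Set Y) := by
  apply le_antisymm
  · intro g hg
    rw [mem_centralizer_singleton_iff]
    exact (mem_centralizer_iff.1 hg _ (u_mem u (by norm_num) (by decide))).symm
  · intro g hg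
    rw [mem_centralizer_singleton_iff] at hg
    rw [mem_centralizer_iff]
    intro f hf
    obtain ⟨c, hc, hcU, rfl⟩ := (h.emb.mem_CS (by decide)).1 hf
    have hcE : SubK c kE1 := fun j hj =>
      mono_of10 (K := kU1) (L := kE1) (by norm_num) (by decide) j (hcU j hj)
    rcases key0 c hc hcE (not_of_subK hcU (by decide)) (not_of_subK hcU (by decide)) with
      rfl | rfl | rfl | rfl
    · rw [h.emb.zero]; group
    · exact (zc' h g).symm
    · exact hg.symm
    · have h1 : u 768 = u x25 * u 512 := by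
        rw [← h.emb.mul (by norm_num) (by norm_num)]
        congr 1
      rw [h1, mul_assoc, ← zc' h, ← mul_assoc, ← hg, mul_assoc, zc' h, ← mul_assoc]

variable [Finite Y]

theorem main_x25 (h : Data.VData S u) (hc : Data.Ctrl (normalizer (CS u kQ : Set Y))) :
    Group.IsSolvable ↥(centralizer ({u x25} : Set Y)) ∧
      centralizer ({u x25} : Set Y) ≤ centralizerPPrimeCore 2 (u x25) ⊔
        normalizer (CS u kQ : Set Y) := by
  have h1 := TypeA.main h.emb h.zc h.nE1 hc
  rw [centralizer_U1 h] at h1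
  refine ⟨h1.2, ?_⟩
  intro g hg
  obtain ⟨a, ha, n, hn, he⟩ := h1.1 ⟨g, hg⟩
  have he' : g = (a : Y) * (n : Y) := congrArg Subtype.val he
  rw [he']
  exact mul_mem (mem_sup_left ⟨a, ha, rfl⟩) (mem_sup_right (mem_subgroupOf.1 hn))

theorem transport {x n : Y} {N : Subgroup Y} (hn : n ∈ N)
    (h : Group.IsSolvable ↥(centralizer ({x} : Set Y)) ∧
      centralizer ({x} : Set Y) ≤ centralizerPPrimeCore 2 x ⊔ N) :
    Group.IsSolvable ↥(centralizer ({n * x * n⁻¹} : Set Y)) ∧
      centralizer ({n * x * n⁻¹} : Set Y) ≤ centralizerPPrimeCore 2 (n * x * n⁻¹) ⊔ N := by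
  have h2 : Fact (Nat.Prime 2) := ⟨Nat.prime_two⟩
  have e : centralizer ({n * x * n⁻¹} : Set Y) =
      (centralizer ({x} : Set Y)).map (MulAut.conj n).toMonoidHom := by
    ext g
    rw [mem_centralizer_singleton_iff]
    constructor
    · intro hg
      refine ⟨n⁻¹ * g * n, mem_centralizer_singleton_iff.2 ?_, ?_⟩
      · calc n⁻¹ * g * n * x = n⁻¹ * (g * (n * x * n⁻¹)) * n := by group
          _ = n⁻¹ * ((n * x * n⁻¹) * g) * n := by rw [hg]
          _ = x * (n⁻¹ * g * n) := by group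
      · show n * (n⁻¹ * g * n) * n⁻¹ = g
        group
    · rintro ⟨g, hg, rfl⟩
      have hg' := mem_centralizer_singleton_iff.1 hg
      show n * g * n⁻¹ * (n * x * n⁻¹) = n * x * n⁻¹ * (n * g * n⁻¹)
      calc n * g * n⁻¹ * (n * x * n⁻¹) = n * (g * x) * n⁻¹ := by group
        _ = n * (x * g) * n⁻¹ := by rw [hg']
        _ = _ := by group
  constructor
  · rw [e]
    have := h.1
    exact Group.isSolvable_of_surjective
      (f := ((centralizer ({x} : Set Y)).equivMapOfInjective (MulAut.conj n).toMonoidHom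
        (MulAut.conj n).injective).toMonoidHom)
      ((centralizer ({x} : Set Y)).equivMapOfInjective _ (MulAut.conj n).injective).surjective
  · rw [e, Cfsg.Agent.Lib.CoreCent.core_conj 2 x n]
    refine (map_mono h.2).trans ?_
    rw [Subgroup.map_sup]
    refine sup_le_sup_left ?_ _
    rintro _ ⟨m, hm, rfl⟩
    exact mul_mem (mul_mem hn hm) (inv_mem hn)

theorem main_E1 (h : Data.VData S u) (hc : Data.Ctrl (normalizer (CS u kQ : Set Y))) {v : Y}
    (hv : v ∈ CS u kE1) (hv1 : v ≠ 1) (hvz : v ≠ u x15) :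
    Group.IsSolvable ↥(centralizer ({v} : Set Y)) ∧
      centralizer ({v} : Set Y) ≤ centralizerPPrimeCore 2 v ⊔ normalizer (CS u kQ : Set Y) := by
  obtain ⟨n, hn, rfl⟩ := exists_conj h hv hv1 hvz
  exact transport hn (main_x25 h hc)

theorem main_E2 (h : Data.VData S u) (hc : Data.Ctrl (normalizer (CS u kQ : Set Y))) {v : Y}
    (hv : v ∈ CS u kE2) (hv1 : v ≠ 1) (hvz : v ≠ u x15) :
    Group.IsSolvable ↥(centralizer ({v} : Set Y)) ∧
      centralizer ({v} : Set Y) ≤ centralizerPPrimeCore 2 v ⊔ normalizer (CS u kQ : Set Y) := by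
  have hz : TypeADual.du u x15 = u x15 := by
    show (u (TypeADual.pm x15))⁻¹ = u x15
    rw [show TypeADual.pm x15 = x15 by decide]
    exact inv_eq_of_mul_eq_one_left (zz h)
  have h1 := main_E1 (TypeADual.VData.dual h) (by rw [TypeADual.CS_dual_Q]; exact hc) (v := v)
    (by rw [TypeADual.CS_dual_E1]; exact hv) hv1 (by rw [hz]; exact hvz)
  rw [TypeADual.CS_dual_Q] at h1
  exact h1

/-- **(V)** `Y = O(Y) N_Y(Q)`. -/
theorem solved (h : Data.VData S u) (hc : Data.Ctrl (normalizer (CS u kQ : Set Y))) :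
    Data.Solved (normalizer (CS u kQ : Set Y)) :=
  LiteY.solved h
    (fun v hv hv1 hvz => by
      rcases hv with hv | hv
      · exact (main_E1 h hc hv hv1 hvz).1
      · exact (main_E2 h hc hv hv1 hvz).1)
    (fun v hv hv1 hvz => by
      rcases hv with hv | hv
      · exact (main_E1 h hc hv hv1 hvz).2
      · exact (main_E2 h hc hv hv1 hvz).2)

end Cfsg.Agent.SylowL5.TypeAFinal
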