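import Cfsg.Agent.SylowL5.Ctrl
import Cfsg.Agent.R15.NormalElem
import Cfsg.Agent.S0205

/-!
# Piece B3 of S0512: generalities

`OddClosed C`: products of odd order elements of `C` have odd order; this is 2-nilpotency of `C`.
-/

set_option autoImplicit false

namespace Cfsg.Agent.SylowL5.TypeAGen

open Cfsg Subgroup
open Cfsg.Agent.SylowL5.Ctrl

variable {G : Type*} [Group G]

/-- Products of odd order elements of `C` have odd order. -/
def OddClosed (C : Subgroup G) : Prop :=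
  ∀ x ∈ C, ∀ y ∈ C, Odd (orderOf x) → Odd (orderOf y) → Odd (orderOf (x * y))

theorem OddClosed.mono {C D : Subgroup G} (h : OddClosed D) (hCD : C ≤ D) : OddClosed C :=
  fun x hx y hy => h x (hCD hx) y (hCD hy)

theorem orderOf_conj' (g x : G) : orderOf (g * x * g⁻¹) = orderOf x := by
  have := orderOf_injective (MulAut.conj g).toMonoidHom (MulAut.conj g).injective x
  simpa using this

theorem odd_iff_coprime {n : ℕ} : Odd n ↔ n.Coprime 2 := Nat.coprime_two_right.symm

/-- the subgroup of the odd order elements of `C` -/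
def oddPart (C : Subgroup G) (h : OddClosed C) : Subgroup G where
  carrier := {x | x ∈ C ∧ Odd (orderOf x)}
  one_mem' := ⟨one_mem _, by rw [orderOf_one]; exact odd_one⟩
  mul_mem' := fun hx hy => ⟨mul_mem hx.1 hy.1, h _ hx.1 _ hy.1 hx.2 hy.2⟩
  inv_mem' := fun hx => ⟨inv_mem hx.1, by rw [orderOf_inv]; exact hx.2⟩

theorem mem_oddPart {C : Subgroup G} {h : OddClosed C} {x : G} :
    x ∈ oddPart C h ↔ x ∈ C ∧ Odd (orderOf x) := Iff.rfl

theorem oddPart_le (C : Subgroup G) (h : OddClosed C) : oddPart C h ≤ C := fun _ hx => hx.1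

theorem conj_mem_oddPart {C : Subgroup G} {h : OddClosed C} {n x : G}
    (hn : ∀ c ∈ C, n * c * n⁻¹ ∈ C) (hx : x ∈ oddPart C h) : n * x * n⁻¹ ∈ oddPart C h :=
  ⟨hn x hx.1, by rw [orderOf_conj']; exact hx.2⟩

/-- A subgroup all of whose elements have odd order has odd order. -/
theorem odd_card_of_forall [Finite G] {C : Subgroup G} (h : ∀ x ∈ C, Odd (orderOf x)) :
    Odd (Nat.card C) := by
  by_contra h1
  rw [Nat.not_odd_iff_even, even_iff_two_dvd] at h1
  obtain ⟨x, hx⟩ := exists_prime_orderOf_dvd_card' 2 h1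
  have h2 := h x x.2
  rw [Subgroup.orderOf_coe, hx] at h2
  exact absurd h2 (by decide)

theorem odd_card_oddPart [Finite G] (C : Subgroup G) (h : OddClosed C) :
    Odd (Nat.card (oddPart C h)) := odd_card_of_forall fun _ hx => hx.2

theorem oddClosed_of_hasNormalPComplement [Finite G] (C : Subgroup G)
    (h : HasNormalPComplement 2 C) : OddClosed C := by
  have h2 : Fact (Nat.Prime 2) := ⟨Nat.prime_two⟩
  rw [Transfer.NormalPComplement.hasNormalPComplement_iff_coprime] at h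
  intro x hx y hy hxo hyo
  have e1 : (⟨x, hx⟩ : C) ∈ pResidual 2 C := by
    apply Transfer.NormalPComplement.mem_pResidual_of_coprime
    rw [Subgroup.orderOf_mk]; exact odd_iff_coprime.1 hxo
  have e2 : (⟨y, hy⟩ : C) ∈ pResidual 2 C := by
    apply Transfer.NormalPComplement.mem_pResidual_of_coprime
    rw [Subgroup.orderOf_mk]; exact odd_iff_coprime.1 hyo
  have e3 := (pResidual 2 C).orderOf_dvd_natCard (mul_mem e1 e2)
  have e4 : orderOf ((⟨x, hx⟩ : C) * ⟨y, hy⟩) = orderOf (x * y) := by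
    rw [← Subgroup.orderOf_coe]
    rfl
  rw [e4] at e3
  exact odd_iff_coprime.2 (Nat.Coprime.coprime_dvd_left e3 h)

theorem hasNormalPComplement_of_oddClosed [Finite G] (C : Subgroup G) (h : OddClosed C) :
    HasNormalPComplement 2 C := by
  have h2 : Fact (Nat.Prime 2) := ⟨Nat.prime_two⟩
  rw [Transfer.NormalPComplement.hasNormalPComplement_iff]
  have hn : ((oddPart C h).subgroupOf C).Normal := by
    refine ⟨fun c hc n => ?_⟩
    rw [mem_subgroupOf] at hc ⊢
    exact conj_mem_oddPart (fun c hc => mul_mem (mul_mem n.2 hc) (inv_mem n.2)) hc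
  refine ⟨(oddPart C h).subgroupOf C, hn, ?_, ?_⟩
  · refine odd_iff_coprime.1 ?_
    apply odd_card_of_forall
    intro x hx
    rw [← Subgroup.orderOf_coe]
    exact (mem_subgroupOf.1 hx).2
  · apply Transfer.NormalPComplement.isPGroup_quotient_of_coprime_mem
    intro g hg
    rw [mem_subgroupOf]
    refine ⟨g.2, ?_⟩
    rw [Subgroup.orderOf_coe]
    exact odd_iff_coprime.2 hg

/-- If `k`, of odd order, acts on `x` as left multiplication by a fixed involution, it
centralizes `x`. -/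
theorem comm_of_conj {k x a : G} (hk : Odd (orderOf k)) (ha : a * a = 1) (hka : k * a = a * k)
    (h : k * x * k⁻¹ = a * x) : k * x = x * k := by
  have hpow : ∀ n : ℕ, k ^ n * x * (k ^ n)⁻¹ = a ^ n * x := by
    intro n
    induction n with
    | zero => simp
    | succ n ih =>
      have h1 : k ^ (n + 1) * x * (k ^ (n + 1))⁻¹ = k * (k ^ n * x * (k ^ n)⁻¹) * k⁻¹ := by
        rw [pow_succ']; group
      have h2 : k * a ^ n = a ^ n * k := ((show Commute k a from hka).pow_right n)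
      rw [h1, ih]
      calc k * (a ^ n * x) * k⁻¹ = (k * a ^ n) * x * k⁻¹ := by group
        _ = a ^ n * (k * x * k⁻¹) := by rw [h2]; group
        _ = a ^ (n + 1) * x := by rw [h, pow_succ]; group
  have h1 := hpow (orderOf k)
  rw [pow_orderOf_eq_one, inv_one, mul_one, one_mul] at h1
  have h2 : a ^ orderOf k = 1 := by
    have h3 : (1 : G) * x = a ^ orderOf k * x := by rw [one_mul]; exact h1
    exact (mul_right_cancel h3).symm
  obtain ⟨m, hm⟩ := hk
  rw [hm, pow_succ, pow_mul, pow_two, ha, one_pow, one_mul] at h2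
  rw [h2, one_mul] at h
  calc k * x = (k * x * k⁻¹) * k := by group
    _ = x * k := by rw [h]

/-- An element centralizing a subgroup `A` of index at most 2 of `B` and normalizing `B` acts
trivially on `B / A`. -/
theorem conj_mem_of_relIndex_le {A B : Subgroup G} (hAB : A ≤ B) (h0 : A.relIndex B ≠ 0)
    (h : A.relIndex B ≤ 2) {k : G} (hA : ∀ x ∈ A, k * x = x * k) (hB : ∀ x ∈ B, k * x * k⁻¹ ∈ B) :
    ∀ b ∈ B, k * b * k⁻¹ * b⁻¹ ∈ A := by
  intro b hb
  by_cases hbA : b ∈ A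
  · rw [hA b hbA]
    have : b * k * k⁻¹ * b⁻¹ = 1 := by group
    rw [this]; exact one_mem _
  · have h1 : k * b * k⁻¹ ∉ A := by
      intro h2
      have h3 := hA _ h2
      apply hbA
      have h4 : b = k⁻¹ * (k * (k * b * k⁻¹)) * k⁻¹ * k := by
        rw [h3]; group
      have h5 : k⁻¹ * (k * (k * b * k⁻¹)) * k⁻¹ * k = k * b * k⁻¹ := by group
      rw [h4, h5]
      exact h2
    have h2 : A.relIndex B ≠ 1 := by
      intro h2
      rw [relIndex_eq_one] at h2
      exact hbA (h2 hb)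
    have h3 : (A.subgroupOf B).index = 2 := by
      show A.relIndex B = 2
      omega
    have h4 := Subgroup.mul_mem_iff_of_index_two h3 (a := ⟨k * b * k⁻¹, hB b hb⟩)
      (b := ⟨b⁻¹, inv_mem hb⟩)
    rw [mem_subgroupOf, mem_subgroupOf, mem_subgroupOf] at h4
    refine h4.2 ?_
    have h5 : b⁻¹ ∉ A := fun h => hbA (by simpa using inv_mem h)
    exact ⟨fun h => absurd h h1, fun h => absurd h h5⟩

/-- Odd order elements lift along quotients by groups of exponent 2. -/
theorem lift_odd {F : Subgroup G} [F.Normal] (hF : ∀ f ∈ F, f * f = 1) {x : G ⧸ F}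
    (hx : Odd (orderOf x)) : ∃ y : G, QuotientGroup.mk' F y = x ∧ Odd (orderOf y) := by
  obtain ⟨x₀, rfl⟩ := QuotientGroup.mk'_surjective F x
  obtain ⟨m, hm⟩ := hx
  have h1 : x₀ ^ (2 * m + 1) ∈ F := by
    rw [← QuotientGroup.ker_mk' F, MonoidHom.mem_ker, map_pow, ← hm, pow_orderOf_eq_one]
  refine ⟨x₀ ^ (2 * m + 1 + 1), ?_, ?_⟩
  · rw [map_pow, pow_succ, ← hm, pow_orderOf_eq_one, one_mul]
  · have h2 : (x₀ ^ (2 * m + 1 + 1)) ^ (2 * m + 1) = 1 := by
      rw [← pow_mul, mul_comm, pow_mul]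
      have h3 : 2 * m + 1 + 1 = 2 * (m + 1) := by ring
      rw [h3, pow_mul, pow_two, hF _ h1, one_pow]
    exact (Nat.odd_iff.2 (by omega : (2 * m + 1) % 2 = 1)).of_dvd_nat (orderOf_dvd_of_pow_eq_one h2)

theorem isSolvable_of_oddClosed [Finite G] (C : Subgroup G) (h : OddClosed C) :
    Group.IsSolvable C := by
  have h2 : Fact (Nat.Prime 2) := ⟨Nat.prime_two⟩
  obtain ⟨N, hN, hc, hp⟩ := Transfer.NormalPComplement.hasNormalPComplement_iff.1
    (hasNormalPComplement_of_oddClosed C h)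
  have h1 : Group.IsSolvable N := Cfsg.Agent.S0205.result (odd_iff_coprime.2 hc)
  have h3 : Group.IsSolvable (↥C ⧸ N) := by
    have := hp.isNilpotent
    infer_instance
  exact (Group.isSolvable_iff_subgroup_quotient N).2 ⟨h1, h3⟩

theorem isSolvable_of_hasNormalPComplement [Finite G] (h : HasNormalPComplement 2 G) :
    Group.IsSolvable G := by
  have h2 : Fact (Nat.Prime 2) := ⟨Nat.prime_two⟩
  obtain ⟨N, hN, hc, hp⟩ := Transfer.NormalPComplement.hasNormalPComplement_iff.1 h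
  have h1 : Group.IsSolvable N := Cfsg.Agent.S0205.result (odd_iff_coprime.2 hc)
  have h3 : Group.IsSolvable (G ⧸ N) := by
    have := hp.isNilpotent
    infer_instance
  exact (Group.isSolvable_iff_subgroup_quotient N).2 ⟨h1, h3⟩

/-- A group all of whose 2-elements are central is 2-nilpotent. -/
theorem hasNormalPComplement_of_central [Finite G]
    (h : ∀ x : G, (∃ n : ℕ, x ^ 2 ^ n = 1) → ∀ g : G, x * g = g * x) : HasNormalPComplement 2 G := by
  have h2 : Fact (Nat.Prime 2) := ⟨Nat.prime_two⟩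
  obtain ⟨P⟩ : Nonempty (Sylow 2 G) := inferInstance
  refine Transfer.FrobeniusFusion.hasNormalPComplement_of_controls_fusion P ?_
  rintro x hx y _ ⟨g, rfl⟩
  refine ⟨1, one_mem _, ?_⟩
  obtain ⟨n, hn⟩ := P.2 ⟨x, hx⟩
  have h1 : x ^ 2 ^ n = 1 := congrArg Subtype.val hn
  rw [← h x ⟨n, h1⟩ g]
  group

theorem oddClosed_of_central [Finite G] (D : Subgroup G)
    (h : ∀ x ∈ D, (∃ n : ℕ, x ^ 2 ^ n = 1) → ∀ g ∈ D, x * g = g * x) : OddClosed D := by
  apply oddClosed_of_hasNormalPComplement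
  apply hasNormalPComplement_of_central
  rintro ⟨x, hx⟩ ⟨n, hn⟩ ⟨g, hg⟩
  exact Subtype.ext (h x hx ⟨n, congrArg Subtype.val hn⟩ g hg)

/-- A group of order not divisible by 4 is solvable. -/
theorem isSolvable_of_not_four_dvd [Finite G] (h : ¬ 4 ∣ Nat.card G) : Group.IsSolvable G := by
  have h2 : Fact (Nat.Prime 2) := ⟨Nat.prime_two⟩
  apply isSolvable_of_hasNormalPComplement
  obtain ⟨P⟩ : Nonempty (Sylow 2 G) := inferInstance
  have hP : Nat.card P ≤ 2 := by
    obtain ⟨k, hk⟩ := IsPGroup.iff_card.1 P.2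
    by_contra hcon
    have hk2 : 2 ≤ k := by
      by_contra h3
      have h4 : k ≤ 1 := by omega
      have h5 : 2 ^ k ≤ 2 ^ 1 := Nat.pow_le_pow_right (by norm_num) h4
      omega
    apply h
    refine dvd_trans ?_ (Subgroup.card_subgroup_dvd_card (P : Subgroup G))
    rw [hk]
    exact pow_dvd_pow 2 hk2
  refine Transfer.FrobeniusFusion.hasNormalPComplement_of_controls_fusion P ?_
  rintro x hx y hy ⟨g, hg⟩
  refine ⟨1, one_mem _, ?_⟩
  have h3 : x = y := by
    by_contra hxy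
    by_cases hx1 : x = 1
    · apply hxy
      rw [← hg, hx1]; group
    · have hy1 : y ≠ 1 := by
        rintro rfl
        apply hx1
        have : x = g⁻¹ * (g * x * g⁻¹) * g := by group
        rw [this, hg]; group
      have h4 : ({1, x, y} : Set G) ⊆ (P : Subgroup G) := by
        rintro w (rfl | rfl | rfl)
        · exact one_mem _
        · exact hx
        · exact hy
      have h5 : ({1, x, y} : Set G).ncard = 3 :=
        Set.ncard_eq_three.2 ⟨1, x, y, fun h => hx1 h.symm, fun h => hy1 h.symm, hxy, rfl⟩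
      have h6 := Set.ncard_le_ncard h4 (Set.toFinite _)
      rw [h5] at h6
      have h7 : ((P : Subgroup G) : Set G).ncard = Nat.card P := rfl
      omega
  rw [h3]; group

/-- A 2-nilpotent subgroup containing the weakly closed subgroup `V`. -/
theorem le_core_sup_normalizer [Finite G] (P : Sylow 2 G) (V : Subgroup G)
    (hVP : V ≤ (P : Subgroup G)) (hw : ∀ g : G, (∀ v ∈ V, g * v * g⁻¹ ∈ (P : Subgroup G)) →
      g ∈ normalizer (V : Set G)) (C : Subgroup G) (hVC : V ≤ C) (hC : OddClosed C) :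
    C ≤ (pPrimeCore 2 C).map C.subtype ⊔ normalizer (V : Set G) := by
  have h2 : Fact (Nat.Prime 2) := ⟨Nat.prime_two⟩
  obtain ⟨T, hVT, hTC, hT, hTi⟩ := Lib.GoldschmidtFusion.exists_sylow_in (p := 2) hVC
    (P.isPGroup'.to_le hVP)
  intro g hg
  have hCC : ∀ n ∈ C, ∀ c ∈ C, n * c * n⁻¹ ∈ C := fun n hn c hc =>
    mul_mem (mul_mem hn hc) (inv_mem hn)
  obtain ⟨s, hs, c, hc, rfl⟩ := exists_mul_of_cop (p := 2) (oddPart_le C hC)
    (fun n hn c hc => conj_mem_oddPart (hCC n hn) hc) hTC hTi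
    (fun g hg hg2 => ⟨hg, odd_iff_coprime.2 hg2⟩) hg
  have hsN : s ∈ normalizer (V : Set G) := by
    obtain ⟨g₀, -, hg₀⟩ := Lib.GoldschmidtFusion.exists_conj_le_in (p := 2) (N := ⊤)
      P.isPGroup' (by rw [relIndex_top_right]; exact P.not_dvd_index) le_top hT
    have h3 : g₀ ∈ normalizer (V : Set G) := hw g₀ fun v hv => hg₀ ⟨v, hVT hv, rfl⟩
    have h4 : g₀ * s * g₀⁻¹ ∈ (P : Subgroup G) := hg₀ ⟨s, hs, rfl⟩
    have h5 : g₀ * s * g₀⁻¹ ∈ normalizer (V : Set G) := hw _ fun v hv =>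
      mul_mem (mul_mem h4 (hVP hv)) (inv_mem h4)
    have h6 : s = g₀⁻¹ * (g₀ * s * g₀⁻¹) * g₀ := by group
    rw [h6]
    exact mul_mem (mul_mem (inv_mem h3) h5) h3
  have hcO : c ∈ (pPrimeCore 2 C).map C.subtype := by
    have hn : ((oddPart C hC).subgroupOf C).Normal := by
      refine ⟨fun c hc n => ?_⟩
      rw [mem_subgroupOf] at hc ⊢
      exact conj_mem_oddPart (hCC n n.2) hc
    have hcard : (Nat.card ((oddPart C hC).subgroupOf C)).Coprime 2 := by
      apply odd_iff_coprime.1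
      apply odd_card_of_forall
      intro x hx
      rw [← Subgroup.orderOf_coe]
      exact (mem_subgroupOf.1 hx).2
    exact ⟨⟨c, hc.1⟩, Lib.Cores.le_pPrimeCore hn hcard (mem_subgroupOf.2 hc), rfl⟩
  exact mul_mem (mem_sup_right hsN) (mem_sup_left hcO)

/-- From `X = O(X) N(V)` to `X = O(X) N`. -/
theorem solved_of_normalizer [Finite G] (P : Sylow 2 G) (V N : Subgroup G)
    (hVP : V ≤ (P : Subgroup G)) (hPN : (P : Subgroup G) ≤ N)
    (hPV : (P : Subgroup G) ≤ normalizer (V : Set G))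
    (hcent : ∀ p ∈ (P : Subgroup G), (∀ v ∈ V, p * v = v * p) → p ∈ V)
    (hodd : OddClosed (centralizer (V : Set G))) (hVc : ∀ a ∈ V, ∀ b ∈ V, a * b = b * a)
    (hc : Data.Ctrl N) (hT : pPrimeCore 2 G ⊔ normalizer (V : Set G) = ⊤) : Data.Solved N := by
  have h2 : Fact (Nat.Prime 2) := ⟨Nat.prime_two⟩
  have hOn : (pPrimeCore 2 G).Normal := Lib.Cores.pPrimeCore_normal 2
  have hOodd : (Nat.card (pPrimeCore 2 G)).Coprime 2 := Lib.Cores.pPrimeCore_coprime 2
  set C := centralizer (V : Set G) with hC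
  have hnC : ∀ n ∈ normalizer (V : Set G), ∀ c ∈ C, n * c * n⁻¹ ∈ C := by
    intro n hn c hc
    rw [hC, mem_centralizer_iff] at hc ⊢
    intro v hv
    have h3 : n⁻¹ * v * n ∈ V := by
      have := (mem_normalizer_iff.1 (inv_mem hn) v).1 hv
      rwa [inv_inv] at this
    have h4 := hc _ h3
    calc v * (n * c * n⁻¹) = n * ((n⁻¹ * v * n) * c) * n⁻¹ := by group
      _ = n * (c * (n⁻¹ * v * n)) * n⁻¹ := by rw [h4]
      _ = n * c * n⁻¹ * v := by group
  -- the odd part of `C` lies in the core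
  set K := oddPart C hodd with hK
  have hKO : K ≤ pPrimeCore 2 G := by
    have h3 : normalizer ((pPrimeCore 2 G ⊔ K : Subgroup G) : Set G) = ⊤ := by
      rw [eq_top_iff, ← hT]
      refine sup_le (le_sup_left.trans le_normalizer) ?_
      intro n hn
      refine J2Sylow.Functor.mem_normalizer_of_conj' ?_
      intro x hx
      obtain ⟨o, ho, k, hk, rfl⟩ := Subgroup.mem_sup_of_normal_left.1 hx
      have h4 : n * (o * k) * n⁻¹ = (n * o * n⁻¹) * (n * k * n⁻¹) := by group
      rw [h4]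
      exact mul_mem (mem_sup_left (hOn.conj_mem o ho n))
        (mem_sup_right (conj_mem_oddPart (hnC n hn) hk))
    have h4 : (pPrimeCore 2 G ⊔ K).Normal := normalizer_eq_top_iff.1 h3
    have h5 : (Nat.card (pPrimeCore 2 G ⊔ K : Subgroup G)).Coprime 2 :=
      Nat.Coprime.coprime_dvd_left (Lib.Cores.card_sup_dvd _ _ hOn)
        (Nat.Coprime.mul_left hOodd (odd_iff_coprime.1 (odd_card_oddPart C hodd)))
    exact le_sup_right.trans (Lib.Cores.le_pPrimeCore h4 h5)
  have hVC : V ≤ C := fun v hv => mem_centralizer_iff.2 fun w hw => hVc w hw v hv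
  have hPC : (P : Subgroup G) ⊓ C = V := by
    apply le_antisymm
    · rintro p ⟨hp, hpC⟩
      exact hcent p hp fun v hv => (mem_centralizer_iff.1 hpC v hv).symm
    · exact le_inf hVP hVC
  have hVi : ¬ 2 ∣ V.relIndex C := by
    rw [← hPC]
    refine not_dvd_relIndex_inf (N := normalizer (V : Set G)) (centralizer_le_normalizer _) hnC ?_
    rw [inf_eq_left.2 hPV]
    exact not_dvd_relIndex_of_sylow P _ hPV
  intro g
  have hg : g ∈ pPrimeCore 2 G ⊔ normalizer (V : Set G) := by rw [hT]; exact mem_top g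
  obtain ⟨w, hw, y, hy, rfl⟩ := Subgroup.mem_sup_of_normal_left.1 hg
  obtain ⟨n, hn, hn'⟩ := hc.fus V (P.isPGroup'.to_le hVP) (hVP.trans hPN) y fun a ha =>
    hPN (hVP ((mem_normalizer_iff.1 hy a).1 ha))
  have hcC : n⁻¹ * y ∈ C := by
    rw [hC, mem_centralizer_iff]
    intro v hv
    have h3 := hn' v hv
    have h4 : v * n⁻¹ = n⁻¹ * (y * v * y⁻¹) := by rw [← h3]; group
    calc v * (n⁻¹ * y) = (v * n⁻¹) * y := by group
      _ = n⁻¹ * y * v := by rw [h4]; group
  obtain ⟨v, hv, k, hk, hvk⟩ := exists_mul_of_cop (p := 2) (oddPart_le C hodd)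
    (fun n hn c hc => conj_mem_oddPart (fun c' hc' => mul_mem (mul_mem hn hc') (inv_mem hn)) hc)
    hVC hVi (fun g hg hg2 => ⟨hg, odd_iff_coprime.2 hg2⟩) hcC
  refine ⟨w * ((n * v) * k * (n * v)⁻¹), mul_mem hw (hOn.conj_mem _ (hKO hk) _), n * v,
    mul_mem hn (hPN (hVP hv)), ?_⟩
  have h5 : y = n * (v * k) := by rw [← hvk]; group
  rw [h5]; group

/-- Lifting through a central subgroup of exponent 2. -/
theorem solved_of_quotient [Finite G] (F : Subgroup G) [F.Normal]
    (hFc : ∀ f ∈ F, ∀ h : G, f * h = h * f) (hF2 : ∀ f ∈ F, f * f = 1) (N : Subgroup G)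
    (hFN : F ≤ N) (h : Data.Solved (N.map (QuotientGroup.mk' F))) : Data.Solved N := by
  have h2 : Fact (Nat.Prime 2) := ⟨Nat.prime_two⟩
  have hOn : (pPrimeCore 2 (G ⧸ F)).Normal := Lib.Cores.pPrimeCore_normal 2
  have hOodd : (Nat.card (pPrimeCore 2 (G ⧸ F))).Coprime 2 := Lib.Cores.pPrimeCore_coprime 2
  set D := (pPrimeCore 2 (G ⧸ F)).comap (QuotientGroup.mk' F) with hD
  have hDn : D.Normal := hOn.comap _
  have hDodd : OddClosed D := by
    apply oddClosed_of_central
    rintro x hx ⟨n, hn⟩ g _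
    apply hFc
    rw [← QuotientGroup.ker_mk' F, MonoidHom.mem_ker]
    have h3 : orderOf (QuotientGroup.mk' F x) ∣ 2 ^ n :=
      orderOf_dvd_of_pow_eq_one (by rw [← map_pow, hn, map_one])
    have h4 : orderOf (QuotientGroup.mk' F x) ∣ Nat.card (pPrimeCore 2 (G ⧸ F)) :=
      (pPrimeCore 2 (G ⧸ F)).orderOf_dvd_natCard (mem_comap.1 hx)
    rw [← orderOf_eq_one_iff]
    exact Nat.eq_one_of_dvd_coprimes (Nat.Coprime.pow_right n hOodd) h4 h3
  have hK : oddPart D hDodd ≤ pPrimeCore 2 G := by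
    refine Lib.Cores.le_pPrimeCore ⟨fun x hx g => ?_⟩
      (odd_iff_coprime.1 (odd_card_oddPart D hDodd))
    exact conj_mem_oddPart (fun c hc => hDn.conj_mem c hc g) hx
  intro g
  obtain ⟨w, hw, _, ⟨m, hm, rfl⟩, hg⟩ := h (QuotientGroup.mk' F g)
  have hwo : Odd (orderOf w) := odd_iff_coprime.2 (Nat.Coprime.coprime_dvd_left
    ((pPrimeCore 2 (G ⧸ F)).orderOf_dvd_natCard hw) hOodd)
  obtain ⟨x, rfl, hx⟩ := lift_odd hF2 hwo
  refine ⟨x, hK ⟨mem_comap.2 hw, hx⟩, x⁻¹ * g, ?_, by group⟩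
  have h3 : x⁻¹ * g * m⁻¹ ∈ F := by
    rw [← QuotientGroup.ker_mk' F, MonoidHom.mem_ker, map_mul, map_mul, map_inv, map_inv, hg]
    group
  have h4 : x⁻¹ * g = (x⁻¹ * g * m⁻¹) * m := by group
  rw [h4]
  exact mul_mem (hFN h3) hm

/-- Solvability. -/
theorem isSolvable_of_sup_normalizer [Finite G] (V : Subgroup G)
    (hVc : ∀ a ∈ V, ∀ b ∈ V, a * b = b * a) (hV : ¬ 4 ∣ V.index)
    (hX : pPrimeCore 2 G ⊔ normalizer (V : Set G) = ⊤) : Group.IsSolvable G := by
  have hOn : (pPrimeCore 2 G).Normal := Lib.Cores.pPrimeCore_normal 2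
  have hOodd : Odd (Nat.card (pPrimeCore 2 G)) :=
    Nat.coprime_two_right.1 (Lib.Cores.pPrimeCore_coprime 2)
  have hOsol : Group.IsSolvable ↥(pPrimeCore 2 G) := Cfsg.Agent.S0205.result hOodd
  set L := normalizer (V : Set G) with hL
  have hVL : V ≤ L := le_normalizer
  have hn : (V.subgroupOf L).Normal := (normal_subgroupOf_iff_le_normalizer hVL).2 le_rfl
  have hVs : Group.IsSolvable ↥(V.subgroupOf L) :=
    Group.isSolvable_of_comm fun a b => Subtype.ext (Subtype.ext (hVc _ a.2 _ b.2))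
  have hLq : Group.IsSolvable (↥L ⧸ V.subgroupOf L) := by
    apply isSolvable_of_not_four_dvd
    intro h1
    apply hV
    have h2 : V.relIndex L ∣ V.index := relIndex_dvd_index_of_le hVL
    exact dvd_trans h1 h2
  have hLs : Group.IsSolvable ↥L :=
    (Group.isSolvable_iff_subgroup_quotient (V.subgroupOf L)).mpr ⟨hVs, hLq⟩
  have hq : Group.IsSolvable (G ⧸ pPrimeCore 2 G) := by
    refine Group.isSolvable_of_surjective (f := (QuotientGroup.mk' (pPrimeCore 2 G)).comp L.subtype) ?_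
    intro x
    obtain ⟨g, rfl⟩ := QuotientGroup.mk'_surjective _ x
    have hg : g ∈ pPrimeCore 2 G ⊔ L := by rw [hX]; exact mem_top g
    obtain ⟨o, ho, l, hl, rfl⟩ := Subgroup.mem_sup_of_normal_left.1 hg
    refine ⟨⟨l, hl⟩, ?_⟩
    have h5 : QuotientGroup.mk' (pPrimeCore 2 G) o = 1 := (QuotientGroup.eq_one_iff o).2 ho
    change QuotientGroup.mk' (pPrimeCore 2 G) l = QuotientGroup.mk' (pPrimeCore 2 G) (o * l)
    rw [map_mul, h5, one_mul]
  exact (Group.isSolvable_iff_subgroup_quotient (pPrimeCore 2 G)).mpr ⟨hOsol, hq⟩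

end Cfsg.Agent.SylowL5.TypeAGen
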